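import Cfsg.Agent.OddCyclic.BTwoLin.Socle
import Cfsg.Agent.OddCyclic.BTwoLin.SocleGen

/-!
# (E_q), piece I = (4.5) of blueprints/S0342-A2-helper402.md

`L = PSL₂(p)`, `p ≥ 11` prime, acts nontrivially on an elementary abelian 2-group `V` and `|[V, t]| ≤ 8` for the
involutions `t` of `L`: impossible.
-/

set_option autoImplicit false
set_option linter.unusedSectionVars false

namespace Cfsg.Agent.OddCyclic.Eq.ModP

open Matrix Cfsg.Agent.Lib.SL2Mat Cfsg.Agent.OddCyclic.T1Module Cfsg.Agent.OddCyclic.FFBasic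
  Cfsg.Agent.OddCyclic.FFSl2 Cfsg.Agent.OddCyclic.FFPsl Cfsg.Agent.OddCyclic.FFPslMat
  Cfsg.Agent.OddCyclic.T1Defs Cfsg.Agent.OddCyclic.BTwoLin.Socle Cfsg.Agent.OddCyclic.BTwoLin.SocleGen

section unip

variable {X : Type*} [Group X] {M : Type*} [CommGroup M] {ρ : X →* MulAut M}

theorem card_NN_one [Finite M] (g : X) (n : ℕ) (hn : NN ρ g (n + 1) = ⊥) (k : ℕ) (hk : NN ρ g (k + 1) ≠ ⊥) :
    2 ^ k * Nat.card (NN ρ g (k + 1)) ≤ Nat.card (NN ρ g 1) := by
  induction k with
  | zero => rw [pow_zero, one_mul]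
  | succ k ih =>
    have hk' : NN ρ g (k + 1) ≠ ⊥ := fun h => hk (le_bot_iff.1 ((NN_le g (k + 1)).trans h.le))
    have h1 := ih hk'
    have hne : NN ρ g (k + 1 + 1) ≠ NN ρ g (k + 1) := by
      intro h
      apply hk'
      have h2 := NN_stable g h (n + 1)
      rw [← h2, eq_bot_iff, ← hn]
      clear h1 ih hk hk' h h2
      induction k with
      | zero =>
        rw [zero_add, add_comm 1 (n + 1)]
        exact NN_le g _
      | succ k ihk =>
        have h3 : k + 1 + 1 + (n + 1) = (k + 1 + (n + 1)) + 1 := by omega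
        rw [h3]
        exact (NN_le g _).trans ihk
    have h2 : 2 * Nat.card (NN ρ g (k + 1 + 1)) ≤ Nat.card (NN ρ g (k + 1)) := by
      have h3 := Subgroup.card_dvd_of_le (NN_le (ρ := ρ) g (k + 1))
      obtain ⟨d, hd⟩ := h3
      have hd0 : d ≠ 0 := by
        rintro rfl
        rw [mul_zero] at hd
        exact Nat.card_pos.ne' hd
      have hd1 : d ≠ 1 := by
        rintro rfl
        rw [mul_one] at hd
        exact hne (Subgroup.eq_of_le_of_card_ge (NN_le g (k + 1)) hd.le)
      rw [hd, mul_comm]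
      exact Nat.mul_le_mul_left _ (by omega)
    calc 2 ^ (k + 1) * Nat.card (NN ρ g (k + 1 + 1)) = 2 ^ k * (2 * Nat.card (NN ρ g (k + 1 + 1))) := by ring
      _ ≤ 2 ^ k * Nat.card (NN ρ g (k + 1)) := Nat.mul_le_mul_left _ h2
      _ ≤ _ := h1

/-- if `|[M, g]| ≤ 2 ^ 6` and `g ^ 16 = 1` then `g ^ 8` is trivial -/
theorem pow_eight' [Finite M] (hM : ∀ v : M, v * v = 1) {g : X} (hg : g ^ 16 = 1)
    (hcard : (fx ρ g).index ≤ 64) (v : M) : ρ (g ^ 8) v = v := by
  have e2 : ∀ v, (cm ρ g)^[2] v = cm ρ (g ^ 2) v := fun v => by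
    rw [pow_two, ← cm_mul_self hM]; rfl
  have e4 : ∀ v, (cm ρ g)^[4] v = cm ρ (g ^ 4) v := fun v => by
    rw [show (4 : ℕ) = 2 + 2 from rfl, Function.iterate_add_apply, e2, e2, cm_mul_self hM, ← pow_add]
  have e8 : ∀ v, (cm ρ g)^[8] v = cm ρ (g ^ 8) v := fun v => by
    rw [show (8 : ℕ) = 4 + 4 from rfl, Function.iterate_add_apply, e4, e4, cm_mul_self hM, ← pow_add]
  have e16 : ∀ v, (cm ρ g)^[16] v = 1 := fun v => by
    rw [show (16 : ℕ) = 8 + 8 from rfl, Function.iterate_add_apply, e8, e8, cm_mul_self hM, ← pow_add, hg, cm_apply,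
      map_one, MulAut.one_apply, mul_inv_cancel]
  have h16 : NN ρ g (15 + 1) = ⊥ := by
    rw [eq_bot_iff]
    intro w hw
    obtain ⟨v, rfl⟩ := exists_NN g (15 + 1) hw
    rw [show 15 + 1 = 16 from rfl, e16]; exact one_mem _
  have hN1 : Nat.card (NN ρ g 1) = (fx ρ g).index := by
    have : NN ρ g 1 = (cm ρ g).range := by rw [MonoidHom.range_eq_map]; rfl
    rw [this, card_range_cm]
  have h8 : NN ρ g (7 + 1) = ⊥ := by
    by_contra hcon
    have h1 := card_NN_one g 15 h16 7 hcon
    have h2 : 2 ≤ Nat.card (NN ρ g (7 + 1)) := by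
      have h3 : Nat.card (NN ρ g (7 + 1)) ≠ 1 := fun h => hcon (Subgroup.card_eq_one.1 h)
      have h4 : 0 < Nat.card (NN ρ g (7 + 1)) := Nat.card_pos
      omega
    rw [hN1] at h1
    omega
  have h1 := mem_NN (ρ := ρ) g 8 v
  rw [show NN ρ g 8 = ⊥ from h8, Subgroup.mem_bot, e8, cm_apply, mul_inv_eq_one] at h1
  exact h1

end unip

section sixteen

def s31 : Matrix.SpecialLinearGroup (Fin 2) (ZMod 31) := ⟨!![0, 1; 30, 0], by decide⟩
def t31 : Matrix.SpecialLinearGroup (Fin 2) (ZMod 31) := ⟨!![1, 4; 15, 30], by decide⟩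
def s127 : Matrix.SpecialLinearGroup (Fin 2) (ZMod 127) := ⟨!![0, 1; 126, 0], by decide⟩
def t127 : Matrix.SpecialLinearGroup (Fin 2) (ZMod 127) := ⟨!![1, 12; 21, 126], by decide⟩

theorem f31 : s31 * s31 = -1 ∧ t31 * t31 = -1 ∧ (s31 * t31) ^ 16 = -1 ∧ (s31 * t31) ^ 8 ≠ 1 ∧
    (s31 * t31) ^ 8 ≠ -1 := by decide +kernel

theorem f127 : s127 * s127 = -1 ∧ t127 * t127 = -1 ∧ (s127 * t127) ^ 16 = -1 ∧ (s127 * t127) ^ 8 ≠ 1 ∧
    (s127 * t127) ^ 8 ≠ -1 := by decide +kernel

theorem exists_pair {F : Type*} [Field F] [Finite F] {p : ℕ} [hf : Fact p.Prime] (hF : Nat.card F = p)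
    {L : Type*} [Group L] (R : Cfsg.Agent.GH.L2Aut.Rep F L) {s t : Matrix.SpecialLinearGroup (Fin 2) (ZMod p)}
    (h : s * s = -1 ∧ t * t = -1 ∧ (s * t) ^ 16 = -1 ∧ (s * t) ^ 8 ≠ 1 ∧ (s * t) ^ 8 ≠ -1) :
    ∃ a b : L, a * a = 1 ∧ b * b = 1 ∧ (a * b) ^ 16 = 1 ∧ (a * b) ^ 8 ≠ 1 := by
  have hch : CharP F p := by
    have := FFPsl.charP (F := F) (by rw [hF]; exact hf.out)
    rwa [hF] at this
  let φ : ZMod p →+* F := ZMod.castHom (dvd_refl p) F
  have hinj : Function.Injective (Matrix.SpecialLinearGroup.map (n := Fin 2) φ) := by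
    intro a b hab
    apply Subtype.ext
    ext i j
    have := congrArg (fun w : Matrix.SpecialLinearGroup (Fin 2) F => w.1 i j) hab
    exact φ.injective this
  have hneg : Matrix.SpecialLinearGroup.map (n := Fin 2) φ (-1) = -1 := by
    apply Subtype.ext
    ext i j
    fin_cases i <;> fin_cases j <;> simp
  obtain ⟨h1, h2, h3, h4, h5⟩ := h
  refine ⟨R.π (Matrix.SpecialLinearGroup.map φ s), R.π (Matrix.SpecialLinearGroup.map φ t), ?_, ?_, ?_, ?_⟩
  · rw [← map_mul, ← map_mul, h1, hneg, R.ker]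
    exact Or.inr rfl
  · rw [← map_mul, ← map_mul, h2, hneg, R.ker]
    exact Or.inr rfl
  · rw [← map_mul, ← map_mul, ← map_pow, ← map_pow, h3, hneg, R.ker]
    exact Or.inr rfl
  · rw [← map_mul, ← map_mul, ← map_pow, ← map_pow, Ne, R.ker, not_or]
    refine ⟨fun h => h4 (hinj (h.trans (map_one _).symm)), fun h => h5 (hinj (h.trans hneg.symm))⟩

end sixteen

theorem two_pow_sub_one_pos {d : ℕ} (hd : 0 < d) : 0 < 2 ^ d - 1 := by
  have : 2 ^ 1 ≤ 2 ^ d := Nat.pow_le_pow_right (by norm_num) hd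
  omega

/-- the primes `≡ 3 mod 4`, `≥ 11`, dividing `2 ^ d - 1`, `d ≤ 12` -/
theorem arith12 {p d : ℕ} (hp : p.Prime) (h11 : 11 ≤ p) (h3 : p % 4 = 3) (hd : 0 < d) (hd12 : d ≤ 12)
    (h : p ∣ 2 ^ d - 1) : (p = 11 ∧ d = 10) ∨ p = 23 ∨ p = 31 ∨ p = 127 := by
  have key : ∀ {a b : ℕ}, p ∣ a * b → p ∣ a ∨ p ∣ b := fun h => hp.dvd_mul.1 h
  have hq : ∀ {q : ℕ}, q.Prime → p ∣ q → p = q := fun hq h => (Nat.prime_dvd_prime_iff_eq hp hq).1 h
  interval_cases d
  · norm_num at h; omega
  · have := hq Nat.prime_three h; omega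
  · have := hq (q := 7) (by norm_num) h; omega
  · rcases key (a := 3) (b := 5) h with h | h
    · have := hq Nat.prime_three h; omega
    · have := hq Nat.prime_five h; omega
  · have := hq (q := 31) (by norm_num) h; omega
  · rcases key (a := 9) (b := 7) h with h | h
    · rcases key (a := 3) (b := 3) h with h | h <;> (have := hq Nat.prime_three h; omega)
    · have := hq (q := 7) (by norm_num) h; omega
  · have := hq (q := 127) (by norm_num) h; omega
  · rcases key (a := 15) (b := 17) h with h | h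
    · rcases key (a := 3) (b := 5) h with h | h
      · have := hq Nat.prime_three h; omega
      · have := hq Nat.prime_five h; omega
    · have := hq (q := 17) (by norm_num) h; omega
  · rcases key (a := 7) (b := 73) h with h | h
    · have := hq (q := 7) (by norm_num) h; omega
    · have := hq (q := 73) (by norm_num) h; omega
  · rcases key (a := 3) (b := 341) h with h | h
    · have := hq Nat.prime_three h; omega
    · rcases key (a := 11) (b := 31) h with h | h
      · have := hq (q := 11) (by norm_num) h; omega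
      · have := hq (q := 31) (by norm_num) h; omega
  · rcases key (a := 23) (b := 89) h with h | h
    · have := hq (q := 23) (by norm_num) h; omega
    · have := hq (q := 89) (by norm_num) h; omega
  · rcases key (a := 9) (b := 455) h with h | h
    · rcases key (a := 3) (b := 3) h with h | h <;> (have := hq Nat.prime_three h; omega)
    · rcases key (a := 5) (b := 91) h with h | h
      · have := hq Nat.prime_five h; omega
      · rcases key (a := 7) (b := 13) h with h | h
        · have := hq (q := 7) (by norm_num) h; omega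
        · have := hq (q := 13) (by norm_num) h; omega

theorem prim_five : Prim 5 4 := by
  refine ⟨by norm_num, by norm_num, fun d => ?_⟩
  constructor
  · intro h
    have h1 : 2 ^ d % 5 = 1 := by
      obtain ⟨c, hc⟩ := h
      have : 1 ≤ 2 ^ d := Nat.one_le_two_pow
      omega
    have h2 : 2 ^ d % 5 = 2 ^ (d % 4) % 5 := by
      conv_lhs => rw [← Nat.div_add_mod d 4, pow_add, pow_mul]
      rw [Nat.mul_mod, Nat.pow_mod]
      norm_num
    rw [h2] at h1
    have h3 : d % 4 < 4 := Nat.mod_lt _ (by norm_num)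
    apply Nat.dvd_of_mod_eq_zero
    interval_cases (d % 4) <;> simp_all
  · rintro ⟨c, rfl⟩
    rw [pow_mul]
    exact Nat.sub_one_dvd_pow_sub_one_of_five c
where
  Nat.sub_one_dvd_pow_sub_one_of_five (c : ℕ) : 5 ∣ (2 ^ 4) ^ c - 1 := by
    have h1 := Nat.sub_dvd_pow_sub_pow (2 ^ 4) 1 c
    rw [one_pow] at h1
    exact (by norm_num : 5 ∣ 2 ^ 4 - 1).trans h1


section gen

variable {H : Type*} [Group H] {V : Type*} [CommGroup V] [Finite V] {ρ : H →* MulAut V}

theorem cm_pow_mem_range {y : H} (n : ℕ) (v : V) : cm ρ (y ^ n) v ∈ (cm ρ y).range := by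
  induction n generalizing v with
  | zero =>
    rw [pow_zero, cm_apply, map_one, MulAut.one_apply, mul_inv_cancel]
    exact one_mem _
  | succ n ih =>
    have h1 : cm ρ (y ^ (n + 1)) v = cm ρ (y ^ n) (ρ y v) * cm ρ y v := by
      rw [cm_apply, cm_apply, cm_apply, pow_succ, map_mul, MulAut.mul_apply]
      group
    rw [h1]
    exact mul_mem (ih _) ⟨v, rfl⟩

/-- `d` acts on `⟨y⟩`: `|C_{[V,y]}(d)| ^ 2 ≤ |[V,y]|` -/
theorem sq_card_le (hV : ∀ v : V, v * v = 1) {y d : H} (hyo : Odd (orderOf y))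
    (hz : y ∈ Subgroup.zpowers (y * (d * y⁻¹ * d⁻¹))) :
    Nat.card (fx ρ d ⊓ (cm ρ y).range : Subgroup V) * Nat.card (fx ρ d ⊓ (cm ρ y).range : Subgroup V) ≤
      Nat.card (cm ρ y).range := by
  set C := (fx ρ d ⊓ (cm ρ y).range : Subgroup V) with hC
  have hcard : Nat.card (C.map (ρ y).toMonoidHom) = Nat.card C :=
    Nat.card_congr (C.equivMapOfInjective _ (ρ y).injective).symm.toEquiv
  nth_rw 2 [← hcard]
  apply card_mul_le
  · exact inf_le_right
  · rintro _ ⟨c, hc, rfl⟩
    exact apply_mem_range ρ rfl hc.2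
  · rintro v hv ⟨c, hc, rfl⟩
    change ρ y c ∈ C at hv
    change ρ y c = 1
    have h1 : ρ d (ρ y c) = ρ y c := hv.1
    have h2 : ρ d c = c := hc.1
    have h3 : ρ d⁻¹ (ρ y c) = ρ y c := by
      conv_lhs => rw [← h1]
      rw [← MulAut.mul_apply, ← map_mul, inv_mul_cancel, map_one, MulAut.one_apply]
    have h5 : ρ y⁻¹ (ρ y c) = c := by
      rw [← MulAut.mul_apply, ← map_mul, inv_mul_cancel, map_one, MulAut.one_apply]
    have h4 : ρ y c ∈ fx ρ (y * (d * y⁻¹ * d⁻¹)) := by
      rw [mem_fx]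
      change ρ (y * (d * y⁻¹ * d⁻¹)) (ρ y c) = ρ y c
      rw [map_mul, MulAut.mul_apply, map_mul, MulAut.mul_apply, h3, map_mul, MulAut.mul_apply, h5, h2]
    exact eq_one_of_fix hV hyo hv.2 (fx_le_of_mem ρ hz h4)

end gen

section mat

variable {F : Type*} [Field F]

theorem dg_mul (b c : F) (hb : b ≠ 0) (hc : c ≠ 0) : dg b hb * dg c hc = dg (b * c) (mul_ne_zero hb hc) := by
  apply ext_ent <;> simp [ent_mul, mul_comm]

theorem dg_pow (b : F) (hb : b ≠ 0) (n : ℕ) : dg b hb ^ n = dg (b ^ n) (pow_ne_zero n hb) := by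
  induction n with
  | zero => rw [pow_zero]; apply ext_ent <;> simp
  | succ n ih =>
    rw [pow_succ, ih, dg_mul]
    apply ext_ent <;> simp [pow_succ]

theorem up_pow' (b : F) (n : ℕ) : up b ^ n = up ((n : F) * b) := by
  induction n with
  | zero => rw [pow_zero, Nat.cast_zero, zero_mul, up_zero]
  | succ n ih => rw [pow_succ, ih, up_mul]; congr 1; push_cast; ring

theorem wm_sq : wm (1 : F) one_ne_zero * wm (1 : F) one_ne_zero = -1 := by
  apply ext_ent <;> simp [ent_mul] <;> simp [ent]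

theorem wm_dg (b : F) (hb : b ≠ 0) : wm (1 : F) one_ne_zero * dg b hb = (dg b hb)⁻¹ * wm (1 : F) one_ne_zero := by
  rw [ent_inv]
  apply ext_ent <;> simp [ent_mul]

theorem natCast_surj [Finite F] (hF : (Nat.card F).Prime) (x : F) : ∃ n : ℕ, (n : F) = x := by
  have := Fintype.ofFinite F
  have hch := charP hF
  have hfact : Fact (Nat.card F).Prime := ⟨hF⟩
  have : NeZero (Nat.card F) := ⟨hF.ne_zero⟩
  have hb := ZMod.castHom_bijective (n := Nat.card F) F (by rw [Nat.card_eq_fintype_card])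
  obtain ⟨z, hz⟩ := hb.2 x
  refine ⟨z.val, ?_⟩
  rw [← hz, ZMod.castHom_apply]
  exact ZMod.natCast_val z

end mat

section main

variable {H : Type*} [Group H] [Finite H] {V : Type*} [CommGroup V] [Finite V] {ρ : H →* MulAut V}
variable {L : Subgroup H} {F : Type*} [Field F] [Finite F] (R : Cfsg.Agent.GH.L2Aut.Rep F L)

include R

theorem false_of (hV : ∀ v : V, v * v = 1) (hF : (Nat.card F).Prime) (h11 : 11 ≤ Nat.card F)
    (hne : ∀ y ∈ L, y ≠ 1 → ∃ v, ρ y v ≠ v) (hi : ∀ t ∈ L, t * t = 1 → t ≠ 1 → (fx ρ t).index ≤ 8) : False := by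
  have hsq : ∀ x : Matrix.SpecialLinearGroup (Fin 2) F, x * x = -1 →
      ((R.π x : L) : H) * ((R.π x : L) : H) = 1 ∧ (fx ρ ((R.π x : L) : H)).index ≤ 8 := by
    intro x hx
    have h1 : ((R.π x : L) : H) * ((R.π x : L) : H) = 1 := by
      rw [← Subgroup.coe_mul, ← map_mul, hx, (R.ker (-1)).2 (Or.inr rfl), Subgroup.coe_one]
    refine ⟨h1, hi _ (R.π x).2 h1 fun h2 => ?_⟩
    have h3 : R.π x = 1 := Subtype.ext h2
    rw [R.ker] at h3
    apply R.neg_one_ne_one
    rcases h3 with rfl | rfl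
    · rw [← hx, mul_one]
    · rw [← hx, neg_mul_neg, mul_one]
  have hinv : ∀ (a x : Matrix.SpecialLinearGroup (Fin 2) F), a * x = x⁻¹ * a →
      ((R.π a : L) : H) * ((R.π x : L) : H) * ((R.π a : L) : H)⁻¹ = ((R.π x : L) : H)⁻¹ := by
    intro a x h
    have h1 := congrArg R.π h
    rw [map_mul, map_mul, map_inv] at h1
    have h2 := congrArg (Subtype.val : L → H) h1
    rw [mul_inv_eq_iff_eq_mul]
    exact h2
  set y : H := ((R.π (up 1) : L) : H) with hy
  have hyo : orderOf y = Nat.card F := by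
    have hch := charP hF
    have hfact : Fact (Nat.card F).Prime := ⟨hF⟩
    rw [hy, Subgroup.orderOf_coe]
    apply orderOf_eq_prime
    · rw [← map_pow, up_pow', CharP.cast_eq_zero, zero_mul, up_zero, map_one]
    · intro h
      rw [R.ker] at h
      rcases h with h | h
      · have := congrArg (fun w => ent w 0 1) h
        simp only [up_01, ent_one_01] at this
        exact one_ne_zero this
      · have h1 : (1 : F) = -0 := congrArg (fun w => ent w 0 1) h
        rw [neg_zero] at h1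
        exact one_ne_zero h1
  have hyodd : Odd (orderOf y) := by rw [hyo]; exact hF.odd_of_ne_two (by omega)
  have hy1 : y ≠ 1 := by
    intro h
    rw [h, orderOf_one] at hyo
    omega
  have hyne := hne y (R.π (up 1)).2 hy1
  by_cases hs : IsSquare (-1 : F)
  · -- `p ≡ 1 mod 4`
    obtain ⟨s, hs'⟩ := hs
    let a : Matrix.SpecialLinearGroup (Fin 2) F := mk s 0 0 (-s) (by rw [mul_neg, ← hs']; ring)
    have ha : a * a = -1 := by
      apply ext_ent <;> simp [ent_mul, a] <;> simp [ent, ← hs']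
    have hau : a * up 1 = (up 1)⁻¹ * a := by
      rw [up_inv]
      apply ext_ent <;> simp [ent_mul, a]
    obtain ⟨h1, h2⟩ := hsq a ha
    have h3 := half' ρ hyodd (hinv a _ hau)
    obtain ⟨d, hd, hd1, hd2⟩ := prim (ρ := ρ) hV hF (by omega) hyo hyne
    have hd6 : d ≤ 6 := by
      have h4 : 2 ^ d ≤ 2 ^ 6 := by
        rw [← hd1]
        exact h3.trans ((Nat.pow_le_pow_left h2 2).trans (by norm_num))
      exact (Nat.pow_le_pow_iff_right (by norm_num)).1 h4
    rcases arith hF (by omega) hd hd6 hd2 with h4 | h4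
    · omega
    · have := Fintype.ofFinite F
      have h5 := (Cfsg.Agent.OddCyclic.PGLTorus.neg_one_sq (F := F)).1 ⟨s, hs'⟩
      rw [h4] at h5
      exact h5 (by norm_num)
  · have h3 : Nat.card F % 4 = 3 := by
      have := Fintype.ofFinite F
      by_contra h
      exact hs ((Cfsg.Agent.OddCyclic.PGLTorus.neg_one_sq (F := F)).2 h)
    -- an odd prime divisor of `(p - 1) / 2`
    have hne1 : (Nat.card F - 1) / 2 ≠ 1 := by omega
    obtain ⟨r, hr, hrd⟩ := Nat.exists_prime_and_dvd hne1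
    have hr2 : r ≠ 2 := by
      rintro rfl
      obtain ⟨k, hk⟩ := hrd
      omega
    have hrF : r ∣ Nat.card Fˣ := by
      rw [Nat.card_units]
      have h4 : Nat.card F - 1 = (Nat.card F - 1) / 2 * 2 := by omega
      rw [h4]
      exact hrd.mul_right 2
    have hfr : Fact r.Prime := ⟨hr⟩
    obtain ⟨c, hc⟩ := exists_prime_orderOf_dvd_card' r hrF
    have hc0 : (c : F) ≠ 0 := c.ne_zero
    have hc1 : c ≠ 1 := by
      rintro rfl
      rw [orderOf_one] at hc
      exact hr.one_lt.ne hc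
    have hcr : (c : F) ^ r = 1 := by
      have h4 : c ^ r = 1 := by rw [← hc]; exact pow_orderOf_eq_one c
      rw [← Units.val_pow_eq_pow_val, h4, Units.val_one]
    have hcc : (c : F) * c ≠ 1 := by
      intro h4
      have h5 : c ^ 2 = 1 := by
        apply Units.ext
        rw [Units.val_pow_eq_pow_val, pow_two, h4, Units.val_one]
      have h6 := orderOf_dvd_of_pow_eq_one h5
      rw [hc] at h6
      exact hr2 ((Nat.prime_dvd_prime_iff_eq hr Nat.prime_two).1 h6)
    set d : H := ((R.π (dg (c : F) hc0) : L) : H) with hd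
    have hdo : orderOf d = r := by
      rw [hd, Subgroup.orderOf_coe]
      apply orderOf_eq_prime
      · rw [← map_pow, dg_pow]
        have : dg ((c : F) ^ r) (pow_ne_zero r hc0) = 1 := by
          apply ext_ent <;> simp [hcr]
        rw [this, map_one]
      · intro h4
        rw [R.ker] at h4
        rcases h4 with h4 | h4
        · have h5 : (c : F) = 1 := congrArg (fun w => ent w 0 0) h4
          apply hcc
          rw [h5, mul_one]
        · have h5 : (c : F) = -1 := congrArg (fun w => ent w 0 0) h4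
          apply hcc
          rw [h5, neg_mul_neg, mul_one]
    have hdodd : Odd (orderOf d) := by rw [hdo]; exact hr.odd_of_ne_two hr2
    have hd1 : d ≠ 1 := by
      intro h
      rw [h, orderOf_one] at hdo
      exact hr.one_lt.ne hdo
    have hdne := hne d (R.π (dg (c : F) hc0)).2 hd1
    obtain ⟨-, h8⟩ := hsq _ (wm_sq (F := F))
    have hd64 : (fx ρ d).index ≤ 64 :=
      (half' ρ hdodd (hinv _ _ (wm_dg (c : F) hc0))).trans ((Nat.pow_le_pow_left h8 2).trans (by norm_num))
    -- the commutator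
    have hz : y ∈ Subgroup.zpowers (y * (d * y⁻¹ * d⁻¹)) := by
      have h4 : dg (c : F) hc0 * (up 1)⁻¹ * (dg (c : F) hc0)⁻¹ = up (-((c : F) * c)) := by
        rw [mul_inv_eq_iff_eq_mul, up_inv, dg_up]
        congr 2
        ring
      have h5 : y * (d * y⁻¹ * d⁻¹) = ((R.π (up (1 - (c : F) * c)) : L) : H) := by
        have h6 : up (1 - (c : F) * c) = up 1 * (dg (c : F) hc0 * (up 1)⁻¹ * (dg (c : F) hc0)⁻¹) := by
          rw [h4, up_mul, sub_eq_add_neg]
        rw [h6]
        simp only [map_mul, map_inv, Subgroup.coe_mul, Subgroup.coe_inv, hy, hd]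
      have hb : 1 - (c : F) * c ≠ 0 := fun h => hcc (sub_eq_zero.1 h).symm
      obtain ⟨n, hn⟩ := natCast_surj hF (1 - (c : F) * c)⁻¹
      rw [h5]
      refine ⟨n, ?_⟩
      change ((R.π (up (1 - (c : F) * c)) : L) : H) ^ (n : ℤ) = y
      rw [zpow_natCast, ← Subgroup.coe_pow, ← map_pow, up_pow', hn, inv_mul_cancel₀ hb]
    set W := (cm ρ y).range with hW
    have hC1 := sq_card_le (ρ := ρ) hV hyodd hz
    rw [← hW] at hC1
    have hC2 : Nat.card (fx ρ d ⊓ W : Subgroup V) * (fx ρ d).relIndex W = Nat.card W := by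
      rw [← Subgroup.inf_relIndex_right]
      exact Cfsg.Agent.OddCyclic.FFRed.card_mul_relIndex inf_le_right
    have hrel : (fx ρ d).relIndex W ≤ 64 :=
      (Nat.le_of_dvd (Nat.pos_of_ne_zero Subgroup.index_ne_zero_of_finite)
        (Subgroup.relIndex_dvd_index_of_normal _ _)).trans hd64
    have hCle : Nat.card (fx ρ d ⊓ W : Subgroup V) ≤ (fx ρ d).relIndex W := by
      rw [← hC2] at hC1
      exact Nat.le_of_mul_le_mul_left hC1 Nat.card_pos
    have hWcard : Nat.card W ≤ 64 * 64 := by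
      rw [← hC2]
      exact Nat.mul_le_mul (hCle.trans hrel) hrel
    obtain ⟨D, hD, hD1, hD2⟩ := prim (ρ := ρ) hV hF (by omega) hyo hyne
    rw [← card_range_cm, ← hW] at hD1
    have hD12 : D ≤ 12 := by
      have h4 : 2 ^ D ≤ 2 ^ 12 := by rw [← hD1]; exact hWcard.trans (by norm_num)
      exact (Nat.pow_le_pow_iff_right (by norm_num)).1 h4
    have hkill : ∀ a b : L, a * a = 1 → b * b = 1 → (a * b) ^ 16 = 1 → (a * b) ^ 8 ≠ 1 → False := by
      intro a b ha hb hab hab'
      have ha1 : a ≠ 1 := by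
        rintro rfl
        apply hab'
        rw [one_mul]
        calc b ^ 8 = (b * b) ^ 4 := by rw [← pow_two, ← pow_mul]
          _ = 1 := by rw [hb, one_pow]
      have hb1 : b ≠ 1 := by
        rintro rfl
        apply hab'
        rw [mul_one]
        calc a ^ 8 = (a * a) ^ 4 := by rw [← pow_two, ← pow_mul]
          _ = 1 := by rw [ha, one_pow]
      have hia := hi a a.2 (congrArg Subtype.val ha) (fun h => ha1 (Subtype.ext h))
      have hib := hi b b.2 (congrArg Subtype.val hb) (fun h => hb1 (Subtype.ext h))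
      have hiab : (fx ρ ((a : H) * b)).index ≤ 64 :=
        (index_mul_le ρ (a : H) b).trans ((Nat.mul_le_mul hia hib).trans (by norm_num))
      have h4 : (((a : H) * b) ^ 8) ≠ 1 := fun h => hab' (Subtype.ext h)
      obtain ⟨v, hv⟩ := hne (((a : H) * b) ^ 8) (pow_mem (mul_mem a.2 b.2) 8) h4
      exact hv (pow_eight' hV (congrArg Subtype.val hab) hiab v)
    obtain ⟨k, hk, hk1, hk2⟩ := prim (ρ := ρ) hV hr hr2 hdo hdne
    have hk6 : k ≤ 6 := by
      have h4 : 2 ^ k ≤ 2 ^ 6 := by rw [← hk1]; exact hd64.trans (by norm_num)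
      exact (Nat.pow_le_pow_iff_right (by norm_num)).1 h4
    rcases arith12 hF h11 h3 hD hD12 hD2 with ⟨h4, h5⟩ | h4 | h4 | h4
    · -- `p = 11`
      have hr5 : r = 5 := by
        rw [h4] at hrd
        have : r ∣ 5 := hrd
        exact (Nat.prime_dvd_prime_iff_eq hr Nat.prime_five).1 this
      rw [hr5] at hdo
      rw [h5] at hD1
      -- `|W : C_W(d)|`
      have hdW : ∀ w ∈ W, ρ d w ∈ W := by
        rintro _ ⟨v, rfl⟩
        -- `d` normalises `⟨y⟩`
        obtain ⟨n, hn⟩ := natCast_surj hF ((c : F) * c)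
        have h6 : d * y * d⁻¹ = y ^ n := by
          have h7 : dg (c : F) hc0 * up 1 * (dg (c : F) hc0)⁻¹ = (up 1) ^ n := by
            rw [mul_inv_eq_iff_eq_mul, dg_up, up_pow', hn]
            congr 2
            ring
          have h8 := congrArg (fun w => ((R.π w : L) : H)) h7
          simp only [map_mul, map_inv, map_pow, Subgroup.coe_mul, Subgroup.coe_inv, Subgroup.coe_pow] at h8
          exact h8
        have h7 : ρ d (cm ρ y v) = cm ρ (y ^ n) (ρ d v) := by
          have h9 : ρ (y ^ n) (ρ d v) = ρ d (ρ y v) := by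
            rw [← h6, ← MulAut.mul_apply, ← map_mul, ← MulAut.mul_apply, ← map_mul, inv_mul_cancel_right]
          rw [cm_apply, cm_apply, map_mul, map_inv, h9]
        rw [h7]
        exact cm_pow_mem_range n (ρ d v)
      have hdW' : ∃ w ∈ W, ρ d w ≠ w := by
        by_contra hcon
        push Not at hcon
        have h6 : W ≤ fx ρ d := fun w hw => hcon w hw
        rw [inf_eq_right.2 h6] at hC1
        have h7 : 1 < Nat.card W := by rw [hD1]; norm_num
        nlinarith
      obtain ⟨e, he, he1, he2⟩ := card_comm hV prim_five hdo hdW hdW'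
      have h6 : Nat.card (W.map (cm ρ d)) = (fx ρ d).relIndex W := by
        rw [← ker_cm, Subgroup.relIndex_ker]
      rw [h6] at he1
      rw [he1] at hC2 hCle hrel
      have he6 : e ≤ 6 := by
        have h7 : 2 ^ e ≤ 2 ^ 6 := hrel.trans (by norm_num)
        exact (Nat.pow_le_pow_iff_right (by norm_num)).1 h7
      have he4 : e = 4 := by
        obtain ⟨m, rfl⟩ := he2
        omega
      rw [he4] at hC2 hCle
      rw [hD1] at hC2
      norm_num at hC2 hCle
      omega
    · -- `p = 23`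
      have hr11 : r = 11 := by
        rw [h4] at hrd
        have : r ∣ 11 := hrd
        exact (Nat.prime_dvd_prime_iff_eq hr (by norm_num)).1 this
      rcases arith hr (by omega) hk hk6 hk2 with h5 | h5 <;> omega
    · have hf : Fact (Nat.Prime 31) := ⟨by norm_num⟩
      obtain ⟨a, b, h5, h6, h7, h8⟩ := exists_pair h4 R f31
      exact hkill a b h5 h6 h7 h8
    · have hf : Fact (Nat.Prime 127) := ⟨by norm_num⟩
      obtain ⟨a, b, h5, h6, h7, h8⟩ := exists_pair h4 R f127
      exact hkill a b h5 h6 h7 h8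

end main

end Cfsg.Agent.OddCyclic.Eq.ModP
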