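import Mathlib
import Cfsg.Agent.OddCyclic.EmpSTB

/-!
# (E_q) of `T_cyc`: the free module (2.4) and the numbers of (2.6) (helper448)

* `exists_orbit`: `H` transitive on the finite set `Ω`, `F : Ω → N` equivariant and not constant, `T ≤ H` fixes `ω₀` and
  is semiregular on `Ω \ {ω₀}`: some `T`-orbit has `∏ t, F (t • ω) ≠ 1`.
* `index_ge`: `T` a 2-group acting on the elementary abelian 2-group `N`, `∏ t, v ^ t ≠ 1`: for `A ≤ T`
  `2 ^ (|T| - |T : A|) ≤ |N : C_N(A)|`.
* `free_index`: both together.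
* `num_sl`, `num_sz`: the numbers.
-/

set_option autoImplicit false

namespace Cfsg.Agent.OddCyclic.Eq.Free

open Cfsg.Agent.OddCyclic.T1Module Cfsg.Agent.OddCyclic.FFBasic Cfsg.Agent.OddCyclic.EmpSTB

section orbit

variable {T Ω Q : Type*} [Group T] [Fintype T] [MulAction T Ω] [CommGroup Q]

/-- the product over an invariant set on which `T` is semiregular -/
theorem prod_eq_one [DecidableEq Ω] {F : Ω → Q} {ω₀ : Ω} (hreg : ∀ (t : T) (ω : Ω), ω ≠ ω₀ → t • ω = ω → t = 1)
    (hF : ∀ ω, ω ≠ ω₀ → ∏ t : T, F (t • ω) = 1) :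
    ∀ (n : ℕ) (S : Finset Ω), S.card ≤ n → ω₀ ∉ S → (∀ (t : T), ∀ ω ∈ S, t • ω ∈ S) → ∏ ω ∈ S, F ω = 1 := by
  intro n
  induction n with
  | zero =>
    intro S hS _ _
    rw [Finset.card_eq_zero.mp (Nat.le_zero.mp hS)]
    exact Finset.prod_empty
  | succ n ih =>
    intro S hS h0 hinv
    rcases S.eq_empty_or_nonempty with h | ⟨ω, hω⟩
    · rw [h]; exact Finset.prod_empty
    · have hne : ω ≠ ω₀ := fun h => h0 (h ▸ hω)
      set D : Finset Ω := Finset.univ.image fun t : T => t • ω with hD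
      have hinj : ∀ s ∈ (Finset.univ : Finset T), ∀ t ∈ (Finset.univ : Finset T), s • ω = t • ω → s = t := by
        intro s _ t _ hst
        have h1 : (t⁻¹ * s) • ω = ω := by rw [mul_smul, hst, inv_smul_smul]
        exact (inv_mul_eq_one.1 (hreg _ _ hne h1)).symm
      have hprod : ∏ x ∈ D, F x = 1 := by
        rw [hD, Finset.prod_image hinj]
        exact hF ω hne
      have hDS : D ⊆ S := by
        intro x hx
        rw [hD, Finset.mem_image] at hx
        obtain ⟨t, -, rfl⟩ := hx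
        exact hinv t ω hω
      rw [← Finset.prod_sdiff hDS, hprod, mul_one]
      apply ih
      · have : (S \ D).card < S.card := by
          apply Finset.card_lt_card
          refine ⟨Finset.sdiff_subset, fun h => ?_⟩
          have h1 := h hω
          rw [Finset.mem_sdiff] at h1
          exact h1.2 (Finset.mem_image.2 ⟨1, Finset.mem_univ _, one_smul _ _⟩)
        omega
      · exact fun h => h0 (Finset.sdiff_subset h)
      · intro t x hx
        rw [Finset.mem_sdiff] at hx ⊢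
        refine ⟨hinv t x hx.1, fun h => hx.2 ?_⟩
        rw [hD, Finset.mem_image] at h ⊢
        obtain ⟨s, -, hs⟩ := h
        exact ⟨t⁻¹ * s, Finset.mem_univ _, by rw [mul_smul, hs, inv_smul_smul]⟩

variable {H : Type*} [Group H] [MulAction H Ω]

/-- **the orbit lemma** -/
theorem exists_orbit [Finite Ω] {F : Ω → Q} (act : H → Q →* Q) (hF : ∀ h ω, F (h • ω) = act h (F ω))
    (htr : ∀ ω ω' : Ω, ∃ h : H, h • ω = ω') {ω₀ : Ω} (h0 : ∀ t : T, t • ω₀ = ω₀)
    (hreg : ∀ (t : T) (ω : Ω), ω ≠ ω₀ → t • ω = ω → t = 1) (hne : ∃ ω ω' : Ω, F ω ≠ F ω') :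
    ∃ ω, ω ≠ ω₀ ∧ ∏ t : T, F (t • ω) ≠ 1 := by
  classical
  by_contra hcon
  push Not at hcon
  have : Fintype Ω := Fintype.ofFinite Ω
  obtain ⟨ω, ω', hωω'⟩ := hne
  apply hωω'
  have h1 : ∏ x ∈ Finset.univ.erase ω₀, F x = 1 := by
    refine prod_eq_one hreg hcon _ _ le_rfl (Finset.notMem_erase _ _) ?_
    intro t x hx
    rw [Finset.mem_erase] at hx ⊢
    refine ⟨fun h => hx.1 ?_, Finset.mem_univ _⟩
    rw [← inv_smul_smul t x, h, h0]
  have h2 : ∏ x : Ω, F x = F ω₀ := by
    rw [← Finset.mul_prod_erase Finset.univ F (Finset.mem_univ ω₀), h1, mul_one]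
  have h3 : ∀ h : H, act h (F ω₀) = F ω₀ := by
    intro h
    rw [← h2, map_prod, ← (Equiv.prod_comp (MulAction.toPerm h) F)]
    refine Finset.prod_congr rfl fun x _ => ?_
    rw [MulAction.toPerm_apply, hF]
  have h4 : ∀ x, F x = F ω₀ := by
    intro x
    obtain ⟨h, rfl⟩ := htr ω₀ x
    rw [hF, h3]
  rw [h4 ω, h4 ω']

end orbit

section index

variable {T N : Type*} [Group T] [Fintype T] [CommGroup N] [Finite N] (σ : T →* MulAut N)

/-- **the free module**: `|N : C_N(A)| ≥ 2 ^ (|T| - |T : A|)` -/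
theorem index_ge (hT : IsPGroup 2 T) (hN : ∀ v : N, v * v = 1) {v : N} (hv : ∏ t, σ t v ≠ 1) (A : Subgroup T) :
    2 ^ (Nat.card T - A.index) ≤ (CS σ A).index := by
  have hv1 : v ≠ 1 := by
    rintro rfl
    exact hv (by simp)
  have hvo : orderOf v = 2 := orderOf_eq_prime (by rw [pow_two]; exact hN v) hv1
  have hD : ∀ d ∈ Subgroup.zpowers v, ∏ u, σ u d = 1 → d = 1 := by
    intro d hd h
    have h2 : d = 1 ∨ d = v := by
      obtain ⟨k, rfl⟩ := hd
      rcases Int.even_or_odd k with ⟨j, hj⟩ | ⟨j, hj⟩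
      · left
        change v ^ k = 1
        rw [hj, zpow_add, hN]
      · right
        change v ^ k = v
        rw [hj, zpow_add, zpow_one, two_mul, zpow_add, hN, one_mul]
    rcases h2 with h2 | h2
    · exact h2
    · rw [h2] at h
      exact absurd h hv
  have hcD : Nat.card (Subgroup.zpowers v) = 2 := by rw [Nat.card_zpowers, hvo]
  have h1 := card_range σ (Subgroup.zpowers v) hT hN hD
  have h2 := card_fix σ (Subgroup.zpowers v) hT hN hD A
  rw [hcD] at h1 h2
  -- the index in the free module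
  have h3 : ((CS σ A).relIndex (ph σ (Subgroup.zpowers v)).range) * 2 ^ A.index = 2 ^ Nat.card T := by
    have h4 := Subgroup.card_mul_index
      (((ph σ (Subgroup.zpowers v)).range ⊓ CS σ A).subgroupOf (ph σ (Subgroup.zpowers v)).range)
    rw [Nat.card_congr (Subgroup.subgroupOfEquivOfLe inf_le_left).toEquiv, h1, h2] at h4
    rw [← h4, mul_comm]
    congr 1
    exact (Subgroup.inf_relIndex_left (ph σ (Subgroup.zpowers v)).range (CS σ A)).symm
  have hA : A.index ≤ Nat.card T := Nat.le_of_dvd Nat.card_pos A.index_dvd_card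
  have h4 : (CS σ A).relIndex (ph σ (Subgroup.zpowers v)).range = 2 ^ (Nat.card T - A.index) := by
    have h5 : 2 ^ Nat.card T = 2 ^ (Nat.card T - A.index) * 2 ^ A.index := by
      rw [← pow_add, Nat.sub_add_cancel hA]
    rw [h5] at h3
    exact Nat.eq_of_mul_eq_mul_right (by positivity) h3
  rw [← h4, ← Subgroup.relIndex_top_right]
  exact Subgroup.relIndex_le_of_le_right le_top (by
    rw [Subgroup.relIndex_top_right]
    exact Subgroup.index_ne_zero_of_finite)

end index

section main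

variable {H N : Type*} [Group H] [Finite H] [CommGroup N] [Finite N] (ρ : H →* MulAut N)

/-- **(2.4)**: `H₀` fixes `lam`, `H` does not, `T ≤ H₀` is a 2-group which is semiregular on the cosets of `H₀` other
than `H₀`: `N` contains a free `T`-module. -/
theorem free_index (hN : ∀ v : N, v * v = 1) {T H₀ : Subgroup H} (hT : IsPGroup 2 T) (hTH : T ≤ H₀)
    (hsr : ∀ g : H, g ∉ H₀ → ∀ t ∈ T, g⁻¹ * t * g ∈ H₀ → t = 1) {lam : N} (hfix : ∀ h ∈ H₀, ρ h lam = lam)
    (hmov : ∃ g : H, ρ g lam ≠ lam) {A : Subgroup H} (hA : A ≤ T) :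
    2 ^ (Nat.card T - Nat.card T / Nat.card A) ≤ (CS ρ A).index := by
  classical
  have : Fintype T := Fintype.ofFinite T
  -- the equivariant function on the cosets
  let F : H ⧸ H₀ → N := fun ω => Quotient.liftOn' ω (fun g => ρ g lam) (by
    intro a b hab
    have h1 : a⁻¹ * b ∈ H₀ := QuotientGroup.leftRel_apply.1 hab
    have h2 : b = a * (a⁻¹ * b) := by group
    change ρ a lam = ρ b lam
    rw [h2, map_mul, MulAut.mul_apply, hfix _ h1])
  have hFm : ∀ g : H, F (g : H ⧸ H₀) = ρ g lam := fun _ => rfl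
  obtain ⟨ω, hω, hprod⟩ := exists_orbit (T := T) (H := H) (F := F) (fun h => (ρ h).toMonoidHom)
    (by
      intro h ω
      obtain ⟨g, rfl⟩ := QuotientGroup.mk_surjective ω
      change F ((h * g : H) : H ⧸ H₀) = ρ h (F (g : H ⧸ H₀))
      rw [hFm, hFm, map_mul, MulAut.mul_apply])
    (by
      intro ω ω'
      obtain ⟨g, rfl⟩ := QuotientGroup.mk_surjective ω
      obtain ⟨g', rfl⟩ := QuotientGroup.mk_surjective ω'
      refine ⟨g' * g⁻¹, ?_⟩
      change ((g' * g⁻¹ * g : H) : H ⧸ H₀) = g'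
      rw [inv_mul_cancel_right])
    (ω₀ := ((1 : H) : H ⧸ H₀))
    (by
      intro t
      change (((t : H) * 1 : H) : H ⧸ H₀) = _
      rw [QuotientGroup.eq, mul_one, mul_one]
      exact H₀.inv_mem (hTH t.2))
    (by
      intro t ω hω ht
      obtain ⟨g, rfl⟩ := QuotientGroup.mk_surjective ω
      have hg : g ∉ H₀ := by
        intro hg
        apply hω
        rw [QuotientGroup.eq, mul_one]
        exact H₀.inv_mem hg
      apply Subtype.ext
      refine hsr g hg t t.2 ?_
      change (((t : H) * g : H) : H ⧸ H₀) = g at ht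
      rw [QuotientGroup.eq] at ht
      have h1 := H₀.inv_mem ht
      have h2 : (((t : H) * g)⁻¹ * g)⁻¹ = g⁻¹ * t * g := by group
      rwa [h2] at h1)
    (by
      obtain ⟨g, hg⟩ := hmov
      refine ⟨(g : H ⧸ H₀), ((1 : H) : H ⧸ H₀), ?_⟩
      rw [hFm, hFm, map_one]
      exact hg)
  have h1 := index_ge (ρ.comp T.subtype) hT hN (v := F ω) (by
    intro h
    apply hprod
    rw [← h]
    refine Finset.prod_congr rfl fun t _ => ?_
    obtain ⟨g, rfl⟩ := QuotientGroup.mk_surjective ω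
    change F (((t : H) * g : H) : H ⧸ H₀) = ρ t (F (g : H ⧸ H₀))
    rw [hFm, hFm, map_mul, MulAut.mul_apply]) (A.subgroupOf T)
  have h2 : CS (ρ.comp T.subtype) (A.subgroupOf T) = CS ρ A := by
    ext v
    constructor
    · intro hv a ha
      exact hv ⟨a, hA ha⟩ ha
    · intro hv a ha
      exact hv _ ha
  have h3 : (A.subgroupOf T).index = Nat.card T / Nat.card A := by
    have h4 := Subgroup.card_mul_index (A.subgroupOf T)
    rw [Nat.card_congr (Subgroup.subgroupOfEquivOfLe hA).toEquiv] at h4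
    exact (Nat.div_eq_of_eq_mul_right Nat.card_pos h4.symm).symm
  rwa [h2, h3] at h1

end main

/-! ### Numbers -/

theorem two_pow_ge (e : ℕ) (he : 4 ≤ e) : 4 * e ≤ 2 ^ e := by
  induction e, he using Nat.le_induction with
  | base => norm_num
  | succ e he ih => rw [pow_succ]; omega

/-- `SL(2, 2^e)` -/
theorem num_sl {e a f : ℕ} (he : 3 ≤ e) (ha : 2 ≤ a) (hae : a ≤ e) (hfa : f ≤ a) :
    ¬ 2 ^ e - 2 ^ (e - a) ≤ e + f := by
  intro h
  have h1 : 2 ^ (e - a) * 4 ≤ 2 ^ e := by
    have h2 : 2 ^ e = 2 ^ (e - a) * 2 ^ a := by rw [← pow_add, Nat.sub_add_cancel hae]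
    rw [h2]
    exact Nat.mul_le_mul_left _ (by
      calc 4 = 2 ^ 2 := by norm_num
        _ ≤ 2 ^ a := Nat.pow_le_pow_right (by norm_num) ha)
  rcases Nat.lt_or_ge e 4 with h5 | h5
  · have h6 : e = 3 := by omega
    subst h6
    have h7 : a = 2 ∨ a = 3 := by omega
    rcases h7 with rfl | rfl
    · norm_num at h
      omega
    · norm_num at h
      omega
  · have h6 := two_pow_ge e h5
    omega

/-- `Sz(2^e)` -/
theorem num_sz {e a f : ℕ} (he : 3 ≤ e) (ha : 1 ≤ a) (hae : a ≤ e) (hf : f ≤ 2 * a ∨ f ≤ 2) :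
    ¬ 2 ^ (2 * e) - 2 ^ (2 * e - a) ≤ e + f := by
  intro h
  have h1 : 2 ^ (2 * e - a) * 2 ≤ 2 ^ (2 * e) := by
    have h2 : 2 ^ (2 * e) = 2 ^ (2 * e - a) * 2 ^ a := by rw [← pow_add, Nat.sub_add_cancel (by omega)]
    rw [h2]
    exact Nat.mul_le_mul_left _ (by
      calc 2 = 2 ^ 1 := by norm_num
        _ ≤ 2 ^ a := Nat.pow_le_pow_right (by norm_num) ha)
  have h2 : 4 * (2 * e) ≤ 2 ^ (2 * e) := two_pow_ge (2 * e) (by omega)
  rcases hf with hf | hf <;> omega

end Cfsg.Agent.OddCyclic.Eq.Free
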