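import Cfsg.Agent.OddCyclic.Eq.PrimR
import Cfsg.Agent.OddCyclic.EO.DThree
import Cfsg.Agent.OddCyclic.B2Pgl
import Cfsg.Agent.OddCyclic.RedBlock
import Cfsg.Agent.Transfer.AbelianHall

/-!
# S0342, (E_q): the list for the P-trick

`cases`: `H` finite, odd Sylow subgroups cyclic, simple nonabelian subgroups in the list `KZero`; `H₀` a maximal, core
free 3'-subgroup of odd index containing the normalisers of its Sylow 2-subgroups. Then `H` has 2-rank at most one, or
every involution of `H₀` fixes exactly one coset of `H₀`, or 3 divides `|H|` and `H` has 2-rank at most 2.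
-/

set_option autoImplicit false
set_option linter.unusedSectionVars false

namespace Cfsg.Agent.OddCyclic.Eq.Prim

open Subgroup
open Cfsg.Agent.OddCyclic.T1Defs (OddCyc)
open Cfsg.Agent.OddCyclic.PumpMain (KZero)
open Cfsg.Agent.LieExceptional.CITDefs (IsSyl2)
open Cfsg.Agent.OddCyclic.Eq.PrimR

universe u

section basic

variable {H : Type*} [Group H] [Finite H] {H₀ : Subgroup H}

/-- elementary abelian 2-subgroups can be conjugated into a subgroup of odd index -/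
theorem exists_conj_le (hodd : Odd H₀.index) (A : Subgroup H) (hA : ∀ a ∈ A, a * a = 1) :
    ∃ g : H, ∀ a ∈ A, g * a * g⁻¹ ∈ H₀ := by
  have : Fact (Nat.Prime 2) := ⟨Nat.prime_two⟩
  obtain ⟨P, hP⟩ := Cfsg.Agent.Transfer.AbelianHall.exists_sylow_le 2 H₀ (by
    intro h
    rw [Nat.odd_iff] at hodd
    omega)
  have h2 : IsPGroup 2 A := fun a => ⟨1, Subtype.ext (by
    show (a : H) ^ 2 ^ 1 = 1
    rw [pow_one, pow_two]; exact hA a a.2)⟩
  obtain ⟨Q, hQ⟩ := h2.exists_le_sylow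
  obtain ⟨g, hg⟩ := MulAction.exists_smul_eq H Q P
  refine ⟨g, fun a ha => hP ?_⟩
  show g * a * g⁻¹ ∈ P
  rw [← hg, FFSz.mem_smul]
  have : g⁻¹ * (g * a * g⁻¹) * g = a := by group
  rw [this]; exact hQ ha

theorem pCore_eq_bot (hcore : ∀ N : Subgroup H, N.Normal → N ≤ H₀ → N = ⊥) (hodd : Odd H₀.index) :
    pCore 2 H = ⊥ := by
  have : Fact (Nat.Prime 2) := ⟨Nat.prime_two⟩
  apply hcore _ inferInstance
  have hP' : ∃ P : Sylow 2 H, (P : Subgroup H) ≤ H₀ := Cfsg.Agent.Transfer.AbelianHall.exists_sylow_le 2 H₀ (by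
    intro h
    rw [Nat.odd_iff] at hodd
    omega)
  obtain ⟨P, hP⟩ := hP'
  exact (Cfsg.Agent.Lib.Cores.pCore_le_sylow P).trans hP

/-- a subgroup normalised by `H₀` and by a normal subgroup `C` with `H₀ C = H` -/
theorem normal_of {C D : Subgroup H} (hC : H₀ ⊔ C = ⊤) (h0 : H₀ ≤ normalizer (D : Set H))
    (h1 : C ≤ normalizer (D : Set H)) : D.Normal := by
  rw [← normalizer_eq_top_iff, eq_top_iff, ← hC]
  exact sup_le h0 h1

theorem sup_eq_top (hmax : IsCoatom H₀) (hcore : ∀ N : Subgroup H, N.Normal → N ≤ H₀ → N = ⊥) {N : Subgroup H}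
    (hN : N.Normal) (hN1 : N ≠ ⊥) : H₀ ⊔ N = ⊤ := by
  rcases hmax.le_iff.1 (le_sup_left : H₀ ≤ H₀ ⊔ N) with h | h
  · exact h
  · exact absurd (hcore N hN (h ▸ le_sup_right)) hN1

/-- the case of a normal subgroup of prime order -/
theorem rank_one (hmax : IsCoatom H₀) (hcore : ∀ N : Subgroup H, N.Normal → N ≤ H₀ → N = ⊥) (hodd : Odd H₀.index)
    {r : ℕ} (hr : r.Prime) {y : H} (hy : orderOf y = r) (hn : (zpowers y).Normal) (A : Subgroup H)
    (hA : ∀ a ∈ A, a * a = 1) : Nat.card A ≤ 2 := by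
  have hy1 : zpowers y ≠ ⊥ := by
    rw [Ne, zpowers_eq_bot]
    rintro rfl
    rw [orderOf_one] at hy
    exact hr.one_lt.ne hy
  have hs := sup_eq_top hmax hcore hn hy1
  have hC : (H₀ ⊓ centralizer (zpowers y : Set H) : Subgroup H) = ⊥ := by
    refine hcore _ (normal_of hs ?_ ?_) inf_le_left
    · intro h hh
      rw [mem_normalizer_iff]
      intro x
      have hcn : (centralizer (zpowers y : Set H)).Normal := inferInstance
      constructor
      · intro hx
        obtain ⟨h1, h2⟩ := mem_inf.1 hx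
        exact mem_inf.2 ⟨mul_mem (mul_mem hh h1) (inv_mem hh), hcn.conj_mem x h2 h⟩
      · intro hx
        obtain ⟨h1, h2⟩ := mem_inf.1 hx
        have h3 := mul_mem (mul_mem (inv_mem hh) h1) hh
        have h4 := hcn.conj_mem _ h2 h⁻¹
        have e1 : h⁻¹ * (h * x * h⁻¹) * h = x := by group
        have e2 : h⁻¹ * (h * x * h⁻¹) * h⁻¹⁻¹ = x := by group
        rw [e1] at h3
        rw [e2] at h4
        exact mem_inf.2 ⟨h3, h4⟩
    · have h3 : zpowers y ≤ centralizer ((H₀ ⊓ centralizer (zpowers y : Set H) : Subgroup H) : Set H) := by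
        rw [le_centralizer_iff]
        exact inf_le_right
      exact h3.trans (centralizer_le_normalizer _)
  have hinv : ∀ a ∈ H₀, a * a = 1 → a ≠ 1 → a * y * a⁻¹ = y⁻¹ := by
    intro a ha ha2 ha1
    rcases FFRed.eq_or_inv hr hy ha2 (hn.conj_mem y (mem_zpowers y) a) with h | h
    · exfalso
      have h4 : a ∈ (H₀ ⊓ centralizer (zpowers y : Set H) : Subgroup H) := by
        refine mem_inf.2 ⟨ha, ?_⟩
        rw [mem_centralizer_iff]
        rintro _ ⟨k, rfl⟩
        exact (Commute.zpow_right (show Commute a y from h) k).eq.symm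
      rw [hC, mem_bot] at h4
      exact ha1 h4
    · exact h
  obtain ⟨g, hg⟩ := exists_conj_le hodd A hA
  by_cases hA1 : A = ⊥
  · rw [hA1, Subgroup.card_bot]; norm_num
  obtain ⟨⟨a, ha⟩, ha1'⟩ := Subgroup.ne_bot_iff_exists_ne_one.1 hA1
  have ha1 : a ≠ 1 := fun h => ha1' (Subtype.ext h)
  refine FFPsl.card_le_two_of (a := a) fun b hb => ?_
  by_contra hcon
  push Not at hcon
  obtain ⟨hb1, hba⟩ := hcon
  have hne : ∀ x : H, x ≠ 1 → g * x * g⁻¹ ≠ 1 := by
    intro x hx h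
    apply hx
    have : x = g⁻¹ * (g * x * g⁻¹) * g := by group
    rw [this, h]; group
  have hsq : ∀ x ∈ A, (g * x * g⁻¹) * (g * x * g⁻¹) = 1 := by
    intro x hx
    have : (g * x * g⁻¹) * (g * x * g⁻¹) = g * (x * x) * g⁻¹ := by group
    rw [this, hA x hx]; group
  have h1 := hinv _ (hg a ha) (hsq a ha) (hne a ha1)
  have h2 := hinv _ (hg b hb) (hsq b hb) (hne b hb1)
  have h3 := hinv _ (hg _ (mul_mem ha hb)) (hsq _ (mul_mem ha hb)) (hne _ (fun h => hba (by
    have h4 : b = a⁻¹ := (inv_eq_of_mul_eq_one_right h).symm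
    have h5 : a⁻¹ = a := inv_eq_of_mul_eq_one_right (hA a ha)
    rw [h4, h5])))
  have h4 : g * (a * b) * g⁻¹ * y * (g * (a * b) * g⁻¹)⁻¹ = y := by
    have e1 : g * (a * b) * g⁻¹ * y * (g * (a * b) * g⁻¹)⁻¹ =
        g * a * g⁻¹ * (g * b * g⁻¹ * y * (g * b * g⁻¹)⁻¹) * (g * a * g⁻¹)⁻¹ := by group
    have e2 : g * a * g⁻¹ * y⁻¹ * (g * a * g⁻¹)⁻¹ = (g * a * g⁻¹ * y * (g * a * g⁻¹)⁻¹)⁻¹ := by group
    rw [e1, h2, e2, h1, inv_inv]
  rw [h4] at h3
  -- `y = y⁻¹`: then `y` is an involution, centralised by `g a g⁻¹`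
  have h5 : y * y = 1 := by
    nth_rw 1 [h3]; rw [inv_mul_cancel]
  have h6 : g * a * g⁻¹ * y = y * (g * a * g⁻¹) := by
    rw [← h3] at h1
    have : g * a * g⁻¹ * y = g * a * g⁻¹ * y * (g * a * g⁻¹)⁻¹ * (g * a * g⁻¹) := by group
    rw [this, h1]
  have h7 : g * a * g⁻¹ ∈ (H₀ ⊓ centralizer (zpowers y : Set H) : Subgroup H) := by
    refine mem_inf.2 ⟨hg a ha, ?_⟩
    rw [mem_centralizer_iff]
    rintro _ ⟨k, rfl⟩
    exact (Commute.zpow_right (show Commute (g * a * g⁻¹) y from h6) k).eq.symm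
  rw [hC, mem_bot] at h7
  exact hne a ha1 h7

/-- `F(H) ≠ 1` gives a normal subgroup of prime order -/
theorem exists_normal (hc : OddCyc H) (h2 : pCore 2 H = ⊥) (hF : fittingSubgroup H ≠ ⊥) :
    ∃ (r : ℕ) (y : H), r.Prime ∧ orderOf y = r ∧ (zpowers y).Normal := by
  have hcyc := FFStruct.isCyclic_fitting hc h2
  obtain ⟨r, hr, hrd⟩ := Nat.exists_prime_and_dvd (fun h => hF (Subgroup.card_eq_one.1 h))
  have : Fact r.Prime := ⟨hr⟩
  obtain ⟨y, hy⟩ := exists_prime_orderOf_dvd_card' (G := fittingSubgroup H) r hrd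
  refine ⟨r, y, hr, by rw [Subgroup.orderOf_coe, hy], ?_⟩
  have hn : (fittingSubgroup H).Normal := inferInstance
  have key : ∀ g : H, g * (y : H) * g⁻¹ ∈ zpowers (y : H) := by
    intro g
    have h3 : orderOf (⟨g * y * g⁻¹, hn.conj_mem y y.2 g⟩ : fittingSubgroup H) = orderOf y := by
      rw [Subgroup.orderOf_mk, hy, ← hy, ← Subgroup.orderOf_coe y]
      exact orderOf_injective (MulAut.conj g).toMonoidHom (MulAut.conj g).injective (y : H)
    have h4 := CompBasic.zpowers_eq_of_cyclic h3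
    have h5 : (⟨g * y * g⁻¹, hn.conj_mem y y.2 g⟩ : fittingSubgroup H) ∈ zpowers y := by
      rw [← h4]; exact mem_zpowers _
    obtain ⟨k, hk⟩ := h5
    exact ⟨k, congrArg Subtype.val hk⟩
  constructor
  rintro _ ⟨k, rfl⟩ g
  have h3 := zpow_mem (key g) k
  rwa [conj_zpow] at h3

end basic

section comp

variable {H : Type*} [Group H] [Finite H] {H₀ X : Subgroup H}

/-- the centraliser of a component is trivial -/
theorem cent_eq_bot (hmax : IsCoatom H₀) (hcore : ∀ N : Subgroup H, N.Normal → N ≤ H₀ → N = ⊥) (hodd : Odd H₀.index)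
    [hX : X.Normal] (h2 : 2 ∣ Nat.card X) : centralizer (X : Set H) = ⊥ := by
  have : Fact (Nat.Prime 2) := ⟨Nat.prime_two⟩
  by_contra hne
  have hX1 : X ≠ ⊥ := by
    rintro rfl
    rw [Subgroup.card_bot] at h2
    omega
  have hs := sup_eq_top hmax hcore hX hX1
  have hs' := sup_eq_top hmax hcore (inferInstance : (centralizer (X : Set H)).Normal) hne
  have h3 : (X ⊓ H₀ : Subgroup H) = ⊥ := by
    refine hcore _ (normal_of hs' ?_ ?_) inf_le_right
    · intro h hh
      rw [mem_normalizer_iff]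
      intro x
      constructor
      · intro hx
        obtain ⟨h1, h2⟩ := mem_inf.1 hx
        exact mem_inf.2 ⟨hX.conj_mem x h1 h, mul_mem (mul_mem hh h2) (inv_mem hh)⟩
      · intro hx
        obtain ⟨h1, h2⟩ := mem_inf.1 hx
        have h3 := mul_mem (mul_mem (inv_mem hh) h2) hh
        have h4 := hX.conj_mem _ h1 h⁻¹
        have e1 : h⁻¹ * (h * x * h⁻¹) * h = x := by group
        have e2 : h⁻¹ * (h * x * h⁻¹) * h⁻¹⁻¹ = x := by group
        rw [e1] at h3
        rw [e2] at h4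
        exact mem_inf.2 ⟨h4, h3⟩
    · have h3 : centralizer (X : Set H) ≤ centralizer ((X ⊓ H₀ : Subgroup H) : Set H) :=
        centralizer_le inf_le_left
      exact h3.trans (centralizer_le_normalizer _)
  have h4 := not_two_dvd hs hodd
  have h5 : H₀.subgroupOf X = ⊥ := by
    rw [← Subgroup.inf_subgroupOf_left, h3]; exact Subgroup.bot_subgroupOf X
  rw [h5, Subgroup.index_bot] at h4
  exact h4 h2

theorem mem_of_inner [X.Normal] (hC : centralizer (X : Set H) = ⊥) {a : H} {g : X}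
    (h : (MulAut.conjNormal a : MulAut X) = MulAut.conj g) : a ∈ X := by
  have h1 : (g : H)⁻¹ * a ∈ centralizer (X : Set H) := by
    rw [mem_centralizer_iff]
    intro x hx
    have h2 := congrArg (fun α : MulAut X => ((α ⟨x, hx⟩ : X) : H)) h
    have h3 : a * x * a⁻¹ = g * x * (g : H)⁻¹ := by
      have e1 : ((MulAut.conjNormal a : MulAut X) ⟨x, hx⟩ : H) = a * x * a⁻¹ := MulAut.conjNormal_apply _ _
      have e2 : (((MulAut.conj g : MulAut X) ⟨x, hx⟩ : X) : H) = g * x * (g : H)⁻¹ := rfl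
      rw [← e1, ← e2]; exact h2
    have h4 : a * x = g * x * (g : H)⁻¹ * a := by rw [← h3]; group
    rw [mul_assoc, h4]; group
  rw [hC, mem_bot] at h1
  have h2 : a = g := by
    rw [inv_mul_eq_one] at h1; exact h1.symm
  rw [h2]; exact g.2

/-- `Sz(q)` -/
theorem suzuki [X.Normal] (hC : centralizer (X : Set H) = ⊥) (hs : Cfsg.Lie.IsoSuzuki X) {a : H} (ha : a * a = 1) :
    a ∈ X := by
  obtain ⟨g, hg⟩ := EO.DThree.inner_sz hs ha
  exact mem_of_inner hC hg

/-- `J₁` -/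
theorem janko [X.Normal] (hC : centralizer (X : Set H) = ⊥) (hJ : Cfsg.Agent.SporRec.J1.Defs.Local X) {k : X}
    (hk : orderOf k = 2) : X = ⊤ := by
  rw [eq_top_iff]
  intro a _
  obtain ⟨g, hg⟩ := EO.DThree.inner_j hJ hk a
  exact mem_of_inner hC hg

section jan

open Cfsg.Agent.SporRec.J1.Defs Cfsg.Agent.SporRec.J1.CentFacts Cfsg.Agent.OddCyclic.JInner

theorem u0_mem : ∀ c : A5, (c = 1 ∨ c = v1 ∨ c = v2 ∨ c = v1 * v2) →
    (u0 * c * u0⁻¹ = 1 ∨ u0 * c * u0⁻¹ = v1 ∨ u0 * c * u0⁻¹ = v2 ∨ u0 * c * u0⁻¹ = v1 * v2) := by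
  rintro c (rfl | rfl | rfl | rfl) <;> decide +kernel

theorem u0_mem' : ∀ c : A5, (c = 1 ∨ c = v1 ∨ c = v2 ∨ c = v1 * v2) →
    (u0⁻¹ * c * u0 = 1 ∨ u0⁻¹ * c * u0 = v1 ∨ u0⁻¹ * c * u0 = v2 ∨ u0⁻¹ * c * u0 = v1 * v2) := by
  rintro c (rfl | rfl | rfl | rfl) <;> decide +kernel

/-- a Sylow 2-subgroup of `J₁` is normalised by an element of order 3 -/
theorem three_dvd_normalizer {J : Type*} [Group J] [Finite J] (h : Local J) {k : J} (hk : orderOf k = 2) :
    ∃ (E : Subgroup J) (t : J), IsPGroup 2 E ∧ ¬ 2 ∣ E.index ∧ orderOf t = 3 ∧ t ∈ normalizer (E : Set J) := by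
  obtain ⟨kk, k1⟩ := sq_of_two hk
  obtain ⟨φ, D⟩ := exists_centData k hk (h.cent k hk)
  have hJ := JFacts.isJ1_of_local h hk
  refine ⟨EE k φ, φ u0, EE_pgroup kk D, ?_, ?_, ?_⟩
  · intro h2
    have h8 := EE_card kk k1 D
    have h3 := (EE k φ).card_mul_index
    rw [hJ.2] at h3
    obtain ⟨c, hc⟩ := h8
    obtain ⟨d, hd⟩ := h2
    rw [hc, hd] at h3
    have : 8 * (c * d) * 2 = 175560 := by rw [← h3]; ring
    omega
  · rw [orderOf_injective φ D.inj]
    have : Fact (Nat.Prime 3) := ⟨Nat.prime_three⟩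
    exact orderOf_eq_prime (by decide +kernel) (by decide +kernel)
  · have hk' : ∀ b : A5, φ b * k = k * φ b := fun b => (D.comm b).symm
    rw [mem_normalizer_iff]
    intro x
    constructor
    · intro hx
      obtain ⟨c, hc, hx'⟩ := (list_EE D).1 hx
      refine (list_EE D).2 ⟨u0 * c * u0⁻¹, u0_mem c hc, ?_⟩
      rcases hx' with rfl | rfl
      · left
        rw [map_mul, map_mul, map_inv]
      · right
        rw [map_mul, map_mul, map_inv]
        calc φ u0 * (k * φ c) * (φ u0)⁻¹ = (φ u0 * k) * φ c * (φ u0)⁻¹ := by group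
          _ = k * (φ u0 * φ c * (φ u0)⁻¹) := by rw [hk']; group
    · intro hx
      obtain ⟨c, hc, hx'⟩ := (list_EE D).1 hx
      refine (list_EE D).2 ⟨u0⁻¹ * c * u0, u0_mem' c hc, ?_⟩
      have e0 : x = (φ u0)⁻¹ * (φ u0 * x * (φ u0)⁻¹) * φ u0 := by group
      rcases hx' with h1 | h1
      · left
        rw [map_mul, map_mul, map_inv, e0, h1]
      · right
        rw [map_mul, map_mul, map_inv, e0, h1]
        have h2 : (φ u0)⁻¹ * k = k * (φ u0)⁻¹ := by rw [← map_inv]; exact hk' _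
        calc (φ u0)⁻¹ * (k * φ c) * φ u0 = ((φ u0)⁻¹ * k) * φ c * φ u0 := by group
          _ = k * ((φ u0)⁻¹ * φ c * φ u0) := by rw [h2]; group

/-- `J₁` does not occur -/
theorem not_janko [X.Normal] (hX : X = ⊤) (hJ : Local X) {k : X} (hk : orderOf k = 2) (hodd : Odd H₀.index)
    (h3 : ¬ 3 ∣ Nat.card H₀) (hN : ∀ T : Subgroup H, IsSyl2 ⊤ T → T ≤ H₀ → normalizer (T : Set H) ≤ H₀) : False := by
  have : Fact (Nat.Prime 2) := ⟨Nat.prime_two⟩
  obtain ⟨E, t, hE, hi, ht, htn⟩ := three_dvd_normalizer hJ hk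
  have h1 : IsPGroup 2 (E.map X.subtype) := hE.map _
  have h2 : ¬ 2 ∣ (E.map X.subtype).index := by
    rw [Subgroup.index_map_subtype]
    have : X.index = 1 := by rw [hX, Subgroup.index_top]
    rw [this, mul_one]
    exact hi
  obtain ⟨P, hP⟩ := Cfsg.Agent.Transfer.AbelianHall.exists_sylow_le 2 H₀ (by
    intro h
    rw [Nat.odd_iff] at hodd
    omega)
  obtain ⟨g, hg⟩ := MulAction.exists_smul_eq H (h1.toSylow h2) P
  have h4 : (t : H) ∈ normalizer ((E.map X.subtype : Subgroup H) : Set H) := by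
    rw [mem_normalizer_iff]
    intro x
    constructor
    · rintro ⟨y, hy, rfl⟩
      exact ⟨t * y * t⁻¹, (mem_normalizer_iff.1 htn y).1 hy, rfl⟩
    · rintro ⟨y, hy, h5⟩
      have hxX : x ∈ X := by rw [hX]; trivial
      refine ⟨⟨x, hxX⟩, (mem_normalizer_iff.1 htn _).2 ?_, rfl⟩
      have h6 : t * ⟨x, hxX⟩ * t⁻¹ = y := Subtype.ext h5.symm
      rw [h6]; exact hy
  have h5 : g * t * g⁻¹ ∈ normalizer ((P : Subgroup H) : Set H) := by
    have h6 : (t : H) • (h1.toSylow h2) = h1.toSylow h2 := by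
      rw [Sylow.smul_eq_iff_mem_normalizer]
      exact h4
    apply Sylow.smul_eq_iff_mem_normalizer.1
    rw [← hg, smul_smul]
    have : g * t * g⁻¹ * g = g * t := by group
    rw [this, mul_smul, h6]
  have h6 := hN P ⟨le_top, P.2, fun Y _ hY hPY => P.3 hY hPY⟩ hP h5
  apply h3
  have h7 : orderOf (g * t * g⁻¹ : H) = 3 := by
    rw [← ht, ← Subgroup.orderOf_coe t]
    exact orderOf_injective (MulAut.conj g).toMonoidHom (MulAut.conj g).injective (t : H)
  rw [← h7, ← Subgroup.orderOf_mk _ h6]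
  exact orderOf_dvd_natCard _

end jan

section linear

open Cfsg.Agent.OddCyclic.T1Sl2 Cfsg.Agent.OddCyclic.FFSl2 Cfsg.Agent.Classification.QDW.TypeHom

variable {F : Type*} [Field F] [Fintype F] [CharP F 2]

/-- `SL₂(2^n)`: all involutions are inner -/
theorem linear [X.Normal] [IsSimpleGroup X] (hC : centralizer (X : Set H) = ⊥)
    (e : Matrix.SpecialLinearGroup (Fin 2) F ≃* X) (h2 : 2 ∣ Nat.card X) (hmax : IsCoatom H₀)
    (hcore : ∀ N : Subgroup H, N.Normal → N ≤ H₀ → N = ⊥) (hodd : Odd H₀.index) (h3 : ¬ 3 ∣ Nat.card H₀)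
    {a : H} (ha : a * a = 1) : a ∈ X := by
  have : Fact (Nat.Prime 2) := ⟨Nat.prime_two⟩
  by_contra haX
  have h4 : typ (FFOuter.ac e a) ≠ 1 := by
    intro h5
    obtain ⟨s, hs⟩ := (L2Model.inner_iff _).1 h5
    exact haX (mem_of_inner hC (EO.DThree.psi_of_ac e hs))
  obtain ⟨q, hq, -⟩ := L2Model.card_fix (by rw [← map_mul, ha, map_one]) h4
  -- `3 ∣ |F| - 1`
  have h5 : ∃ n, Nat.card F = 2 ^ n := by
    obtain ⟨n, -, hn⟩ := FiniteField.card F 2
    exact ⟨n, by rw [Nat.card_eq_fintype_card]; exact hn⟩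
  obtain ⟨n, hn⟩ := h5
  have h6 : 3 ∣ Nat.card Fˣ := by
    have h7 : Nat.card Fˣ = Nat.card F - 1 := Nat.card_units F
    rw [h7, hq]
    have h8 : q % 3 ≠ 0 := by
      intro h9
      have h10 : 3 ∣ 2 ^ n := by
        rw [← hn, hq]
        exact Dvd.dvd.pow (Nat.dvd_of_mod_eq_zero h9) (by norm_num)
      have h11 := Nat.prime_three.dvd_of_dvd_pow h10
      omega
    have h9 : q ^ 2 % 3 = 1 := by
      have : q % 3 = 1 ∨ q % 3 = 2 := by omega
      rcases this with h | h <;> simp [Nat.pow_mod, h]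
    omega
  have : Fact (Nat.Prime 3) := ⟨Nat.prime_three⟩
  obtain ⟨s, hs⟩ := exists_prime_orderOf_dvd_card' (G := Fˣ) 3 h6
  have h7 : orderOf (T1Sl2.dgHom s) = 3 := by
    rw [← hs]
    exact orderOf_injective (T1Sl2.dgHom (F := F)) T1Sl2.dgHom_injective s
  -- the Sylow 2-subgroup
  obtain ⟨Q, hQ, -⟩ := norm_eq (PrimR.equiv e PrimR.sl) h2 hmax hcore hodd
  obtain ⟨g, hg⟩ := MulAction.exists_smul_eq X
    ((T1Sl2.SU F).mapSurjective (f := e.toMonoidHom) e.surjective : Sylow 2 X) Q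
  have h8 : (T1Sl2.dgHom s) • T1Sl2.SU F = T1Sl2.SU F := by
    rw [smul_SU_eq]; rfl
  have h9 : e (T1Sl2.dgHom s) • ((T1Sl2.SU F).mapSurjective (f := e.toMonoidHom) e.surjective : Sylow 2 X) =
      (T1Sl2.SU F).mapSurjective (f := e.toMonoidHom) e.surjective := by
    apply Sylow.ext
    ext y
    change y ∈ e (T1Sl2.dgHom s) • ((T1Sl2.SU F).mapSurjective (f := e.toMonoidHom) e.surjective : Sylow 2 X) ↔
      y ∈ ((T1Sl2.SU F).mapSurjective (f := e.toMonoidHom) e.surjective : Sylow 2 X)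
    rw [FFSz.mem_smul, PrimR.mem_map, PrimR.mem_map, map_mul, map_mul, map_inv, e.symm_apply_apply,
      ← FFSz.mem_smul, h8]
  have h10 : ((g * e (T1Sl2.dgHom s) * g⁻¹ : X) : H) ∈ H₀ := by
    rw [hQ]
    have h11 : (MulAut.conjNormal ((g * e (T1Sl2.dgHom s) * g⁻¹ : X) : H) : MulAut X) =
        MulAut.conj (g * e (T1Sl2.dgHom s) * g⁻¹) := by
      ext x
      rw [MulAut.conjNormal_apply]; rfl
    rw [h11]
    change (g * e (T1Sl2.dgHom s) * g⁻¹) • Q = Q
    rw [← hg, smul_smul]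
    have : g * e (T1Sl2.dgHom s) * g⁻¹ * g = g * e (T1Sl2.dgHom s) := by group
    rw [this, mul_smul, h9]
  apply h3
  have h11 : orderOf ((g * e (T1Sl2.dgHom s) * g⁻¹ : X) : H) = 3 := by
    rw [Subgroup.orderOf_coe, ← h7, ← MulEquiv.orderOf_eq e (T1Sl2.dgHom s)]
    exact orderOf_injective (MulAut.conj g).toMonoidHom (MulAut.conj g).injective _
  rw [← h11, ← Subgroup.orderOf_mk _ h10]
  exact orderOf_dvd_natCard _

end linear

end comp

/-- **the list** -/
theorem cases {H : Type u} [Group H] [Finite H] (hc : OddCyc H)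
    (hk : ∀ J : Subgroup H, IsSimpleGroup J → (∃ x y : J, x * y ≠ y * x) → KZero J) {H₀ : Subgroup H}
    (hmax : IsCoatom H₀) (hcore : ∀ N : Subgroup H, N.Normal → N ≤ H₀ → N = ⊥) (hodd : Odd H₀.index)
    (h3 : ¬ 3 ∣ Nat.card H₀)
    (hN : ∀ T : Subgroup H, IsSyl2 ⊤ T → T ≤ H₀ → normalizer (T : Set H) ≤ H₀) :
    (∀ A : Subgroup H, (∀ a ∈ A, a * a = 1) → Nat.card A ≤ 2) ∨
    (∀ a ∈ H₀, a * a = 1 → a ≠ 1 → ∀ h : H, h * a * h⁻¹ ∈ H₀ → h ∈ H₀) ∨
    (3 ∣ Nat.card H ∧ ∀ A : Subgroup H, (∀ a ∈ A, a * a = 1) → Nat.card A ≤ 4) := by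
  have h2 := pCore_eq_bot hcore hodd
  by_cases hF : fittingSubgroup H = ⊥
  swap
  · left
    obtain ⟨r, y, hr, hy, hn⟩ := exists_normal hc h2 hF
    exact rank_one hmax hcore hodd hr hy hn
  by_cases hinv : ∃ a : H, a * a = 1 ∧ a ≠ 1
  swap
  · left
    push Not at hinv
    intro A hA
    have : A = ⊥ := by
      rw [eq_bot_iff]
      intro a ha
      exact mem_bot.2 (hinv a (hA a ha))
    rw [this, Subgroup.card_bot]; norm_num
  right
  obtain ⟨a, ha, ha1⟩ := hinv
  obtain ⟨X, hX⟩ : ∃ X : Subgroup H, IsComponent X := by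
    by_contra hcon
    push Not at hcon
    refine ha1 (FFStruct.eq_one_of_centralizes h2 ha ?_ fun K hK => absurd hK (hcon K))
    intro x hx
    rw [hF, mem_bot] at hx
    rw [hx, mul_one, one_mul]
  have hXn := FFStruct.component_normal hc hX
  have hXs := FFStruct.simple_component hc h2 hX
  have hXk : KZero X := by
    refine hk X hXs ?_
    by_contra hcon
    push Not at hcon
    exact Cfsg.Agent.SignalizersComponents.Components.quasisimple_not_isMulCommutative hX.2 ⟨⟨hcon⟩⟩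
  have hX2 : 2 ∣ Nat.card X := by
    by_contra hcon
    exact Cfsg.Agent.SignalizersComponents.Components.quasisimple_not_isSolvable hX.2
      (Cfsg.Agent.OddCyclic.Red.solvable_of_odd (CompBasic.oddCyc_subgroup hc X) hcon)
  have hC := cent_eq_bot hmax hcore hodd hX2
  rcases hXk with ⟨F, _, _, hp, h5, ⟨e⟩⟩ | ⟨F, _, _, f, hf, hF, ⟨e⟩⟩ | hs | ⟨hJ, k, hk'⟩
  · right
    have hodd' : Odd (Fintype.card F) := hp.odd_of_ne_two (by omega)
    refine ⟨?_, fun A hA => ?_⟩
    · refine Dvd.dvd.trans ?_ (Subgroup.card_subgroup_dvd_card X)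
      rw [Nat.card_congr e.toEquiv]
      exact Cfsg.Agent.ThreePrime.OrderThree.three_dvd_card_psl _
    · have R := Cfsg.Agent.GH.L2Aut.Rep.ofEquiv (Cfsg.Agent.GH.L2Aut.two_ne_zero_of_odd hodd') e
      have h6 := B2Pgl.card_elem R (P := A.map (MulAut.conjNormal : H →* MulAut X))
        (fun α _ => Cfsg.Agent.OddCyclic.PGLTorus.mem_PGL_of_prime R (by rw [Nat.card_eq_fintype_card]; exact hp) α) (by
        rintro _ ⟨x, hx, rfl⟩
        rw [← map_mul, hA x hx, map_one])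
      refine le_trans (le_of_eq ?_) h6
      have hinj : Function.Injective (MulAut.conjNormal : H →* MulAut X) := by
        rw [← MonoidHom.ker_eq_bot_iff, eq_bot_iff, ← hC]
        intro x hx
        rw [mem_centralizer_iff]
        intro y hy
        have h7 := congrArg (fun α : MulAut X => ((α ⟨y, hy⟩ : X) : H)) (MonoidHom.mem_ker.1 hx)
        have h8 : x * y * x⁻¹ = y := by simpa [MulAut.conjNormal_apply] using h7
        calc y * x = x * y * x⁻¹ * x := by rw [h8]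
          _ = x * y := by group
      exact Nat.card_congr (A.equivMapOfInjective _ hinj).toEquiv
  · left
    have h4 : 4 ≤ Fintype.card F := by
      rw [hF]
      calc 4 = 2 ^ 2 := by norm_num
        _ ≤ 2 ^ f := Nat.pow_le_pow_right (by norm_num) hf
    have hch : CharP F 2 := Cfsg.Agent.OddCyclic.PumpMain.charP_two hF
    obtain ⟨g⟩ := WeakTI.PslTwo.nonempty_equiv (F := F)
    have e' := g.trans e.symm
    intro a haH ha2 ha1 h hh
    exact fix_one (PrimR.equiv e' PrimR.sl) hX2 hmax hcore hodd (linear hC e' hX2 hmax hcore hodd h3 ha2) haH ha2 ha1 hh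
  · left
    intro a haH ha2 ha1 h hh
    exact fix_one (PrimR.sz hs) hX2 hmax hcore hodd (suzuki hC hs ha2) haH ha2 ha1 hh
  · exact (not_janko (janko hC hJ hk') hJ hk' hodd h3 hN).elim

end Cfsg.Agent.OddCyclic.Eq.Prim
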