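import Mathlib

/-!
# (E_q) of `T_cyc`: the semilinear action of `N_G(V)` on the natural module: (0.2), (0.3) of
blueprints/S0342-A2-helper402.md

`Sys V J e`: `V = {e x y}`, `J = {e x 0}` (`x, y ∈ F`), `N_G(V)` acts semilinearly, `SL₂(F)` is induced.
* `Sys.idx`: `|C_V(m)| ≤ |F|` for `m ∈ N(V)`, `m ∉ C(V)`;
* `Sys.quad`: quadratic elementary abelian subgroups of `N(V)`;
* `Sys.qb`: elementary abelian subgroups of `N(V)` have order `≤ |F|` on `V`.
-/

set_option autoImplicit false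
set_option linter.unusedSectionVars false

namespace Cfsg.Agent.OddCyclic.Eq.Crd
open Subgroup

section field

variable {F : Type*} [Field F] [Finite F] [CharP F 2]

omit [Finite F] in
theorem two_eq : ∀ x : F, x + x = 0 := fun x => CharTwo.add_self_eq_zero x

theorem aut_cyclic : IsCyclic (RingAut F) := by
  let _ : Algebra (ZMod 2) F := ZMod.algebra F 2
  let f : (F ≃ₐ[ZMod 2] F) →* RingAut F :=
    { toFun := fun σ => σ.toRingEquiv
      map_one' := rfl
      map_mul' := fun _ _ => rfl }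
  refine isCyclic_of_surjective f fun σ => ?_
  refine ⟨AlgEquiv.ofRingEquiv (f := σ) fun x => ?_, RingEquiv.ext fun _ => rfl⟩
  exact DFunLike.congr_fun (Subsingleton.elim ((σ : F →+* F).comp (algebraMap (ZMod 2) F)) (algebraMap (ZMod 2) F)) x

/-- at most one involution -/
theorem invol_unique {σ τ : F ≃+* F} (hσ : ∀ x, σ (σ x) = x) (hτ : ∀ x, τ (τ x) = x)
    (h1 : ∃ x, σ x ≠ x) (h2 : ∃ x, τ x ≠ x) : σ = τ := by
  classical
  have := aut_cyclic (F := F)
  have : Finite (RingAut F) := Finite.of_injective (fun σ : RingAut F => (σ : F → F)) fun a b h =>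
    RingEquiv.ext fun x => congrFun h x
  have := Fintype.ofFinite (RingAut F)
  have h3 := IsCyclic.card_pow_eq_one_le (α := RingAut F) (n := 2) (by norm_num)
  by_contra hne
  have h4 : ({1, σ, τ} : Finset (RingAut F)) ⊆ Finset.univ.filter fun a : RingAut F => a ^ 2 = 1 := by
    intro a ha
    simp only [Finset.mem_insert, Finset.mem_singleton] at ha
    rw [Finset.mem_filter]
    refine ⟨Finset.mem_univ _, ?_⟩
    rcases ha with rfl | rfl | rfl
    · exact one_pow 2
    · rw [pow_two]; exact RingEquiv.ext hσ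
    · rw [pow_two]; exact RingEquiv.ext hτ
  have h5 := (Finset.card_le_card h4).trans h3
  rw [Finset.card_eq_three.2 ⟨1, σ, τ, ?_, ?_, hne, rfl⟩] at h5
  · omega
  · rintro rfl
    obtain ⟨x, hx⟩ := h1
    exact hx rfl
  · rintro rfl
    obtain ⟨x, hx⟩ := h2
    exact hx rfl

end field

section pure

variable {F : Type*} [Field F] [Finite F]

/-- `C ∩ l C = 0` -/
theorem card_sq_le {W : Type*} [AddCommGroup W] [Module F W] [Finite W] (C : AddSubgroup W) (l : F)
    (h : ∀ p ∈ C, l • p ∈ C → p = 0) : Nat.card C * Nat.card C ≤ Nat.card W := by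
  rw [← Nat.card_prod]
  refine Nat.card_le_card_of_injective (fun p : C × C => (p.1 : W) + l • (p.2 : W)) ?_
  rintro ⟨⟨p, hp⟩, ⟨r, hr⟩⟩ ⟨⟨p', hp'⟩, ⟨r', hr'⟩⟩ h1
  simp only at h1
  have h2 : l • (r' - r) = p - p' := by
    rw [smul_sub, sub_eq_sub_iff_add_eq_add, h1, add_comm]
  have h3 : r' - r = 0 := h _ (C.sub_mem hr' hr) (by rw [h2]; exact C.sub_mem hp hp')
  rw [h3, smul_zero] at h2
  have h4 : p = p' := (sub_eq_zero.1 h2.symm)
  have h5 : r' = r := sub_eq_zero.1 h3
  subst h4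
  subst h5
  rfl

theorem card_le_of_sep (C : AddSubgroup (F × F)) (l : F) (h : ∀ p ∈ C, l • p ∈ C → p = 0) :
    Nat.card C ≤ Nat.card F := by
  have h1 := card_sq_le C l h
  rw [Nat.card_prod] at h1
  exact Nat.mul_self_le_mul_self_iff.1 h1

theorem card_le_of_ne_top (C : Submodule F (F × F)) (h : C ≠ ⊤) : Nat.card C ≤ Nat.card F := by
  have h1 : Module.finrank F C < Module.finrank F (F × F) := Submodule.finrank_lt h
  have h2 : Module.finrank F (F × F) = 2 := by rw [Module.finrank_prod, Module.finrank_self]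
  have h3 : Module.finrank F C ≤ 1 := by omega
  rw [Module.natCard_eq_pow_finrank (K := F) (V := C)]
  exact (Nat.pow_le_pow_right Nat.card_pos h3).trans (pow_one _).le

end pure

section crd

variable {G : Type*} [Group G] {F : Type} [Field F]

/-- `m` acts on the coordinates `e` by the semilinear map `v ↦ (a b; c d) σ(v)` -/
def Sm (e : F → F → G) (m : G) (σ : F ≃+* F) (a b c d : F) : Prop :=
  ∀ x y, m * e x y * m⁻¹ = e (a * σ x + b * σ y) (c * σ x + d * σ y)

theorem Sm.mul {e : F → F → G} {m n : G} {σ τ : F ≃+* F} {a b c d a' b' c' d' : F} (h : Sm e m σ a b c d)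
    (h' : Sm e n τ a' b' c' d') :
    Sm e (m * n) (τ.trans σ) (a * σ a' + b * σ c') (a * σ b' + b * σ d') (c * σ a' + d * σ c')
      (c * σ b' + d * σ d') := by
  intro x y
  have h1 : m * n * e x y * (m * n)⁻¹ = m * (n * e x y * n⁻¹) * m⁻¹ := by group
  rw [h1, h' x y, h]
  simp only [map_add, map_mul, RingEquiv.trans_apply]
  congr 1 <;> ring

/-- coordinates of `V`, `J`: semilinear action of `N_G(V)`, `SL₂(F)` is induced -/
structure Sys (V J : Subgroup G) (e : F → F → G) : Prop where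
  add : ∀ x y x' y', e (x + x') (y + y') = e x y * e x' y'
  inj : ∀ x y, e x y = 1 → x = 0 ∧ y = 0
  mem : ∀ g, g ∈ V ↔ ∃ x y, g = e x y
  memJ : ∀ g, g ∈ J ↔ ∃ x, g = e x 0
  semi : ∀ m ∈ normalizer (V : Set G), ∃ (σ : F ≃+* F) (a b c d : F), a * d + b * c ≠ 0 ∧ Sm e m σ a b c d
  sl : ∀ a b c d : F, a * d + b * c = 1 → ∃ m ∈ normalizer (V : Set G), Sm e m (RingEquiv.refl F) a b c d

namespace Sys

variable {V J : Subgroup G} {e : F → F → G} (h : Sys V J e)

include h

theorem zero : e 0 0 = 1 := by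
  have h1 := h.add 0 0 0 0
  rw [add_zero] at h1
  exact left_eq_mul.1 h1

theorem ext {x y x' y' : F} (h1 : e x y = e x' y') : x = x' ∧ y = y' := by
  have h2 := h.add (x - x') (y - y') x' y'
  rw [sub_add_cancel, sub_add_cancel, h1] at h2
  obtain ⟨h3, h4⟩ := h.inj _ _ (right_eq_mul.1 h2)
  exact ⟨sub_eq_zero.1 h3, sub_eq_zero.1 h4⟩

theorem ext_iff {x y x' y' : F} : e x y = e x' y' ↔ x = x' ∧ y = y' :=
  ⟨h.ext, fun h1 => by rw [h1.1, h1.2]⟩

theorem comm (x y x' y' : F) : e x y * e x' y' = e x' y' * e x y := by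
  rw [← h.add, ← h.add, add_comm x, add_comm y]

theorem memV (x y : F) : e x y ∈ V := (h.mem _).2 ⟨x, y, rfl⟩

theorem J_mem (x : F) : e x 0 ∈ J := (h.memJ _).2 ⟨x, rfl⟩

theorem mem_J {x y : F} (h1 : e x y ∈ J) : y = 0 := by
  obtain ⟨x', h2⟩ := (h.memJ _).1 h1
  exact (h.ext h2).2

theorem J_le : J ≤ V := by
  intro g hg
  obtain ⟨x, rfl⟩ := (h.memJ _).1 hg
  exact h.memV _ _

theorem uniq {m : G} {σ τ : F ≃+* F} {a b c d a' b' c' d' : F} (h1 : Sm e m σ a b c d)
    (h2 : Sm e m τ a' b' c' d') (hd : a * d + b * c ≠ 0) : σ = τ ∧ a = a' ∧ b = b' ∧ c = c' ∧ d = d' := by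
  have key : ∀ x y, e (a * σ x + b * σ y) (c * σ x + d * σ y) = e (a' * τ x + b' * τ y) (c' * τ x + d' * τ y) :=
    fun x y => (h1 x y).symm.trans (h2 x y)
  have h10 := h.ext (key 1 0)
  have h01 := h.ext (key 0 1)
  simp only [map_one, map_zero, mul_one, mul_zero, add_zero, zero_add] at h10 h01
  refine ⟨?_, h10.1, h01.1, h10.2, h01.2⟩
  ext x
  have hx := h.ext (key x 0)
  simp only [map_zero, mul_zero, add_zero] at hx
  rw [← h10.1, ← h10.2] at hx
  by_cases ha : a = 0
  · have hc : c ≠ 0 := by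
      rintro rfl
      apply hd
      rw [ha]; ring
    exact mul_left_cancel₀ hc hx.2
  · exact mul_left_cancel₀ ha hx.1

theorem mem_cent {m : G} : m ∈ centralizer (V : Set G) ↔ Sm e m (RingEquiv.refl F) 1 0 0 1 := by
  rw [mem_centralizer_iff]
  constructor
  · intro h1 x y
    have h2 := h1 _ (h.memV x y)
    simp only [RingEquiv.refl_apply, one_mul, zero_mul, add_zero, zero_add]
    rw [← h2, mul_inv_cancel_right]
  · intro h1 v hv
    obtain ⟨x, y, rfl⟩ := (h.mem _).1 hv
    have h2 := h1 x y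
    simp only [RingEquiv.refl_apply, one_mul, zero_mul, add_zero, zero_add] at h2
    rw [mul_inv_eq_iff_eq_mul] at h2
    exact h2.symm

theorem comm_iff {m : G} {σ : F ≃+* F} {a b c d : F} (h1 : Sm e m σ a b c d) {x y : F} :
    m * e x y = e x y * m ↔ a * σ x + b * σ y = x ∧ c * σ x + d * σ y = y := by
  rw [← mul_inv_eq_iff_eq_mul, h1 x y, h.ext_iff]

/-- the preimage of a subgroup -/
def pre (C : Subgroup G) : AddSubgroup (F × F) where
  carrier := {p | e p.1 p.2 ∈ C}
  zero_mem' := by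
    show e 0 0 ∈ C
    rw [h.zero]; exact C.one_mem
  add_mem' := by
    rintro ⟨x, y⟩ ⟨x', y'⟩ h1 h2
    show e (x + x') (y + y') ∈ C
    rw [h.add]
    exact C.mul_mem h1 h2
  neg_mem' := by
    rintro ⟨x, y⟩ h1
    show e (-x) (-y) ∈ C
    have h2 := h.add x y (-x) (-y)
    rw [add_neg_cancel, add_neg_cancel, h.zero] at h2
    rw [← inv_eq_of_mul_eq_one_right h2.symm]
    exact C.inv_mem h1

omit h in
theorem mem_pre (h : Sys V J e) {C : Subgroup G} {x y : F} : (x, y) ∈ h.pre C ↔ e x y ∈ C := Iff.rfl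

theorem card_pre {C : Subgroup G} (hC : C ≤ V) : Nat.card (h.pre C) = Nat.card C := by
  refine Nat.card_congr (Equiv.ofBijective (fun p : h.pre C => (⟨e p.1.1 p.1.2, p.2⟩ : C)) ⟨?_, ?_⟩)
  · rintro ⟨⟨x, y⟩, h1⟩ ⟨⟨x', y'⟩, h2⟩ h3
    obtain ⟨h4, h5⟩ := h.ext (Subtype.ext_iff.1 h3)
    simp only at h4 h5
    subst h4; subst h5; rfl
  · rintro ⟨g, hg⟩
    obtain ⟨x, y, rfl⟩ := (h.mem _).1 (hC hg)
    exact ⟨⟨(x, y), hg⟩, rfl⟩

theorem cardV : Nat.card V = Nat.card F * Nat.card F := by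
  rw [← h.card_pre le_rfl, ← Nat.card_prod]
  exact Nat.card_congr (Equiv.subtypeUnivEquiv fun p => h.memV p.1 p.2)

theorem cardJ : Nat.card J = Nat.card F := by
  refine (Nat.card_congr (Equiv.ofBijective (fun x : F => (⟨e x 0, h.J_mem x⟩ : J)) ⟨?_, ?_⟩)).symm
  · intro x y h1
    exact (h.ext (Subtype.ext_iff.1 h1)).1
  · rintro ⟨g, hg⟩
    obtain ⟨x, rfl⟩ := (h.memJ _).1 hg
    exact ⟨x, rfl⟩

/-- (0.3): the index of `C_V(m)` is at least `q` -/
theorem idx [Finite F] {m : G} (hm : m ∈ normalizer (V : Set G)) (h1 : m ∉ centralizer (V : Set G)) :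
    Nat.card (V ⊓ centralizer ({m} : Set G) : Subgroup G) ≤ Nat.card F := by
  rw [← h.card_pre inf_le_left]
  obtain ⟨σ, a, b, c, d, hd, hs⟩ := h.semi m hm
  have hfix : ∀ x y, (x, y) ∈ h.pre (V ⊓ centralizer ({m} : Set G)) ↔
      a * σ x + b * σ y = x ∧ c * σ x + d * σ y = y := by
    intro x y
    rw [h.mem_pre, mem_inf, mem_centralizer_singleton_iff, ← h.comm_iff hs]
    exact ⟨fun h2 => h2.2.symm, fun h2 => ⟨h.memV _ _, h2.symm⟩⟩
  by_cases hσ : ∃ l, σ l ≠ l
  · obtain ⟨l, hl⟩ := hσ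
    refine card_le_of_sep _ l ?_
    rintro ⟨x, y⟩ h2 h3
    rw [Prod.smul_mk, smul_eq_mul, smul_eq_mul, hfix] at h3
    rw [hfix] at h2
    rw [map_mul, map_mul] at h3
    have hl' : σ l - l ≠ 0 := sub_ne_zero.2 hl
    have e1 : (σ l - l) * x = 0 := by linear_combination h3.1 - σ l * h2.1
    have e2 : (σ l - l) * y = 0 := by linear_combination h3.2 - σ l * h2.2
    exact Prod.ext ((mul_eq_zero.1 e1).resolve_left hl') ((mul_eq_zero.1 e2).resolve_left hl')
  · push Not at hσ
    let C : Submodule F (F × F) :=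
      { (h.pre (V ⊓ centralizer ({m} : Set G))) with
        smul_mem' := by
          rintro l ⟨x, y⟩ h2
          change (x, y) ∈ h.pre (V ⊓ centralizer ({m} : Set G)) at h2
          change (l * x, l * y) ∈ h.pre (V ⊓ centralizer ({m} : Set G))
          rw [hfix] at h2 ⊢
          simp only [hσ] at h2 ⊢
          constructor
          · linear_combination l * h2.1
          · linear_combination l * h2.2 }
    have hC : C ≠ ⊤ := by
      intro h2
      apply h1
      rw [mem_centralizer_iff]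
      intro v hv
      obtain ⟨x, y, rfl⟩ := (h.mem _).1 hv
      have h3 : (x, y) ∈ C := by rw [h2]; trivial
      have h4 : e x y ∈ V ⊓ centralizer ({m} : Set G) := h3
      exact mem_centralizer_singleton_iff.1 h4.2
    exact card_le_of_ne_top C hC



theorem uniq' {m : G} (hm : m ∈ normalizer (V : Set G)) {σ τ : F ≃+* F} {a b c d a' b' c' d' : F}
    (h1 : Sm e m σ a b c d) (h2 : Sm e m τ a' b' c' d') : σ = τ ∧ a = a' ∧ b = b' ∧ c = c' ∧ d = d' := by
  obtain ⟨ρ, p, q, r, s, hd, h3⟩ := h.semi m hm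
  obtain ⟨rfl, rfl, rfl, rfl, rfl⟩ := h.uniq h3 h1 hd
  exact h.uniq h3 h2 hd

theorem det {m : G} (hm : m ∈ normalizer (V : Set G)) {σ : F ≃+* F} {a b c d : F}
    (h1 : Sm e m σ a b c d) : a * d + b * c ≠ 0 := by
  obtain ⟨ρ, p, q, r, s, hd, h3⟩ := h.semi m hm
  obtain ⟨rfl, rfl, rfl, rfl, rfl⟩ := h.uniq h3 h1 hd
  exact hd

omit h in
theorem relIndex_le_of {A K : Subgroup G} {X : Type*} [Finite X] (f : G → X)
    (hf : ∀ a ∈ A, ∀ b ∈ A, f a = f b → a⁻¹ * b ∈ K) : K.relIndex A ≤ Nat.card X := by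
  rw [relIndex, Subgroup.index]
  refine Nat.card_le_card_of_injective (fun q : A ⧸ K.subgroupOf A => f (q.out : A)) ?_
  intro p q h1
  have h2 := hf _ p.out.2 _ q.out.2 h1
  rw [← QuotientGroup.out_eq' p, ← QuotientGroup.out_eq' q, QuotientGroup.eq, mem_subgroupOf]
  exact h2

omit h in
theorem relIndex_le_of' {A K : Subgroup G} {X : Type*} (X' : Set X) [Finite X'] (f : G → X)
    (hm : ∀ a ∈ A, f a ∈ X') (hf : ∀ a ∈ A, ∀ b ∈ A, f a = f b → a⁻¹ * b ∈ K) :
    K.relIndex A ≤ Nat.card X' := by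
  rw [relIndex, Subgroup.index]
  refine Nat.card_le_card_of_injective (fun q : A ⧸ K.subgroupOf A => (⟨f (q.out : A), hm _ q.out.2⟩ : X')) ?_
  intro p q h1
  have h2 := hf _ p.out.2 _ q.out.2 (Subtype.ext_iff.1 h1)
  rw [← QuotientGroup.out_eq' p, ← QuotientGroup.out_eq' q, QuotientGroup.eq, mem_subgroupOf]
  exact h2

omit h in
theorem relIndex_eq_of {A K : Subgroup G} {X : Type*} (f : G → X)
    (hf : ∀ a ∈ A, ∀ b ∈ A, (f a = f b ↔ a⁻¹ * b ∈ K)) (hs : ∀ x, ∃ a ∈ A, f a = x) :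
    K.relIndex A = Nat.card X := by
  rw [relIndex, Subgroup.index]
  refine Nat.card_congr (Equiv.ofBijective (fun q : A ⧸ K.subgroupOf A => f (q.out : A)) ⟨?_, ?_⟩)
  · intro p q h1
    have h2 := (hf _ p.out.2 _ q.out.2).1 h1
    rw [← QuotientGroup.out_eq' p, ← QuotientGroup.out_eq' q, QuotientGroup.eq, mem_subgroupOf]
    exact h2
  · intro x
    obtain ⟨a, ha, rfl⟩ := hs x
    refine ⟨QuotientGroup.mk (⟨a, ha⟩ : A), ?_⟩
    have h1 : (QuotientGroup.mk ((QuotientGroup.mk (⟨a, ha⟩ : A) : A ⧸ K.subgroupOf A).out) :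
        A ⧸ K.subgroupOf A) = QuotientGroup.mk (⟨a, ha⟩ : A) := QuotientGroup.out_eq' _
    rw [QuotientGroup.eq, mem_subgroupOf] at h1
    exact (hf _ ((QuotientGroup.mk (⟨a, ha⟩ : A) : A ⧸ K.subgroupOf A).out).2 _ ha).2 h1

omit h in
/-- linear elements -/
def Lin (e : F → F → G) (m : G) : Prop := ∃ a b c d : F, Sm e m (RingEquiv.refl F) a b c d

omit h in
theorem lin_mul {m n : G} (hm : Lin e m) (hn : Lin e n) : Lin e (m * n) := by
  obtain ⟨a, b, c, d, h1⟩ := hm
  obtain ⟨a', b', c', d', h2⟩ := hn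
  exact ⟨_, _, _, _, h1.mul h2⟩

theorem lin_of {m : G} (hm : m ∈ normalizer (V : Set G)) (hl : Lin e m) {σ : F ≃+* F} {a b c d : F}
    (h1 : Sm e m σ a b c d) : σ = RingEquiv.refl F := by
  obtain ⟨p, q, r, s, h2⟩ := hl
  exact (h.uniq' hm h1 h2).1

/-- `n⁻¹ m n` is linear -/
theorem lin_conj {m n : G} (hm : m ∈ normalizer (V : Set G)) (hn : n ∈ normalizer (V : Set G)) (hl : Lin e m) :
    Lin e (n⁻¹ * m * n) := by
  obtain ⟨a, b, c, d, h1⟩ := hl
  obtain ⟨σ, a', b', c', d', hd', h2⟩ := h.semi n hn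
  obtain ⟨τ, p, q, r, s, hd, h3⟩ := h.semi _ (mul_mem (mul_mem (inv_mem hn) hm) hn)
  have h4 := h2.mul h3
  have h5 := h1.mul h2
  have h6 : n * (n⁻¹ * m * n) = m * n := by group
  rw [h6] at h4
  obtain ⟨h8, -⟩ := h.uniq' (mul_mem hm hn) h5 h4
  have h9 : τ = RingEquiv.refl F := by
    ext x
    have := DFunLike.congr_fun h8 x
    exact (σ.injective this).symm
  rw [h9] at h3
  exact ⟨p, q, r, s, h3⟩

theorem nc {n c : G} (hn : n ∈ normalizer (V : Set G)) (hc : c ∈ centralizer (V : Set G)) :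
    n * c * n⁻¹ ∈ centralizer (V : Set G) := by
  rw [mem_centralizer_iff] at hc ⊢
  intro v hv
  have h1 := hc _ ((mem_normalizer_iff''.1 hn v).1 hv)
  calc v * (n * c * n⁻¹) = n * ((n⁻¹ * v * n) * c) * n⁻¹ := by group
    _ = n * (c * (n⁻¹ * v * n)) * n⁻¹ := by rw [h1]
    _ = n * c * n⁻¹ * v := by group

variable [CharP F 2]

/-- `m² ∈ C(V)` in coordinates -/
theorem sq_eq {m : G} (hm : m ∈ normalizer (V : Set G)) (h2 : m * m ∈ centralizer (V : Set G)) {σ : F ≃+* F}
    {a b c d : F} (h1 : Sm e m σ a b c d) : (∀ x, σ (σ x) = x) ∧ a * σ a + b * σ c = 1 ∧ a * σ b + b * σ d = 0 ∧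
      c * σ a + d * σ c = 0 ∧ c * σ b + d * σ d = 1 := by
  obtain ⟨e1, e2, e3, e4, e5⟩ := h.uniq' (mul_mem hm hm) (h1.mul h1) (h.mem_cent.1 h2)
  exact ⟨fun x => DFunLike.congr_fun e1 x, e2, e3, e4, e5⟩

omit h in
theorem eq_one_of_sq {d : F} (h1 : d * d = 1) : d = 1 := by
  have h2 : (2 : F) = 0 := CharTwo.two_eq_zero
  have h3 : (d + 1) * (d + 1) = 0 := by linear_combination h1 + (d + 1) * h2
  have h4 : d + 1 = 0 := mul_self_eq_zero.1 h3
  linear_combination h4 - h2

/-- an involution of `N(V)/C(V)` which is linear is conjugate to `(x, y) ↦ (x + t y, y)` -/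
theorem inn {m : G} (hm : m ∈ normalizer (V : Set G)) (h1 : m ∉ centralizer (V : Set G))
    (h2 : m * m ∈ centralizer (V : Set G)) (hl : Lin e m) :
    ∃ n ∈ normalizer (V : Set G), ∃ t : F, t ≠ 0 ∧ Sm e (n⁻¹ * m * n) (RingEquiv.refl F) 1 t 0 1 := by
  have two : (2 : F) = 0 := CharTwo.two_eq_zero
  obtain ⟨a, b, c, d, hs⟩ := hl
  obtain ⟨-, q1, q2, q3, q4⟩ := h.sq_eq hm h2 hs
  simp only [RingEquiv.refl_apply] at q1 q2 q3 q4
  -- a nonzero vector of `[V, m]`
  have h3 : ∃ x y : F, (x ≠ 0 ∨ y ≠ 0) ∧ a * x + b * y = x ∧ c * x + d * y = y := by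
    by_cases h4 : a + 1 ≠ 0 ∨ c ≠ 0
    · refine ⟨a + 1, c, h4, ?_, ?_⟩
      · linear_combination q1
      · linear_combination q3
    · push Not at h4
      by_cases h5 : b ≠ 0 ∨ d + 1 ≠ 0
      · refine ⟨b, d + 1, h5, ?_, ?_⟩
        · linear_combination q2
        · linear_combination q4
      · exfalso
        push Not at h5
        apply h1
        rw [h.mem_cent]
        have e1 : a = 1 := by linear_combination h4.1 - two
        have e4 : d = 1 := by linear_combination h5.2 - two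
        rwa [e1, e4, h5.1, h4.2] at hs
  obtain ⟨x, y, hxy, f1, f2⟩ := h3
  obtain ⟨p, r, hpr⟩ : ∃ p r : F, x * r + p * y = 1 := by
    rcases hxy with h4 | h4
    · exact ⟨0, x⁻¹, by rw [mul_inv_cancel₀ h4, zero_mul, add_zero]⟩
    · exact ⟨y⁻¹, 0, by rw [inv_mul_cancel₀ h4, mul_zero, zero_add]⟩
  obtain ⟨n, hn, hsn⟩ := h.sl x p y r hpr
  have hn' := mul_mem (mul_mem (inv_mem hn) hm) hn
  obtain ⟨a', b', c', d', hs'⟩ := h.lin_conj hm hn ⟨a, b, c, d, hs⟩
  have hsq : n⁻¹ * m * n * (n⁻¹ * m * n) ∈ centralizer (V : Set G) := by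
    have h5 := h.nc (inv_mem hn) h2
    rw [inv_inv] at h5
    have h6 : n⁻¹ * m * n * (n⁻¹ * m * n) = n⁻¹ * (m * m) * n := by group
    rwa [h6]
  obtain ⟨-, r1, r2, r3, r4⟩ := h.sq_eq hn' hsq hs'
  simp only [RingEquiv.refl_apply] at r1 r2 r3 r4
  -- `n⁻¹ m n` fixes `e 1 0`
  have h5 : n * e 1 0 * n⁻¹ = e x y := by
    rw [hsn]
    simp
  have h6 : m * e x y * m⁻¹ = e x y := by
    rw [hs]
    simp only [RingEquiv.refl_apply]
    rw [f1, f2]
  have h7 : n⁻¹ * m * n * e 1 0 * (n⁻¹ * m * n)⁻¹ = e 1 0 := by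
    calc n⁻¹ * m * n * e 1 0 * (n⁻¹ * m * n)⁻¹ = n⁻¹ * (m * (n * e 1 0 * n⁻¹) * m⁻¹) * n := by group
      _ = n⁻¹ * (n * e 1 0 * n⁻¹) * n := by rw [h5, h6]
      _ = e 1 0 := by group
  rw [hs'] at h7
  simp only [RingEquiv.refl_apply, mul_one, mul_zero, add_zero] at h7
  obtain ⟨g1, g2⟩ := h.ext h7
  rw [g2] at r4 hs'
  rw [g1] at hs'
  have g3 : d' = 1 := eq_one_of_sq (by linear_combination r4)
  rw [g3] at hs'
  refine ⟨n, hn, b', ?_, hs'⟩
  rintro rfl
  apply h1
  have h8 := h.nc hn (h.mem_cent.2 hs')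
  have h9 : n * (n⁻¹ * m * n) * n⁻¹ = m := by group
  rwa [h9] at h8

/-- the action of `up t` by commutators -/
theorem comm_up {m : G} {t : F} (hs : Sm e m (RingEquiv.refl F) 1 t 0 1) (x y : F) :
    m * e x y * m⁻¹ * (e x y)⁻¹ = e (t * y) 0 := by
  rw [hs x y]
  simp only [RingEquiv.refl_apply, one_mul, zero_mul, zero_add]
  rw [mul_inv_eq_iff_eq_mul, ← h.add, zero_add, add_comm]

/-- two elements of field type whose squares centralise `V`: the product is linear -/
theorem lin_of_not_lin [Finite F] {a b : G} (ha : a ∈ normalizer (V : Set G)) (hb : b ∈ normalizer (V : Set G))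
    (ha2 : a * a ∈ centralizer (V : Set G)) (hb2 : b * b ∈ centralizer (V : Set G)) (hla : ¬ Lin e a)
    (hlb : ¬ Lin e b) : Lin e (a * b) := by
  obtain ⟨σ, p, q, r, s, hd, hs⟩ := h.semi a ha
  obtain ⟨τ, p', q', r', s', hd', hs'⟩ := h.semi b hb
  have h1 := (h.sq_eq ha ha2 hs).1
  have h2 := (h.sq_eq hb hb2 hs').1
  have h3 : ∃ x, σ x ≠ x := by
    by_contra h4
    push Not at h4
    apply hla
    have h5 : σ = RingEquiv.refl F := RingEquiv.ext h4
    rw [h5] at hs
    exact ⟨_, _, _, _, hs⟩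
  have h3' : ∃ x, τ x ≠ x := by
    by_contra h4
    push Not at h4
    apply hlb
    have h5 : τ = RingEquiv.refl F := RingEquiv.ext h4
    rw [h5] at hs'
    exact ⟨_, _, _, _, hs'⟩
  have h4 := invol_unique h1 h2 h3 h3'
  have h5 := hs.mul hs'
  have h6 : τ.trans σ = RingEquiv.refl F := by
    rw [← h4]; exact RingEquiv.ext h1
  rw [h6] at h5
  exact ⟨_, _, _, _, h5⟩

/-- **(0.3)**: quadratic elementary abelian subgroups of `N(V)` -/
theorem quad [Finite F] {A : Subgroup G} (hA : A ≤ normalizer (V : Set G)) (hsq : ∀ a ∈ A, a * a = 1)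
    (hq : ∀ a ∈ A, ∀ b ∈ A, ∀ v ∈ V, (a * v * a⁻¹ * v⁻¹) * b = b * (a * v * a⁻¹ * v⁻¹)) :
    (centralizer (V : Set G)).relIndex A ≤ 2 ∨ ((centralizer (V : Set G)).relIndex A ≤ Nat.card F ∧
      ∃ m ∈ normalizer (V : Set G), (∃ a ∈ A, ∀ x ∈ J, ∃ v ∈ V, a * v * a⁻¹ * v⁻¹ = m * x * m⁻¹) ∧
        ∀ a ∈ A, ∀ v ∈ V, ∃ x ∈ J, a * v * a⁻¹ * v⁻¹ = m * x * m⁻¹) := by
  classical
  have two : (2 : F) = 0 := CharTwo.two_eq_zero
  have hsq' : ∀ a ∈ A, a * a ∈ centralizer (V : Set G) := fun a ha => by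
    rw [hsq a ha]; exact one_mem _
  by_cases hlin : ∀ a ∈ A, Lin e a
  · by_cases hAc : A ≤ centralizer (V : Set G)
    · left
      rw [relIndex_eq_one.2 hAc]
      norm_num
    right
    obtain ⟨a₀, ha₀, hac⟩ := SetLike.not_le_iff_exists.1 hAc
    obtain ⟨n, hn, t₀, ht₀, hs₀⟩ := h.inn (hA ha₀) hac (hsq' a₀ ha₀) (hlin a₀ ha₀)
    have key : ∀ a ∈ A, ∃ t, Sm e (n⁻¹ * a * n) (RingEquiv.refl F) 1 t 0 1 := by
      intro a ha
      obtain ⟨p, q, r, s, hs⟩ := h.lin_conj (hA ha) hn (hlin a ha)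
      have hfix : ∀ x y : F, t₀ * (r * x + s * y + y) = 0 := by
        intro x y
        have hv : n * e x y * n⁻¹ ∈ V := (mem_normalizer_iff.1 hn _).1 (h.memV x y)
        have h1 := hq a ha a₀ ha₀ _ hv
        have h2 : (n⁻¹ * a * n) * e x y * (n⁻¹ * a * n)⁻¹ * (e x y)⁻¹ = e (p * x + q * y + x) (r * x + s * y + y) := by
          rw [hs x y]
          simp only [RingEquiv.refl_apply]
          rw [mul_inv_eq_iff_eq_mul, ← h.add]
          congr 1
          · linear_combination (-x) * two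
          · linear_combination (-y) * two
        have h3 : a * (n * e x y * n⁻¹) * a⁻¹ * (n * e x y * n⁻¹)⁻¹ =
            n * ((n⁻¹ * a * n) * e x y * (n⁻¹ * a * n)⁻¹ * (e x y)⁻¹) * n⁻¹ := by group
        rw [h3, h2] at h1
        have h4 : (n⁻¹ * a₀ * n) * e (p * x + q * y + x) (r * x + s * y + y) * (n⁻¹ * a₀ * n)⁻¹ *
            (e (p * x + q * y + x) (r * x + s * y + y))⁻¹ = 1 := by
          rw [mul_inv_eq_one, mul_inv_eq_iff_eq_mul]
          calc (n⁻¹ * a₀ * n) * e (p * x + q * y + x) (r * x + s * y + y)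
              = n⁻¹ * (a₀ * (n * e (p * x + q * y + x) (r * x + s * y + y) * n⁻¹)) * n := by group
            _ = n⁻¹ * ((n * e (p * x + q * y + x) (r * x + s * y + y) * n⁻¹) * a₀) * n := by rw [h1]
            _ = e (p * x + q * y + x) (r * x + s * y + y) * (n⁻¹ * a₀ * n) := by group
        rw [h.comm_up hs₀] at h4
        exact (h.inj _ _ h4).1
      have hr : r = 0 := by
        have h1 := hfix 1 0
        rcases mul_eq_zero.1 h1 with h2 | h2
        · exact absurd h2 ht₀
        · linear_combination h2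
      have hs1 : s = 1 := by
        have h1 := hfix 0 1
        rcases mul_eq_zero.1 h1 with h2 | h2
        · exact absurd h2 ht₀
        · linear_combination h2 - two
      rw [hr, hs1] at hs
      have hsqn : n⁻¹ * a * n * (n⁻¹ * a * n) ∈ centralizer (V : Set G) := by
        have h6 : n⁻¹ * a * n * (n⁻¹ * a * n) = n⁻¹ * (a * a) * n := by group
        rw [h6, hsq a ha, mul_one, inv_mul_cancel]
        exact one_mem _
      obtain ⟨-, r1, -⟩ := h.sq_eq (mul_mem (mul_mem (inv_mem hn) (hA ha)) hn) hsqn hs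
      simp only [RingEquiv.refl_apply, mul_zero, add_zero] at r1
      rw [eq_one_of_sq r1] at hs
      exact ⟨q, hs⟩
    choose! t ht using key
    refine ⟨?_, n, hn, ⟨a₀, ha₀, ?_⟩, ?_⟩
    · refine relIndex_le_of t ?_
      intro a ha b hb hab
      have h1 := (ht a ha).mul (ht b hb)
      rw [hab] at h1
      simp only [RingEquiv.refl_apply, mul_one, mul_zero, add_zero, one_mul, zero_mul, zero_add] at h1
      have h2 : t b + t b = 0 := by linear_combination (t b) * two
      rw [h2] at h1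
      have h3 := h.nc hn (h.mem_cent.2 h1)
      have h4 : n * (n⁻¹ * a * n * (n⁻¹ * b * n)) * n⁻¹ = a * b := by group
      rw [h4] at h3
      have h5 : a⁻¹ = a := inv_eq_of_mul_eq_one_left (hsq a ha)
      rwa [h5]
    · intro x hx
      obtain ⟨x, rfl⟩ := (h.memJ _).1 hx
      refine ⟨n * e 0 (t₀⁻¹ * x) * n⁻¹, (mem_normalizer_iff.1 hn _).1 (h.memV _ _), ?_⟩
      have h3 : a₀ * (n * e 0 (t₀⁻¹ * x) * n⁻¹) * a₀⁻¹ * (n * e 0 (t₀⁻¹ * x) * n⁻¹)⁻¹ =
            n * ((n⁻¹ * a₀ * n) * e 0 (t₀⁻¹ * x) * (n⁻¹ * a₀ * n)⁻¹ * (e 0 (t₀⁻¹ * x))⁻¹) * n⁻¹ := by group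
      rw [h3, h.comm_up hs₀, mul_inv_cancel_left₀ ht₀]
    · intro a ha v hv
      obtain ⟨x, y, hxy⟩ := (h.mem _).1 ((mem_normalizer_iff''.1 hn v).1 hv)
      refine ⟨e (t a * y) 0, h.J_mem _, ?_⟩
      have h3 : a * v * a⁻¹ * v⁻¹ =
            n * ((n⁻¹ * a * n) * (n⁻¹ * v * n) * (n⁻¹ * a * n)⁻¹ * (n⁻¹ * v * n)⁻¹) * n⁻¹ := by group
      rw [h3, hxy, h.comm_up (ht a ha)]
  · left
    push Not at hlin
    obtain ⟨w, hw, hwl⟩ := hlin
    obtain ⟨σ, a', b', c', d', hd', hsw⟩ := h.semi w (hA hw)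
    have hσ : ∃ l, σ l ≠ l := by
      by_contra h1
      push Not at h1
      apply hwl
      have h2 : σ = RingEquiv.refl F := RingEquiv.ext h1
      rw [h2] at hsw
      exact ⟨_, _, _, _, hsw⟩
    obtain ⟨l, hl⟩ := hσ
    have key : ∀ a ∈ A, Lin e a → a ∈ centralizer (V : Set G) := by
      rintro a ha ⟨p, q, r, s, hs⟩
      have E : ∀ x y : F, (p + 1) * (a' * σ x + b' * σ y + x) + q * (c' * σ x + d' * σ y + y) = 0 ∧
          r * (a' * σ x + b' * σ y + x) + (s + 1) * (c' * σ x + d' * σ y + y) = 0 := by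
        intro x y
        have h1 := hq w hw a ha _ (h.memV x y)
        have h2 : w * e x y * w⁻¹ * (e x y)⁻¹ = e (a' * σ x + b' * σ y + x) (c' * σ x + d' * σ y + y) := by
          rw [hsw x y, mul_inv_eq_iff_eq_mul, ← h.add]
          congr 1
          · linear_combination (-x) * two
          · linear_combination (-y) * two
        rw [h2] at h1
        obtain ⟨h3, h4⟩ := (h.comm_iff hs).1 h1.symm
        simp only [RingEquiv.refl_apply] at h3 h4
        constructor
        · linear_combination h3 + (a' * σ x + b' * σ y + x) * two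
        · linear_combination h4 + (c' * σ x + d' * σ y + y) * two
      have hl' : σ l - l ≠ 0 := sub_ne_zero.2 hl
      have E2 : ∀ x y : F, (p + 1) * x + q * y = 0 ∧ r * x + (s + 1) * y = 0 := by
        intro x y
        obtain ⟨h1, h2⟩ := E x y
        obtain ⟨h3, h4⟩ := E (l * x) (l * y)
        rw [map_mul, map_mul] at h3 h4
        have h5 : (σ l - l) * ((p + 1) * (a' * σ x + b' * σ y) + q * (c' * σ x + d' * σ y)) = 0 := by
          linear_combination h3 - l * h1
        have h6 : (σ l - l) * (r * (a' * σ x + b' * σ y) + (s + 1) * (c' * σ x + d' * σ y)) = 0 := by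
          linear_combination h4 - l * h2
        have h7 := (mul_eq_zero.1 h5).resolve_left hl'
        have h8 := (mul_eq_zero.1 h6).resolve_left hl'
        constructor
        · linear_combination h1 - h7
        · linear_combination h2 - h8
      have e1 := E2 1 0
      have e2 := E2 0 1
      rw [h.mem_cent]
      have f1 : p = 1 := by linear_combination e1.1 - two
      have f2 : r = 0 := by linear_combination e1.2
      have f3 : q = 0 := by linear_combination e2.1
      have f4 : s = 1 := by linear_combination e2.2 - two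
      rwa [f1, f2, f3, f4] at hs
    refine (relIndex_le_of (X := Bool) (fun a => decide (Lin e a)) ?_).trans (by simp)
    intro a ha b hb hab
    by_cases hla : Lin e a
    · have hlb : Lin e b := by simpa [hla] using hab
      exact mul_mem (inv_mem (key a ha hla)) (key b hb hlb)
    · have hlb : ¬ Lin e b := by simpa [hla] using hab
      have h5 : a⁻¹ = a := inv_eq_of_mul_eq_one_left (hsq a ha)
      rw [h5]
      exact key _ (mul_mem ha hb) (h.lin_of_not_lin (hA ha) (hA hb) (hsq' a ha) (hsq' b hb) hla hlb)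

/-- elementary abelian subgroups of `N(V)` -/
theorem qb [Finite F] {A : Subgroup G} (hA : A ≤ normalizer (V : Set G)) (hsq : ∀ a ∈ A, a * a = 1) :
    (centralizer (V : Set G)).relIndex A ≤ Nat.card F := by
  classical
  have two : (2 : F) = 0 := CharTwo.two_eq_zero
  have hF2 : 2 ≤ Nat.card F := Finite.one_lt_card
  have hsq' : ∀ a ∈ A, a * a ∈ centralizer (V : Set G) := fun a ha => by
    rw [hsq a ha]; exact one_mem _
  have hcomm : ∀ a ∈ A, ∀ b ∈ A, a * b = b * a := fun a ha b hb => by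
    have h1 := hsq _ (mul_mem ha hb)
    have h2 := hsq a ha
    have h3 := hsq b hb
    calc a * b = a * (a * b * (a * b)) * b := by rw [h1, mul_one]
      _ = (a * a) * (b * a) * (b * b) := by group
      _ = b * a := by rw [h2, h3, one_mul, mul_one]
  by_cases hex : ∃ a ∈ A, Lin e a ∧ a ∉ centralizer (V : Set G)
  · obtain ⟨a₀, ha₀, hal, hac⟩ := hex
    obtain ⟨n, hn, t₀, ht₀, hs₀⟩ := h.inn (hA ha₀) hac (hsq' a₀ ha₀) hal
    have hcn : ∀ a ∈ A, ∀ b ∈ A, n⁻¹ * a * n * (n⁻¹ * b * n) = n⁻¹ * b * n * (n⁻¹ * a * n) := by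
      intro a ha b hb
      calc n⁻¹ * a * n * (n⁻¹ * b * n) = n⁻¹ * (a * b) * n := by group
        _ = n⁻¹ * (b * a) * n := by rw [hcomm a ha b hb]
        _ = _ := by group
    have hmn : ∀ a ∈ A, n⁻¹ * a * n ∈ normalizer (V : Set G) := fun a ha =>
      mul_mem (mul_mem (inv_mem hn) (hA ha)) hn
    have key : ∀ a ∈ A, Lin e a → ∃ t, Sm e (n⁻¹ * a * n) (RingEquiv.refl F) 1 t 0 1 := by
      intro a ha hl
      obtain ⟨p, q, r, s, hs⟩ := h.lin_conj (hA ha) hn hl
      have h1 := h.uniq' (mul_mem (hmn a ha) (hmn _ ha₀)) (hs.mul hs₀) (by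
        rw [hcn a ha _ ha₀]; exact hs₀.mul hs)
      obtain ⟨-, h2, h3, h4, h5⟩ := h1
      simp only [RingEquiv.refl_apply, mul_one, mul_zero, add_zero, one_mul, zero_mul, zero_add] at h2 h3 h4 h5
      have hr : r = 0 := by
        have h6 : t₀ * r = 0 := by linear_combination -h2
        exact (mul_eq_zero.1 h6).resolve_left ht₀
      have hps : p = s := by
        have h6 : t₀ * (p - s) = 0 := by linear_combination h3
        exact sub_eq_zero.1 ((mul_eq_zero.1 h6).resolve_left ht₀)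
      have hsqn : n⁻¹ * a * n * (n⁻¹ * a * n) ∈ centralizer (V : Set G) := by
        have h6 : n⁻¹ * a * n * (n⁻¹ * a * n) = n⁻¹ * (a * a) * n := by group
        rw [h6, hsq a ha, mul_one, inv_mul_cancel]
        exact one_mem _
      rw [hr] at hs
      obtain ⟨-, r1, -⟩ := h.sq_eq (hmn a ha) hsqn hs
      simp only [RingEquiv.refl_apply, mul_zero, add_zero] at r1
      rw [← hps, eq_one_of_sq r1] at hs
      exact ⟨q, hs⟩
    choose! t ht using key
    have hinj : ∀ a ∈ A, ∀ b ∈ A, Lin e a → Lin e b → t a = t b → a⁻¹ * b ∈ centralizer (V : Set G) := by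
      intro a ha b hb hla hlb hab
      have h1 := (ht a ha hla).mul (ht b hb hlb)
      rw [hab] at h1
      simp only [RingEquiv.refl_apply, mul_one, mul_zero, add_zero, one_mul, zero_mul, zero_add] at h1
      have h2 : t b + t b = 0 := by linear_combination (t b) * two
      rw [h2] at h1
      have h3 := h.nc hn (h.mem_cent.2 h1)
      have h4 : n * (n⁻¹ * a * n * (n⁻¹ * b * n)) * n⁻¹ = a * b := by group
      rw [h4] at h3
      have h5 : a⁻¹ = a := inv_eq_of_mul_eq_one_left (hsq a ha)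
      rwa [h5]
    by_cases hlin : ∀ a ∈ A, Lin e a
    · exact relIndex_le_of t fun a ha b hb hab => hinj a ha b hb (hlin a ha) (hlin b hb) hab
    push Not at hlin
    obtain ⟨w, hw, hwl⟩ := hlin
    obtain ⟨σ, a', b', c', d', hd', hsw⟩ := h.semi _ (hmn w hw)
    have hcw : ∀ a ∈ A, Lin e a → t a * c' = 0 ∧ a' * σ (t a) = t a * d' := by
      intro a ha hl
      have h1 := h.uniq' (mul_mem (hmn w hw) (hmn a ha)) (hsw.mul (ht a ha hl)) (by
        rw [hcn w hw a ha]; exact (ht a ha hl).mul hsw)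
      obtain ⟨-, h2, h3, h4, h5⟩ := h1
      simp only [RingEquiv.refl_apply, mul_one, mul_zero, add_zero, one_mul, zero_mul, zero_add, map_one,
        map_zero] at h2 h3 h4 h5
      constructor
      · linear_combination -h2
      · linear_combination h3
    have hc' : c' = 0 := by
      have h1 := (hcw a₀ ha₀ hal).1
      have h2 : t a₀ = t₀ := (h.uniq' (hmn a₀ ha₀) (ht a₀ ha₀ hal) hs₀).2.2.1
      rw [h2] at h1
      exact (mul_eq_zero.1 h1).resolve_left ht₀
    have ha' : a' ≠ 0 := by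
      rintro rfl
      apply hd'
      rw [hc']; ring
    have hσ : ∃ l, σ l ≠ l := by
      by_contra h1
      push Not at h1
      apply hwl
      have h2 : σ = RingEquiv.refl F := RingEquiv.ext h1
      rw [h2] at hsw
      have h3 := h.lin_conj (hmn w hw) (inv_mem hn) ⟨_, _, _, _, hsw⟩
      have h4 : n⁻¹⁻¹ * (n⁻¹ * w * n) * n⁻¹ = w := by group
      rwa [h4] at h3
    obtain ⟨l, hl⟩ := hσ
    have hl' : σ l - l ≠ 0 := sub_ne_zero.2 hl
    let T : AddSubgroup F :=
      { carrier := {x | a' * σ x = x * d'}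
        zero_mem' := by
          show a' * σ 0 = 0 * d'
          rw [map_zero, mul_zero, zero_mul]
        add_mem' := by
          intro x y h1 h2
          change a' * σ x = x * d' at h1
          change a' * σ y = y * d' at h2
          show a' * σ (x + y) = (x + y) * d'
          rw [map_add]
          linear_combination h1 + h2
        neg_mem' := by
          intro x h1
          change a' * σ x = x * d' at h1
          show a' * σ (-x) = (-x) * d'
          rw [map_neg]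
          linear_combination -h1 }
    have hT : Nat.card T * Nat.card T ≤ Nat.card F := by
      refine card_sq_le (F := F) T l ?_
      intro x h1 h2
      change a' * σ x = x * d' at h1
      change a' * σ (l * x) = l * x * d' at h2
      rw [map_mul] at h2
      have h3 : (σ l - l) * (a' * σ x) = 0 := by linear_combination h2 - l * h1
      have h4 := (mul_eq_zero.1 ((mul_eq_zero.1 h3).resolve_left hl')).resolve_left ha'
      exact (map_eq_zero σ).1 h4
    have hg : ∀ a ∈ A, (if Lin e a then a else a * w) ∈ A ∧ Lin e (if Lin e a then a else a * w) := by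
      intro a ha
      split_ifs with hla
      · exact ⟨ha, hla⟩
      · exact ⟨mul_mem ha hw, h.lin_of_not_lin (hA ha) (hA hw) (hsq' a ha) (hsq' w hw) hla hwl⟩
    have h1 : (centralizer (V : Set G)).relIndex A ≤ Nat.card ((Set.univ : Set Bool) ×ˢ (T : Set F)) := by
      refine relIndex_le_of' (X := Bool × F) ((Set.univ : Set Bool) ×ˢ (T : Set F))
        (fun a => (decide (Lin e a), t (if Lin e a then a else a * w))) ?_ ?_
      · intro a ha
        obtain ⟨h1, h2⟩ := hg a ha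
        exact ⟨Set.mem_univ _, (hcw _ h1 h2).2⟩
      · intro a ha b hb hab
        obtain ⟨h1, h2⟩ := hg a ha
        obtain ⟨h3, h4⟩ := hg b hb
        simp only [Prod.mk.injEq, decide_eq_decide] at hab
        have h5 := hinj _ h1 _ h3 h2 h4 hab.2
        by_cases hla : Lin e a
        · have hlb : Lin e b := hab.1.1 hla
          simpa only [hla, hlb, if_true] using h5
        · have hlb : ¬ Lin e b := fun h6 => hla (hab.1.2 h6)
          simp only [hla, hlb, if_false] at h5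
          have h6 : (a * w)⁻¹ * (b * w) = a⁻¹ * b := by
            rw [hcomm a ha w hw, hcomm b hb w hw]; group
          rwa [h6] at h5
    refine h1.trans ?_
    have h2 : Nat.card ((Set.univ : Set Bool) ×ˢ (T : Set F) : Set (Bool × F)) = 2 * Nat.card T := by
      rw [Nat.card_coe_set_eq, Set.ncard_prod, Set.ncard_univ, Nat.card_eq_fintype_card, Fintype.card_bool]
      rfl
    rw [h2]
    rcases Nat.lt_or_ge 1 (Nat.card T) with h3 | h3
    · exact (Nat.mul_le_mul_right _ h3).trans hT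
    · omega
  · push Not at hex
    refine le_trans ?_ hF2
    refine (relIndex_le_of (X := Bool) (fun a => decide (Lin e a)) ?_).trans (by simp)
    intro a ha b hb hab
    by_cases hla : Lin e a
    · have hlb : Lin e b := by simpa [hla] using hab
      exact mul_mem (inv_mem (hex a ha hla)) (hex b hb hlb)
    · have hlb : ¬ Lin e b := by simpa [hla] using hab
      have h5 : a⁻¹ = a := inv_eq_of_mul_eq_one_left (hsq a ha)
      rw [h5]
      exact hex _ (mul_mem ha hb) (h.lin_of_not_lin (hA ha) (hA hb) (hsq' a ha) (hsq' b hb) hla hlb)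

end Sys

end crd

end Cfsg.Agent.OddCyclic.Eq.Crd
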