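import Cfsg.Agent.OddCyclic.Eq.Line
import Cfsg.Agent.OddCyclic.CaseABase
import Cfsg.Agent.ZN.Block

/-!
# (E_q), Part I, `q = 4`, (3.4): facts on four-groups and (iii)

* `sym3` : a 2-element acting nontrivially on a four-group `U` inverts the fixed point free action of `k`;
* `odd_cent` : an element of odd order normalising a four-group and centralising an involution of it centralises it;
* `exists_sigma` : (iii).
-/

set_option autoImplicit false
set_option linter.unusedSectionVars false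

namespace Cfsg.Agent.OddCyclic.Eq.PartIFour

open Subgroup Cfsg.Agent.OddCyclic.CompStandard Cfsg.Agent.OddCyclic.RedFiveThree Cfsg.Agent.OddCyclic.CaseABase
open Cfsg.Agent.OddCyclic.Eq.Line
open Cfsg.Agent.LieExceptional.CITDefs (IsSyl2)
open Cfsg.Agent.ZN (o2)

universe u

variable {G : Type u} [Group G]

/-- the elements of a four-group -/
theorem four_cases {A : Subgroup G} (hA : Nat.card A = 4) (h2 : ∀ x ∈ A, x * x = 1) {a b : G} (ha : a ∈ A) (hb : b ∈ A)
    (ha1 : a ≠ 1) (hb1 : b ≠ 1) (hab : a ≠ b) {x : G} (hx : x ∈ A) : x = 1 ∨ x = a ∨ x = b ∨ x = a * b := by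
  classical
  have hfin : Finite A := Nat.finite_of_card_ne_zero (by omega)
  have : Fintype A := Fintype.ofFinite A
  by_contra hcon
  push Not at hcon
  obtain ⟨h0, h1, h3, h4⟩ := hcon
  have hab1 : a * b ≠ 1 := by
    intro h
    apply hab
    have h5 := h2 b hb
    calc a = a * b * b⁻¹ := by group
      _ = b⁻¹ := by rw [h, one_mul]
      _ = b := inv_eq_of_mul_eq_one_left h5
  have haba : a * b ≠ a := fun h => hb1 (mul_eq_left.mp h)
  have habb : a * b ≠ b := fun h => ha1 (mul_eq_right.mp h)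
  let S : Finset A := {⟨1, A.one_mem⟩, ⟨a, ha⟩, ⟨b, hb⟩, ⟨a * b, A.mul_mem ha hb⟩, ⟨x, hx⟩}
  have hS : S.card = 5 := by
    simp only [S]
    rw [Finset.card_insert_of_notMem, Finset.card_insert_of_notMem, Finset.card_insert_of_notMem,
      Finset.card_insert_of_notMem, Finset.card_singleton]
    · simp only [Finset.mem_singleton, Subtype.mk.injEq]
      exact fun h => h4 h.symm
    · simp only [Finset.mem_insert, Finset.mem_singleton, Subtype.mk.injEq, not_or]
      exact ⟨fun h => habb h.symm, fun h => h3 h.symm⟩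
    · simp only [Finset.mem_insert, Finset.mem_singleton, Subtype.mk.injEq, not_or]
      exact ⟨hab, fun h => haba h.symm, fun h => h1 h.symm⟩
    · simp only [Finset.mem_insert, Finset.mem_singleton, Subtype.mk.injEq, not_or]
      exact ⟨fun h => ha1 h.symm, fun h => hb1 h.symm, fun h => hab1 h.symm, fun h => h0 h.symm⟩
  have h5 := Finset.card_le_univ S
  rw [hS, ← Nat.card_eq_fintype_card, hA] at h5
  omega

/-- a second element of a four-group -/
theorem exists_ne {A : Subgroup G} (hA : Nat.card A = 4) (a : G) : ∃ b ∈ A, b ≠ 1 ∧ b ≠ a := by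
  classical
  have hfin : Finite A := Nat.finite_of_card_ne_zero (by omega)
  have : Fintype A := Fintype.ofFinite A
  by_contra hcon
  push Not at hcon
  have h1 : ∀ b ∈ A, b = 1 ∨ b = a := fun b hb => by
    by_cases h : b = 1
    · exact Or.inl h
    · exact Or.inr (hcon b hb h)
  have h2 : Nat.card A ≤ 2 := by
    rw [Nat.card_eq_fintype_card]
    let f : A → Bool := fun b => decide ((b : G) = 1)
    refine (Fintype.card_le_of_injective f ?_).trans (by simp)
    intro b c hbc
    have hbc' : ((b : G) = 1) ↔ ((c : G) = 1) := by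
      have : decide ((b : G) = 1) = decide ((c : G) = 1) := hbc
      simpa using this
    apply Subtype.ext
    rcases h1 b b.2 with h3 | h3
    · rw [h3, hbc'.mp h3]
    · rcases h1 c c.2 with h4 | h4
      · rw [h4, hbc'.mpr h4]
      · rw [h3, h4]
  omega

/-- powers of a normalising element -/
theorem conj_pow_eq {d x y : G} (h : d * x * d⁻¹ = y) (h' : d * y * d⁻¹ = x) : ∀ n : ℕ,
    d ^ (2 * n) * x * (d ^ (2 * n))⁻¹ = x := by
  intro n
  induction n with
  | zero => simp
  | succ n ih =>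
    have e : d ^ (2 * (n + 1)) = d ^ (2 * n) * (d * d) := by rw [mul_add, pow_add, mul_one, pow_two]
    rw [e]
    calc d ^ (2 * n) * (d * d) * x * (d ^ (2 * n) * (d * d))⁻¹ =
        d ^ (2 * n) * (d * (d * x * d⁻¹) * d⁻¹) * (d ^ (2 * n))⁻¹ := by group
      _ = x := by rw [h, h', ih]

/-- an element of odd order normalising a four-group and centralising one of its involutions centralises it -/
theorem odd_cent {A : Subgroup G} (hA : Nat.card A = 4) (h2 : ∀ x ∈ A, x * x = 1) {u d : G} (hu : u ∈ A) (hu1 : u ≠ 1)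
    (hd : d ∈ normalizer (A : Set G)) (hdu : d * u * d⁻¹ = u) (hodd : Odd (orderOf d)) :
    d ∈ centralizer (A : Set G) := by
  obtain ⟨v, hv, hv1, hvu⟩ := exists_ne hA u
  have hdv : d * v * d⁻¹ ∈ A := forall_of_mem_normalizer hd _ hv
  have hvv : d * v * d⁻¹ = v := by
    rcases four_cases hA h2 hu hv hu1 hv1 (fun h => hvu h.symm) hdv with h | h | h | h
    · exfalso; apply hv1
      calc v = d⁻¹ * (d * v * d⁻¹) * d := by group
        _ = 1 := by rw [h]; group
    · exfalso; apply hvu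
      have : d * v * d⁻¹ = d * u * d⁻¹ := by rw [h, hdu]
      exact mul_left_cancel (mul_right_cancel this)
    · exact h
    · exfalso
      have h3 : d * (u * v) * d⁻¹ = v := by
        calc d * (u * v) * d⁻¹ = (d * u * d⁻¹) * (d * v * d⁻¹) := by group
          _ = (u * u) * v := by rw [hdu, h, mul_assoc]
          _ = v := by rw [h2 u hu, one_mul]
      obtain ⟨j, hj⟩ := hodd
      have h4 := conj_pow_eq h h3 (j + 1)
      have h5 : d ^ (2 * (j + 1)) = d := by
        have : 2 * (j + 1) = orderOf d + 1 := by omega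
        rw [this, pow_succ, pow_orderOf_eq_one, one_mul]
      rw [h5, h] at h4
      exact hu1 (mul_eq_right.mp h4)
  rw [mem_centralizer_iff]
  intro x hx
  have hcu : u * d = d * u := by
    calc u * d = (d * u * d⁻¹) * d := by rw [hdu]
      _ = d * u := by group
  have hcv : v * d = d * v := by
    calc v * d = (d * v * d⁻¹) * d := by rw [hvv]
      _ = d * v := by group
  rcases four_cases hA h2 hu hv hu1 hv1 (fun h => hvu h.symm) hx with h | h | h | h
  · rw [h, one_mul, mul_one]
  · rw [h, hcu]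
  · rw [h, hcv]
  · rw [h, mul_assoc, hcv, ← mul_assoc, hcu, mul_assoc]

/-- the action on a four-group: a 2-element acting nontrivially inverts the element of order 3 -/
theorem sym3 {U : Subgroup G} (hU : Nat.card U = 4) (h2 : ∀ x ∈ U, x * x = 1) {k s : G}
    (hk : k ∈ normalizer (U : Set G)) (hk3 : k ^ 3 = 1) (hkf : ∀ u ∈ U, k * u = u * k → u = 1)
    (hs : s ∈ normalizer (U : Set G)) {n : ℕ} (hs2 : s ^ 2 ^ n = 1) (hsU : s ∉ centralizer (U : Set G)) :
    s * k * s⁻¹ * k ∈ centralizer (U : Set G) := by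
  classical
  have hcom : ∀ x ∈ U, ∀ y ∈ U, x * y = y * x := fun x hx y hy => comm_of_sq h2 hx hy
  have hNs : ∀ x ∈ U, s * x * s⁻¹ ∈ U := fun x hx => forall_of_mem_normalizer hs _ hx
  have hNk : ∀ x ∈ U, k * x * k⁻¹ ∈ U := fun x hx => forall_of_mem_normalizer hk _ hx
  -- a nontrivial fixed point of `s`
  obtain ⟨u, hu, hu1, hsu⟩ : ∃ u ∈ U, u ≠ 1 ∧ s * u * s⁻¹ = u := by
    by_contra hcon
    push Not at hcon
    -- `s` permutes the three involutions without fixed points, so `s ^ 3` fixes them all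
    have key : ∀ v ∈ U, v ≠ 1 → s ^ 3 * v * (s ^ 3)⁻¹ = v := by
      intro v hv hv1
      have h3 := hcon v hv hv1
      have hv' := hNs v hv
      have hv'1 : s * v * s⁻¹ ≠ 1 := by
        intro h; apply hv1
        calc v = s⁻¹ * (s * v * s⁻¹) * s := by group
          _ = 1 := by rw [h]; group
      have h4 := hcon _ hv' hv'1
      have hv'' := hNs _ hv'
      -- `s²v` is not `1`, `s v`; if it is `v` ...
      rcases four_cases hU h2 hv hv' hv1 hv'1 (fun h => h3 h.symm) hv'' with h | h | h | h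
      · exfalso; apply hv'1
        calc s * v * s⁻¹ = s⁻¹ * (s * (s * v * s⁻¹) * s⁻¹) * s := by group
          _ = 1 := by rw [h]; group
      · -- then `v * s v` is fixed
        exfalso
        have h5 : s * (v * (s * v * s⁻¹)) * s⁻¹ = v * (s * v * s⁻¹) := by
          calc s * (v * (s * v * s⁻¹)) * s⁻¹ = (s * v * s⁻¹) * (s * (s * v * s⁻¹) * s⁻¹) := by group
            _ = (s * v * s⁻¹) * v := by rw [h]
            _ = v * (s * v * s⁻¹) := hcom _ hv' _ hv
        refine hcon _ (mul_mem hv hv') ?_ h5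
        intro h6
        apply h3
        have h7 : (s * v * s⁻¹) = v⁻¹ := (eq_inv_of_mul_eq_one_right h6)
        rw [h7]
        exact inv_eq_of_mul_eq_one_left (h2 v hv)
      · exact absurd h h4
      · -- `s² v = v * s v`, `s³ v = s v * s² v = v`
        calc s ^ 3 * v * (s ^ 3)⁻¹ = s * (s * (s * v * s⁻¹) * s⁻¹) * s⁻¹ := by
              rw [pow_succ, pow_two]; group
          _ = s * (v * (s * v * s⁻¹)) * s⁻¹ := by rw [h]
          _ = (s * v * s⁻¹) * (s * (s * v * s⁻¹) * s⁻¹) := by group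
          _ = (s * v * s⁻¹) * (v * (s * v * s⁻¹)) := by rw [h]
          _ = v * ((s * v * s⁻¹) * (s * v * s⁻¹)) := by rw [← mul_assoc, hcom _ hv' _ hv, mul_assoc]
          _ = v := by rw [h2 _ hv', mul_one]
    -- `s` is a power of `s³`
    apply hsU
    have hcop : Nat.Coprime 3 (orderOf s) := by
      have h3 : orderOf s ∣ 2 ^ n := orderOf_dvd_of_pow_eq_one hs2
      have h4 : Nat.Coprime 3 (2 ^ n) := Nat.Coprime.pow_right n (by decide)
      exact Nat.Coprime.coprime_dvd_right h3 h4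
    obtain ⟨j, hj⟩ := exists_pow_eq_self_of_coprime hcop
    have h3 : s ^ 3 ∈ centralizer (U : Set G) := by
      rw [mem_centralizer_iff]
      intro x hx
      by_cases hx1 : x = 1
      · rw [hx1, one_mul, mul_one]
      · have h4 := key x hx hx1
        calc x * s ^ 3 = (s ^ 3 * x * (s ^ 3)⁻¹) * s ^ 3 := by rw [h4]
          _ = s ^ 3 * x := by group
    rw [← hj]
    exact pow_mem h3 j
  -- `v = k u`
  set v := k * u * k⁻¹ with hv
  have hvU : v ∈ U := hNk u hu
  have hv1 : v ≠ 1 := by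
    intro h; apply hu1
    calc u = k⁻¹ * (k * u * k⁻¹) * k := by group
      _ = 1 := by rw [← hv, h]; group
  have huv : u ≠ v := by
    intro h
    apply hu1
    apply hkf u hu
    calc k * u = (k * u * k⁻¹) * k := by group
      _ = u * k := by rw [← hv, ← h]
  -- `k v = u * v`
  have hkfix : ∀ x ∈ U, k * x * k⁻¹ = x → x = 1 := by
    intro x hx h
    apply hkf x hx
    calc k * x = (k * x * k⁻¹) * k := by group
      _ = x * k := by rw [h]
  have hkv : k * v * k⁻¹ = u * v := by
    rcases four_cases hU h2 hu hvU hu1 hv1 huv (hNk v hvU) with h | h | h | h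
    · exfalso; apply hv1
      calc v = k⁻¹ * (k * v * k⁻¹) * k := by group
        _ = 1 := by rw [h]; group
    · -- `k² u = u`, so `k u = u`
      exfalso
      have h3 : k ^ 3 * u * (k ^ 3)⁻¹ = v := by
        calc k ^ 3 * u * (k ^ 3)⁻¹ = k * (k * (k * u * k⁻¹) * k⁻¹) * k⁻¹ := by rw [pow_succ, pow_two]; group
          _ = v := by rw [← hv, h, ← hv]
      rw [hk3] at h3
      apply huv
      rw [← h3]
      group
    · exact absurd (hkfix v hvU h) hv1
    · exact h
  have hkuv : k * (u * v) * k⁻¹ = u := by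
    calc k * (u * v) * k⁻¹ = (k * u * k⁻¹) * (k * v * k⁻¹) := by group
      _ = v * (u * v) := by rw [← hv, hkv]
      _ = u * (v * v) := by rw [← mul_assoc, hcom v hvU u hu, mul_assoc]
      _ = u := by rw [h2 v hvU, mul_one]
  -- `s v = u * v`
  have hsv : s * v * s⁻¹ = u * v := by
    rcases four_cases hU h2 hu hvU hu1 hv1 huv (hNs v hvU) with h | h | h | h
    · exfalso; apply hv1
      calc v = s⁻¹ * (s * v * s⁻¹) * s := by group
        _ = 1 := by rw [h]; group
    · exfalso; apply huv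
      have : s * v * s⁻¹ = s * u * s⁻¹ := by rw [h, hsu]
      exact (mul_left_cancel (mul_right_cancel this)).symm
    · exfalso
      apply hsU
      rw [mem_centralizer_iff]
      intro x hx
      have hcu : u * s = s * u := by
        calc u * s = (s * u * s⁻¹) * s := by rw [hsu]
          _ = s * u := by group
      have hcv : v * s = s * v := by
        calc v * s = (s * v * s⁻¹) * s := by rw [h]
          _ = s * v := by group
      rcases four_cases hU h2 hu hvU hu1 hv1 huv hx with h | h | h | h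
      · rw [h, one_mul, mul_one]
      · rw [h, hcu]
      · rw [h, hcv]
      · rw [h, mul_assoc, hcv, ← mul_assoc, hcu, mul_assoc]
    · exact h
  have hsuv : s * (u * v) * s⁻¹ = v := by
    calc s * (u * v) * s⁻¹ = (s * u * s⁻¹) * (s * v * s⁻¹) := by group
      _ = u * (u * v) := by rw [hsu, hsv]
      _ = v := by rw [← mul_assoc, h2 u hu, one_mul]
  have hsi : s⁻¹ * v * s = u * v := by
    calc s⁻¹ * v * s = s⁻¹ * (s * (u * v) * s⁻¹) * s := by rw [hsuv]
      _ = u * v := by group
  have hsi' : s⁻¹ * (u * v) * s = v := by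
    calc s⁻¹ * (u * v) * s = s⁻¹ * (s * v * s⁻¹) * s := by rw [hsv]
      _ = v := by group
  have hsui : s⁻¹ * u * s = u := by
    calc s⁻¹ * u * s = s⁻¹ * (s * u * s⁻¹) * s := by rw [hsu]
      _ = u := by group
  -- the product fixes `u` and `v`
  set c := s * k * s⁻¹ * k with hc
  have hcu : c * u * c⁻¹ = u := by
    calc c * u * c⁻¹ = s * (k * (s⁻¹ * (k * u * k⁻¹) * s) * k⁻¹) * s⁻¹ := by rw [hc]; group
      _ = u := by rw [← hv, hsi, hkuv, hsu]
  have hcv : c * v * c⁻¹ = v := by
    calc c * v * c⁻¹ = s * (k * (s⁻¹ * (k * v * k⁻¹) * s) * k⁻¹) * s⁻¹ := by rw [hc]; group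
      _ = v := by rw [hkv, hsi', hkv, hsuv]
  rw [mem_centralizer_iff]
  intro x hx
  have hcu' : u * c = c * u := by
    calc u * c = (c * u * c⁻¹) * c := by rw [hcu]
      _ = c * u := by group
  have hcv' : v * c = c * v := by
    calc v * c = (c * v * c⁻¹) * c := by rw [hcv]
      _ = c * v := by group
  rcases four_cases hU h2 hu hvU hu1 hv1 huv hx with h | h | h | h
  · rw [h, one_mul, mul_one]
  · rw [h, hcu']
  · rw [h, hcv']
  · rw [h, mul_assoc, hcv', ← mul_assoc, hcu', mul_assoc]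

variable [Finite G]

/-- the data of the 2-local `C(u)` -/
structure Lc (U V : Subgroup G) (u : G) (T : Subgroup G) : Prop where
  syl : IsSyl2 (centralizer ({u} : Set G)) T
  TM : T ≤ normalizer (V : Set G) ⊓ normalizer (U : Set G)
  char2 : ∀ x ∈ centralizer ({u} : Set G), x ∈ centralizer (o2 (centralizer ({u} : Set G)) : Set G) →
    x ∈ o2 (centralizer ({u} : Set G))
  red : ∀ Y ≤ centralizer ({u} : Set G), centralizer ({u} : Set G) ≤ normalizer (Y : Set G) → (∀ y ∈ Y, y * y = 1) →
    ¬ Y ≤ zpowers u → ∃ R ≤ centralizer ({u} : Set G), centralizer ({u} : Set G) ≤ normalizer (R : Set G) ∧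
      (∀ r ∈ R, ∃ c ∈ centralizer (Y : Set G), ∃ s ∈ T, r = c * s) ∧ ¬ R ≤ centralizer (Y : Set G)

/-- `O₂(X) ≤ T` -/
theorem o2_le_syl {X T : Subgroup G} (hT : IsSyl2 X T) : o2 X ≤ T := by
  have h1 : IsPGroup 2 (T ⊔ o2 X : Subgroup G) :=
    IsPGroup.to_sup_of_normal_right' hT.two (ZN.Block.o2_isPGroup X) (hT.le.trans (ZN.Block.le_normalizer_o2 X))
  have h2 := hT.max (T ⊔ o2 X) (sup_le hT.le (ZN.Block.o2_le X)) h1 le_sup_left
  rw [← h2]
  exact le_sup_right

/-- **(iii)** -/
theorem exists_sigma {U V T : Subgroup G} (hU : Nat.card U = 4) (h2 : ∀ x ∈ U, x * x = 1) {u : G} (hu : u ∈ U)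
    (hu1 : u ≠ 1) (l : Lc U V u T) :
    ∃ σ ∈ normalizer (V : Set G) ⊓ normalizer (U : Set G), (∃ n, σ ^ 2 ^ n = 1) ∧
      (∀ c ∈ centralizer ({u} : Set G), σ ∈ normalizer (cj c U : Set G)) ∧ σ ∉ centralizer (U : Set G) := by
  classical
  have hp : Fact (Nat.Prime 2) := ⟨Nat.prime_two⟩
  by_contra hcon
  push Not at hcon
  set X := centralizer ({u} : Set G) with hX
  have hTX : T ≤ X := l.syl.le
  have hpow : ∀ x ∈ T, ∃ n, x ^ 2 ^ n = 1 := fun x hx => by
    obtain ⟨n, hn⟩ := l.syl.two ⟨x, hx⟩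
    exact ⟨n, congrArg Subtype.val hn⟩
  -- 2-elements of the kernel centralise all members
  have hD : ∀ d ∈ X, (∀ c ∈ X, d ∈ normalizer (cj c U : Set G)) → (∃ n, d ^ 2 ^ n = 1) → ∀ c ∈ X,
      d ∈ centralizer (cj c U : Set G) := by
    intro d hd hdn hd2 c hc
    set d' := c⁻¹ * d * c with hd'
    have hd'X : d' ∈ X := mul_mem (mul_mem (inv_mem hc) hd) hc
    have hnorm : ∀ e ∈ X, (∀ c ∈ X, e⁻¹ * d' * e ∈ normalizer (cj c U : Set G)) := by
      intro e he c' hc'
      have h3 := hdn (c * e * c') (mul_mem (mul_mem hc he) hc')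
      rw [← cj_eq_iff] at h3 ⊢
      have h4 : e⁻¹ * d' * e = (c * e)⁻¹ * (d * (c * e)) := by rw [hd']; group
      rw [h4, cj_mul, cj_mul, ← cj_mul (c * e) c', h3, cj_mul, cj_inv_cj]
    have hd'2 : ∃ n, d' ^ 2 ^ n = 1 := by
      obtain ⟨n, hn⟩ := hd2
      refine ⟨n, ?_⟩
      have h3 : d' = c⁻¹ * d * c⁻¹⁻¹ := by rw [inv_inv]
      rw [h3, conj_pow, hn]
      group
    have hd'U : d' ∈ normalizer (U : Set G) := by
      have := hnorm 1 (one_mem _) 1 (one_mem _)
      rw [cj_one] at this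
      simpa using this
    -- conjugate into `T`
    have hsT : IsSyl2 (X ⊓ normalizer (U : Set G)) T :=
      ⟨le_inf hTX (l.TM.trans inf_le_right), l.syl.two, fun Y hY hY2 hle => l.syl.max Y (hY.trans inf_le_left) hY2 hle⟩
    have hzp : IsPGroup 2 (zpowers d') := by
      obtain ⟨n, hn⟩ := hd'2
      rw [IsPGroup.iff_card]
      have h3 : orderOf d' ∣ 2 ^ n := orderOf_dvd_of_pow_eq_one hn
      obtain ⟨m, -, hm⟩ := (Nat.dvd_prime_pow Nat.prime_two).mp h3
      exact ⟨m, by rw [Nat.card_zpowers, hm]⟩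
    obtain ⟨S', hS', hle⟩ : ∃ S' : Subgroup G, IsSyl2 (X ⊓ normalizer (U : Set G)) S' ∧ zpowers d' ≤ S' := by
      have hle : zpowers d' ≤ X ⊓ normalizer (U : Set G) := by
        rw [zpowers_le]; exact ⟨hd'X, hd'U⟩
      have hne : {Y : Subgroup G | Y ≤ X ⊓ normalizer (U : Set G) ∧ IsPGroup 2 Y ∧ zpowers d' ≤ Y}.Nonempty :=
        ⟨zpowers d', hle, hzp, le_rfl⟩
      obtain ⟨Y, hY⟩ := Set.Finite.exists_maximal (Set.toFinite _) hne
      refine ⟨Y, ⟨hY.1.1, hY.1.2.1, fun Z hZ hZ2 hYZ => ?_⟩, hY.1.2.2⟩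
      exact le_antisymm (hY.2 ⟨hZ, hZ2, hY.1.2.2.trans hYZ⟩ hYZ) hYZ
    obtain ⟨e, he, h3⟩ := isSyl2_conj hS' hsT
    have h4 : e * d' * e⁻¹ ∈ T := by
      rw [h3]
      exact conj_mem_cj (hle (mem_zpowers d'))
    have h5 := hcon (e * d' * e⁻¹) (l.TM h4) (hpow _ h4) (by
      have h6 := hnorm e⁻¹ (inv_mem he.1)
      rwa [inv_inv] at h6)
    have h6 : d' ∈ centralizer (U : Set G) := by
      have h7 : cj e⁻¹ (centralizer (U : Set G)) = centralizer (U : Set G) := by
        rw [cj_centralizer, cj_eq_iff.mpr (inv_mem he.2)]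
      rw [← h7, mem_cj, inv_inv]
      exact h5
    have h7 := conj_mem_cj (g := c) h6
    rw [cj_centralizer] at h7
    have h8 : c * d' * c⁻¹ = d := by rw [hd']; group
    rwa [h8] at h7
  -- `O₂(X)` is in the kernel
  have hoT : o2 X ≤ T := o2_le_syl l.syl
  have hcU : ∀ x ∈ X, ∀ S : Subgroup G, (∀ c ∈ X, c⁻¹ * x * c ∈ S) → S ≤ normalizer (U : Set G) →
      ∀ c ∈ X, x ∈ normalizer (cj c U : Set G) := by
    intro x _ S hS hSU c hc
    rw [← cj_normalizer, mem_cj]
    exact hSU (hS c hc)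
  have ho : ∀ x ∈ o2 X, ∀ c ∈ X, x ∈ centralizer (cj c U : Set G) := by
    intro x hx
    have hxT := hoT hx
    refine hD x (hTX hxT) (hcU x (hTX hxT) (o2 X) ?_ (hoT.trans (l.TM.trans inf_le_right))) (hpow x hxT)
    intro c hc
    have := ZN.Block.o2_conj (inv_mem hc) hx
    rwa [inv_inv] at this
  have hcu : ∀ c ∈ X, u ∈ cj c U := by
    intro c hc
    rw [mem_cj]
    have h3 : c * u = u * c := mem_centralizer_singleton_iff.mp hc
    have h4 : c⁻¹ * u * c = u := by rw [mul_assoc, ← h3, inv_mul_cancel_left]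
    rw [h4]
    exact hu
  have hcsq : ∀ c : G, ∀ x ∈ cj c U, x * x = 1 := by
    rintro c _ ⟨v, hv, rfl⟩
    show (c * v * c⁻¹) * (c * v * c⁻¹) = 1
    calc (c * v * c⁻¹) * (c * v * c⁻¹) = c * (v * v) * c⁻¹ := by group
      _ = 1 := by rw [h2 v hv]; group
  have hUo : ∀ c ∈ X, cj c U ≤ o2 X := by
    intro c hc x hx
    refine l.char2 x ?_ ?_
    · rw [mem_centralizer_singleton_iff]
      exact comm_of_sq (hcsq c) hx (hcu c hc)
    · rw [mem_centralizer_iff]
      intro y hy
      exact (mem_centralizer_iff.mp (ho y hy c hc) x hx).symm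
  -- `Y'`
  set Y := Wc X U with hY
  have hYo : Y ≤ o2 X := Wc_le hUo
  have hcm : Cm Y Y := cm_Wc fun c hc => (cm_Wc fun c' hc' => fun x hx y hy => by
    have h3 := ho y (hUo c hc hy) c' hc'
    exact mem_centralizer_iff.mp h3 x hx).symm
  have hYsq : ∀ y ∈ Y, y * y = 1 := by
    intro w hw
    induction hw using Subgroup.closure_induction with
    | mem x hx =>
      obtain ⟨g, hg, hx⟩ := hx
      exact hcsq g x hx
    | one => rw [mul_one]
    | mul x y hx' hy' hx hy =>
      calc x * y * (x * y) = x * (y * x) * y := by group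
        _ = x * (x * y) * y := by rw [hcm y hy' x hx']
        _ = (x * x) * (y * y) := by group
        _ = 1 := by rw [hx, hy, mul_one]
    | inv x _ hx => rw [← mul_inv_rev, hx, inv_one]
  have hUY : U ≤ Y := le_Wc X U
  obtain ⟨R, hRX, hXR, hR, hRn⟩ := l.red Y (hYo.trans (ZN.Block.o2_le X)) (norm_Wc X U) hYsq (by
    intro h3
    obtain ⟨v, hv, hv1, hvu⟩ := exists_ne hU u
    obtain ⟨j, hj⟩ := mem_zpowers_iff.mp (h3 (hUY hv))
    have huu : ∀ i : ℤ, u ^ (2 * i) = 1 := fun i => by
      rw [zpow_mul, zpow_two, h2 u hu, one_zpow]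
    rcases Int.even_or_odd' j with ⟨i, hi | hi⟩
    · apply hv1
      rw [← hj, hi, huu]
    · apply hvu
      rw [← hj, hi, zpow_add, huu, one_mul, zpow_one])
  apply hRn
  have hcY : ∀ c ∈ centralizer (Y : Set G), ∀ c' ∈ X, c ∈ normalizer (cj c' U : Set G) := by
    intro c hc c' hc'
    exact centralizer_le_normalizer _ (centralizer_le (cj_le_Wc hc') hc)
  have hRU : R ≤ normalizer (U : Set G) := by
    intro r hr
    obtain ⟨c, hc, s, hs, rfl⟩ := hR r hr
    refine mul_mem ?_ ((l.TM hs).2)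
    exact centralizer_le_normalizer _ (centralizer_le hUY hc)
  intro r hr
  have hrn : ∀ c' ∈ X, r ∈ normalizer (cj c' U : Set G) := hcU r (hRX hr) R (by
    intro c hc
    have := forall_of_mem_normalizer (hXR (inv_mem hc)) _ hr
    rwa [inv_inv] at this) hRU
  obtain ⟨c, hc, s, hs, rfl⟩ := hR r hr
  have hsn : ∀ c' ∈ X, s ∈ normalizer (cj c' U : Set G) := by
    intro c' hc'
    have h3 := mul_mem (inv_mem (hcY c hc c' hc')) (hrn c' hc')
    rwa [inv_mul_cancel_left] at h3
  have hsc := hD s (hTX hs) hsn (hpow s hs)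
  have hsY : s ∈ centralizer (Y : Set G) := by
    have h3 : Cm Y (zpowers s) := cm_Wc fun c' hc' => by
      rw [cm_iff]
      intro x hx
      rw [mem_centralizer_iff]
      intro y hy
      obtain ⟨j, rfl⟩ := mem_zpowers_iff.mp hy
      have h4 : s ^ j ∈ centralizer (cj c' U : Set G) := zpow_mem (hsc c' hc') j
      exact (mem_centralizer_iff.mp h4 x hx).symm
    rw [mem_centralizer_iff]
    intro y hy
    exact h3 y hy s (mem_zpowers s)
  exact mul_mem hc hsY

end Cfsg.Agent.OddCyclic.Eq.PartIFour
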