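import Cfsg.Agent.OddCyclic.FFMain
import Cfsg.Agent.OddCyclic.COneOdd

/-!
# S0342, (E_q): groups of rank one

`R1 X`: the Sylow 2-subgroups of `X` intersect trivially and `P` is transitive on the others. Instances: `SL₂(2^n)`
(`sl`), `Sz(q)` (`sz`). `gen`: two Sylow 2-subgroups generate the simple group `X`.
`norm_eq`: `X` simple, normal in `H`, `H₀` a maximal core free subgroup of odd index: `H₀` is the normaliser of a Sylow
2-subgroup of `X`. `fix_one`: then an involution of `X` fixes exactly one coset of `H₀`.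
-/

set_option autoImplicit false
set_option linter.unusedSectionVars false

namespace Cfsg.Agent.OddCyclic.Eq.PrimR

open Subgroup
open scoped Pointwise

/-- the Sylow 2-subgroups form a rank one geometry -/
def R1 (X : Type*) [Group X] : Prop :=
  ∃ (P : Sylow 2 X) (w : X), (∀ Q : Sylow 2 X, Q = P ∨ ∃ u ∈ P, Q = u • w • P) ∧
    ∀ (Q R : Sylow 2 X) (x : X), x ∈ Q → x ∈ R → x ≠ 1 → Q = R

section gen

variable {X : Type*} [Group X] [Finite X]

theorem smul_le {P : Sylow 2 X} {D : Subgroup X} {g : X} (hg : g ∈ D) : ((g • P : Sylow 2 X) : Subgroup X) ≤ D ↔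
    (P : Subgroup X) ≤ D := by
  constructor
  · intro h x hx
    have h1 : g * x * g⁻¹ ∈ ((g • P : Sylow 2 X) : Subgroup X) := by
      show g * x * g⁻¹ ∈ g • P
      rw [FFSz.mem_smul]
      have : g⁻¹ * (g * x * g⁻¹) * g = x := by group
      rw [this]; exact hx
    have h2 := mul_mem (mul_mem (inv_mem hg) (h h1)) hg
    have : g⁻¹ * (g * x * g⁻¹) * g = x := by group
    rwa [this] at h2
  · intro h x hx
    have h1 : g⁻¹ * x * g ∈ P := FFSz.mem_smul.1 hx
    have h2 := mul_mem (mul_mem hg (h h1)) (inv_mem hg)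
    have : g * (g⁻¹ * x * g) * g⁻¹ = x := by group
    rwa [this] at h2

/-- two Sylow 2-subgroups generate -/
theorem gen [IsSimpleGroup X] (h : R1 X) {D : Subgroup X} {Q R : Sylow 2 X} (hQ : (Q : Subgroup X) ≤ D)
    (hR : (R : Subgroup X) ≤ D) (hne : Q ≠ R) : D = ⊤ := by
  classical
  have : Fact (Nat.Prime 2) := ⟨Nat.prime_two⟩
  obtain ⟨P, w, hcov, -⟩ := h
  -- reduce to `Q = P`
  obtain ⟨g, hg⟩ := MulAction.exists_smul_eq X Q P
  have key : ∀ E : Subgroup X, (P : Subgroup X) ≤ E → ∀ R' : Sylow 2 X, (R' : Subgroup X) ≤ E → R' ≠ P → E = ⊤ := by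
    intro E hP R' hR' hne'
    rcases hcov R' with h1 | ⟨u, hu, h1⟩
    · exact absurd h1 hne'
    have h2 : ((w • P : Sylow 2 X) : Subgroup X) ≤ E := by
      rw [← smul_le (hP hu), ← h1]; exact hR'
    have h3 : ∀ T : Sylow 2 X, (T : Subgroup X) ≤ E := by
      intro T
      rcases hcov T with h4 | ⟨v, hv, h4⟩
      · rw [h4]; exact hP
      · rw [h4, smul_le (hP hv)]; exact h2
    have h4 : Subgroup.normalClosure ((P : Subgroup X) : Set X) ≤ E := by
      rw [Subgroup.normalClosure, closure_le]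
      intro x hx
      obtain ⟨y, hy, hc⟩ := Group.mem_conjugatesOfSet_iff.1 hx
      obtain ⟨c, rfl⟩ := isConj_iff.1 hc
      apply h3 (c • P)
      show c * y * c⁻¹ ∈ c • P
      rw [FFSz.mem_smul]
      have : c⁻¹ * (c * y * c⁻¹) * c = y := by group
      rw [this]; exact hy
    rcases (Subgroup.normalClosure_normal (s := ((P : Subgroup X) : Set X))).eq_bot_or_eq_top with h5 | h5
    · exfalso
      apply hne'
      have h6 : (P : Subgroup X) = ⊥ := by
        rw [eq_bot_iff, ← h5]; exact Subgroup.subset_normalClosure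
      obtain ⟨c, hc⟩ := MulAction.exists_smul_eq X P R'
      rw [← hc]
      apply Sylow.ext
      rw [h6, eq_bot_iff]
      intro x hx
      have h7 : c⁻¹ * x * c ∈ (P : Subgroup X) := FFSz.mem_smul.1 hx
      rw [h6, Subgroup.mem_bot] at h7
      rw [Subgroup.mem_bot]
      have : x = c * (c⁻¹ * x * c) * c⁻¹ := by group
      rw [this, h7]; group
    · rw [eq_top_iff, ← h5]; exact h4
  -- conjugate `D`
  have h1 := key (D.map (MulAut.conj g).toMonoidHom) (by
    rw [← hg]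
    intro x hx
    have h2 : g⁻¹ * x * g ∈ Q := FFSz.mem_smul.1 hx
    refine ⟨g⁻¹ * x * g, hQ h2, ?_⟩
    show g * (g⁻¹ * x * g) * g⁻¹ = x
    group) (g • R) (by
    intro x hx
    have h2 : g⁻¹ * x * g ∈ R := FFSz.mem_smul.1 hx
    refine ⟨g⁻¹ * x * g, hR h2, ?_⟩
    show g * (g⁻¹ * x * g) * g⁻¹ = x
    group) (by
    rw [← hg]
    intro h2
    exact hne (smul_left_cancel g h2).symm)
  rw [eq_top_iff]
  intro x _
  have h2 : g * x * g⁻¹ ∈ D.map (MulAut.conj g).toMonoidHom := by rw [h1]; trivial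
  obtain ⟨y, hy, h3⟩ := h2
  have h4 : g * y * g⁻¹ = g * x * g⁻¹ := h3
  have h5 : y = x := mul_left_cancel (mul_right_cancel h4)
  rw [← h5]; exact hy

end gen

/-! ### the instances -/

theorem mem_map {X Y : Type*} [Group X] [Group Y] [Finite X] [Fact (Nat.Prime 2)] (e : X ≃* Y) (P : Sylow 2 X) (y : Y) :
    y ∈ P.mapSurjective (f := e.toMonoidHom) e.surjective ↔ e.symm y ∈ P := by
  constructor
  · rintro ⟨x, hx, rfl⟩
    have : e.symm (e.toMonoidHom x) = x := e.symm_apply_apply x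
    rw [this]; exact hx
  · intro h
    exact ⟨e.symm y, h, e.apply_symm_apply y⟩

theorem equiv {X Y : Type*} [Group X] [Group Y] [Finite X] (e : X ≃* Y) (h : R1 X) : R1 Y := by
  have : Fact (Nat.Prime 2) := ⟨Nat.prime_two⟩
  obtain ⟨P, w, hcov, hti⟩ := h
  have : Finite Y := Finite.of_equiv X e.toEquiv
  refine ⟨P.mapSurjective (f := e.toMonoidHom) e.surjective, e w, ?_, ?_⟩
  · intro Q
    have hQ : ∀ x : X, x ∈ Q.mapSurjective (f := e.symm.toMonoidHom) e.symm.surjective ↔ e x ∈ Q := fun x =>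
      mem_map e.symm Q x
    rcases hcov (Q.mapSurjective (f := e.symm.toMonoidHom) e.symm.surjective) with h1 | ⟨u, hu, h1⟩
    · left
      apply Sylow.ext
      ext y
      change y ∈ Q ↔ y ∈ P.mapSurjective (f := e.toMonoidHom) e.surjective
      rw [mem_map e P y, ← h1, hQ, e.apply_symm_apply]
    · right
      refine ⟨e u, (mem_map e P _).2 (by rw [e.symm_apply_apply]; exact hu), ?_⟩
      apply Sylow.ext
      ext y
      change y ∈ Q ↔ y ∈ e u • e w • P.mapSurjective (f := e.toMonoidHom) e.surjective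
      rw [FFSz.mem_smul, FFSz.mem_smul, mem_map, ← e.apply_symm_apply y, ← hQ, h1, FFSz.mem_smul, FFSz.mem_smul,
        ← map_inv, ← map_inv, ← map_mul, ← map_mul, ← map_mul, ← map_mul, e.symm_apply_apply]
  · intro Q R y hQ hR hy
    have h1 := hti (Q.mapSurjective (f := e.symm.toMonoidHom) e.symm.surjective)
      (R.mapSurjective (f := e.symm.toMonoidHom) e.symm.surjective) (e.symm y)
      ((mem_map e.symm Q _).2 (by rw [MulEquiv.symm_symm, e.apply_symm_apply]; exact hQ))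
      ((mem_map e.symm R _).2 (by rw [MulEquiv.symm_symm, e.apply_symm_apply]; exact hR))
      (by rw [Ne, map_eq_one_iff e.symm e.symm.injective]; exact hy)
    apply Sylow.ext
    ext z
    change z ∈ Q ↔ z ∈ R
    have h2 := mem_map e.symm Q (e.symm z)
    have h3 := mem_map e.symm R (e.symm z)
    rw [MulEquiv.symm_symm, e.apply_symm_apply] at h2 h3
    rw [← h2, ← h3, h1]

theorem sz {X : Type*} [Group X] [Finite X] (h : Cfsg.Lie.IsoSuzuki X) : R1 X := by
  have : Fact (Nat.Prime 2) := ⟨Nat.prime_two⟩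
  obtain ⟨F, _, _, m, hm, hF, ⟨R⟩⟩ := Cfsg.Agent.ThreePrime.SzRel.exists_rel h
  obtain ⟨P, hP⟩ := R.exists_sylow_eq hm hF
  refine ⟨P, R.w, fun Q => ?_, fun Q R x => FFSz.sylow_ti h⟩
  have hn : ∀ a b k, (R.u a b * R.d k) • P = P := by
    intro a b k
    rw [Sylow.smul_eq_iff_mem_normalizer]
    show _ ∈ Subgroup.normalizer ((P : Subgroup X) : Set X)
    rw [hP]
    exact R.ud_mem_normalizer a b k
  obtain ⟨g, rfl⟩ := MulAction.exists_smul_eq X P Q
  rcases R.bruhat g with ⟨a, b, k, h1⟩ | ⟨a, b, c, e, k, h1⟩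
  · left
    rw [h1, hn]
  · right
    refine ⟨R.u a b, ?_, ?_⟩
    · show _ ∈ (P : Subgroup X)
      rw [hP]; exact R.u_mem a b
    · rw [h1, mul_smul, hn, mul_smul]

section sl

open Matrix Cfsg.Agent.OddCyclic.T1Sl2 Cfsg.Agent.OddCyclic.FFSl2

variable {F : Type*} [Field F] [Fintype F] [CharP F 2]

theorem sl : R1 (SpecialLinearGroup (Fin 2) F) := by
  refine ⟨T1Sl2.SU F, ww F, fun Q => ?_, fun Q R x hQ hR hx => ?_⟩
  · obtain ⟨t, rfl⟩ := FFOuter.syl_surjective Q
    cases t with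
    | none => exact Or.inl rfl
    | some t => exact Or.inr ⟨up t, up_mem t, rfl⟩
  · by_contra hne
    obtain ⟨g, h1, h2⟩ := two_trans hne
    have h3 : g * x * g⁻¹ ∈ T1Sl2.SU F := by
      rw [← h1, FFSz.mem_smul]
      have : g⁻¹ * (g * x * g⁻¹) * g = x := by group
      rw [this]; exact hQ
    have h4 : g * x * g⁻¹ ∈ ww F • T1Sl2.SU F := by
      rw [← h2, FFSz.mem_smul]
      have : g⁻¹ * (g * x * g⁻¹) * g = x := by group
      rw [this]; exact hR
    apply hx
    have h5 : g * x * g⁻¹ = 1 := by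
      obtain ⟨a1, a2⟩ := mem_SU.1 h3
      obtain ⟨a3, a4⟩ := mem_smul_SU.1 h4
      rw [ww00, ww10, mul_zero, mul_one, zero_add] at a3
      rw [ww00, ww10, mul_zero, mul_one, zero_add] at a4
      apply ext2
      · rw [a1]; rfl
      · rw [a3]; rfl
      · rw [a2]; rfl
      · rw [a4]; rfl
    have : x = g⁻¹ * (g * x * g⁻¹) * g := by group
    rw [this, h5]; group

end sl

/-! ### normal subgroups of rank one -/

section normal

variable {H : Type*} [Group H] [Finite H] {X H₀ : Subgroup H}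

theorem mem_aut_smul {Y : Type*} [Group Y] {α : MulAut Y} {Q : Sylow 2 Y} {x : Y} : x ∈ α • Q ↔ α⁻¹ x ∈ Q := by
  have : x ∈ α • Q ↔ x ∈ α • (Q : Subgroup Y) := by
    rw [← Sylow.pointwise_smul_def]; rfl
  rw [this, Subgroup.mem_pointwise_smul_iff_inv_smul_mem, MulAut.smul_def]
  rfl

theorem not_two_dvd [X.Normal] (hs : H₀ ⊔ X = ⊤) (hodd : Odd H₀.index) : ¬ 2 ∣ (H₀.subgroupOf X).index := by
  have h1 := COneOdd.index_mul_card_inf hs
  have h2 := (H₀.subgroupOf X).card_mul_index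
  have h3 : Nat.card (H₀.subgroupOf X) = Nat.card (X ⊓ H₀ : Subgroup H) := by
    rw [← Subgroup.inf_subgroupOf_left, Nat.card_congr (Subgroup.subgroupOfEquivOfLe (inf_le_left : X ⊓ H₀ ≤ X)).toEquiv]
  rw [h3, ← h1, mul_comm] at h2
  have h4 : (H₀.subgroupOf X).index = H₀.index := Nat.eq_of_mul_eq_mul_right Nat.card_pos h2
  rw [h4]
  intro h
  rw [Nat.odd_iff] at hodd
  omega

/-- an involution of `X ⊓ H₀` is in a Sylow 2-subgroup of `X` contained in `H₀` -/
theorem exists_syl_mem [X.Normal] (hs : H₀ ⊔ X = ⊤) (hodd : Odd H₀.index) {x : X} (hx : (x : H) ∈ H₀)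
    (hx2 : x * x = 1) : ∃ Q : Sylow 2 X, x ∈ Q ∧ ∀ y ∈ Q, (y : H) ∈ H₀ := by
  have : Fact (Nat.Prime 2) := ⟨Nat.prime_two⟩
  have hz : IsPGroup 2 (zpowers (⟨x, mem_subgroupOf.2 hx⟩ : H₀.subgroupOf X)) := by
    rintro ⟨y, k, rfl⟩
    refine ⟨1, Subtype.ext ?_⟩
    show ((⟨x, mem_subgroupOf.2 hx⟩ : H₀.subgroupOf X) ^ k) ^ 2 ^ 1 = 1
    rw [pow_one, ← zpow_natCast, ← zpow_mul, mul_comm, zpow_mul]
    have : (⟨x, mem_subgroupOf.2 hx⟩ : H₀.subgroupOf X) ^ ((2 : ℕ) : ℤ) = 1 := by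
      rw [zpow_natCast, pow_two]
      exact Subtype.ext hx2
    rw [this, one_zpow]
  obtain ⟨P, hP⟩ := hz.exists_le_sylow
  have h1 : IsPGroup 2 ((P : Subgroup (H₀.subgroupOf X)).map (H₀.subgroupOf X).subtype) := P.2.map _
  have h2 : ¬ 2 ∣ ((P : Subgroup (H₀.subgroupOf X)).map (H₀.subgroupOf X).subtype).index := by
    rw [Subgroup.index_map_subtype]
    intro h
    rcases (Nat.Prime.dvd_mul Nat.prime_two).mp h with h | h
    · exact P.not_dvd_index h
    · exact not_two_dvd hs hodd h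
  refine ⟨h1.toSylow h2, ?_, ?_⟩
  · exact ⟨⟨x, mem_subgroupOf.2 hx⟩, hP (mem_zpowers _), rfl⟩
  · rintro y ⟨z, -, rfl⟩
    exact mem_subgroupOf.1 z.2

/-- `H₀` is the normaliser of a Sylow 2-subgroup of `X` -/
theorem norm_eq [X.Normal] [IsSimpleGroup X] (hr : R1 X) (h2 : 2 ∣ Nat.card X) (hmax : IsCoatom H₀)
    (hcore : ∀ N : Subgroup H, N.Normal → N ≤ H₀ → N = ⊥) (hodd : Odd H₀.index) :
    ∃ Q : Sylow 2 X, (∀ h : H, h ∈ H₀ ↔ (MulAut.conjNormal h : MulAut X) • Q = Q) ∧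
      ∀ R : Sylow 2 X, (∀ y ∈ R, (y : H) ∈ H₀) → R = Q := by
  have : Fact (Nat.Prime 2) := ⟨Nat.prime_two⟩
  have hXH : ¬ X ≤ H₀ := by
    intro h
    have h1 := hcore X inferInstance h
    rw [h1, Nat.card_congr (Equiv.refl _)] at h2
    rw [Subgroup.card_bot] at h2
    omega
  have hs : H₀ ⊔ X = ⊤ := by
    rcases hmax.le_iff.1 (le_sup_left : H₀ ≤ H₀ ⊔ X) with h | h
    · exact h
    · exact absurd (h ▸ le_sup_right) hXH
  have hDne : H₀.subgroupOf X ≠ ⊤ := fun h => hXH (Subgroup.subgroupOf_eq_top.1 h)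
  obtain ⟨Q, -, hQ⟩ := exists_syl_mem hs hodd (x := (1 : X)) H₀.one_mem (one_mul 1)
  have huniq : ∀ R : Sylow 2 X, (∀ y ∈ R, (y : H) ∈ H₀) → R = Q := by
    intro R hR
    by_contra hne
    exact hDne (gen hr (D := H₀.subgroupOf X) (fun y hy => mem_subgroupOf.2 (hR y hy))
      (fun y hy => mem_subgroupOf.2 (hQ y hy)) hne)
  have hle : ∀ h ∈ H₀, (MulAut.conjNormal h : MulAut X) • Q = Q := by
    intro h hh
    apply huniq
    intro y hy
    rw [mem_aut_smul] at hy
    have h3 := hQ _ hy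
    have h4 : (((MulAut.conjNormal h)⁻¹ : MulAut X) y : H) = h⁻¹ * y * h := by
      rw [← map_inv, MulAut.conjNormal_apply, inv_inv]
    rw [h4] at h3
    have h5 := mul_mem (mul_mem hh h3) (inv_mem hh)
    have : h * (h⁻¹ * (y : H) * h) * h⁻¹ = y := by group
    rwa [this] at h5
  refine ⟨Q, ?_, huniq⟩
  let N : Subgroup H := (MulAction.stabilizer (MulAut X) Q).comap MulAut.conjNormal
  have hN : H₀ ≤ N := fun h hh => hle h hh
  have hN' : N = H₀ := by
    rcases hmax.le_iff.1 hN with h | h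
    · exfalso
      have h3 : ((Q : Subgroup X).map X.subtype).Normal := by
        constructor
        rintro _ ⟨x, hx, rfl⟩ g
        have h4 : (MulAut.conjNormal g : MulAut X) • Q = Q := by
          have : g ∈ N := by rw [h]; trivial
          exact this
        refine ⟨MulAut.conjNormal g x, ?_, MulAut.conjNormal_apply _ _⟩
        show MulAut.conjNormal g x ∈ Q
        rw [← h4, mem_aut_smul, ← MulAut.mul_apply, inv_mul_cancel]
        exact hx
      have h4 := hcore _ h3 (by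
        rintro _ ⟨x, hx, rfl⟩
        exact hQ x hx)
      rw [Subgroup.map_eq_bot_iff_of_injective _ X.subtype_injective] at h4
      have h5 := Q.not_dvd_index
      rw [h4, Subgroup.index_bot] at h5
      exact h5 h2
    · exact h
  intro h
  rw [← hN']
  exact Iff.rfl

/-- an involution of `X` fixes exactly one coset of `H₀` -/
theorem fix_one [X.Normal] [IsSimpleGroup X] (hr : R1 X) (h2 : 2 ∣ Nat.card X) (hmax : IsCoatom H₀)
    (hcore : ∀ N : Subgroup H, N.Normal → N ≤ H₀ → N = ⊥) (hodd : Odd H₀.index)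
    {a : H} (haX : a ∈ X) (haH : a ∈ H₀) (ha : a * a = 1) (ha1 : a ≠ 1) {h : H} (hh : h * a * h⁻¹ ∈ H₀) : h ∈ H₀ := by
  obtain ⟨Q, hQ, huniq⟩ := norm_eq hr h2 hmax hcore hodd
  have hXH : ¬ X ≤ H₀ := by
    intro h
    have h1 := hcore X inferInstance h
    rw [h1, Nat.card_congr (Equiv.refl _)] at h2
    rw [Subgroup.card_bot] at h2
    omega
  have hs : H₀ ⊔ X = ⊤ := by
    rcases hmax.le_iff.1 (le_sup_left : H₀ ≤ H₀ ⊔ X) with h | h
    · exact h
    · exact absurd (h ▸ le_sup_right) hXH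
  obtain ⟨-, -, -, hti⟩ := hr
  have hmem : ∀ x : X, (x : H) ∈ H₀ → x * x = 1 → x ∈ Q := by
    intro x hx hx2
    obtain ⟨R, hxR, hR⟩ := exists_syl_mem hs hodd hx hx2
    rw [← huniq R hR]; exact hxR
  have h3 : (⟨a, haX⟩ : X) ∈ Q := hmem _ haH (Subtype.ext ha)
  have hn : X.Normal := inferInstance
  have h4 : (⟨h * a * h⁻¹, hn.conj_mem a haX h⟩ : X) ∈ Q := hmem _ hh (Subtype.ext (by
    show h * a * h⁻¹ * (h * a * h⁻¹) = 1
    have : h * a * h⁻¹ * (h * a * h⁻¹) = h * (a * a) * h⁻¹ := by group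
    rw [this, ha]; group))
  have h5 : (⟨a, haX⟩ : X) ∈ (MulAut.conjNormal h⁻¹ : MulAut X) • Q := by
    rw [mem_aut_smul]
    have : ((MulAut.conjNormal h⁻¹)⁻¹ : MulAut X) ⟨a, haX⟩ = ⟨h * a * h⁻¹, hn.conj_mem a haX h⟩ := by
      rw [← map_inv, inv_inv]
      exact Subtype.ext (MulAut.conjNormal_apply _ _)
    rw [this]; exact h4
  have h6 := hti _ _ _ h5 h3 (fun h => ha1 (congrArg Subtype.val h))
  have h7 := (hQ h⁻¹).2 h6
  exact inv_mem_iff.1 h7

end normal

end Cfsg.Agent.OddCyclic.Eq.PrimR
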