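import Cfsg.Agent.OddCyclic.T1Module

/-!
# Sections of a group and the action on them

`Sec K W Y`: `Y` normal in `W`, `K` normalises `W` and `Y`; `UQ = W/Y`, `act : K →* MulAut (W/Y)`.
`SecM K W Y`: moreover `w² ∈ Y` for `w ∈ W`; `VQ` is the same group, commutative.
-/

set_option autoImplicit false
set_option linter.unusedSectionVars false

namespace Cfsg.Agent.OddCyclic.Eq.SecQ

open Subgroup Cfsg.Agent.OddCyclic.T1Module

universe u

variable {G : Type u} [Group G] {K W Y : Subgroup G}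

/-- `K` acts on the section `W / Y` -/
structure Sec (K W Y : Subgroup G) : Prop where
  YW : Y ≤ W
  WY : W ≤ normalizer (Y : Set G)
  KW : K ≤ normalizer (W : Set G)
  KY : K ≤ normalizer (Y : Set G)

theorem Sec.normal (s : Sec K W Y) : (Y.subgroupOf W).Normal := normal_subgroupOf_of_le_normalizer s.WY

/-- `W / Y` -/
def UQ (_ : Sec K W Y) : Type u := ↥W ⧸ Y.subgroupOf W

instance (s : Sec K W Y) : Group (UQ s) :=
  letI := s.normal
  inferInstanceAs (Group (↥W ⧸ Y.subgroupOf W))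

instance [Finite G] (s : Sec K W Y) : Finite (UQ s) := inferInstanceAs (Finite (↥W ⧸ Y.subgroupOf W))

/-- the class of an element of `W` -/
def mk (s : Sec K W Y) : W →* UQ s :=
  letI := s.normal
  QuotientGroup.mk' (Y.subgroupOf W)

theorem mk_surj (s : Sec K W Y) : Function.Surjective (mk s) := by
  have := s.normal
  exact QuotientGroup.mk'_surjective (Y.subgroupOf W)

theorem mk_ker (s : Sec K W Y) : (mk s).ker = Y.subgroupOf W := by
  have := s.normal
  exact QuotientGroup.ker_mk' (Y.subgroupOf W)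

theorem mk_eq_one (s : Sec K W Y) {w : W} : mk s w = 1 ↔ (w : G) ∈ Y := by
  rw [← MonoidHom.mem_ker, mk_ker, mem_subgroupOf]

theorem mk_eq (s : Sec K W Y) {v w : W} : mk s v = mk s w ↔ (v : G) * (w : G)⁻¹ ∈ Y := by
  rw [← mul_inv_eq_one, ← map_inv, ← map_mul, mk_eq_one]
  rfl

theorem conjW (s : Sec K W Y) (k : K) (w : W) : (k : G) * w * (k : G)⁻¹ ∈ W :=
  (mem_normalizer_iff.1 (s.KW k.2) w).1 w.2

/-- conjugation on `W` -/
def cjW (s : Sec K W Y) (k : K) : W →* W where
  toFun w := ⟨(k : G) * w * (k : G)⁻¹, conjW s k w⟩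
  map_one' := by
    apply Subtype.ext
    show (k : G) * 1 * (k : G)⁻¹ = 1
    group
  map_mul' v w := by
    apply Subtype.ext
    show (k : G) * (v * w) * (k : G)⁻¹ = (k : G) * v * (k : G)⁻¹ * ((k : G) * w * (k : G)⁻¹)
    group

theorem cjW_coe (s : Sec K W Y) (k : K) (w : W) : ((cjW s k w : W) : G) = (k : G) * w * (k : G)⁻¹ := rfl

theorem cjW_one (s : Sec K W Y) (w : W) : cjW s 1 w = w := by
  apply Subtype.ext
  show ((1 : K) : G) * w * ((1 : K) : G)⁻¹ = w
  simp

theorem cjW_mul (s : Sec K W Y) (k l : K) (w : W) : cjW s (k * l) w = cjW s k (cjW s l w) := by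
  apply Subtype.ext
  show ((k * l : K) : G) * w * ((k * l : K) : G)⁻¹ = (k : G) * ((l : G) * w * (l : G)⁻¹) * (k : G)⁻¹
  push_cast
  group

/-- the action of an element of `K` on `W / Y` -/
noncomputable def actF (s : Sec K W Y) (k : K) : UQ s →* UQ s :=
  (mk s).liftOfSurjective (mk_surj s) ⟨(mk s).comp (cjW s k), by
    intro w hw
    rw [MonoidHom.mem_ker, mk_eq_one] at hw
    rw [MonoidHom.mem_ker, MonoidHom.comp_apply, mk_eq_one]
    exact (mem_normalizer_iff.1 (s.KY k.2) w).1 hw⟩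

theorem actF_mk (s : Sec K W Y) (k : K) (w : W) : actF s k (mk s w) = mk s (cjW s k w) :=
  MonoidHom.liftOfRightInverse_comp_apply _ _ _ _ _

/-- the action of `K` on `W / Y` -/
noncomputable def act (s : Sec K W Y) : K →* MulAut (UQ s) where
  toFun k :=
    { toFun := actF s k
      invFun := actF s k⁻¹
      left_inv := fun x => by
        obtain ⟨w, rfl⟩ := mk_surj s x
        rw [actF_mk, actF_mk, ← cjW_mul, inv_mul_cancel, cjW_one]
      right_inv := fun x => by
        obtain ⟨w, rfl⟩ := mk_surj s x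
        rw [actF_mk, actF_mk, ← cjW_mul, mul_inv_cancel, cjW_one]
      map_mul' := fun x y => map_mul _ x y }
  map_one' := by
    ext x
    obtain ⟨w, rfl⟩ := mk_surj s x
    show actF s 1 (mk s w) = mk s w
    rw [actF_mk, cjW_one]
  map_mul' k l := by
    ext x
    obtain ⟨w, rfl⟩ := mk_surj s x
    show actF s (k * l) (mk s w) = actF s k (actF s l (mk s w))
    rw [actF_mk, actF_mk, actF_mk, cjW_mul]

theorem act_mk (s : Sec K W Y) (k : K) (w : W) : act s k (mk s w) = mk s (cjW s k w) := actF_mk s k w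

theorem act_eq_iff (s : Sec K W Y) (k : K) (w : W) :
    act s k (mk s w) = mk s w ↔ (k : G) * w * (k : G)⁻¹ * (w : G)⁻¹ ∈ Y := by
  rw [act_mk, mk_eq]
  rfl

/-- the trivial automorphisms -/
theorem act_eq_one (s : Sec K W Y) (k : K) :
    act s k = 1 ↔ ∀ w ∈ W, (k : G) * w * (k : G)⁻¹ * w⁻¹ ∈ Y := by
  constructor
  · intro h w hw
    rw [← act_eq_iff s k ⟨w, hw⟩, h]
    rfl
  · intro h
    ext x
    obtain ⟨w, rfl⟩ := mk_surj s x
    exact (act_eq_iff s k w).2 (h w w.2)

/-! ### elementary abelian sections -/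

/-- `K` acts on the elementary abelian section `W / Y` -/
structure SecM (K W Y : Subgroup G) : Prop extends Sec K W Y where
  sq : ∀ w ∈ W, w * w ∈ Y

/-- `W / Y` -/
def VQ (s : SecM K W Y) : Type u := UQ s.toSec

theorem uq_sq (s : SecM K W Y) (x : UQ s.toSec) : x * x = 1 := by
  obtain ⟨w, rfl⟩ := mk_surj s.toSec x
  rw [← map_mul, mk_eq_one]
  exact s.sq w w.2

theorem uq_comm (s : SecM K W Y) (a b : UQ s.toSec) : a * b = b * a := by
  have h1 := uq_sq s (a * b)
  have h2 := uq_sq s a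
  have h3 := uq_sq s b
  have e1 : a⁻¹ = a := inv_eq_of_mul_eq_one_left h2
  have e2 : b⁻¹ = b := inv_eq_of_mul_eq_one_left h3
  have e3 : (a * b)⁻¹ = a * b := inv_eq_of_mul_eq_one_left h1
  rw [mul_inv_rev, e1, e2] at e3
  exact e3.symm

instance (s : SecM K W Y) : CommGroup (VQ s) :=
  { (inferInstance : Group (UQ s.toSec)) with
    mul_comm := uq_comm s }

instance [Finite G] (s : SecM K W Y) : Finite (VQ s) := inferInstanceAs (Finite (UQ s.toSec))

theorem vq_sq (s : SecM K W Y) (x : VQ s) : x * x = 1 := uq_sq s x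

/-- the class of an element of `W` -/
def mkM (s : SecM K W Y) : W →* VQ s := mk s.toSec

theorem mkM_surj (s : SecM K W Y) : Function.Surjective (mkM s) := mk_surj s.toSec

theorem mkM_eq_one (s : SecM K W Y) {w : W} : mkM s w = 1 ↔ (w : G) ∈ Y := mk_eq_one s.toSec

theorem mkM_eq (s : SecM K W Y) {v w : W} : mkM s v = mkM s w ↔ (v : G) * (w : G)⁻¹ ∈ Y := mk_eq s.toSec

/-- the action of `K` on `W / Y` -/
noncomputable def actM (s : SecM K W Y) : K →* MulAut (VQ s) := act s.toSec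

theorem actM_mk (s : SecM K W Y) (k : K) (w : W) : actM s k (mkM s w) = mkM s (cjW s.toSec k w) := act_mk s.toSec k w

theorem actM_eq_iff (s : SecM K W Y) (k : K) (w : W) :
    actM s k (mkM s w) = mkM s w ↔ (k : G) * w * (k : G)⁻¹ * (w : G)⁻¹ ∈ Y := act_eq_iff s.toSec k w

theorem actM_eq_one (s : SecM K W Y) (k : K) :
    actM s k = 1 ↔ ∀ w ∈ W, (k : G) * w * (k : G)⁻¹ * w⁻¹ ∈ Y := act_eq_one s.toSec k

/-- `|W/Y : C_{W/Y}(A)| ≤ |W : C_W(A)|` -/
theorem index_CS_le [Finite G] (s : SecM K W Y) {X : Type*} [Group X] (ρ : X →* MulAut (VQ s)) (A' : Subgroup X)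
    {A : Subgroup G} (hA : ∀ a ∈ A', ∃ b : K, (b : G) ∈ A ∧ ρ a = actM s b) :
    (CS ρ A').index ≤ (centralizer (A : Set G)).relIndex W := by
  have h1 : (centralizer (A : Set G)).subgroupOf W ≤ (CS ρ A').comap (mkM s) := by
    intro w hw
    rw [mem_comap, mem_CS]
    intro a ha
    obtain ⟨b, hb, hab⟩ := hA a ha
    rw [hab, actM_eq_iff]
    have h2 := mem_centralizer_iff.1 (mem_subgroupOf.1 hw) b hb
    have h3 : (b : G) * w * (b : G)⁻¹ * (w : G)⁻¹ = 1 := by rw [h2]; group
    rw [h3]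
    exact one_mem _
  have h2 : ((CS ρ A').comap (mkM s)).index = (CS ρ A').index := index_comap_of_surjective _ (mkM_surj s)
  rw [← h2]
  exact Nat.le_of_dvd (Nat.pos_of_ne_zero Subgroup.index_ne_zero_of_finite) (Subgroup.index_dvd_of_le h1)

end Cfsg.Agent.OddCyclic.Eq.SecQ
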