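import Mathlib

/-!
# The action of `C` on a section `W / Z` of normal subgroups
-/

set_option autoImplicit false

namespace Cfsg.Agent.OddCyclic.Eq

open Subgroup

universe u

variable {G : Type u} [Group G]

/-- `W ≤ C`, `Z` and `W` normal in `C`, `W/Z` abelian: the action of `C` on `W/Z` -/
theorem exists_qact {C W Z : Subgroup G} (hWC : W ≤ C) (hCW : C ≤ normalizer (W : Set G))
    (hCZ : C ≤ normalizer (Z : Set G)) (hab : ∀ x ∈ W, ∀ y ∈ W, x * y * x⁻¹ * y⁻¹ ∈ Z) :
    ∃ (N : Type u) (_ : CommGroup N) (ρ : ↥C →* MulAut N) (p : ↥W →* N), Function.Surjective p ∧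
      (∀ w, p w = 1 ↔ (w : G) ∈ Z) ∧
      ∀ (c : C) (w w' : W), (w' : G) = c * w * c⁻¹ → ρ c (p w) = p w' := by
  have hWn : (W.subgroupOf C).Normal := by
    constructor
    intro n hn g
    rw [mem_subgroupOf] at hn ⊢
    exact (mem_normalizer_iff.1 (hCW g.2) n).1 hn
  have hZn : (Z.subgroupOf C).Normal := by
    constructor
    intro n hn g
    rw [mem_subgroupOf] at hn ⊢
    exact (mem_normalizer_iff.1 (hCZ g.2) n).1 hn
  let q : ↥C →* ↥C ⧸ Z.subgroupOf C := QuotientGroup.mk' (Z.subgroupOf C)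
  let Nb : Subgroup (↥C ⧸ Z.subgroupOf C) := (W.subgroupOf C).map q
  have hNb : Nb.Normal := hWn.map q (QuotientGroup.mk'_surjective _)
  have hcomm : ∀ a b : Nb, a * b = b * a := by
    rintro ⟨_, a, ha, rfl⟩ ⟨_, b, hb, rfl⟩
    apply Subtype.ext
    change q a * q b = q b * q a
    rw [← map_mul, ← map_mul]
    have h1 : (b * a)⁻¹ * (a * b) ∈ Z.subgroupOf C := by
      rw [mem_subgroupOf]
      have h2 : (a : G)⁻¹ ∈ W := W.inv_mem ha
      have h3 : (b : G)⁻¹ ∈ W := W.inv_mem hb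
      have h4 := hab _ h2 _ h3
      have h5 : ((b * a)⁻¹ * (a * b) : C) = (a : G)⁻¹ * (b : G)⁻¹ * ((a : G)⁻¹)⁻¹ * ((b : G)⁻¹)⁻¹ := by
        push_cast
        group
      rw [h5]
      exact h4
    exact (QuotientGroup.eq.2 h1).symm
  let iN : CommGroup Nb := { (inferInstance : Group Nb) with mul_comm := hcomm }
  let ρ : ↥C →* MulAut Nb := (MulAut.conjNormal (H := Nb)).comp q
  let p : ↥W →* Nb := (q.comp (inclusion hWC)).codRestrict Nb (by
    intro w
    exact ⟨inclusion hWC w, w.2, rfl⟩)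
  refine ⟨Nb, iN, ρ, p, ?_, ?_, ?_⟩
  · rintro ⟨_, a, ha, rfl⟩
    refine ⟨⟨a, ha⟩, ?_⟩
    apply Subtype.ext
    rfl
  · intro w
    have h1 : p w = 1 ↔ q (inclusion hWC w) = 1 := by
      constructor
      · intro h
        exact congrArg Subtype.val h
      · intro h
        apply Subtype.ext
        exact h
    rw [h1]
    exact QuotientGroup.eq_one_iff _
  · intro c w w' hw'
    apply Subtype.ext
    have h1 : ((ρ c (p w) : Nb) : ↥C ⧸ Z.subgroupOf C) = q c * q (inclusion hWC w) * (q c)⁻¹ :=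
      MulAut.conjNormal_apply _ _
    rw [h1, ← map_inv, ← map_mul, ← map_mul]
    change _ = q (inclusion hWC w')
    congr 1
    apply Subtype.ext
    exact hw'.symm

end Cfsg.Agent.OddCyclic.Eq
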