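import Cfsg.Agent.OddCyclic.Eq.BaseTwo
import Cfsg.Agent.OddCyclic.NatNonab.Main

/-!
# (E_q), Part I, (3.1): `⟨V^{C(Z_J)}⟩` is abelian

* `V_le_o2` : `V ≤ O₂(C(Z_J))`;
* `comm_mem` : `[V, V^g] ≤ Z_J` for `g ∈ N(Z_J)`;
* `ab` : `[V, V^x] = 1` for `x ∈ C(Z_J)` (from `NN.false`).
-/

set_option autoImplicit false
set_option linter.unusedSectionVars false

namespace Cfsg.Agent.OddCyclic.Eq.Ab

open Subgroup Cfsg Cfsg.Agent.ZN Cfsg.Agent.ZN.ChoiceBase
open Cfsg.Agent.MinSimple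
open Cfsg.Agent.OddCyclic.RedU (EqOne)
open Cfsg.Agent.OddCyclic.Eq.Base
open Cfsg.Agent.OddCyclic.T1Sl2 (up dg ww)
open Cfsg.Agent.OddCyclic.T1Defs (OddCyc)
open Matrix (SpecialLinearGroup)

universe u

variable {G : Type u} [Group G] [Finite G]

/-- a normal subgroup of a group of characteristic 2 has characteristic 2 -/
theorem char2_of_normal {N X : Subgroup G} (hN : N ⊓ centralizer (o2 N : Set G) ≤ o2 N) (hXN : X ≤ N)
    (hn : N ≤ normalizer (X : Set G)) : X ⊓ centralizer (o2 X : Set G) ≤ o2 X := by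
  have hf : Fact (Nat.Prime 2) := ⟨Nat.prime_two⟩
  have hNX : X ⊓ o2 N ≤ o2 X := Block.le_o2 ((Block.o2_isPGroup N).to_le inf_le_right) inf_le_left (by
    refine Block.le_normalizer_of_forall fun l hl m hm => Subgroup.mem_inf.2 ⟨?_, ?_⟩
    · exact mul_mem (mul_mem hl hm.1) (inv_mem hl)
    · exact Block.conj_mem_of_normalizer (Block.le_normalizer_o2 N) (hXN hl) hm.2)
  -- elements of odd order of `C_X(O₂(X))` are trivial
  have key : ∀ c ∈ X ⊓ centralizer (o2 X : Set G), Odd (orderOf c) → c = 1 := by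
    intro c hc hodd
    have hcN : c ∈ N ⊓ centralizer (o2 N : Set G) := by
      refine Subgroup.mem_inf.2 ⟨hXN hc.1, ?_⟩
      rw [mem_centralizer_iff]
      intro q hq
      have h1 : q * c * q⁻¹ * c⁻¹ ∈ o2 X := by
        refine hNX (Subgroup.mem_inf.2 ⟨?_, ?_⟩)
        · exact mul_mem (Block.conj_mem_of_normalizer hn (Block.o2_le N hq) hc.1) (inv_mem hc.1)
        · have e : q * c * q⁻¹ * c⁻¹ = q * (c * q⁻¹ * c⁻¹) := by group
          rw [e]
          exact mul_mem hq (Block.conj_mem_of_normalizer (Block.le_normalizer_o2 N) (hXN hc.1) (inv_mem hq))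
      obtain ⟨u, hu⟩ : ∃ u, u = q * c * q⁻¹ * c⁻¹ := ⟨_, rfl⟩
      rw [← hu] at h1
      have h2 : Commute u c := mem_centralizer_iff.1 hc.2 u h1
      have h3 : q * c * q⁻¹ = u * c := by rw [hu]; group
      have h4 : q * c ^ orderOf c * q⁻¹ = u ^ orderOf c * c ^ orderOf c := by
        rw [← conj_pow, h3, h2.mul_pow]
      rw [pow_orderOf_eq_one, mul_one, mul_one, mul_inv_cancel] at h4
      obtain ⟨k, hk⟩ := Block.o2_isPGroup X ⟨u, h1⟩
      have hk1 : u ^ 2 ^ k = 1 := congrArg Subtype.val hk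
      have h5 : orderOf u ∣ orderOf c := orderOf_dvd_of_pow_eq_one h4.symm
      have h6 : orderOf u ∣ 2 ^ k := orderOf_dvd_of_pow_eq_one hk1
      have h7 : Nat.Coprime (orderOf c) (2 ^ k) := Nat.Coprime.pow_right k (Nat.coprime_two_right.2 hodd)
      have h8 : u = 1 := orderOf_eq_one_iff.1 (Nat.eq_one_of_dvd_coprimes h7 h5 h6)
      rw [h8, one_mul] at h3
      calc q * c = q * c * q⁻¹ * q := by group
        _ = c * q := by rw [h3]
    obtain ⟨k, hk⟩ := Block.o2_isPGroup N ⟨c, hN hcN⟩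
    have hk1 : c ^ 2 ^ k = 1 := congrArg Subtype.val hk
    have h6 : orderOf c ∣ 2 ^ k := orderOf_dvd_of_pow_eq_one hk1
    exact orderOf_eq_one_iff.1 (Nat.eq_one_of_dvd_coprimes
      (Nat.Coprime.pow_right k (Nat.coprime_two_right.2 hodd)) dvd_rfl h6)
  have hp : IsPGroup 2 (X ⊓ centralizer (o2 X : Set G) : Subgroup G) := by
    rintro ⟨c, hc⟩
    obtain ⟨a, m, hm, hnm⟩ := Nat.exists_eq_pow_mul_and_not_dvd (orderOf_pos c).ne' 2 (by norm_num)
    refine ⟨a, Subtype.ext ?_⟩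
    show c ^ 2 ^ a = 1
    refine key _ (pow_mem hc _) ?_
    rw [orderOf_pow, hnm, Nat.gcd_eq_right (dvd_mul_right (2 ^ a) _), Nat.mul_div_cancel_left _ (by positivity)]
    exact Nat.not_even_iff_odd.1 fun h0 => hm (even_iff_two_dvd.1 h0)
  refine Block.le_o2 hp inf_le_left ?_
  have h9 : X ≤ normalizer ((centralizer (o2 X : Set G) : Subgroup G) : Set G) := by
    intro x hx
    rw [mem_normalizer_iff_cj, cj_centralizer, cj_eq_of_mem_normalizer (Block.le_normalizer_o2 X hx)]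
  exact (le_inf le_normalizer h9).trans inf_normalizer_le_normalizer_inf

variable {S : Sylow 2 G} {L V : Subgroup G} {q : ℕ}

/-- `Z_J` -/
abbrev ZJ (S : Sylow 2 G) : Subgroup G := zc (bau (S : Subgroup G))

theorem ZJ_pgroup (S : Sylow 2 G) : IsPGroup 2 (ZJ S) :=
  S.isPGroup'.to_le ((Block.zc_le _).trans (ChoiceBase.bau_le _))

theorem ZJ_ne (h : EqOne S L V q) : ZJ S ≠ ⊥ := by
  obtain ⟨z, hz, hz1⟩ := exists_ne_zc h
  intro h0
  have h1 : z ∈ (⊥ : Subgroup G) := h0 ▸ hz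
  exact hz1 (mem_bot.1 h1)

/-- `S` normalises `Z_J` -/
theorem S_le (S : Sylow 2 G) : (S : Subgroup G) ≤ normalizer (ZJ S : Set G) := by
  intro s hs
  have h1 : cj s (S : Subgroup G) = S := cj_eq_of_mem_normalizer (le_normalizer hs)
  rw [mem_normalizer_iff_cj, ZJ, ChoiceBase.zc_bau, ← zj_cj, h1]

theorem cent_norm (S : Sylow 2 G) :
    normalizer (ZJ S : Set G) ≤ normalizer ((centralizer (ZJ S : Set G) : Subgroup G) : Set G) := by
  intro x hx
  rw [mem_normalizer_iff_cj, cj_centralizer, cj_eq_of_mem_normalizer hx]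

/-- `C(Z_J)` has characteristic 2 -/
theorem char2_cent (h : EqOne S L V q) : centralizer (ZJ S : Set G) ⊓
    centralizer (o2 (centralizer (ZJ S : Set G)) : Set G) ≤ o2 (centralizer (ZJ S : Set G)) :=
  char2_of_normal (Basic.char2_normalizer h.cx.char2 (ZJ_pgroup S) (ZJ_ne h)) (centralizer_le_normalizer _)
    (cent_norm S)

theorem o2_norm (S : Sylow 2 G) :
    normalizer (ZJ S : Set G) ≤ normalizer (o2 (centralizer (ZJ S : Set G)) : Set G) := by
  intro x hx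
  have h1 := cent_norm S hx
  rw [mem_normalizer_iff_cj] at h1 ⊢
  rw [← pCore_cj, h1]

/-- `O₂(C(Z_J)) ≤ B` -/
theorem o2_le_bau (S : Sylow 2 G) : o2 (centralizer (ZJ S : Set G)) ≤ bau (S : Subgroup G) := by
  have hf : Fact (Nat.Prime 2) := ⟨Nat.prime_two⟩
  have h1 : IsPGroup 2 ((S : Subgroup G) ⊔ o2 (centralizer (ZJ S : Set G)) : Subgroup G) :=
    IsPGroup.to_sup_of_normal_right' S.isPGroup' (Block.o2_isPGroup _) ((S_le S).trans (o2_norm S))
  have h2 := S.is_maximal' h1 le_sup_left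
  have h3 : o2 (centralizer (ZJ S : Set G)) ≤ (S : Subgroup G) := by
    have : (S : Subgroup G) ⊔ o2 (centralizer (ZJ S : Set G)) = S := h2
    rw [← this]
    exact le_sup_right
  intro x hx
  rw [mem_bau]
  refine ⟨h3 hx, ?_⟩
  have h4 := mem_centralizer_iff.1 (Block.o2_le _ hx)
  rw [ZJ, ChoiceBase.zc_bau] at h4
  exact h4

variable {F : Type} [Field F] [Fintype F] [CharP F 2] {e : F → F → G} {φ : L →* SpecialLinearGroup (Fin 2) F}

/-- `[B, V] ≤ Z_J` -/
theorem comm_B (h : EqOne S L V q) (c : Co (bau (S : Subgroup G)) L V e φ) {b v : G} (hb : b ∈ bau (S : Subgroup G))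
    (hv : v ∈ V) : b * v * b⁻¹ * v⁻¹ ∈ ZJ S := by
  obtain ⟨t, ht⟩ := c.act_B hb
  obtain ⟨x, y, rfl⟩ := (c.mem v).mp hv
  rw [ht]
  refine (mem_zc h c).mpr ⟨t * y, ?_⟩
  have h1 : e (x + t * y) y = e (t * y) 0 * e x y := by rw [← c.add, zero_add, add_comm]
  rw [h1, mul_inv_cancel_right]

theorem V_le_bau (h : EqOne S L V q) : V ≤ bau (S : Subgroup G) := by
  rw [← h.zl_eq]; exact COnePair.zl_le h.blk

theorem V_le_cent (h : EqOne S L V q) : V ≤ centralizer (ZJ S : Set G) := by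
  intro v hv
  rw [mem_centralizer_iff]
  intro z hz
  exact h.comm z (h.zc_le hz) v hv

/-- **`V ≤ O₂(C(Z_J))`** -/
theorem V_le_o2 (h : EqOne S L V q) : V ≤ o2 (centralizer (ZJ S : Set G)) := by
  obtain ⟨F, _, _, _, e, φ, -, c⟩ := exists_co_of h
  set X := centralizer (ZJ S : Set G) with hX
  have hZZ : ∀ z ∈ ZJ S, ∀ x ∈ X, x * z = z * x := fun z hz x hx => (mem_centralizer_iff.1 hx z hz).symm
  have hZX : ∀ z ∈ ZJ S, z ∈ X := fun z hz => V_le_cent h (h.zc_le hz)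
  have hZsq : ∀ z ∈ ZJ S, z * z = 1 := fun z hz => h.sq z (h.zc_le hz)
  -- the stabiliser of the chain
  let D : Subgroup G :=
    { carrier := {x | x ∈ X ∧ ∀ z ∈ o2 X, x * z * x⁻¹ * z⁻¹ ∈ ZJ S}
      one_mem' := ⟨one_mem _, fun z _ => by simp⟩
      mul_mem' := by
        rintro a b ⟨ha, ha1⟩ ⟨hb, hb1⟩
        refine ⟨mul_mem ha hb, fun z hz => ?_⟩
        have e1 : a * b * z * (a * b)⁻¹ * z⁻¹ = (a * (b * z * b⁻¹ * z⁻¹) * a⁻¹) * (a * z * a⁻¹ * z⁻¹) := by group
        rw [e1, hZZ _ (hb1 z hz) a ha, mul_inv_cancel_right]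
        exact mul_mem (hb1 z hz) (ha1 z hz)
      inv_mem' := by
        rintro a ⟨ha, ha1⟩
        refine ⟨inv_mem ha, fun z hz => ?_⟩
        have e1 : a⁻¹ * z * a⁻¹⁻¹ * z⁻¹ = a⁻¹ * (a * z * a⁻¹ * z⁻¹)⁻¹ * a := by group
        have h2 := inv_mem (ha1 z hz)
        rw [e1, hZZ _ h2 _ (inv_mem ha), mul_assoc, inv_mul_cancel, mul_one]
        exact h2 }
  have hDX : D ≤ X := fun x hx => hx.1
  have hD : D ≤ o2 X := by
    refine Block.le_o2 ?_ hDX ?_
    · rintro ⟨x, hx, hx1⟩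
      have h1 : x * x ∈ o2 X := by
        refine char2_cent h (Subgroup.mem_inf.2 ⟨mul_mem hx hx, ?_⟩)
        rw [mem_centralizer_iff]
        intro z hz
        have h2 := hx1 z hz
        have h3 : x * x * z * (x * x)⁻¹ = (x * (x * z * x⁻¹ * z⁻¹) * x⁻¹) * ((x * z * x⁻¹ * z⁻¹) * z) := by group
        rw [hZZ _ h2 x hx, mul_inv_cancel_right, ← mul_assoc, hZsq _ h2, one_mul] at h3
        calc z * (x * x) = (x * x * z * (x * x)⁻¹) * (x * x) := by rw [h3]
          _ = x * x * z := by group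
      obtain ⟨n, hn⟩ := Block.o2_isPGroup X ⟨x * x, h1⟩
      refine ⟨n + 1, Subtype.ext ?_⟩
      show x ^ 2 ^ (n + 1) = 1
      have h2 : (x * x) ^ 2 ^ n = 1 := congrArg Subtype.val hn
      rw [pow_succ, mul_comm (2 ^ n) 2, pow_mul, pow_two]
      exact h2
    · refine Block.le_normalizer_of_forall ?_
      rintro g hg x ⟨hx, hx1⟩
      refine ⟨mul_mem (mul_mem hg hx) (inv_mem hg), fun z hz => ?_⟩
      have h1 : g⁻¹ * z * g ∈ o2 X := by
        have := Block.o2_conj (inv_mem hg) hz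
        rwa [inv_inv] at this
      have h2 := hx1 _ h1
      have h3 : g * x * g⁻¹ * z * (g * x * g⁻¹)⁻¹ * z⁻¹ =
          g * (x * (g⁻¹ * z * g) * x⁻¹ * (g⁻¹ * z * g)⁻¹) * g⁻¹ := by group
      rw [h3, hZZ _ h2 g hg, mul_inv_cancel_right]
      exact h2
  refine le_trans ?_ hD
  intro v hv
  refine ⟨V_le_cent h hv, fun z hz => ?_⟩
  have h1 := comm_B h c (o2_le_bau S hz) hv
  have h2 : v * z * v⁻¹ * z⁻¹ = (z * v * z⁻¹ * v⁻¹)⁻¹ := by group
  rw [h2]
  exact inv_mem h1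

/-- `[V, V^g] ≤ Z_J` for `g ∈ N(Z_J)` -/
theorem comm_mem (h : EqOne S L V q) (c : Co (bau (S : Subgroup G)) L V e φ) {g v w : G}
    (hg : g ∈ normalizer (ZJ S : Set G)) (hv : v ∈ V) (hw : w ∈ V) :
    v * (g * w * g⁻¹) * v⁻¹ * (g * w * g⁻¹)⁻¹ ∈ ZJ S := by
  have h1 : g * w * g⁻¹ ∈ o2 (centralizer (ZJ S : Set G)) :=
    Block.conj_mem_of_normalizer (o2_norm S) hg (V_le_o2 h hw)
  have h2 := comm_B h c (o2_le_bau S h1) hv
  have h3 : v * (g * w * g⁻¹) * v⁻¹ * (g * w * g⁻¹)⁻¹ = (g * w * g⁻¹ * v * (g * w * g⁻¹)⁻¹ * v⁻¹)⁻¹ := by group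
  rw [h3]
  exact inv_mem h2

/-- the torus elements -/
theorem exists_tor (_h : EqOne S L V q) (c : Co (bau (S : Subgroup G)) L V e φ) {l : F} (hl : l ≠ 0) :
    ∃ n ∈ L, n ^ (Fintype.card F - 1) = 1 ∧ ∀ x y, n * e x y * n⁻¹ = e (l * x) (l⁻¹ * y) := by
  classical
  obtain ⟨n, hn⟩ := c.surj (dg (Units.mk0 l hl))
  set m := Fintype.card F - 1 with hm
  have hd : dg (Units.mk0 l hl) ^ m = 1 := by
    rw [← T1Sl2.dgHom_apply, ← map_pow]
    have h1 : (Units.mk0 l hl) ^ m = 1 := by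
      have := pow_card_eq_one (x := Units.mk0 l hl)
      rwa [Fintype.card_units] at this
    rw [h1, map_one]
  have hk : ((n ^ m : L) : G) ∈ o2 L := by rw [← c.ker, map_pow, hn, hd]
  obtain ⟨k, hk⟩ := Block.o2_isPGroup L ⟨_, hk⟩
  have hk' : ((n ^ m : L) : G) ^ 2 ^ k = 1 := congrArg Subtype.val hk
  have hk1 : (n ^ m) ^ 2 ^ k = 1 := Subtype.ext (by rw [Subgroup.coe_pow]; exact hk')
  -- `j ≡ 1 mod m`, `j ≡ 0 mod 2^k`
  have hodd : Nat.Coprime m (2 ^ k) := by
    apply Nat.Coprime.pow_right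
    rw [Nat.coprime_two_right]
    obtain ⟨i, hi, hF⟩ := T1Sl2.card_pow F
    rw [hm, hF]
    obtain ⟨r, rfl⟩ := Nat.exists_eq_add_of_le' (show 1 ≤ i by omega)
    refine ⟨2 ^ r - 1, ?_⟩
    have : 1 ≤ 2 ^ r := Nat.one_le_two_pow
    rw [pow_succ]
    omega
  obtain ⟨j, hj1, hj2⟩ := Nat.chineseRemainder hodd 1 0
  have hj0 : 2 ^ k ∣ j := (Nat.modEq_zero_iff_dvd).mp hj2
  obtain ⟨i, rfl⟩ := hj0
  refine ⟨((n ^ (2 ^ k * i) : L) : G), (n ^ (2 ^ k * i)).2, ?_, ?_⟩
  · have h1 : (n ^ (2 ^ k * i)) ^ m = 1 := by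
      rw [← pow_mul, mul_comm, ← mul_assoc, pow_mul, pow_mul, hk1, one_pow]
    exact congrArg Subtype.val h1
  · have h2 : φ (n ^ (2 ^ k * i)) = dg (Units.mk0 l hl) := by
      rw [map_pow, hn]
      have h3 := pow_eq_pow_mod (2 ^ k * i) hd
      have h4 := pow_eq_pow_mod 1 hd
      rw [h3, show 2 ^ k * i % m = 1 % m from hj1, ← h4, pow_one]
    intro x y
    rw [c.act, h2]
    simp

/-- **(3.1)** -/
theorem ab (h : EqOne S L V q) {x : G} (hx : x ∈ centralizer (zc (bau (S : Subgroup G)) : Set G)) :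
    ∀ v ∈ V, ∀ w ∈ CompStandard.cj x V, v * w = w * v := by
  obtain ⟨F, _, _, _, e, φ, hq, c⟩ := exists_co_of h
  by_contra hcon
  push Not at hcon
  obtain ⟨v, hv, w', hw', hvw⟩ := hcon
  obtain ⟨w, hw, rfl⟩ := hw'
  have hxw : ¬ v * (x * w * x⁻¹) = (x * w * x⁻¹) * v := hvw
  have hLV := L_V c
  let Z2 : Subgroup G :=
    { carrier := {g | ∃ y, g = e 0 y}
      one_mem' := ⟨0, c.zero.symm⟩
      mul_mem' := by
        rintro _ _ ⟨y, rfl⟩ ⟨y', rfl⟩
        exact ⟨y + y', by rw [← c.add, zero_add]⟩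
      inv_mem' := by
        rintro _ ⟨y, rfl⟩
        exact ⟨y, inv_eq_of_mul_eq_one_left (c.sq 0 y)⟩ }
  have hab : ∀ x y, e x 0 * e 0 y = e x y := by
    intro x y
    rw [← c.add, add_zero, zero_add]
  have hS_cj : ∀ s ∈ (S : Subgroup G), ∃ (σ : F ≃+* F) (b d : F), d ≠ 0 ∧ ∀ y, s * e 0 y * s⁻¹ = e (b * σ y) (d * σ y) := by
    intro s hs
    obtain ⟨σ, a, b, c', d, hdet, hse⟩ := semi h c (h.S_V hs)
    have h1 : c' = 0 := by
      have h2 : s * e 1 0 * s⁻¹ ∈ ZJ S := Block.conj_mem_of_normalizer (S_le S) hs ((mem_zc h c).mpr ⟨1, rfl⟩)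
      obtain ⟨x', hx'⟩ := (mem_zc h c).mp h2
      rw [hse, map_zero, map_one, mul_one, mul_zero, mul_zero, mul_one, add_zero, add_zero] at hx'
      exact (c.ext hx').2
    refine ⟨σ, b, d, ?_, fun y => ?_⟩
    · rw [h1, mul_zero, add_zero] at hdet
      exact right_ne_zero_of_mul hdet
    · rw [hse, map_zero, mul_zero, mul_zero, zero_add, zero_add]
  have hNN : NatNonab.NN (S : Subgroup G) V (ZJ S) Z2 (fun x : F => e x 0) (fun y => e 0 y) :=
    { cyc := h.cx.cyc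
      four := by rw [hq]; exact h.blk.four
      co :=
        { a_add := fun x y => by
            show e (x + y) 0 = e x 0 * e y 0
            rw [← c.add, add_zero]
          b_add := fun x y => by
            show e 0 (x + y) = e 0 x * e 0 y
            rw [← c.add, add_zero]
          comm := fun x y => c.comm x 0 0 y
          mem₁ := fun g => mem_zc h c
          mem₂ := fun g => Iff.rfl
          mem := fun g => by
            rw [c.mem]
            constructor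
            · rintro ⟨x, y, rfl⟩
              exact ⟨x, y, (hab x y).symm⟩
            · rintro ⟨x, y, rfl⟩
              exact ⟨x, y, hab x y⟩
          inj := fun x y hxy => by
            rw [hab] at hxy
            exact c.inj x y hxy }
      swap := by
        obtain ⟨n, hn⟩ := c.surj (ww F)
        refine ⟨n, hLV n.2, fun x y => ?_⟩
        rw [hab, hab, c.act, hn]
        simp
      tor := by
        intro l hl
        obtain ⟨n, hn, h1, h2⟩ := exists_tor h c hl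
        refine ⟨n, hLV hn, h1, fun x y => ?_⟩
        rw [hab, hab, h2]
      two := S.isPGroup'
      le := S_le S
      syl := by
        have hf : Fact (Nat.Prime 2) := ⟨Nat.prime_two⟩
        exact Basic.not_dvd_relIndex S (S_le S)
      le' := h.S_V
      root := by
        intro s hs hsc
        obtain ⟨t, ht⟩ := root h c hq (h.S_V hs) hsc
        refine ⟨t, fun y => ?_⟩
        rw [hab, ht, zero_add]
      pts := by
        intro s hs
        obtain ⟨σ, b, d, hd, hse⟩ := hS_cj s hs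
        refine ⟨b * d⁻¹, fun y => ⟨d * σ y, ?_⟩⟩
        rw [hab, hse]
        congr 1
        field_simp
      soc := by
        intro s hs hss hsc
        show s ∈ zc (bau (S : Subgroup G))
        rw [ChoiceBase.zc_bau]
        apply ChoiceBase.zc_le_zj
        exact ChoiceBase.mem_zc.2 ⟨hs, by rw [pow_two]; exact hss, fun t ht => hsc t ht⟩
      cmm := fun g hg v hv w hw => comm_mem h c hg hv hw
      nonab := ⟨x, centralizer_le_normalizer _ hx, v, hv, w, hw, hxw⟩ }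
  refine hNN.false h.cx.sec ?_
  exact h.cx.toCtx.ne_top (ZJ_pgroup S) (ZJ_ne h)

end Cfsg.Agent.OddCyclic.Eq.Ab
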