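import Cfsg.Agent.OddCyclic.Eq.Fld

/-!
# (E_q) of `T_cyc`: the action on `Z_J`

* `abJ`: the elements of `N(B)` fixing `1 ≠ u ∈ Z_J` induce an abelian group on `Z_J`;
* `field_le`: `|C_{Z_J}(s)|² ≤ q` for `s ∈ N(B)`, an involution on `Z_J`;
* `mx`: `N(V)` is a maximal 2-local;
* `cov`: `V` is covered by the conjugates of `Z_J` under `L`.
-/

set_option autoImplicit false

namespace Cfsg.Agent.OddCyclic.Eq.Base

open Subgroup Cfsg Cfsg.Agent.ZN Cfsg.Agent.OddCyclic.COneBlk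
open Cfsg.Agent.OddCyclic.COneDefs (LBlk)
open Cfsg.Agent.OddCyclic.T1Sl2 (up dg ww)
open Cfsg.Agent.OddCyclic.T1Defs (OddCyc)
open Cfsg.Agent.OddCyclic.RedU (EqOne)
open Cfsg.Agent.OddCyclic.CompStandard (mem_normalizer_of_forall cj mem_cj)
open Matrix (SpecialLinearGroup)

universe u

variable {G : Type u} [Group G] [Finite G] {S : Sylow 2 G} {L V : Subgroup G} {q : ℕ}

/-- coordinates with `e 1 0 = z`, `1 ≠ z ∈ Z_J` -/
theorem exists_norm' (h : EqOne S L V q) {z : G} (hz : z ∈ zc (bau (S : Subgroup G))) (hz1 : z ≠ 1) :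
    ∃ (F : Type) (_ : Field F) (_ : Fintype F) (_ : CharP F 2) (e : F → F → G)
      (φ : L →* SpecialLinearGroup (Fin 2) F), Fintype.card F = q ∧ Co (bau (S : Subgroup G)) L V e φ ∧ e 1 0 = z := by
  obtain ⟨F, _, _, _, e, φ, hq, c⟩ := exists_co_of h
  obtain ⟨z₀, rfl⟩ := (mem_zc h c).mp hz
  have hz0 : z₀ ≠ 0 := by
    rintro rfl
    exact hz1 c.zero
  refine ⟨F, inferInstance, inferInstance, inferInstance, _, φ, hq, c.scale hz0, ?_⟩
  show e (z₀ * 1) (z₀ * 0) = e z₀ 0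
  rw [mul_one, mul_zero]

/-- the automorphism group of a finite field of characteristic 2 is abelian -/
theorem aut_comm {F : Type} [Field F] [Fintype F] [CharP F 2] (σ τ : RingAut F) : σ * τ = τ * σ := by
  let _ : Algebra (ZMod 2) F := ZMod.algebra F 2
  have key : ∀ ρ : RingAut F, ∀ x : ZMod 2, ρ (algebraMap (ZMod 2) F x) = algebraMap (ZMod 2) F x := by
    intro ρ x
    exact RingHom.congr_fun (Subsingleton.elim ((ρ : F ≃+* F).toRingHom.comp (algebraMap (ZMod 2) F)) (algebraMap (ZMod 2) F)) x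
  let f : RingAut F → (F ≃ₐ[ZMod 2] F) := fun ρ => AlgEquiv.ofRingEquiv (f := ρ) (key ρ)
  have h1 : f σ * f τ = f τ * f σ := IsCyclic.commGroup.mul_comm (f σ) (f τ)
  refine RingEquiv.ext fun x => ?_
  exact congrArg (fun g : F ≃ₐ[ZMod 2] F => g x) h1

/-- **abelian action** on `Z_J` -/
theorem abJ (h : EqOne S L V q) {z : G} (hz : z ∈ zc (bau (S : Subgroup G))) (hz1 : z ≠ 1) {a b : G}
    (ha : a ∈ normalizer (V : Set G)) (hb : b ∈ normalizer (V : Set G))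
    (haz : a * z = z * a) (hbz : b * z = z * b) :
    a * b * a⁻¹ * b⁻¹ ∈ centralizer (zc (bau (S : Subgroup G)) : Set G) := by
  obtain ⟨F, _, _, _, e, φ, hq, c, rfl⟩ := exists_norm' h hz hz1
  obtain ⟨σ, b₁, d₁, -, hσ⟩ := exists_sig h c ha haz
  obtain ⟨τ, b₂, d₂, -, hτ⟩ := exists_sig h c hb hbz
  have h1 : ∀ x, a * e x 0 * a⁻¹ = e (σ x) 0 := by
    intro x
    rw [hσ, map_zero, mul_zero, mul_zero, add_zero]
  have h2 : ∀ x, b * e x 0 * b⁻¹ = e (τ x) 0 := by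
    intro x
    rw [hτ, map_zero, mul_zero, mul_zero, add_zero]
  have h3 : ∀ x, (a * b) * e x 0 * (a * b)⁻¹ = (b * a) * e x 0 * (b * a)⁻¹ := by
    intro x
    have h4 : (a * b) * e x 0 * (a * b)⁻¹ = a * (b * e x 0 * b⁻¹) * a⁻¹ := by group
    have h5 : (b * a) * e x 0 * (b * a)⁻¹ = b * (a * e x 0 * a⁻¹) * b⁻¹ := by group
    rw [h4, h5, h1, h2, h1, h2]
    exact congrArg (fun ρ : RingAut F => e (ρ x) 0) (aut_comm σ τ)
  rw [mem_cent_zc h c]
  intro x
  obtain ⟨x', hx'⟩ : ∃ x', (b * a) * e x' 0 * (b * a)⁻¹ = e x 0 := by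
    refine ⟨(τ * σ)⁻¹ x, ?_⟩
    have h5 : ∀ y, (b * a) * e y 0 * (b * a)⁻¹ = b * (a * e y 0 * a⁻¹) * b⁻¹ := fun y => by group
    rw [h5, h1, h2]
    exact congrArg (fun y => e y 0) ((τ * σ).apply_symm_apply x)
  have h6 := h3 x'
  rw [hx'] at h6
  have h7 : e x' 0 = (b * a)⁻¹ * e x 0 * (b * a) := by rw [← hx']; group
  calc a * b * a⁻¹ * b⁻¹ * e x 0 * (a * b * a⁻¹ * b⁻¹)⁻¹ =
        (a * b) * ((b * a)⁻¹ * e x 0 * (b * a)) * (a * b)⁻¹ := by group
    _ = e x 0 := by rw [← h7, h6]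

/-- **field type elements** on `Z_J` -/
theorem field_le (h : EqOne S L V q) {s : G} (hs : s ∈ normalizer (bau (S : Subgroup G) : Set G))
    (hsJ : s ∉ centralizer (zc (bau (S : Subgroup G)) : Set G))
    (hs2 : s * s ∈ centralizer (zc (bau (S : Subgroup G)) : Set G)) :
    Nat.card (zc (bau (S : Subgroup G)) ⊓ centralizer {s} : Subgroup G) *
      Nat.card (zc (bau (S : Subgroup G)) ⊓ centralizer {s} : Subgroup G) ≤ q := by
  by_cases h0 : zc (bau (S : Subgroup G)) ⊓ centralizer {s} = ⊥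
  · rw [h0, card_bot]
    have := h.blk.four
    omega
  obtain ⟨z, hz, hz1⟩ : ∃ z ∈ zc (bau (S : Subgroup G)) ⊓ centralizer {s}, z ≠ 1 := by
    by_contra hcon
    push Not at hcon
    exact h0 ((Subgroup.eq_bot_iff_forall _).mpr hcon)
  obtain ⟨F, _, _, _, e, φ, hq, c, rfl⟩ := exists_norm' h hz.1 hz1
  obtain ⟨σ, b, d, -, hσ⟩ := exists_sig h c (h.nb_V hs) (mem_centralizer_iff.mp hz.2 s rfl)
  have h1 : σ ≠ 1 := fun h1 => hsJ ((sig_iff h c hσ).mpr h1)
  have h2 : ∀ x, σ (σ x) = x := by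
    intro x
    have h3 := sig_sq hσ x 0
    rw [(mem_cent_zc h c).mp hs2, map_zero, map_zero, mul_zero, mul_zero, add_zero] at h3
    exact (c.ext h3).1.symm
  rw [field_J h c hσ, ← card_fix h1 h2, hq]

/-- `N(V)` is a maximal 2-local -/
theorem mx (h : EqOne S L V q) {R : Subgroup G} (hVR : V ≤ R) (hR : IsPGroup 2 R)
    (hle : normalizer (V : Set G) ≤ normalizer (R : Set G)) : normalizer (R : Set G) ≤ normalizer (V : Set G) := by
  obtain ⟨F, _, _, _, e, φ, hq, c⟩ := exists_co_of h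
  refine h.le_NV _ ⟨R, hR, ?_, rfl⟩ L q h.blk ((L_V c).trans hle)
  rintro rfl
  have h1 : V = ⊥ := le_bot_iff.mp hVR
  have h2 := h.card
  rw [h1, card_bot] at h2
  have h3 := h.blk.four
  nlinarith

omit [Finite G] in
theorem two_of_sq {R : Subgroup G} (hR : ∀ x ∈ R, x * x = 1) : IsPGroup 2 R := fun x =>
  ⟨1, Subtype.ext (by rw [pow_one, pow_two]; exact hR x x.2)⟩

/-- `V` is covered by the conjugates of `Z_J` -/
theorem cov (h : EqOne S L V q) {v : G} (hv : v ∈ V) :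
    ∃ m ∈ L, m ∈ normalizer (V : Set G) ∧ v ∈ cj m (zc (bau (S : Subgroup G))) := by
  obtain ⟨F, _, _, _, e, φ, hq, c⟩ := exists_co_of h
  obtain ⟨x, y, rfl⟩ := (c.mem v).mp hv
  by_cases h0 : (x, y) = (0 : F × F)
  · refine ⟨1, one_mem _, one_mem _, ?_⟩
    have hx : x = 0 := congrArg Prod.fst h0
    have hy : y = 0 := congrArg Prod.snd h0
    rw [mem_cj, hx, hy, c.zero]
    simp only [inv_one, mul_one]
    exact one_mem _
  · obtain ⟨g, hg⟩ := Semi.exists_act (F := F) h0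
    obtain ⟨l, rfl⟩ := c.surj g
    refine ⟨l, l.2, L_V c l.2, ?_⟩
    rw [mem_cj, mem_zc h c]
    refine ⟨1, ?_⟩
    have h1 := c.act l 1 0
    have h2 : φ l 0 0 * 1 + φ l 0 1 * 0 = x := congrArg Prod.fst hg
    have h3 : φ l 1 0 * 1 + φ l 1 1 * 0 = y := congrArg Prod.snd hg
    rw [h2, h3] at h1
    rw [← h1]; group

end Cfsg.Agent.OddCyclic.Eq.Base
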