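import Cfsg.Agent.OddCyclic.KOF.Coord

/-!
# (E_q) of `T_cyc`: coordinates of the natural module

`exists_e`: `SL₂(F)`, `|F| = 2^m ≥ 4`, acts on an elementary abelian 2-group `V` of order `|F|²` such that elements of
odd order are fixed point free: `V = {e x y}` with the natural action.
-/

set_option autoImplicit false

namespace Cfsg.Agent.OddCyclic.Eq.Coord

open Matrix Finset Cfsg.Agent.Omega.KM Cfsg.Agent.OddCyclic.KOF
open Cfsg.Agent.OddCyclic.T1Sl2 (up dg)

universe u v

variable {F : Type u} [Field F] [Fintype F] [CharP F 2] {V : Type v} [CommGroup V]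

/-- natural coordinates -/
structure Nat3 (ρ : SpecialLinearGroup (Fin 2) F →* MulAut V) (X Y : Additive V →+ F) : Prop where
  inj : ∀ v w : V, X (.ofMul v) = X (.ofMul w) → Y (.ofMul v) = Y (.ofMul w) → v = w
  surj : ∀ x y : F, ∃ v : V, X (.ofMul v) = x ∧ Y (.ofMul v) = y
  X_act : ∀ (g : SpecialLinearGroup (Fin 2) F) (v : V),
    X (.ofMul (ρ g v)) = g 0 0 * X (.ofMul v) + g 0 1 * Y (.ofMul v)
  Y_act : ∀ (g : SpecialLinearGroup (Fin 2) F) (v : V),
    Y (.ofMul (ρ g v)) = g 1 0 * X (.ofMul v) + g 1 1 * Y (.ofMul v)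

theorem nat3_of {ρ : SpecialLinearGroup (Fin 2) F →* MulAut V} {d : ℕ} (hF : Fintype.card F = 2 ^ d)
    (ψ : Additive V ≃+ TM F (finRotate 1) d)
    (hψ : ∀ g x, ((ψ (addRho ρ g x) : TM F (finRotate 1) d) : (Fin 1 → Fin 2) → F) = tact (fun a => d * a) g (ψ x)) :
    Nat3 ρ (ev ψ fun _ => 0) (ev ψ fun _ => 1) := by
  have hact : ∀ g v i, ev ψ (fun _ => i) (.ofMul (ρ g v)) =
      g i 0 * ev ψ (fun _ => 0) (.ofMul v) + g i 1 * ev ψ (fun _ => 1) (.ofMul v) := by
    intro g v i
    rw [ev_apply, ← addRho_apply, hψ, tact_one]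
    simp [ev_apply]
  refine ⟨?_, ?_, fun g v => hact g v 0, fun g v => hact g v 1⟩
  · intro v w h0 h1
    have h2 : ψ (.ofMul v) = ψ (.ofMul w) := by
      apply Subtype.ext
      funext ε
      have h3 : ε = fun _ => ε 0 := by
        funext a
        rw [Subsingleton.elim a 0]
      rw [h3]
      rcases (show ε 0 = 0 ∨ ε 0 = 1 by omega) with h4 | h4
      · rw [h4]; exact h0
      · rw [h4]; exact h1
    exact Additive.ofMul.injective (ψ.injective h2)
  · intro x y
    let t : TM F (finRotate 1) d := ⟨fun ε => if ε 0 = 0 then x else y, fun ε => by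
      have h3 : ε ∘ finRotate 1 = ε := by
        funext a
        exact congrArg ε (Subsingleton.elim _ _)
      rw [h3, ← hF, FiniteField.pow_card]⟩
    refine ⟨(ψ.symm t).toMul, ?_, ?_⟩
    · change (ψ (ψ.symm t)).1 _ = x
      rw [ψ.apply_symm_apply]
      rfl
    · change (ψ (ψ.symm t)).1 _ = y
      rw [ψ.apply_symm_apply]
      rfl

/-- elements of odd order are fixed point free ⟹ irreducible -/
theorem irr [Finite V] {ρ : SpecialLinearGroup (Fin 2) F →* MulAut V} (hc : Nat.card V = Fintype.card F ^ 2)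
    (hfp : ∀ g : SpecialLinearGroup (Fin 2) F, Odd (orderOf g) → g ≠ 1 → ∀ v : V, ρ g v = v → v = 1)
    (W : Subgroup V) (hW : ∀ g, ∀ w ∈ W, ρ g w ∈ W) : W = ⊥ ∨ W = ⊤ := by
  classical
  by_cases hb : W = ⊥
  · exact Or.inl hb
  right
  obtain ⟨w, hw, hw1⟩ : ∃ w ∈ W, w ≠ 1 := by
    by_contra hcon
    push Not at hcon
    exact hb ((Subgroup.eq_bot_iff_forall W).mpr hcon)
  have hpf : Fact (Nat.Prime 2) := ⟨Nat.prime_two⟩
  let _ : MulAction (SpecialLinearGroup (Fin 2) F) V := MulAction.compHom V ρ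
  have hsm : ∀ (g : SpecialLinearGroup (Fin 2) F) (v : V), g • v = ρ g v := fun _ _ => rfl
  -- the stabiliser is a 2-group
  have h2 : IsPGroup 2 (MulAction.stabilizer (SpecialLinearGroup (Fin 2) F) w) := by
    rw [IsPGroup.iff_card]
    have h3 : ∀ p : ℕ, p.Prime → p ∣ Nat.card (MulAction.stabilizer (SpecialLinearGroup (Fin 2) F) w) → p = 2 := by
      intro p hp hpd
      by_contra hp2
      have := Fact.mk hp
      obtain ⟨g, hg⟩ := exists_prime_orderOf_dvd_card' p hpd
      have h4 : orderOf (g : SpecialLinearGroup (Fin 2) F) = p := by rw [Subgroup.orderOf_coe, hg]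
      apply hw1
      refine hfp g (by rw [h4]; exact hp.odd_of_ne_two hp2) (fun h5 => ?_) w g.2
      rw [h5, orderOf_one] at h4
      exact hp.one_lt.ne h4
    exact ⟨_, Nat.eq_prime_pow_of_unique_prime_dvd Nat.card_pos.ne' (fun {p} hp hpd => h3 p hp hpd)⟩
  obtain ⟨U, hU⟩ := h2.exists_le_sylow
  have h5 : Nat.card (MulAction.stabilizer (SpecialLinearGroup (Fin 2) F) w) ≤ Fintype.card F := by
    have := Subgroup.card_le_of_le hU
    exact this.trans_eq (T1Sl2.card_sylow U)
  have h6 := (MulAction.stabilizer (SpecialLinearGroup (Fin 2) F) w).index_mul_card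
  rw [MulAction.index_stabilizer, ← Nat.card_coe_set_eq] at h6
  rw [T1Sl2.card_sl2] at h6
  set q := Fintype.card F with hq
  have hq1 : 1 < q := Fintype.one_lt_card
  -- the orbit has at least `q² - 1` elements
  have h7 : (q + 1) * (q - 1) ≤ Nat.card (MulAction.orbit (SpecialLinearGroup (Fin 2) F) w) := by
    by_contra hcon
    push Not at hcon
    have h8 : Nat.card (MulAction.orbit (SpecialLinearGroup (Fin 2) F) w) *
        Nat.card (MulAction.stabilizer (SpecialLinearGroup (Fin 2) F) w) ≤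
        Nat.card (MulAction.orbit (SpecialLinearGroup (Fin 2) F) w) * q := Nat.mul_le_mul_left _ h5
    have h9 : Nat.card (MulAction.orbit (SpecialLinearGroup (Fin 2) F) w) * q < (q + 1) * (q - 1) * q :=
      Nat.mul_lt_mul_of_pos_right hcon (by omega)
    have h10 : (q + 1) * q * (q - 1) = (q + 1) * (q - 1) * q := by ring
    omega
  have h8 : (MulAction.orbit (SpecialLinearGroup (Fin 2) F) w) ⊆ ((W : Set V) \ {1}) := by
    rintro _ ⟨g, rfl⟩
    refine ⟨hW g w hw, fun h9 => hw1 ?_⟩
    have h10 : ρ g w = 1 := h9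
    exact (ρ g).injective (by rw [h10, map_one])
  have h9 : Nat.card (MulAction.orbit (SpecialLinearGroup (Fin 2) F) w) ≤ Nat.card W - 1 := by
    have h10 := Nat.card_mono (Set.toFinite _) h8
    have h11 : Nat.card ((W : Set V) \ {1} : Set V) = Nat.card W - 1 := by
      rw [Nat.card_coe_set_eq, Set.ncard_sdiff_singleton_of_mem W.one_mem, ← Nat.card_coe_set_eq]
      rfl
    rwa [h11] at h10
  apply Subgroup.eq_top_of_card_eq
  apply le_antisymm (Subgroup.card_le_card_group W)
  rw [hc]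
  have h10 : 0 < Nat.card W := Nat.card_pos
  have h11 : q ^ 2 = (q + 1) * (q - 1) + 1 := by
    obtain ⟨m, hm⟩ := Nat.exists_eq_add_of_le' hq1.le
    rw [hm]
    simp only [Nat.add_sub_cancel]
    ring
  omega

theorem exists_nat3 [Finite V] (hV : ∀ v : V, v * v = 1) (h4 : 4 ≤ Fintype.card F)
    (ρ : SpecialLinearGroup (Fin 2) F →* MulAut V) (hc : Nat.card V = Fintype.card F ^ 2)
    (hfp : ∀ g : SpecialLinearGroup (Fin 2) F, Odd (orderOf g) → g ≠ 1 → ∀ v : V, ρ g v = v → v = 1) :
    ∃ X Y : Additive V →+ F, Nat3 ρ X Y := by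
  classical
  obtain ⟨m, hm, hF⟩ := T1Sl2.card_pow F
  have h2 : ∀ x : Additive V, x + x = 0 := fun x => hV x.toMul
  have hV1 : ∃ v : V, v ≠ 1 := by
    have h3 : 1 < Nat.card V := by rw [hc]; nlinarith
    have := Finite.one_lt_card_iff_nontrivial.mp h3
    exact exists_ne 1
  -- an element of odd order
  obtain ⟨g₀, hg₀, hg1⟩ : ∃ g : SpecialLinearGroup (Fin 2) F, Odd (orderOf g) ∧ g ≠ 1 := by
    have h3 : ∃ g : SpecialLinearGroup (Fin 2) F, orderOf g = 3 := by
      refine ⟨T1Sl2.mk 0 1 1 1 ?_, T1Sl2.order_three ?_⟩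
      · rw [mul_one, mul_one, zero_sub, CharTwo.neg_eq]
      · show (0 : F) + 1 = 1
        rw [zero_add]
    obtain ⟨g, hg⟩ := h3
    exact ⟨g, by rw [hg]; decide, fun h => by rw [h, orderOf_one] at hg; omega⟩
  have hne : ∃ g v, ρ g v ≠ v := by
    obtain ⟨v, hv⟩ := hV1
    exact ⟨g₀, v, fun h => hv (hfp g₀ hg₀ hg1 v h)⟩
  have hnt : ∃ g x, addRho ρ g x ≠ x := by
    obtain ⟨g, v, hgv⟩ := hne
    exact ⟨g, .ofMul v, fun h => hgv (Additive.ofMul.injective h)⟩
  have hirr : IsIrr (addRho ρ) := by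
    refine ⟨?_, fun W hW => ?_⟩
    · obtain ⟨g, x, hgx⟩ := hnt
      exact ⟨⟨_, _, hgx⟩⟩
    · rcases irr hc hfp (AddSubgroup.toSubgroup' W) (fun g w hw => hW g (.ofMul w) hw) with h | h
      · left
        rw [AddSubgroup.eq_bot_iff_forall]
        intro x hx
        have h3 : x.toMul ∈ AddSubgroup.toSubgroup' W := hx
        rw [h, Subgroup.mem_bot] at h3
        exact h3
      · right
        rw [AddSubgroup.eq_top_iff']
        intro x
        have h3 : x.toMul ∈ AddSubgroup.toSubgroup' W := by rw [h]; trivial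
        exact h3
  have hSt : Stein.{u, max u v} F m := fun M _ _ _ _ r h => stein hF r h
  have hq1 : 1 < Fintype.card F := Fintype.one_lt_card
  rcases list hF hSt h2 hirr hnt (by
    change Nat.card V ≤ _
    exact hc.le.trans (Nat.pow_le_pow_right (by omega) (by norm_num))) with ⟨n, d, hn, hd, hmd, hc', ψ, hψ⟩ | ⟨j, _, _, hc', _⟩
  · have hc'' : Nat.card V = 2 ^ (d * 2 ^ (n + 1)) := hc'
    rw [hc, hF, ← pow_mul] at hc''
    have h3 := Nat.pow_right_injective le_rfl hc''
    have h5 : n = 0 ∨ n = 1 := by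
      have h6 : m * 2 = d * 2 ^ (n + 1) := h3
      rw [hmd] at h6
      interval_cases n
      · exact Or.inl rfl
      · exact Or.inr rfl
      · exfalso
        norm_num at h6
        omega
      · exfalso
        norm_num at h6
        omega
    rcases h5 with rfl | rfl
    · rw [zero_add, mul_one] at hmd
      subst hmd
      exact ⟨_, _, nat3_of hF ψ hψ⟩
    · exfalso
      rw [one_add_one_eq_two] at hmd
      rw [hmd] at hF
      have hO := om4_of hF ψ hψ
      -- an element of order dividing `2 ^ d + 1` fixes a vector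
      obtain ⟨s, hs⟩ : ∃ s : Fˣ, s ^ (2 ^ d - 1) ≠ 1 := by
        obtain ⟨g, hg⟩ := IsCyclic.exists_generator (α := Fˣ)
        refine ⟨g, fun h => ?_⟩
        have h6 : orderOf g = Nat.card Fˣ := orderOf_eq_card_of_forall_mem_zpowers hg
        have h7 := orderOf_dvd_of_pow_eq_one h
        rw [h6, Nat.card_eq_fintype_card, Fintype.card_units, hF] at h7
        have h8 : 2 ≤ 2 ^ d := by
          calc 2 = 2 ^ 1 := rfl
            _ ≤ 2 ^ d := Nat.pow_le_pow_right (by omega) hd
        have h9 := Nat.le_of_dvd (by omega) h7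
        have h10 : 2 ^ (d * 2) = 2 ^ d * 2 ^ d := by rw [← pow_add]; ring_nf
        rw [h10] at h9
        have h11 : 2 * 2 ^ d ≤ 2 ^ d * 2 ^ d := Nat.mul_le_mul_right _ h8
        omega
      set t : Fˣ := s ^ (2 ^ d - 1) with ht
      have h8 : 2 ≤ 2 ^ d := by
        calc 2 = 2 ^ 1 := rfl
          _ ≤ 2 ^ d := Nat.pow_le_pow_right (by omega) hd
      have ht1 : t ^ (2 ^ d + 1) = 1 := by
        rw [ht, ← pow_mul]
        have h10 : (2 ^ d - 1) * (2 ^ d + 1) = Fintype.card Fˣ := by
          rw [Fintype.card_units, hF, mul_comm d 2, pow_mul', sq]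
          obtain ⟨r, hr⟩ := Nat.exists_eq_add_of_le' (show 1 ≤ 2 ^ d by omega)
          rw [hr]
          simp only [Nat.add_sub_cancel]
          have : (r + 1) * (r + 1) = r * (r + 1 + 1) + 1 := by ring
          omega
        rw [h10, pow_card_eq_one]
      have hodd : Odd (orderOf (dg t)) := by
        have h10 : orderOf (dg t) ∣ 2 ^ d + 1 := by
          apply orderOf_dvd_of_pow_eq_one
          rw [← T1Sl2.dgHom_apply, ← map_pow, ht1, map_one]
        refine Odd.of_dvd_nat ?_ h10
        exact (Nat.even_pow.mpr ⟨even_two, by omega⟩).add_one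
      have hne1 : dg t ≠ 1 := by
        intro h10
        apply hs
        apply T1Sl2.dgHom_injective
        rw [T1Sl2.dgHom_apply, map_one]
        exact h10
      obtain ⟨v, hv1, hv2, hv3⟩ := hO.surj 1 0 0 (one_pow _) (zero_pow (by positivity))
      have hfix : ρ (dg t) v = v := by
        apply hO.inj
        · rw [hO.dgX, hv1, mul_one]
          have := congrArg (Units.val) ht1
          rw [Units.val_pow_eq_pow_val, Units.val_one] at this
          exact this
        · rw [hO.dgY, hv2, mul_zero]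
        · rw [hO.dgZ, hv3, mul_zero]
      have h11 := hfp _ hodd hne1 v hfix
      rw [h11, ofMul_one, map_zero] at hv1
      exact zero_ne_one hv1
  · exfalso
    have hc'' : Nat.card V = Fintype.card F ^ 4 := hc'
    rw [hc] at hc''
    have := Nat.pow_right_injective hq1 hc''
    omega

/-- **coordinates** -/
theorem exists_e [Finite V] (hV : ∀ v : V, v * v = 1) (h4 : 4 ≤ Fintype.card F)
    (ρ : SpecialLinearGroup (Fin 2) F →* MulAut V) (hc : Nat.card V = Fintype.card F ^ 2)
    (hfp : ∀ g : SpecialLinearGroup (Fin 2) F, Odd (orderOf g) → g ≠ 1 → ∀ v : V, ρ g v = v → v = 1) :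
    ∃ e : F → F → V, (∀ x y x' y', e (x + x') (y + y') = e x y * e x' y') ∧ (∀ x y, e x y = 1 → x = 0 ∧ y = 0) ∧
      (∀ v, ∃ x y, v = e x y) ∧ ∀ (g : SpecialLinearGroup (Fin 2) F) (x y : F),
        ρ g (e x y) = e (g 0 0 * x + g 0 1 * y) (g 1 0 * x + g 1 1 * y) := by
  obtain ⟨X, Y, h⟩ := exists_nat3 hV h4 ρ hc hfp
  choose e heX heY using h.surj
  have hinj : ∀ v : V, ∀ x y, X (.ofMul v) = x → Y (.ofMul v) = y → v = e x y := by
    intro v x y hx hy
    apply h.inj
    · rw [hx, heX]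
    · rw [hy, heY]
  refine ⟨e, ?_, ?_, ?_, ?_⟩
  · intro x y x' y'
    symm
    apply hinj
    · rw [ofMul_mul, map_add, heX, heX]
    · rw [ofMul_mul, map_add, heY, heY]
  · intro x y hxy
    constructor
    · rw [← heX x y, hxy, ofMul_one, map_zero]
    · rw [← heY x y, hxy, ofMul_one, map_zero]
  · intro v
    exact ⟨_, _, hinj v _ _ rfl rfl⟩
  · intro g x y
    apply hinj
    · rw [h.X_act, heX, heY]
    · rw [h.Y_act, heX, heY]

end Cfsg.Agent.OddCyclic.Eq.Coord
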