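import Cfsg.Agent.OddCyclic.T1Sl2

/-!
# (E_q) of `T_cyc`: maps normalising `SL₂(F)` on `F²` are semilinear
-/

set_option autoImplicit false

namespace Cfsg.Agent.OddCyclic.Eq.Semi

open Cfsg.Agent.OddCyclic.T1Sl2 (up dg ww mk mk00 mk01 mk10 mk11)
open Matrix (SpecialLinearGroup)

variable {F : Type*} [Field F] [Fintype F] [CharP F 2]

/-- the natural action -/
def act (g : SpecialLinearGroup (Fin 2) F) (v : F × F) : F × F :=
  (g 0 0 * v.1 + g 0 1 * v.2, g 1 0 * v.1 + g 1 1 * v.2)

omit [Fintype F] [CharP F 2] in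
theorem act_smul (g : SpecialLinearGroup (Fin 2) F) (l : F) (v : F × F) :
    act g (l * v.1, l * v.2) = (l * (act g v).1, l * (act g v).2) := by
  unfold act
  ext
  · show g 0 0 * (l * v.1) + g 0 1 * (l * v.2) = l * (g 0 0 * v.1 + g 0 1 * v.2)
    ring
  · show g 1 0 * (l * v.1) + g 1 1 * (l * v.2) = l * (g 1 0 * v.1 + g 1 1 * v.2)
    ring

omit [Fintype F] in
/-- `SL₂(F)` is transitive on the nonzero vectors -/
theorem exists_act {v : F × F} (hv : v ≠ 0) : ∃ g : SpecialLinearGroup (Fin 2) F, act g (1, 0) = v := by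
  obtain ⟨x, y⟩ := v
  by_cases hx : x = 0
  · have hy : y ≠ 0 := by
      rintro rfl
      apply hv
      rw [hx]; rfl
    refine ⟨mk 0 y⁻¹ y 0 (by rw [mul_zero, inv_mul_cancel₀ hy, zero_sub, CharTwo.neg_eq]), ?_⟩
    unfold act
    rw [mk00, mk01, mk10, mk11, hx]
    simp
  · refine ⟨mk x 0 y x⁻¹ (by rw [mul_inv_cancel₀ hx, zero_mul, sub_zero]), ?_⟩
    unfold act
    rw [mk00, mk01, mk10, mk11]
    simp

omit [Fintype F] in
/-- maps commuting with `SL₂(F)` are scalar -/
theorem scalar {θ : F × F → F × F} (hθ : ∀ (g : SpecialLinearGroup (Fin 2) F) v, θ (act g v) = act g (θ v)) :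
    ∃ l : F, ∀ v, θ v = (l * v.1, l * v.2) := by
  have h1 : (θ (1, 0)).2 = 0 := by
    have h2 := hθ (up 1) (1, 0)
    have h3 : act (up (1 : F)) (1, 0) = (1, 0) := by
      unfold act up
      rw [mk00, mk01, mk10, mk11]
      simp
    rw [h3] at h2
    have h4 := congrArg Prod.fst h2
    unfold act up at h4
    rw [mk00, mk01] at h4
    simp only [one_mul] at h4
    have h5 : (θ (1, 0)).1 + 0 = (θ (1, 0)).1 + (θ (1, 0)).2 := by rw [add_zero]; exact h4
    exact (add_left_cancel h5).symm
  refine ⟨(θ (1, 0)).1, fun v => ?_⟩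
  by_cases hv : v = 0
  · -- `θ 0` is fixed by `SL₂(F)`
    have h2 : ∀ g : SpecialLinearGroup (Fin 2) F, act g (θ 0) = θ 0 := by
      intro g
      have h3 : act g (0 : F × F) = 0 := by
        unfold act
        ext <;> simp
      rw [← hθ, h3]
    have h3 := h2 (up 1)
    have h4 := h2 (ww F)
    have h5 : (θ 0).2 = 0 := by
      have h6 := congrArg Prod.fst h3
      unfold act up at h6
      rw [mk00, mk01] at h6
      simp only [one_mul] at h6
      have h7 : (θ 0).1 + (θ 0).2 = (θ 0).1 + 0 := by rw [add_zero]; exact h6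
      exact add_left_cancel h7
    have h6 : (θ 0).1 = 0 := by
      have h7 := congrArg Prod.snd h4
      unfold act ww at h7
      rw [mk10, mk11] at h7
      simp only [one_mul, zero_mul, add_zero] at h7
      rw [h7, h5]
    rw [hv]
    ext
    · rw [h6]; simp
    · rw [h5]; simp
  · obtain ⟨g, rfl⟩ := exists_act hv
    rw [hθ]
    have h2 : θ (1, 0) = ((θ (1, 0)).1 * 1, (θ (1, 0)).1 * 0) := by
      ext
      · rw [mul_one]
      · rw [mul_zero]; exact h1
    conv_lhs => rw [h2]
    exact act_smul g _ (1, 0)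

/-- **maps normalising `SL₂(F)` are semilinear** -/
theorem exists_semi {M : F × F → F × F} (hadd : ∀ v w, M (v + w) = M v + M w) (hinj : Function.Injective M)
    (hM : ∀ g : SpecialLinearGroup (Fin 2) F, ∃ g' : SpecialLinearGroup (Fin 2) F, ∀ v, M (act g' v) = act g (M v)) :
    ∃ (σ : F ≃+* F) (a b c d : F), a * d + b * c ≠ 0 ∧
      ∀ x y, M (x, y) = (a * σ x + b * σ y, c * σ x + d * σ y) := by
  classical
  have hbij : Function.Bijective M := Finite.injective_iff_bijective.mp hinj
  let E : F × F ≃ F × F := Equiv.ofBijective M hbij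
  have hE : ∀ v, E v = M v := fun _ => rfl
  have h0 : M 0 = 0 := by
    have := hadd 0 0
    rw [add_zero] at this
    exact left_eq_add.mp this
  -- the scalars
  have hs : ∀ l : F, ∃ s : F, ∀ v : F × F, M (l * v.1, l * v.2) = (s * (M v).1, s * (M v).2) := by
    intro l
    obtain ⟨s, hs⟩ := scalar (θ := fun v => M (l * (E.symm v).1, l * (E.symm v).2)) (by
      intro g v
      obtain ⟨g', hg'⟩ := hM g
      have h1 : E.symm (act g v) = act g' (E.symm v) := by
        apply E.injective
        rw [E.apply_symm_apply, hE, hg', ← hE, E.apply_symm_apply]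
      show M (l * (E.symm (act g v)).1, l * (E.symm (act g v)).2) = act g (M (l * (E.symm v).1, l * (E.symm v).2))
      rw [h1, ← hg', act_smul])
    refine ⟨s, fun v => ?_⟩
    have h1 := hs (M v)
    have h2 : E.symm (M v) = v := E.symm_apply_apply v
    simp only [h2] at h1
    exact h1
  choose s hs using hs
  set w := M (1, 0) with hw
  have hw0 : w ≠ 0 := by
    intro h
    have h1 : M (1, 0) = M 0 := by rw [h0]; exact h
    have h2 := hinj h1
    exact one_ne_zero (congrArg Prod.fst h2)
  have hcan : ∀ l l' : F, (l * w.1, l * w.2) = (l' * w.1, l' * w.2) → l = l' := by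
    intro l l' h
    have h1 := congrArg Prod.fst h
    have h2 := congrArg Prod.snd h
    by_cases hw1 : w.1 = 0
    · have hw2 : w.2 ≠ 0 := fun h3 => hw0 (Prod.ext hw1 h3)
      exact mul_right_cancel₀ hw2 h2
    · exact mul_right_cancel₀ hw1 h1
  have hs1 : ∀ l : F, M (l, 0) = (s l * w.1, s l * w.2) := by
    intro l
    have := hs l (1, 0)
    simp only [mul_one, mul_zero] at this
    exact this
  let σ₀ : F →+* F :=
    { toFun := s
      map_one' := by
        apply hcan
        rw [← hs1, one_mul, one_mul]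
      map_mul' := by
        intro l l'
        apply hcan
        rw [← hs1]
        have h1 := hs l (l', 0)
        simp only [mul_zero] at h1
        rw [h1, hs1 l']
        simp only [mul_assoc]
      map_zero' := by
        apply hcan
        rw [← hs1, zero_mul, zero_mul]
        exact h0
      map_add' := by
        intro l l'
        apply hcan
        rw [← hs1]
        have h1 : ((l + l', 0) : F × F) = (l, 0) + (l', 0) := by
          ext
          · rfl
          · show (0 : F) = 0 + 0
            rw [add_zero]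
        rw [h1, hadd, hs1, hs1, add_mul, add_mul]
        rfl }
  let σ : F ≃+* F := RingEquiv.ofBijective σ₀ (Finite.injective_iff_bijective.mp σ₀.injective)
  have hσ : ∀ l, σ l = s l := fun _ => rfl
  have hform : ∀ x y, M (x, y) = (w.1 * σ x + (M (0, 1)).1 * σ y, w.2 * σ x + (M (0, 1)).2 * σ y) := by
    intro x y
    have h1 : ((x, y) : F × F) = (x * 1, x * 0) + (y * 0, y * 1) := by
      ext
      · show x = x * 1 + y * 0
        rw [mul_one, mul_zero, add_zero]
      · show y = x * 0 + y * 1
        rw [mul_one, mul_zero, zero_add]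
    rw [h1, hadd]
    have h2 := hs x (1, 0)
    have h3 := hs y (0, 1)
    simp only at h2 h3
    rw [h2, h3, hσ, hσ]
    ext
    · show s x * w.1 + s y * (M (0, 1)).1 = w.1 * s x + (M (0, 1)).1 * s y
      ring
    · show s x * w.2 + s y * (M (0, 1)).2 = w.2 * s x + (M (0, 1)).2 * s y
      ring
  refine ⟨σ, w.1, (M (0, 1)).1, w.2, (M (0, 1)).2, ?_, hform⟩
  intro hdet
  -- a kernel vector
  set b := (M (0, 1)).1
  set d := (M (0, 1)).2
  have h1 : M (σ.symm d, σ.symm w.2) = 0 := by
    rw [hform, σ.apply_symm_apply, σ.apply_symm_apply]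
    ext
    · exact hdet
    · show w.2 * d + d * w.2 = 0
      rw [mul_comm d, CharTwo.add_self_eq_zero]
  have h2 : M (σ.symm b, σ.symm w.1) = 0 := by
    rw [hform, σ.apply_symm_apply, σ.apply_symm_apply]
    ext
    · show w.1 * b + b * w.1 = 0
      rw [mul_comm b, CharTwo.add_self_eq_zero]
    · show w.2 * b + d * w.1 = 0
      rw [← hdet]; ring
  have h3 := hinj (h1.trans h0.symm)
  have h4 := hinj (h2.trans h0.symm)
  apply hw0
  ext
  · have := congrArg Prod.snd h4
    simpa using this
  · have := congrArg Prod.snd h3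
    simpa using this

end Cfsg.Agent.OddCyclic.Eq.Semi
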