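import Cfsg.Agent.OddCyclic.RedU
import Cfsg.Agent.OddCyclic.Eq.Coord
import Cfsg.Agent.OddCyclic.Eq.Semi

/-!
# (E_q) of `T_cyc`: coordinates of the block module, (0.2)

`Co B L V e φ`: `V = {e x y}` with the natural action of `SL₂(F)` through `φ : L → SL₂(F)`, `B = φ⁻¹(up F)`.
-/

set_option autoImplicit false

namespace Cfsg.Agent.OddCyclic.Eq.Base

open Subgroup Cfsg Cfsg.Agent.ZN Cfsg.Agent.OddCyclic.COneBlk
open Cfsg.Agent.OddCyclic.COneDefs (LBlk)
open Cfsg.Agent.OddCyclic.T1Sl2 (up dg ww)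
open Cfsg.Agent.OddCyclic.T1Defs (OddCyc)
open Matrix (SpecialLinearGroup)
open scoped Pointwise

universe u

variable {G : Type u} [Group G]

/-- coordinates of the block module -/
structure Co (B L V : Subgroup G) {F : Type} [Field F] [Fintype F] [CharP F 2] (e : F → F → G)
    (φ : L →* SpecialLinearGroup (Fin 2) F) : Prop where
  add : ∀ x y x' y', e (x + x') (y + y') = e x y * e x' y'
  inj : ∀ x y, e x y = 1 → x = 0 ∧ y = 0
  mem : ∀ g, g ∈ V ↔ ∃ x y, g = e x y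
  surj : Function.Surjective φ
  ker : ∀ l : L, φ l = 1 ↔ (l : G) ∈ o2 L
  memB : ∀ l : L, (l : G) ∈ B ↔ ∃ t, φ l = up t
  act : ∀ (l : L) x y, (l : G) * e x y * (l : G)⁻¹ = e (φ l 0 0 * x + φ l 0 1 * y) (φ l 1 0 * x + φ l 1 1 * y)
  le : B ≤ L

/-- **coordinates** of a block with `C_Z(L) = 1` -/
theorem exists_co [Finite G] {B L : Subgroup G} {q : ℕ} (h : LBlk B L q) (hr : rl B L = ⊥) :
    ∃ (F : Type) (_ : Field F) (_ : Fintype F) (_ : CharP F 2) (e : F → F → G)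
      (φ : L →* SpecialLinearGroup (Fin 2) F), Fintype.card F = q ∧ Co B L (zl B L) e φ := by
  obtain ⟨F, _, _, _, ⟨D⟩⟩ := exists_dat h
  obtain ⟨W, _, _, π, ρ, hπ, hπ1, hρ, hW⟩ := D.exists_rho
  obtain ⟨g, hg⟩ := T1Sl2.exists_smul_SU D.U
  have hπi : Function.Injective π := by
    rw [injective_iff_map_eq_one]
    intro v hv
    have h1 := (hπ1 v).1 hv
    rw [hr, mem_bot] at h1
    exact Subtype.ext h1
  let E : zl B L ≃* W := MulEquiv.ofBijective π ⟨hπi, hπ⟩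
  have hE : ∀ v, E v = π v := fun _ => rfl
  let φ : L →* SpecialLinearGroup (Fin 2) F := (MulAut.conj g⁻¹).toMonoidHom.comp D.φ
  have hφ : ∀ x : L, φ x = g⁻¹ * D.φ x * g := by
    intro x
    show (MulAut.conj g⁻¹) (D.φ x) = _
    rw [MulAut.conj_apply, inv_inv]
  have hφ' : ∀ x : L, D.φ x = g * φ x * g⁻¹ := by
    intro x; rw [hφ]; group
  let ρ' : SpecialLinearGroup (Fin 2) F →* MulAut W := ρ.comp (MulAut.conj g).toMonoidHom
  have hρ' : ∀ s, ρ' s = ρ (g * s * g⁻¹) := fun s => rfl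
  have hV : ∀ w : W, w * w = 1 := by
    intro w
    obtain ⟨v, rfl⟩ := hπ w
    rw [← map_mul]
    have : v * v = 1 := Subtype.ext (h.zl_sq v v.2)
    rw [this, map_one]
  obtain ⟨e, h1, h2, h3, h4⟩ := Coord.exists_e hV (by rw [D.card]; exact h.four) ρ' (by rw [hW, D.card]) (by
    intro s hs hs1 w hw
    obtain ⟨v, rfl⟩ := hπ w
    obtain ⟨x, hx, hxo⟩ := D.lift_odd (g * s * g⁻¹) (by rw [T1Sl2.orderOf_conj']; exact hs)
    rw [hρ', ← hx, hρ] at hw
    have h5 := congrArg Subtype.val (hπi hw)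
    have h6 : (x : G) * v * (x : G)⁻¹ = v := h5
    have hx1 : x ≠ 1 := by
      rintro rfl
      rw [map_one] at hx
      apply hs1
      calc s = g⁻¹ * (g * s * g⁻¹) * g := by group
        _ = 1 := by rw [← hx]; group
    have h7 : (v : G) ∈ rl B L := by
      refine fpf_odd h x.2 ?_ ?_ v.2 ?_
      · rw [Subgroup.orderOf_coe, hxo, T1Sl2.orderOf_conj']
        exact hs
      · intro h8; exact hx1 (Subtype.ext h8)
      · rw [h6, mul_inv_cancel]
        exact Subgroup.one_mem _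
    rw [hπ1]
    exact h7)
  refine ⟨F, inferInstance, inferInstance, inferInstance, fun x y => (E.symm (e x y) : G), φ, D.card, ?_⟩
  refine ⟨?_, ?_, ?_, ?_, ?_, ?_, ?_, h.le⟩
  · intro x y x' y'
    show (E.symm (e (x + x') (y + y')) : G) = _
    rw [h1, map_mul]
    rfl
  · intro x y hxy
    apply h2
    have h5 : E.symm (e x y) = 1 := Subtype.ext hxy
    have h6 := congrArg E h5
    rwa [MulEquiv.apply_symm_apply, map_one] at h6
  · intro v
    constructor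
    · intro hv
      obtain ⟨x, y, hxy⟩ := h3 (E ⟨v, hv⟩)
      refine ⟨x, y, ?_⟩
      show v = (E.symm (e x y) : G)
      rw [← hxy, MulEquiv.symm_apply_apply]
    · rintro ⟨x, y, rfl⟩
      exact (E.symm (e x y)).2
  · intro s
    obtain ⟨x, hx⟩ := D.surj (g * s * g⁻¹)
    refine ⟨x, ?_⟩
    rw [hφ, hx]; group
  · intro l
    rw [← D.ker, hφ' l]
    constructor
    · intro h5; rw [h5]; group
    · intro h5
      calc φ l = g⁻¹ * (g * φ l * g⁻¹) * g := by group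
        _ = 1 := by rw [h5]; group
  · intro l
    rw [← D.memU]
    have h5 : D.φ l ∈ (D.U : Subgroup (SpecialLinearGroup (Fin 2) F)) ↔ φ l ∈ T1Sl2.SU F := by
      rw [← hg, hφ l]
      exact T1Sl2.mem_smul
    rw [h5, T1Sl2.mem_SU_iff]
  · intro l x y
    have h5 := h4 (φ l) x y
    rw [hρ', ← hφ'] at h5
    have h6 : e x y = π (E.symm (e x y)) := (E.apply_symm_apply _).symm
    rw [h6, hρ, ← hE] at h5
    have h7 := congrArg E.symm h5
    rw [MulEquiv.symm_apply_apply] at h7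
    exact congrArg Subtype.val h7

namespace Co

variable {B L V : Subgroup G} {F : Type} [Field F] [Fintype F] [CharP F 2] {e : F → F → G}
  {φ : L →* SpecialLinearGroup (Fin 2) F}

theorem zero (c : Co B L V e φ) : e 0 0 = 1 := by
  have h1 := c.add 0 0 0 0
  rw [add_zero] at h1
  exact (mul_eq_left.mp h1.symm)

theorem eM (c : Co B L V e φ) (x y : F) : e x y ∈ V := (c.mem _).mpr ⟨x, y, rfl⟩

theorem sq (c : Co B L V e φ) (x y : F) : e x y * e x y = 1 := by
  rw [← c.add, CharTwo.add_self_eq_zero, CharTwo.add_self_eq_zero, c.zero]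

theorem comm (c : Co B L V e φ) (x y x' y' : F) : e x y * e x' y' = e x' y' * e x y := by
  rw [← c.add, ← c.add, add_comm x, add_comm y]

theorem ext (c : Co B L V e φ) {x y x' y' : F} (h : e x y = e x' y') : x = x' ∧ y = y' := by
  have h1 : e (x + x') (y + y') = 1 := by
    rw [c.add, h, c.sq]
  obtain ⟨h2, h3⟩ := c.inj _ _ h1
  exact ⟨CharTwo.add_eq_zero.mp h2, CharTwo.add_eq_zero.mp h3⟩

theorem V_sq (c : Co B L V e φ) {v : G} (hv : v ∈ V) : v * v = 1 := by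
  obtain ⟨x, y, rfl⟩ := (c.mem v).mp hv
  exact c.sq x y

theorem V_comm (c : Co B L V e φ) {v w : G} (hv : v ∈ V) (hw : w ∈ V) : v * w = w * v := by
  obtain ⟨x, y, rfl⟩ := (c.mem v).mp hv
  obtain ⟨x', y', rfl⟩ := (c.mem w).mp hw
  exact c.comm _ _ _ _

/-- a lift of `up t` to `B` -/
theorem exists_up (c : Co B L V e φ) (t : F) : ∃ b ∈ B, ∀ x y, b * e x y * b⁻¹ = e (x + t * y) y := by
  obtain ⟨l, hl⟩ := c.surj (up t)
  refine ⟨l, (c.memB l).mpr ⟨t, hl⟩, fun x y => ?_⟩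
  rw [c.act, hl]
  congr 1
  · show (1 : F) * x + t * y = _
    rw [one_mul]
  · show (0 : F) * x + 1 * y = _
    rw [zero_mul, zero_add, one_mul]

/-- elements of `B` -/
theorem act_B (c : Co B L V e φ) {b : G} (hb : b ∈ B) : ∃ t : F, ∀ x y, b * e x y * b⁻¹ = e (x + t * y) y := by
  obtain ⟨t, ht⟩ := (c.memB ⟨b, c.le hb⟩).mp hb
  refine ⟨t, fun x y => ?_⟩
  have h1 := c.act ⟨b, c.le hb⟩ x y
  rw [ht] at h1
  rw [h1]
  congr 1
  · show (1 : F) * x + t * y = _
    rw [one_mul]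
  · show (0 : F) * x + 1 * y = _
    rw [zero_mul, zero_add, one_mul]

/-- `Z_J = {e x 0}` -/
theorem mem_zc (c : Co B L V e φ) (hz : zc B ≤ V) (hV : V ≤ B) {g : G} : g ∈ zc B ↔ ∃ x, g = e x 0 := by
  rw [ChoiceBase.mem_zc]
  constructor
  · rintro ⟨h1, h2, h3⟩
    obtain ⟨x, y, rfl⟩ := (c.mem g).mp (hz (ChoiceBase.mem_zc.mpr ⟨h1, h2, h3⟩))
    refine ⟨x, ?_⟩
    obtain ⟨b, hb, hbe⟩ := c.exists_up 1
    have h4 := hbe x y
    rw [h3 b hb, mul_inv_cancel_right] at h4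
    obtain ⟨h5, -⟩ := c.ext h4
    have h6 : y = 0 := by
      have : x + 1 * y = x + 0 := by rw [← h5, add_zero]
      rw [one_mul] at this
      exact add_left_cancel this
    rw [h6]
  · rintro ⟨x, rfl⟩
    refine ⟨hV (c.eM x 0), by rw [pow_two]; exact c.sq x 0, fun b hb => ?_⟩
    obtain ⟨t, ht⟩ := c.act_B hb
    have h4 := ht x 0
    rw [mul_zero, add_zero] at h4
    calc b * e x 0 = (b * e x 0 * b⁻¹) * b := by group
      _ = e x 0 * b := by rw [h4]

/-- `m e x y m⁻¹` -/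
theorem conj_e (c : Co B L V e φ) {m : G} (hm : m ∈ normalizer (V : Set G)) (x y : F) :
    ∃ x' y', m * e x y * m⁻¹ = e x' y' :=
  (c.mem _).mp ((mem_normalizer_iff.mp hm _).mp (c.eM x y))

/-- **semilinearity** -/
theorem semi (c : Co B L V e φ) {m : G} (hm : m ∈ normalizer (V : Set G))
    (hL : ∀ l ∈ L, ∃ l' ∈ L, ∀ v ∈ V, (m⁻¹ * l * m) * v * (m⁻¹ * l * m)⁻¹ = l' * v * l'⁻¹) :
    ∃ (σ : F ≃+* F) (a b c' d : F), a * d + b * c' ≠ 0 ∧
      ∀ x y, m * e x y * m⁻¹ = e (a * σ x + b * σ y) (c' * σ x + d * σ y) := by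
  have h1 : ∀ v : F × F, ∃ w : F × F, m * e v.1 v.2 * m⁻¹ = e w.1 w.2 := by
    intro v
    obtain ⟨x', y', h⟩ := c.conj_e hm v.1 v.2
    exact ⟨(x', y'), h⟩
  choose M hM using h1
  obtain ⟨σ, a, b, c', d, h1, h2⟩ := Semi.exists_semi (M := M) (by
      intro v w
      have h3 : e (M (v + w)).1 (M (v + w)).2 = e (M v + M w).1 (M v + M w).2 := by
        rw [← hM, Prod.fst_add, Prod.snd_add, Prod.fst_add, Prod.snd_add, c.add, c.add, ← hM, ← hM]
        group
      exact Prod.ext (c.ext h3).1 (c.ext h3).2) (by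
      intro v w hvw
      have h3 := hM v
      rw [hvw, ← hM w] at h3
      have h4 : e v.1 v.2 = e w.1 w.2 := mul_left_cancel (mul_right_cancel h3)
      exact Prod.ext (c.ext h4).1 (c.ext h4).2) (by
      intro g
      obtain ⟨l, rfl⟩ := c.surj g
      obtain ⟨l', hl', hll⟩ := hL l l.2
      refine ⟨φ ⟨l', hl'⟩, fun v => ?_⟩
      have h3 := hll _ (c.eM v.1 v.2)
      have h4 := c.act ⟨l', hl'⟩ v.1 v.2
      have h5 : e (M (Semi.act (φ ⟨l', hl'⟩) v)).1 (M (Semi.act (φ ⟨l', hl'⟩) v)).2 =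
          e (Semi.act (φ l) (M v)).1 (Semi.act (φ l) (M v)).2 := by
        rw [← hM]
        show m * e (φ ⟨l', hl'⟩ 0 0 * v.1 + φ ⟨l', hl'⟩ 0 1 * v.2) (φ ⟨l', hl'⟩ 1 0 * v.1 + φ ⟨l', hl'⟩ 1 1 * v.2) *
          m⁻¹ = e (φ l 0 0 * (M v).1 + φ l 0 1 * (M v).2) (φ l 1 0 * (M v).1 + φ l 1 1 * (M v).2)
        rw [← h4, ← c.act, ← hM, ← h3]
        group
      exact Prod.ext (c.ext h5).1 (c.ext h5).2)
  refine ⟨σ, a, b, c', d, h1, fun x y => ?_⟩
  have h3 := hM (x, y)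
  rw [h2] at h3
  exact h3

end Co

open Cfsg.Agent.OddCyclic.RedU (EqOne)

/-- coordinates from `EqOne` -/
theorem exists_co_of [Finite G] {S : Sylow 2 G} {L V : Subgroup G} {q : ℕ} (h : EqOne S L V q) :
    ∃ (F : Type) (_ : Field F) (_ : Fintype F) (_ : CharP F 2) (e : F → F → G)
      (φ : L →* SpecialLinearGroup (Fin 2) F), Fintype.card F = q ∧ Co (bau (S : Subgroup G)) L V e φ := by
  obtain ⟨F, _, _, _, e, φ, h1, h2⟩ := exists_co h.blk h.rl_eq
  rw [h.zl_eq] at h2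
  exact ⟨F, inferInstance, inferInstance, inferInstance, e, φ, h1, h2⟩

section

variable [Finite G] {S : Sylow 2 G} {L V : Subgroup G} {q : ℕ} {F : Type} [Field F] [Fintype F] [CharP F 2]
  {e : F → F → G} {φ : L →* SpecialLinearGroup (Fin 2) F}

theorem L_V (c : Co (bau (S : Subgroup G)) L V e φ) : L ≤ normalizer (V : Set G) := by
  intro l hl
  refine CompStandard.mem_normalizer_of_forall fun v hv => ?_
  obtain ⟨x, y, rfl⟩ := (c.mem v).mp hv
  have := c.act ⟨l, hl⟩ x y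
  rw [show l * e x y * l⁻¹ = _ from this]
  exact c.eM _ _

/-- `L C(V)` is normal in `N(V)` -/
theorem conj_L (h : EqOne S L V q) (c : Co (bau (S : Subgroup G)) L V e φ) {m : G} (hm : m ∈ normalizer (V : Set G))
    {l : G} (hl : l ∈ L) : ∃ l' ∈ L, ∀ v ∈ V, (m * l * m⁻¹) * v * (m * l * m⁻¹)⁻¹ = l' * v * l'⁻¹ := by
  have h1 := h.nrm _ h.local_V L q h.blk (L_V c)
  have h2 : m * l * m⁻¹ ∈ L ⊔ (normalizer (V : Set G) ⊓ centralizer (V : Set G)) :=
    (mem_normalizer_iff.mp (h1 hm) _).mp (mem_sup_left hl)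
  have h3 : L ≤ normalizer ((normalizer (V : Set G) ⊓ centralizer (V : Set G) : Subgroup G) : Set G) := by
    intro x hx
    refine CompStandard.mem_normalizer_of_forall fun y hy => mem_inf.mpr ⟨?_, ?_⟩
    · exact Subgroup.mul_mem _ (Subgroup.mul_mem _ (L_V c hx) hy.1) (Subgroup.inv_mem _ (L_V c hx))
    · have h4 := mem_centralizer_iff.mp hy.2
      refine mem_centralizer_iff.mpr fun v hv => ?_
      have h5 : x⁻¹ * v * x ∈ V := by
        have := (mem_normalizer_iff.mp (inv_mem (L_V c hx)) v).mp hv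
        rwa [inv_inv] at this
      calc v * (x * y * x⁻¹) = x * ((x⁻¹ * v * x) * y) * x⁻¹ := by group
        _ = x * (y * (x⁻¹ * v * x)) * x⁻¹ := by rw [h4 _ h5]
        _ = x * y * x⁻¹ * v := by group
  obtain ⟨l', hl', k, hk, hlk⟩ := COneLinB.exists_mul_of_mem_sup h3 h2
  refine ⟨l', hl', fun v hv => ?_⟩
  have h4 : k * v * k⁻¹ = v := by
    have := mem_centralizer_iff.mp hk.2 v hv
    rw [← this, mul_inv_cancel_right]
  rw [hlk]
  calc l' * k * v * (l' * k)⁻¹ = l' * (k * v * k⁻¹) * l'⁻¹ := by group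
    _ = _ := by rw [h4]

/-- **(0.2)**: `N(V)` acts semilinearly -/
theorem semi (h : EqOne S L V q) (c : Co (bau (S : Subgroup G)) L V e φ) {m : G}
    (hm : m ∈ normalizer (V : Set G)) : ∃ (σ : F ≃+* F) (a b c' d : F), a * d + b * c' ≠ 0 ∧
      ∀ x y, m * e x y * m⁻¹ = e (a * σ x + b * σ y) (c' * σ x + d * σ y) := by
  refine c.semi hm fun l hl => ?_
  have := conj_L h c (inv_mem hm) hl
  rwa [inv_inv] at this

omit [Finite G] in
theorem mem_zc (h : EqOne S L V q) (c : Co (bau (S : Subgroup G)) L V e φ) {g : G} :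
    g ∈ zc (bau (S : Subgroup G)) ↔ ∃ x, g = e x 0 :=
  c.mem_zc h.zc_le (by rw [← h.zl_eq]; exact COnePair.zl_le h.blk)

end

end Cfsg.Agent.OddCyclic.Eq.Base
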