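import Cfsg.Agent.OddCyclic.Eq.Base
import Cfsg.Agent.OddCyclic.AOneSit

/-!
# (E_q) of `T_cyc`: (0.4), (0.5)

`B = bau S`, `Z_J = zc B = {e x 0}`, `q = |F|`.
* `not_dvd_ZJ`: an odd prime dividing `q - 1` does not divide `|C_G(Z_J)|`;
* `not_dvd_V`: an odd prime dividing `q² - 1` does not divide `|C_G(V)|`;
* `root`: `c ∈ N(V) ∩ C(Z_J)` acts on `V` as an element of `B`: `N(V) ∩ C(Z_J) = C(V) B`;
* `cent_zc`: `N(V) ∩ C(zc S) = C(V) S`.
-/

set_option autoImplicit false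

namespace Cfsg.Agent.OddCyclic.Eq.Base

open Subgroup Cfsg Cfsg.Agent.ZN Cfsg.Agent.OddCyclic.COneBlk
open Cfsg.Agent.OddCyclic.COneDefs (LBlk)
open Cfsg.Agent.OddCyclic.T1Sl2 (up dg ww)
open Cfsg.Agent.OddCyclic.T1Defs (OddCyc)
open Cfsg.Agent.OddCyclic.RedU (EqOne)
open Cfsg.Agent.OddCyclic.CompStandard (mem_normalizer_of_forall)
open Matrix (SpecialLinearGroup)

universe u

variable {G : Type u} [Group G] [Finite G] {S : Sylow 2 G} {L V : Subgroup G} {q : ℕ}

/-! ### (0.4) -/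

/-- `V` is normal in `N(V)`, elements of odd order of `L` are fixed point free -/
theorem fpf (h : EqOne S L V q) {x : G} (hx : x ∈ L) (ho : Odd (orderOf x)) (hx1 : x ≠ 1) {v : G} (hv : v ∈ V)
    (hc : x * v = v * x) : v = 1 := by
  have h1 : v ∈ rl (bau (S : Subgroup G)) L :=
    fpf_odd h.blk hx ho hx1 (by rw [h.zl_eq]; exact hv) (by
      rw [hc, mul_inv_cancel_right, mul_inv_cancel]; exact one_mem _)
  rw [h.rl_eq, mem_bot] at h1
  exact h1

omit [Finite G] in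
theorem q_pos (h : EqOne S L V q) : 4 ≤ q := h.blk.four

omit [Finite G] in
theorem exists_ne_zc (h : EqOne S L V q) : ∃ z ∈ zc (bau (S : Subgroup G)), z ≠ 1 := by
  by_contra hcon
  push Not at hcon
  have h1 : zc (bau (S : Subgroup G)) = ⊥ := (Subgroup.eq_bot_iff_forall _).mpr hcon
  have h2 := h.card_zc
  rw [h1, card_bot] at h2
  have := h.blk.four
  omega

/-- **(0.4)** for `Z_J` -/
theorem not_dvd_ZJ (h : EqOne S L V q) {r : ℕ} (hr : r.Prime) (hrq : r ∣ q - 1) :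
    ¬ r ∣ Nat.card (centralizer (zc (bau (S : Subgroup G)) : Set G)) := by
  intro hdvd
  have hpf := Fact.mk hr
  obtain ⟨K, hKL, hcyc, hcard, hKB, -, -⟩ := exists_torus h.blk
  obtain ⟨k, hk⟩ := exists_prime_orderOf_dvd_card' (G := K) r (by rw [hcard]; exact hrq)
  obtain ⟨y, hy⟩ := exists_prime_orderOf_dvd_card' r hdvd
  have hodd := COnePair.odd_pred h.blk
  have hr2 : r ≠ 2 := by
    rintro rfl
    exact (Nat.not_even_iff_odd.mpr hodd) (even_iff_two_dvd.mpr hrq)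
  have hk' : orderOf (k : G) = r := by rw [Subgroup.orderOf_coe, hk]
  have hy' : orderOf (y : G) = r := by rw [Subgroup.orderOf_coe, hy]
  have hkn : ∀ a ∈ zc (bau (S : Subgroup G)), (k : G) * a * (k : G)⁻¹ ∈ zc (bau (S : Subgroup G)) := by
    have h1 : (k : G) ∈ normalizer (bau (S : Subgroup G) : Set G) := mem_normalizer_of_forall (hKB k k.2)
    intro a ha
    rw [ChoiceBase.mem_zc] at ha ⊢
    have h2 := mem_normalizer_iff.mp h1
    refine ⟨(h2 a).mp ha.1, ?_, fun b hb => ?_⟩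
    · rw [conj_pow, ha.2.1, mul_one, mul_inv_cancel]
    · have h3 : (k : G)⁻¹ * b * k ∈ bau (S : Subgroup G) := by
        have := (mem_normalizer_iff.mp (inv_mem h1) b).mp hb
        rwa [inv_inv] at this
      calc b * ((k : G) * a * (k : G)⁻¹) = k * (((k : G)⁻¹ * b * k) * a) * (k : G)⁻¹ := by group
        _ = k * (a * ((k : G)⁻¹ * b * k)) * (k : G)⁻¹ := by rw [ha.2.2 _ h3]
        _ = (k : G) * a * (k : G)⁻¹ * b := by group
  have h1 := AOneSit.p1 h.cx.cyc hr hr2 hk' hy' (fun a ha => (mem_centralizer_iff.mp y.2 a ha).symm) hkn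
  obtain ⟨z, hz, hz1⟩ := exists_ne_zc h
  refine hz1 (fpf h (hKL k.2) (by rw [hk']; exact hr.odd_of_ne_two hr2) ?_ (h.zc_le hz) (h1 z hz))
  intro h2
  rw [h2, orderOf_one] at hk'
  exact hr.one_lt.ne hk'

/-- an element of order `r` in `L` -/
theorem exists_order (h : EqOne S L V q) {r : ℕ} (hr : r.Prime) (hrq : r ∣ q ^ 2 - 1) :
    ∃ x ∈ L, orderOf x = r := by
  have hpf := Fact.mk hr
  have h1 : r ∣ Nat.card L := by
    rw [card_L h.blk]
    have h2 : q ^ 2 - 1 = (q + 1) * (q - 1) := by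
      have := Nat.sq_sub_sq q 1
      rwa [one_pow] at this
    rw [h2] at hrq
    have h3 : (q + 1) * q * (q - 1) * Nat.card (o2 L) = (q + 1) * (q - 1) * (q * Nat.card (o2 L)) := by ring
    rw [h3]
    exact hrq.mul_right _
  obtain ⟨x, hx⟩ := exists_prime_orderOf_dvd_card' r h1
  exact ⟨x, x.2, by rw [Subgroup.orderOf_coe, hx]⟩

omit [Finite G] in
theorem odd_sq_pred (h : EqOne S L V q) : Odd (q ^ 2 - 1) := by
  obtain ⟨n, hn, hq⟩ := pow h.blk
  have h1 : Even (q ^ 2) := by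
    rw [hq]
    exact Nat.even_pow.mpr ⟨Nat.even_pow.mpr ⟨even_two, by omega⟩, by omega⟩
  have h2 : 1 ≤ q ^ 2 := Nat.one_le_pow _ _ (by have := h.blk.four; omega)
  exact Nat.Even.sub_odd h2 h1 odd_one

/-- **(0.4)** for `V` -/
theorem not_dvd_V (h : EqOne S L V q) {r : ℕ} (hr : r.Prime) (hrq : r ∣ q ^ 2 - 1) :
    ¬ r ∣ Nat.card (centralizer (V : Set G)) := by
  intro hdvd
  have hpf := Fact.mk hr
  obtain ⟨x, hxL, hx⟩ := exists_order h hr hrq
  obtain ⟨y, hy⟩ := exists_prime_orderOf_dvd_card' r hdvd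
  have hr2 : r ≠ 2 := by
    rintro rfl
    exact (Nat.not_even_iff_odd.mpr (odd_sq_pred h)) (even_iff_two_dvd.mpr hrq)
  have hy' : orderOf (y : G) = r := by rw [Subgroup.orderOf_coe, hy]
  have hxn : ∀ a ∈ V, x * a * x⁻¹ ∈ V := by
    intro a ha
    have h1 := zl_conj (B := bau (S : Subgroup G)) hxL (v := a) (by rw [h.zl_eq]; exact ha)
    rwa [h.zl_eq] at h1
  have h1 := AOneSit.p1 h.cx.cyc hr hr2 hx hy' (fun a ha => (mem_centralizer_iff.mp y.2 a ha).symm) hxn
  obtain ⟨z, hz, hz1⟩ := exists_ne_zc h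
  refine hz1 (fpf h hxL (by rw [hx]; exact hr.odd_of_ne_two hr2) ?_ (h.zc_le hz) (h1 z (h.zc_le hz)))
  intro h2
  rw [h2, orderOf_one] at hx
  exact hr.one_lt.ne hx

omit [Finite G] in
theorem three_dvd (h : EqOne S L V q) : 3 ∣ q ^ 2 - 1 := by
  obtain ⟨n, hn, hq⟩ := pow h.blk
  rw [hq, ← pow_mul, mul_comm, pow_mul]
  have h1 : (2 ^ 2) ^ n ≡ 1 ^ n [MOD 3] := Nat.ModEq.pow n (by decide)
  rw [one_pow] at h1
  exact (Nat.modEq_iff_dvd' (Nat.one_le_pow _ _ (by norm_num))).mp h1.symm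

/-- `3 ∤ |C_G(V)|` -/
theorem not_three_V (h : EqOne S L V q) : ¬ 3 ∣ Nat.card (centralizer (V : Set G)) :=
  not_dvd_V h Nat.prime_three (three_dvd h)

/-! ### (0.5) -/

variable {F : Type} [Field F] [Fintype F] [CharP F 2] {e : F → F → G} {φ : L →* SpecialLinearGroup (Fin 2) F}

/-- **(0.5)**: `c ∈ N(V) ∩ C(Z_J)` acts as a root element -/
theorem root (h : EqOne S L V q) (c : Co (bau (S : Subgroup G)) L V e φ) (hq : Fintype.card F = q) {m : G}
    (hm : m ∈ normalizer (V : Set G)) (hmc : m ∈ centralizer (zc (bau (S : Subgroup G)) : Set G)) :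
    ∃ t, ∀ x y, m * e x y * m⁻¹ = e (x + t * y) y := by
  classical
  obtain ⟨σ, a, b, c', d, hdet, hs⟩ := semi h c hm
  have h1 : ∀ x, a * σ x = x ∧ c' * σ x = 0 := by
    intro x
    have h2 := hs x 0
    rw [map_zero, mul_zero, mul_zero, add_zero, add_zero] at h2
    have h3 : e x 0 * m = m * e x 0 := mem_centralizer_iff.mp hmc _ ((mem_zc h c).mpr ⟨x, rfl⟩)
    rw [← h3, mul_inv_cancel_right] at h2
    obtain ⟨h4, h5⟩ := c.ext h2
    exact ⟨h4.symm, h5.symm⟩
  have ha : a = 1 := by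
    have := (h1 1).1
    rwa [map_one, mul_one] at this
  have hc' : c' = 0 := by
    have := (h1 1).2
    rwa [map_one, mul_one] at this
  have hσ : ∀ x, σ x = x := by
    intro x
    have := (h1 x).1
    rwa [ha, one_mul] at this
  have hd0 : d ≠ 0 := by
    rw [ha, hc', one_mul, mul_zero, add_zero] at hdet
    exact hdet
  have hs' : ∀ x y, m * e x y * m⁻¹ = e (x + b * y) (d * y) := by
    intro x y
    rw [hs, ha, hc', hσ, hσ, one_mul, zero_mul, zero_add]
  -- powers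
  have hpow : ∀ n : ℕ, ∃ b' : F, ∀ x y, m ^ n * e x y * (m ^ n)⁻¹ = e (x + b' * y) (d ^ n * y) := by
    intro n
    induction n with
    | zero => exact ⟨0, fun x y => by rw [pow_zero, pow_zero, zero_mul, add_zero, one_mul, one_mul, inv_one, mul_one]⟩
    | succ n ih =>
      obtain ⟨b', hb'⟩ := ih
      refine ⟨b' + b * d ^ n, fun x y => ?_⟩
      have h2 : m ^ (n + 1) * e x y * (m ^ (n + 1))⁻¹ = m * (m ^ n * e x y * (m ^ n)⁻¹) * m⁻¹ := by
        rw [pow_succ']; group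
      rw [h2, hb', hs']
      congr 1
      · ring
      · rw [pow_succ']; ring
  have hd1 : d = 1 := by
    by_contra hd
    set u : Fˣ := Units.mk0 d hd0 with hu
    have hu1 : u ≠ 1 := by
      intro h2
      apply hd
      have := congrArg Units.val h2
      rwa [Units.val_mk0, Units.val_one] at this
    have ho1 : orderOf u ≠ 1 := fun h2 => hu1 (orderOf_eq_one_iff.mp h2)
    set r := (orderOf u).minFac with hrd
    have hr : r.Prime := Nat.minFac_prime ho1
    have hru : r ∣ orderOf u := Nat.minFac_dvd _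
    have hrq : r ∣ q - 1 := by
      refine hru.trans ?_
      have := orderOf_dvd_card (x := u)
      rwa [Fintype.card_units, hq] at this
    have hum : orderOf u ∣ orderOf m := by
      apply orderOf_dvd_of_pow_eq_one
      obtain ⟨b', hb'⟩ := hpow (orderOf m)
      have h2 := hb' 0 1
      rw [pow_orderOf_eq_one, one_mul, inv_one, mul_one, zero_add, mul_one, mul_one] at h2
      obtain ⟨-, h3⟩ := c.ext h2
      apply Units.ext
      rw [Units.val_pow_eq_pow_val, Units.val_mk0, Units.val_one]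
      exact h3.symm
    apply not_dvd_ZJ h hr hrq
    have h2 : orderOf (⟨m, hmc⟩ : centralizer (zc (bau (S : Subgroup G)) : Set G)) = orderOf m := Subgroup.orderOf_mk _ _
    exact (hru.trans hum).trans (h2 ▸ orderOf_dvd_natCard _)
  refine ⟨b, fun x y => ?_⟩
  rw [hs', hd1, one_mul]

/-- `N(V) ∩ C(Z_J) = C(V) B` -/
theorem root_mul (h : EqOne S L V q) (c : Co (bau (S : Subgroup G)) L V e φ) (hq : Fintype.card F = q) {m : G}
    (hm : m ∈ normalizer (V : Set G)) (hmc : m ∈ centralizer (zc (bau (S : Subgroup G)) : Set G)) :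
    ∃ b ∈ bau (S : Subgroup G), ∃ k ∈ centralizer (V : Set G), m = b * k := by
  obtain ⟨t, ht⟩ := root h c hq hm hmc
  obtain ⟨b, hb, hbe⟩ := c.exists_up t
  refine ⟨b, hb, b⁻¹ * m, ?_, by group⟩
  rw [mem_centralizer_iff]
  intro v hv
  obtain ⟨x, y, rfl⟩ := (c.mem v).mp hv
  have h1 : m * e x y * m⁻¹ = b * e x y * b⁻¹ := by rw [ht, hbe]
  calc e x y * (b⁻¹ * m) = b⁻¹ * (b * e x y * b⁻¹) * m := by group
    _ = b⁻¹ * (m * e x y * m⁻¹) * m := by rw [h1]
    _ = b⁻¹ * m * e x y := by group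

omit [CharP F 2] [Fintype F] in
/-- Artin -/
theorem artin [Finite F] (A : Subgroup (RingAut F)) (τ : RingAut F)
    (h : ∀ x : F, (∀ σ ∈ A, σ x = x) → τ x = x) : τ ∈ A := by
  have hfin : Finite (RingAut F) := DFunLike.finite _
  let _ : MulSemiringAction A F := MulSemiringAction.compHom F A.subtype
  let f : F ≃ₐ[FixedPoints.subfield A F] F :=
    AlgEquiv.ofRingEquiv (f := τ) (fun ⟨x, hx⟩ => h x (fun σ hσ => hx ⟨σ, hσ⟩))
  obtain ⟨g, hg⟩ := FixedPoints.toAlgAut_surjective A F f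
  have h1 : (g : RingAut F) = τ := by
    ext x
    exact congrArg (fun k : F ≃ₐ[FixedPoints.subfield A F] F => k x) hg
  rw [← h1]
  exact g.2

/-- elements of `N(V)` fixing a vector of `Z_J` -/
theorem exists_tau (h : EqOne S L V q) (c : Co (bau (S : Subgroup G)) L V e φ) {z₀ : F} (hz : z₀ ≠ 0) {m : G}
    (hm : m ∈ normalizer (V : Set G)) (hmz : m * e z₀ 0 = e z₀ 0 * m) :
    ∃ τ : RingAut F, ∀ x, m * e (z₀ * x) 0 * m⁻¹ = e (z₀ * τ x) 0 := by
  obtain ⟨σ, a, b, c', d, hdet, hs⟩ := semi h c hm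
  have h1 := hs z₀ 0
  rw [map_zero, mul_zero, mul_zero, add_zero, add_zero, hmz, mul_inv_cancel_right] at h1
  obtain ⟨h2, h3⟩ := c.ext h1
  have hσz : σ z₀ ≠ 0 := fun h4 => hz (σ.injective (by rw [h4, map_zero]))
  have hc' : c' = 0 := by
    rcases mul_eq_zero.mp h3.symm with h4 | h4
    · exact h4
    · exact absurd h4 hσz
  refine ⟨σ, fun x => ?_⟩
  rw [hs, map_zero, mul_zero, mul_zero, add_zero, add_zero, hc', zero_mul, map_mul, ← mul_assoc, ← h2]

/-- **(0.5)**: `N(V) ∩ C(Ω₁Z(S)) = S C(V)` -/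
theorem cent_zc (h : EqOne S L V q) (c : Co (bau (S : Subgroup G)) L V e φ) (hq : Fintype.card F = q) {m : G}
    (hm : m ∈ normalizer (V : Set G)) (hmc : m ∈ centralizer (zc (S : Subgroup G) : Set G)) :
    ∃ s ∈ (S : Subgroup G), ∃ k ∈ centralizer (V : Set G), m = s * k := by
  have hB1 : bau (S : Subgroup G) ≠ ⊥ := by
    intro h1
    have h2 := h.card_zc
    have h3 : zc (bau (S : Subgroup G)) ≤ bau (S : Subgroup G) := fun x hx => (ChoiceBase.mem_zc.mp hx).1
    rw [h1, le_bot_iff] at h3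
    rw [h1, h3, card_bot] at h2
    have := h.blk.four
    omega
  have hS1 : (S : Subgroup G) ≠ ⊥ := by
    intro h1
    apply hB1
    have h2 := ChoiceBase.bau_le (S : Subgroup G)
    rw [h1, le_bot_iff] at h2
    rw [h1]; exact h2
  have hle : zc (S : Subgroup G) ≤ zc (bau (S : Subgroup G)) := by
    rw [ChoiceBase.zc_bau]; exact ChoiceBase.zc_le_zj _
  obtain ⟨z, hz, hz1⟩ : ∃ z ∈ zc (S : Subgroup G), z ≠ 1 := by
    by_contra hcon
    push Not at hcon
    exact ChoiceSit.zc_ne_bot S.isPGroup' hS1 ((Subgroup.eq_bot_iff_forall _).mpr hcon)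
  obtain ⟨z₀, rfl⟩ := (mem_zc h c).mp (hle hz)
  have hz0 : z₀ ≠ 0 := by
    rintro rfl
    exact hz1 c.zero
  have hSz : ∀ s ∈ (S : Subgroup G), s * e z₀ 0 = e z₀ 0 * s := fun s hs => (ChoiceBase.mem_zc.mp hz).2.2 s hs
  -- the automorphisms induced by `S`
  let A : Subgroup (RingAut F) :=
    { carrier := {σ | ∃ s ∈ (S : Subgroup G), ∀ x, s * e (z₀ * x) 0 * s⁻¹ = e (z₀ * σ x) 0}
      one_mem' := ⟨1, one_mem _, fun x => by rw [one_mul, inv_one, mul_one]; rfl⟩
      mul_mem' := by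
        rintro σ τ ⟨s, hs, hs'⟩ ⟨t, ht, ht'⟩
        refine ⟨s * t, mul_mem hs ht, fun x => ?_⟩
        have h1 : s * t * e (z₀ * x) 0 * (s * t)⁻¹ = s * (t * e (z₀ * x) 0 * t⁻¹) * s⁻¹ := by group
        rw [h1, ht', hs']
        rfl
      inv_mem' := by
        rintro σ ⟨s, hs, hs'⟩
        refine ⟨s⁻¹, inv_mem hs, fun x => ?_⟩
        have h1 := hs' (σ⁻¹ x)
        have h2 : σ (σ⁻¹ x) = x := σ.apply_symm_apply x
        rw [h2] at h1
        rw [← h1]
        group }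
  obtain ⟨τ, hτ⟩ := exists_tau h c hz0 hm (mem_centralizer_iff.mp hmc _ hz).symm
  have hτA : τ ∈ A := by
    apply artin
    intro x hx
    have h1 : e (z₀ * x) 0 ∈ zc (S : Subgroup G) := by
      rw [ChoiceBase.mem_zc]
      have h2 : e (z₀ * x) 0 ∈ zc (bau (S : Subgroup G)) := (mem_zc h c).mpr ⟨_, rfl⟩
      refine ⟨ChoiceBase.bau_le _ (ChoiceBase.mem_zc.mp h2).1, (ChoiceBase.mem_zc.mp h2).2.1, fun s hs => ?_⟩
      obtain ⟨σ, hσ⟩ := exists_tau h c hz0 (h.S_V hs) (hSz s hs)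
      have h3 : σ x = x := hx σ ⟨s, hs, hσ⟩
      have h4 := hσ x
      rw [h3] at h4
      calc s * e (z₀ * x) 0 = (s * e (z₀ * x) 0 * s⁻¹) * s := by group
        _ = e (z₀ * x) 0 * s := by rw [h4]
    have h2 := hτ x
    rw [← mem_centralizer_iff.mp hmc _ h1, mul_inv_cancel_right] at h2
    exact (mul_left_cancel₀ hz0 (c.ext h2).1).symm
  obtain ⟨s, hs, hs'⟩ := hτA
  have h1 : s⁻¹ * m ∈ centralizer (zc (bau (S : Subgroup G)) : Set G) := by
    rw [mem_centralizer_iff]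
    intro w hw
    obtain ⟨x, rfl⟩ := (mem_zc h c).mp hw
    have h2 := hs' (z₀⁻¹ * x)
    have h3 := hτ (z₀⁻¹ * x)
    rw [mul_inv_cancel_left₀ hz0] at h2 h3
    rw [← h2] at h3
    calc e x 0 * (s⁻¹ * m) = s⁻¹ * (s * e x 0 * s⁻¹) * m := by group
      _ = s⁻¹ * (m * e x 0 * m⁻¹) * m := by rw [h3]
      _ = s⁻¹ * m * e x 0 := by group
  obtain ⟨b, hb, k, hk, hbk⟩ := root_mul h c hq (mul_mem (inv_mem (h.S_V hs)) hm) h1
  refine ⟨s * b, mul_mem hs (ChoiceBase.bau_le _ hb), k, hk, ?_⟩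
  rw [mul_assoc, ← hbk, mul_inv_cancel_left]

/-- `C₀ = C_M(Z_J)` is a `3'`-group -/
theorem not_three_C0 (h : EqOne S L V q) (c : Co (bau (S : Subgroup G)) L V e φ) (hq : Fintype.card F = q) :
    ¬ 3 ∣ Nat.card (normalizer (V : Set G) ⊓ centralizer (zc (bau (S : Subgroup G)) : Set G) : Subgroup G) := by
  intro hdvd
  obtain ⟨x, hx⟩ := exists_prime_orderOf_dvd_card' 3 hdvd
  have hx3 : (x : G) * x * x = 1 := by
    have := pow_orderOf_eq_one (x : G)
    rwa [Subgroup.orderOf_coe, hx, pow_succ, pow_two] at this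
  obtain ⟨t, ht⟩ := root h c hq x.2.1 x.2.2
  have ht0 : t = 0 := by
    have h2 : ∀ a b : F, ((x : G) * x * x) * e a b * ((x : G) * x * x)⁻¹ = e (a + t * b) b := by
      intro a b
      have h3 : ((x : G) * x * x) * e a b * ((x : G) * x * x)⁻¹ =
          x * (x * (x * e a b * (x : G)⁻¹) * (x : G)⁻¹) * (x : G)⁻¹ := by
        group
      rw [h3, ht, ht, ht]
      congr 1
      have h4 : t * b + t * b = 0 := CharTwo.add_self_eq_zero _
      linear_combination h4
    have h3 := h2 0 1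
    rw [hx3, one_mul, inv_one, mul_one, zero_add, mul_one] at h3
    exact (c.ext h3).1.symm
  apply not_three_V h
  have h2 : (x : G) ∈ centralizer (V : Set G) := by
    rw [mem_centralizer_iff]
    intro v hv
    obtain ⟨a, b, rfl⟩ := (c.mem v).mp hv
    have h3 := ht a b
    rw [ht0, zero_mul, add_zero] at h3
    calc e a b * (x : G) = ((x : G) * e a b * (x : G)⁻¹) * x := by rw [h3]
      _ = x * e a b := by group
  have h3 : orderOf (⟨(x : G), h2⟩ : centralizer (V : Set G)) = 3 := by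
    rw [Subgroup.orderOf_mk, Subgroup.orderOf_coe, hx]
  rw [← h3]
  exact orderOf_dvd_natCard _

omit [Finite G] in
/-- `N(V)` normalises `C(V)` -/
theorem conj_cent {m k : G} (hm : m ∈ normalizer (V : Set G)) (hk : k ∈ centralizer (V : Set G)) :
    m⁻¹ * k * m ∈ centralizer (V : Set G) := by
  rw [mem_centralizer_iff] at hk ⊢
  intro v hv
  have h1 := hk _ ((mem_normalizer_iff.mp hm v).mp hv)
  calc v * (m⁻¹ * k * m) = m⁻¹ * ((m * v * m⁻¹) * k) * m := by group
    _ = m⁻¹ * (k * (m * v * m⁻¹)) * m := by rw [h1]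
    _ = m⁻¹ * k * m * v := by group

omit [Finite G] in
theorem pow_mod {s k : G} (hs : s ∈ normalizer (V : Set G)) (hk : k ∈ centralizer (V : Set G)) (n : ℕ) :
    ∃ k' ∈ centralizer (V : Set G), (s * k) ^ n = s ^ n * k' := by
  induction n with
  | zero => exact ⟨1, one_mem _, by rw [pow_zero, pow_zero, mul_one]⟩
  | succ n ih =>
    obtain ⟨k', hk', he⟩ := ih
    refine ⟨s⁻¹ * k' * s * k, mul_mem (conj_cent hs hk') hk, ?_⟩
    rw [pow_succ, he, pow_succ]
    group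

/-- `N(V) ∩ C(Ω₁Z(S))` acts on `V` as a 2-group -/
theorem two_zc (h : EqOne S L V q) (c : Co (bau (S : Subgroup G)) L V e φ) (hq : Fintype.card F = q) {m : G}
    (hm : m ∈ normalizer (V : Set G)) (hmc : m ∈ centralizer (zc (S : Subgroup G) : Set G)) :
    ∃ n : ℕ, m ^ 2 ^ n ∈ centralizer (V : Set G) := by
  obtain ⟨s, hs, k, hk, rfl⟩ := cent_zc h c hq hm hmc
  obtain ⟨n, hn⟩ := S.isPGroup' ⟨s, hs⟩
  have hn' : s ^ 2 ^ n = 1 := congrArg Subtype.val hn
  obtain ⟨k', hk', he⟩ := pow_mod (h.S_V hs) hk (2 ^ n)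
  exact ⟨n, by rw [he, hn', one_mul]; exact hk'⟩

/-- `C_M(Ω₁Z(S))` is a `3'`-group -/
theorem not_three_C1 (h : EqOne S L V q) (c : Co (bau (S : Subgroup G)) L V e φ) (hq : Fintype.card F = q) :
    ¬ 3 ∣ Nat.card (normalizer (V : Set G) ⊓ centralizer (zc (S : Subgroup G) : Set G) : Subgroup G) := by
  intro hdvd
  obtain ⟨x, hx⟩ := exists_prime_orderOf_dvd_card' 3 hdvd
  have hx' : orderOf (x : G) = 3 := by rw [Subgroup.orderOf_coe, hx]
  obtain ⟨n, hn⟩ := two_zc h c hq x.2.1 x.2.2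
  have h1 : Nat.Coprime (2 ^ n) (orderOf (x : G)) := by
    rw [hx']
    exact Nat.Coprime.pow_left n (by norm_num)
  obtain ⟨k, hk⟩ := exists_pow_eq_self_of_coprime h1
  have h2 : (x : G) ∈ centralizer (V : Set G) := by
    rw [← hk]
    exact pow_mem hn k
  apply not_three_V h
  have h3 : orderOf (⟨(x : G), h2⟩ : centralizer (V : Set G)) = 3 := by
    rw [Subgroup.orderOf_mk, hx']
  rw [← h3]
  exact orderOf_dvd_natCard _

end Cfsg.Agent.OddCyclic.Eq.Base
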