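import Cfsg.Agent.OddCyclic.RedU
import Cfsg.Agent.OddCyclic.RedSevenA
import Cfsg.Agent.OddCyclic.EmpFlat
import Cfsg.Agent.OddCyclic.CycConj

/-!
# (E_q) of `T_cyc`: Lemma U (section 1 of blueprints/S0342-A2-helper402.md)

`S` Sylow 2-subgroup, `B = bau S`, `J = Z_J = zc B`, `V` the natural module of order `q²`.

* `bc_three` : a 2-local of type `bc` contains an element of order 3 in `N(J(T))`;
* `exists_k`, `no_fix`, `cent_free` : (0.4), elements of prime order `r ∣ q - 1`, `r ∣ q² - 1`;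
* `orbit` : (0.6), the conjugates of `Z_J` over `R` are conjugate under `C_G(R)`;
* `type_zero` : 2-locals with a fixed point in `Z_J` are of type `zero` (`S = B` or `3 ∣ q - 1`);
* `lemU` : (1.1);
* `card_le`, `cent_le` : (1.2);
* `red` : (1.5).
-/

set_option autoImplicit false
set_option linter.unusedSectionVars false

namespace Cfsg.Agent.OddCyclic.Eq.LemU

open Subgroup Cfsg Cfsg.Agent.ZN Cfsg.Agent.MinSimple
open Cfsg.Agent.ZN.ChoiceBase (AA cj)
open Cfsg.Agent.OddCyclic.RedX (mod Loc IsB)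
open Cfsg.Agent.OddCyclic.RedTy
open Cfsg.Agent.OddCyclic.COneDefs (LBlk)
open Cfsg.Agent.OddCyclic.T1Defs (OddCyc)
open Cfsg.Agent.OddCyclic.RedU (EqOne)
open Cfsg.Agent.OddCyclic.FFThree

universe u

variable {G : Type u} [Group G] [Finite G]

/-! ### General facts -/

omit [Finite G] in
/-- a 2-group `T > B`, `B` not all of `T`: an element of `T - B` with square in `B` -/
theorem exists_sq_mem {T B : Subgroup G} (hT : IsPGroup 2 T) (h : ¬ T ≤ B) : ∃ s ∈ T, s ∉ B ∧ s * s ∈ B := by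
  obtain ⟨t, ht, htB⟩ := SetLike.not_le_iff_exists.1 h
  obtain ⟨n, hn⟩ := hT ⟨t, ht⟩
  have hn' : t ^ 2 ^ n ∈ B := by
    have : t ^ 2 ^ n = 1 := congrArg Subtype.val hn
    rw [this]; exact one_mem B
  clear hn
  induction n with
  | zero => rw [pow_zero, pow_one] at hn'; exact absurd hn' htB
  | succ n ih =>
    by_cases h1 : t ^ 2 ^ n ∈ B
    · exact ih h1
    · refine ⟨t ^ 2 ^ n, pow_mem ht _, h1, ?_⟩
      rwa [← pow_add, ← two_mul, ← pow_succ']

omit [Finite G] in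
theorem conj_comm {g x w : G} : g * x * g⁻¹ * (g * w * g⁻¹) = g * w * g⁻¹ * (g * x * g⁻¹) ↔ x * w = w * x := by
  constructor
  · intro h
    calc x * w = g⁻¹ * (g * x * g⁻¹ * (g * w * g⁻¹)) * g := by group
      _ = g⁻¹ * (g * w * g⁻¹ * (g * x * g⁻¹)) * g := by rw [h]
      _ = w * x := by group
  · intro h
    calc g * x * g⁻¹ * (g * w * g⁻¹) = g * (x * w) * g⁻¹ := by group
      _ = g * (w * x) * g⁻¹ := by rw [h]
      _ = _ := by group

/-- (0.4): elements `x`, `y` of the same odd prime order in `H ≤ N(W)`, `x` without fixed points on `W` -/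
theorem fpf_of (hG : OddCyc G) {r : ℕ} (hr : r.Prime) (hr2 : r ≠ 2) {H W : Subgroup G} {x y : G} (hH : H ≤ normalizer (W : Set G))
    (hx : x ∈ H) (hy : y ∈ H) (hox : orderOf x = r) (hoy : orderOf y = r) (hf : ∀ w ∈ W, x * w = w * x → w = 1) :
    ∀ w ∈ W, y * w = w * y → w = 1 := by
  intro w hw hyw
  obtain ⟨g, hg, he⟩ := CycConj.prime_power hG hr hr2 (a := 1) hx hy (by rw [pow_one]; exact hox) (by rw [pow_one]; exact hoy)
  have h1 : g * w * g⁻¹ ∈ W := Four.conj_mem (hH hg) hw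
  have h2 : Commute (g * y * g⁻¹) (g * w * g⁻¹) := conj_comm.2 hyw
  have h3 : x ∈ zpowers (g * y * g⁻¹) := by rw [he]; exact mem_zpowers x
  obtain ⟨n, hn⟩ := mem_zpowers_iff.1 h3
  have h4 := hf _ h1 (by rw [← hn]; exact (h2.zpow_left n).eq)
  rwa [conj_eq_one_iff] at h4

/-! ### type `bc` -/

/-- a 2-local of type `bc` contains an element of order 3 normalising `J(T)` -/
theorem bc_three {X T Y L : Subgroup G} (hY : YC X T Y) (h : BcY X T Y L) :
    ∃ x ∈ X, x ∈ normalizer (jj T : Set G) ∧ orderOf x = 3 := by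
  have hf2 : Fact (Nat.Prime 2) := ⟨Nat.prime_two⟩
  obtain ⟨Q, _, π, hπ, hker, hs, hc⟩ := h.simple
  have hQ : Finite Q := Finite.of_surjective π hπ
  have hL := COneSeven.l32 hs hc
  have hk : ∀ x : L, π x = 1 ↔ (x : G) ∈ centralizer (Y : Set G) := by
    intro x
    rw [← MonoidHom.mem_ker, hker, mem_subgroupOf]
  -- the image `A` of `J(T)`
  set A : Subgroup Q := ((jj T).subgroupOf L).map π with hA
  have hA4 : Nat.card A = 4 := by
    rw [hA, ← relIndex_ker, hker, relIndex_subgroupOf h.jj_le, ← inf_relIndex_left]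
    exact h.four
  have hAF : IsFour A := by
    refine ⟨hA4, ?_⟩
    rintro _ ⟨j, hj, rfl⟩
    obtain ⟨A₀, hA₀, hne⟩ : ∃ A₀ ∈ AA T, ¬ A₀ ≤ centralizer (Y : Set G) := by
      by_contra hcon
      push Not at hcon
      have h1 : jj T ≤ centralizer (Y : Set G) := by
        rw [ChoiceBase.jj_eq]
        exact sSup_le hcon
      have h2 := h.four
      rw [inf_eq_left.2 h1, relIndex_self] at h2
      omega
    have h1 := (h.img A₀ hA₀).resolve_left hne
    have h2 := h1 (mem_subgroupOf.1 hj)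
    have hn : A₀ ≤ normalizer ((X ⊓ centralizer (Y : Set G) : Subgroup G) : Set G) := by
      have hAX : A₀ ≤ X := hA₀.2.1.trans hY.TX
      refine hAX.trans (le_trans (le_inf le_normalizer ?_) inf_normalizer_le_normalizer_inf)
      exact hY.nor.trans (DBlkReduce.nc _)
    obtain ⟨a, ha, c, hc, hac⟩ : ∃ a ∈ A₀, ∃ c ∈ X ⊓ centralizer (Y : Set G), a * c = (j : G) := by
      have h3 : (j : G) ∈ ((A₀ ⊔ (X ⊓ centralizer (Y : Set G)) : Subgroup G) : Set G) := h2
      rw [coe_mul_of_left_le_normalizer_right _ _ hn] at h3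
      obtain ⟨a, ha, c, hc, hac⟩ := h3
      exact ⟨a, ha, c, hc, hac⟩
    have haL : a ∈ L := h.jj_le (ChoiceBase.le_jj hA₀ ha)
    have h4 : π j = π ⟨a, haL⟩ := by
      have h5 : π (⟨a, haL⟩⁻¹ * j) = 1 := by
        rw [hk]
        change a⁻¹ * (j : G) ∈ _
        rw [← hac, inv_mul_cancel_left]
        exact hc.2
      rw [map_mul, map_inv] at h5
      exact (inv_mul_eq_one.1 h5).symm
    rw [h4, ← map_mul]
    have h6 : a * a = 1 := by
      have := hA₀.1.2 a ha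
      rwa [pow_two] at this
    have h7 : (⟨a, haL⟩ * ⟨a, haL⟩ : L) = 1 := Subtype.ext h6
    rw [h7, map_one]
  -- Sylow
  have hT₁s : ¬ 2 ∣ (T ⊓ L).relIndex L := Red.not_dvd_inf hY.two hY.syl h.le h.norm
  have hT₁p : IsPGroup 2 (T ⊓ L : Subgroup G) := hY.two.to_le inf_le_left
  have hT₂p : IsPGroup 2 ((T ⊓ L).subgroupOf L) := hT₁p.comap_of_injective _ L.subtype_injective
  set P₁ : Sylow 2 L := hT₂p.toSylow hT₁s with hP₁
  have hP₁c : (P₁ : Subgroup L) = (T ⊓ L).subgroupOf L := rfl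
  set P₂ : Sylow 2 Q := P₁.mapSurjective hπ with hP₂
  have hP₂c : (P₂ : Subgroup Q) = (P₁ : Subgroup L).map π := Sylow.coe_mapSurjective hπ P₁
  have hjT : jj T ≤ T ⊓ L := le_inf (ZN.jj_le T) h.jj_le
  have hAP : A ≤ P₂ := by
    rw [hP₂c, hA]
    refine Subgroup.map_mono fun j hj => ?_
    rw [hP₁c, mem_subgroupOf]
    exact hjT (mem_subgroupOf.1 hj)
  have hPN : (P₂ : Subgroup Q) ≤ normalizer (A : Set Q) := sylow_le_normalizer hL P₂ hAF hAP
  obtain ⟨z, hz, a, ha, hza, hmem⟩ := hAF.exists_four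
  obtain ⟨y, hyN, hy3, hy1, hy2⟩ := fuse_mem hL hza hmem
  have hzne : z ≠ a := hza.ne
  set P : Subgroup G := (A.comap π).map L.subtype with hP
  set N : Subgroup G := ((normalizer (A : Set Q)).comap π).map L.subtype with hN
  have hNL : N ≤ L := map_subtype_le _
  have hmN : ∀ x : L, (x : G) ∈ N ↔ π x ∈ normalizer (A : Set Q) := by
    intro x
    constructor
    · rintro ⟨x', hx', he⟩
      have : x' = x := Subtype.ext he
      subst this
      exact hx'
    · intro hx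
      exact ⟨x, hx, rfl⟩
  have hmP : ∀ x : L, (x : G) ∈ P ↔ π x ∈ A := by
    intro x
    constructor
    · rintro ⟨x', hx', he⟩
      have : x' = x := Subtype.ext he
      subst this
      exact hx'
    · intro hx
      exact ⟨x, hx, rfl⟩
  have hPL : P ≤ L := map_subtype_le _
  have hNP : N ≤ normalizer (P : Set G) := by
    rw [le_normalizer_iff]
    intro n hn p hp
    have h1 := (hmN ⟨n, hNL hn⟩).1 hn
    have h2 := (hmP ⟨p, hPL hp⟩).1 hp
    have h3 := (hmP (⟨n, hNL hn⟩ * ⟨p, hPL hp⟩ * ⟨n, hNL hn⟩⁻¹)).2 (by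
      rw [map_mul, map_mul, map_inv]
      exact (mem_normalizer_iff.1 h1 _).1 h2)
    exact h3
  have hTN : T ⊓ L ≤ N := by
    intro t ht
    have h1 := (hmN ⟨t, ht.2⟩).2 (hPN (by
      rw [hP₂c]
      exact ⟨⟨t, ht.2⟩, mem_subgroupOf.2 ht, rfl⟩))
    exact h1
  have hTs : ¬ 2 ∣ (T ⊓ L).relIndex N := DBlkReduce.not_dvd_of_le hT₁s hTN hNL
  obtain ⟨l, hl⟩ := hπ y
  have hlN : (l : G) ∈ N := (hmN l).2 (by rw [hl]; exact hyN)
  obtain ⟨p, hp, m, hm, he⟩ := LemXPerm.exists_frattini hTN hT₁p hTs hNP hlN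
  have hjP : jj T ≤ P := by
    intro j hj
    exact (hmP ⟨j, h.jj_le hj⟩).2 ⟨⟨j, h.jj_le hj⟩, mem_subgroupOf.2 hj, rfl⟩
  have hjj : jj (T ⊓ L ⊓ P) = jj T := ZN.jj_eq_of_le (le_inf hjT hjP) (inf_le_left.trans inf_le_left)
  have hmJ : m ∈ normalizer (jj T : Set G) := by
    rw [← hjj]
    exact ZN.normalizer_le_normalizer_jj _ hm.2
  have hmL : m ∈ L := hNL hm.1
  -- the order of `m` is divisible by 3
  have h3 : 3 ∣ orderOf m := by
    by_contra h3
    have h4 : 3 ∣ orderOf m ∨ Nat.Coprime 3 (orderOf m) := by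
      rcases Nat.coprime_or_dvd_of_prime Nat.prime_three (orderOf m) with h5 | h5
      · exact Or.inr h5
      · exact Or.inl h5
    have h5 := h4.resolve_left h3
    obtain ⟨j, hj⟩ := exists_pow_eq_self_of_coprime h5
    set w : Q := π ⟨m, hmL⟩ with hw
    have hpy : π ⟨p, hPL hp⟩ * w = y := by
      rw [hw, ← map_mul, ← hl]
      congr 1
      exact Subtype.ext he.symm
    have hpA : π ⟨p, hPL hp⟩ ∈ A := (hmP _).1 hp
    have hcA : ∀ b ∈ A, ∀ c ∈ A, b * c = c * b := by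
      intro b hb c hc
      exact Four.comm_of_sq (V := A) (fun v hv => by rw [pow_two]; exact hAF.sq v hv) hb hc
    have hwy : w = (π ⟨p, hPL hp⟩)⁻¹ * y := by rw [← hpy, inv_mul_cancel_left]
    set b := π ⟨p, hPL hp⟩ with hb
    have hact : ∀ c ∈ A, y * c * y⁻¹ ∈ A → w * c * w⁻¹ = y * c * y⁻¹ := by
      intro c _ hyc
      rw [hwy]
      calc b⁻¹ * y * c * (b⁻¹ * y)⁻¹ = b⁻¹ * ((y * c * y⁻¹) * b) := by group
        _ = b⁻¹ * (b * (y * c * y⁻¹)) := by rw [hcA _ hyc _ hpA]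
        _ = _ := by rw [inv_mul_cancel_left]
    have w1 : w * z * w⁻¹ = a := by rw [hact z hz (by rw [hy1]; exact ha), hy1]
    have w2 : w * a * w⁻¹ = z * a := by rw [hact a ha (by rw [hy2]; exact mul_mem hz ha), hy2]
    have w3 : w * (z * a) * w⁻¹ = z := by
      have e : w * (z * a) * w⁻¹ = (w * z * w⁻¹) * (w * a * w⁻¹) := by group
      rw [e, w1, w2, hcA z hz a ha, ← mul_assoc, hAF.sq a ha, one_mul]
    have w4 : w ^ 3 * z = z * w ^ 3 := by
      have e : w ^ 3 * z * (w ^ 3)⁻¹ = w * (w * (w * z * w⁻¹) * w⁻¹) * w⁻¹ := by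
        rw [pow_succ, pow_two]; group
      have e2 : w ^ 3 * z * (w ^ 3)⁻¹ = z := by rw [e, w1, w2, w3]
      exact Four.conj_eq_iff_comm.1 e2
    have hwj : (w ^ 3) ^ j = w := by
      rw [hw, ← map_pow, ← map_pow]
      congr 1
      exact Subtype.ext hj
    have w5 : w * z = z * w := by
      have h6 : Commute (w ^ 3) z := w4
      have h7 := (h6.pow_left j).eq
      rwa [hwj] at h7
    apply hzne
    rw [← w1]
    exact (Four.conj_eq_iff_comm.2 w5).symm
  refine ⟨m ^ (orderOf m / 3), X.pow_mem (h.le hmL) _, pow_mem hmJ _, ?_⟩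
  exact orderOf_pow_orderOf_div (orderOf_pos m).ne' h3

/-! ### elements of prime order -/

variable {S : Sylow 2 G} {L V : Subgroup G} {q : ℕ}

theorem zj_eq_zc (S : Sylow 2 G) : zc (bau (S : Subgroup G)) = zj (S : Subgroup G) := ChoiceBase.zc_bau _

theorem nb_le_nzj (S : Sylow 2 G) :
    normalizer (bau (S : Subgroup G) : Set G) ≤ normalizer (zj (S : Subgroup G) : Set G) := by
  rw [← zj_eq_zc]
  exact ZN.normalizer_le_normalizer_zc _

theorem njj_le_nzj (S : Sylow 2 G) :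
    normalizer (jj (S : Subgroup G) : Set G) ≤ normalizer (zj (S : Subgroup G) : Set G) :=
  normalizer_jj_le_normalizer_zj _

theorem zj_le_V (h : EqOne S L V q) : zj (S : Subgroup G) ≤ V := by
  rw [← zj_eq_zc]; exact h.zc_le

theorem card_zj (h : EqOne S L V q) : Nat.card (zj (S : Subgroup G)) = q := by
  rw [← zj_eq_zc]; exact h.card_zc

theorem zj_sq {S : Subgroup G} {x : G} (hx : x ∈ zj S) : x * x = 1 := by
  rw [← pow_two]; exact (ChoiceBase.mem_zj.1 hx).2.1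

theorem zj_comm {S : Subgroup G} {x y : G} (hx : x ∈ zj S) (hy : y ∈ zj S) : x * y = y * x :=
  Four.comm_of_sq (V := zj S) (fun v hv => by rw [pow_two]; exact zj_sq hv) hx hy

theorem bau_cent {S : Subgroup G} : bau S ≤ centralizer (zj S : Set G) := inf_le_right

theorem zj_le_bau (S : Subgroup G) : zj S ≤ bau S := by
  intro x hx
  refine ⟨ZN.jj_le _ (ChoiceBase.mem_zj.1 hx).1, mem_centralizer_iff.2 fun y hy => zj_comm hy hx⟩

theorem jj_cent {S : Subgroup G} : jj S ≤ centralizer (zj S : Set G) := (ChoiceBase.jj_le_bau S).trans bau_cent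

theorem V_ne_bot (h : EqOne S L V q) : V ≠ ⊥ := by
  intro h0
  have h1 := h.card
  rw [h0, Subgroup.card_bot] at h1
  have h2 := h.blk.four
  nlinarith

theorem L_le (h : EqOne S L V q) : L ≤ normalizer (V : Set G) := by
  rw [← h.zl_eq]; exact Block.le_normalizer_zl _ _

theorem odd_q (h : EqOne S L V q) : ∃ n, 2 ≤ n ∧ q = 2 ^ n := COneBlk.pow h.blk

theorem two_dvd_q (h : EqOne S L V q) : 2 ∣ q := by
  obtain ⟨n, hn, rfl⟩ := odd_q h
  exact dvd_pow_self 2 (by omega)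

/-- elements `≠ 1` of odd order of `L` have no fixed points on `V` -/
theorem fpf (h : EqOne S L V q) {x : G} (hx : x ∈ L) (ho : Odd (orderOf x)) (hx1 : x ≠ 1) :
    ∀ v ∈ V, x * v = v * x → v = 1 := by
  intro v hv hxv
  have h1 : v ∈ rl (bau (S : Subgroup G)) L := by
    refine COneBlk.fpf_odd h.blk hx ho hx1 (by rw [h.zl_eq]; exact hv) ?_
    rw [hxv, mul_inv_cancel_right, mul_inv_cancel]
    exact one_mem _
  rw [h.rl_eq] at h1
  exact h1

/-- an element of prime order `r ∣ q - 1` of `N_L(B)` -/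
theorem exists_k (h : EqOne S L V q) {r : ℕ} (hr : r.Prime) (hd : r ∣ q - 1) :
    ∃ k ∈ L, k ∈ normalizer (bau (S : Subgroup G) : Set G) ∧ orderOf k = r ∧ ∀ v ∈ V, k * v = v * k → v = 1 := by
  have hf : Fact r.Prime := ⟨hr⟩
  obtain ⟨K, hKL, -, hcard, hKn, -, -⟩ := COneBlk.exists_torus h.blk
  obtain ⟨⟨k, hk⟩, hko⟩ := exists_prime_orderOf_dvd_card' (G := K) r (by rw [hcard]; exact hd)
  rw [Subgroup.orderOf_mk] at hko
  have hn : K ≤ normalizer (bau (S : Subgroup G) : Set G) := le_normalizer_iff.2 hKn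
  have hr2 : r ≠ 2 := by
    rintro rfl
    have h1 := two_dvd_q h
    have h2 := h.blk.four
    omega
  refine ⟨k, hKL hk, hn hk, hko, fpf h (hKL hk) ?_ ?_⟩
  · rw [hko]; exact hr.odd_of_ne_two hr2
  · rintro rfl
    rw [orderOf_one] at hko
    exact hr.ne_one hko.symm

/-- an element of prime order `r ∣ q ^ 2 - 1` of `L` -/
theorem exists_l (h : EqOne S L V q) {r : ℕ} (hr : r.Prime) (hd : r ∣ q ^ 2 - 1) :
    ∃ l ∈ L, orderOf l = r ∧ ∀ v ∈ V, l * v = v * l → v = 1 := by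
  have hf : Fact r.Prime := ⟨hr⟩
  have h4 := h.blk.four
  have hd' : r ∣ Nat.card L := by
    rw [COneBlk.card_L h.blk]
    have e : q ^ 2 - 1 = (q + 1) * (q - 1) := by
      rw [pow_two]
      obtain ⟨m, rfl⟩ := Nat.exists_eq_add_of_le' (show 1 ≤ q by omega)
      rw [Nat.add_sub_cancel]
      have : (m + 1) * (m + 1) = (m + 1 + 1) * m + 1 := by ring
      rw [this, Nat.add_sub_cancel]
    rw [e] at hd
    refine hd.trans ⟨q * Nat.card (o2 L), by ring⟩
  obtain ⟨⟨l, hl⟩, hlo⟩ := exists_prime_orderOf_dvd_card' (G := L) r hd'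
  rw [Subgroup.orderOf_mk] at hlo
  have hr2 : r ≠ 2 := by
    rintro rfl
    obtain ⟨k, hk⟩ := two_dvd_q h
    have h5 : q ^ 2 = 2 * (2 * k * k) := by rw [hk]; ring
    have h6 : 1 ≤ q ^ 2 := Nat.one_le_pow _ _ (by omega)
    omega
  refine ⟨l, hl, hlo, fpf h hl ?_ ?_⟩
  · rw [hlo]; exact hr.odd_of_ne_two hr2
  · rintro rfl
    rw [orderOf_one] at hlo
    exact hr.ne_one hlo.symm

/-- (0.4): `r ∣ q² - 1`: no element of order `r` centralises a vector `≠ 1` of `V` inside `N_G(V)` -/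
theorem no_fix_V (h : EqOne S L V q) {r : ℕ} (hr : r.Prime) (hd : r ∣ q ^ 2 - 1) {y : G}
    (hy : y ∈ normalizer (V : Set G)) (ho : orderOf y = r) : ∀ v ∈ V, y * v = v * y → v = 1 := by
  obtain ⟨l, hl, hlo, hf⟩ := exists_l h hr hd
  have hr2 : r ≠ 2 := by
    rintro rfl
    obtain ⟨k, hk⟩ := two_dvd_q h
    have h5 : q ^ 2 = 2 * (2 * k * k) := by rw [hk]; ring
    have h6 : 1 ≤ q ^ 2 := Nat.one_le_pow _ _ (by have := h.blk.four; omega)
    omega
  exact fpf_of h.cx.cyc hr hr2 le_rfl (L_le h hl) hy hlo ho hf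

/-- (0.4) for an `l`-invariant subgroup `W ≤ V` (`l ∈ L` of prime order `r`, for example a line or a Baer subline) -/
theorem no_fix_W (h : EqOne S L V q) {r : ℕ} (hr : r.Prime) (hr2 : r ≠ 2) {W : Subgroup G} (hW : W ≤ V) {l y : G}
    (hl : l ∈ L) (hlW : l ∈ normalizer (W : Set G)) (hlo : orderOf l = r) (hy : y ∈ normalizer (W : Set G))
    (ho : orderOf y = r) : ∀ v ∈ W, y * v = v * y → v = 1 := by
  have hl1 : l ≠ 1 := by
    rintro rfl
    rw [orderOf_one] at hlo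
    exact hr.ne_one hlo.symm
  exact fpf_of h.cx.cyc hr hr2 le_rfl hlW hy hlo ho fun w hw =>
    fpf h hl (by rw [hlo]; exact hr.odd_of_ne_two hr2) hl1 w (hW hw)

/-- (0.4): `r ∣ q² - 1` does not divide `|C_G(V)|` -/
theorem cent_V (h : EqOne S L V q) {r : ℕ} (hr : r.Prime) (hd : r ∣ q ^ 2 - 1) {y : G}
    (hy : y ∈ centralizer (V : Set G)) : orderOf y ≠ r := by
  intro ho
  obtain ⟨⟨v, hv⟩, hv1⟩ := Subgroup.ne_bot_iff_exists_ne_one.mp (V_ne_bot h)
  apply hv1
  exact Subtype.ext (no_fix_V h hr hd (centralizer_le_normalizer _ hy) ho v hv (mem_centralizer_iff.1 hy v hv).symm)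

/-- (0.4): elements of prime order `r ∣ q - 1` of `N_G(Z_J)` have no fixed points on `Z_J` -/
theorem no_fix (h : EqOne S L V q) {r : ℕ} (hr : r.Prime) (hd : r ∣ q - 1) {y : G}
    (hy : y ∈ normalizer (zj (S : Subgroup G) : Set G)) (ho : orderOf y = r) :
    ∀ u ∈ zj (S : Subgroup G), y * u = u * y → u = 1 := by
  obtain ⟨k, -, hkn, hko, hf⟩ := exists_k h hr hd
  have hr2 : r ≠ 2 := by
    rintro rfl
    have h1 := two_dvd_q h
    have h2 := h.blk.four
    omega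
  exact fpf_of h.cx.cyc hr hr2 le_rfl (nb_le_nzj S hkn) hy hko ho fun w hw => hf w (zj_le_V h hw)

theorem zj_ne_bot (h : EqOne S L V q) : zj (S : Subgroup G) ≠ ⊥ := by
  intro h0
  have h1 := card_zj h
  rw [h0, Subgroup.card_bot] at h1
  have h2 := h.blk.four
  omega

/-- (0.4): `r ∣ q - 1` does not divide `|C_G(Z_J)|` -/
theorem cent_zj (h : EqOne S L V q) {r : ℕ} (hr : r.Prime) (hd : r ∣ q - 1) {y : G}
    (hy : y ∈ centralizer (zj (S : Subgroup G) : Set G)) : orderOf y ≠ r := by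
  intro ho
  obtain ⟨⟨v, hv⟩, hv1⟩ := Subgroup.ne_bot_iff_exists_ne_one.mp (zj_ne_bot h)
  apply hv1
  exact Subtype.ext (no_fix h hr hd (centralizer_le_normalizer _ hy) ho v hv (mem_centralizer_iff.1 hy v hv).symm)

/-! ### (0.6) -/

/-- (0.6) -/
theorem orbit (S : Sylow 2 G) {R : Subgroup G} {g : G} (hR : R ≤ zj (S : Subgroup G))
    (hg : R ≤ cj g (zj (S : Subgroup G))) : ∃ c ∈ centralizer (R : Set G),
      cj c (jj (S : Subgroup G)) = cj g (jj (S : Subgroup G)) ∧ cj c (zj (S : Subgroup G)) = cj g (zj (S : Subgroup G)) := by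
  have h1 : jj (S : Subgroup G) ≤ centralizer (R : Set G) := jj_cent.trans (centralizer_le hR)
  have h2 : cj g (jj (S : Subgroup G)) ≤ centralizer (R : Set G) := by
    refine (ChoiceBase.cj_mono g jj_cent).trans ?_
    rw [ChoiceBase.cj_centralizer]
    exact centralizer_le hg
  obtain ⟨c, hc, he⟩ := EmptyTI.exists_conj_jj S h1 h2
  refine ⟨c, hc, he, ?_⟩
  have h3 : jj (cj c (S : Subgroup G)) = jj (cj g (S : Subgroup G)) := by
    rw [ChoiceBase.jj_cj, ChoiceBase.jj_cj]; exact he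
  rw [← ChoiceBase.zj_cj, ← ChoiceBase.zj_cj]
  exact ChoiceBase.zj_congr h3

/-! ### type `zero` -/

/-- `Y ≤ Z_J` for a 2-local of type `zero` -/
theorem zero_le {X T Y : Subgroup G} (hY : YC X T Y) (h0 : jj T ≤ centralizer (Y : Set G))
    (hBT : bau (S : Subgroup G) ≤ T) : Y ≤ zj (S : Subgroup G) := by
  intro y hy
  have h1 := ChoiceBase.mem_zc.1 (hY.le hy)
  rw [← SamePt.zj_eq S hY.two hBT]
  exact ZN.mem_zj_of_comm (VModule.o2_le_of_sylow hY.two hY.syl h1.1) h1.2.1 fun b hb =>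
    (mem_centralizer_iff.1 (h0 hb) y hy).symm

/-- `X = C_X(Y) N_X(J(T))` for a 2-local of type `zero` -/
theorem zero_gen {X T Y : Subgroup G} (hY : YC X T Y) (h0 : jj T ≤ centralizer (Y : Set G)) :
    X ≤ (X ⊓ centralizer (Y : Set G)) ⊔ (X ⊓ normalizer (jj T : Set G)) := by
  refine Basic.frattini_jj hY.TX hY.two hY.syl ?_ (le_inf ((ZN.jj_le T).trans hY.TX) h0)
  refine le_trans (le_inf le_normalizer ?_) inf_normalizer_le_normalizer_inf
  exact hY.nor.trans (DBlkReduce.nc _)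

/-- elementwise -/
theorem zero_mul {X T Y : Subgroup G} (hY : YC X T Y) (h0 : jj T ≤ centralizer (Y : Set G)) {x : G} (hx : x ∈ X) :
    ∃ c ∈ X ⊓ centralizer (Y : Set G), ∃ n ∈ X ⊓ normalizer (jj T : Set G), x = c * n := by
  have hn : X ≤ normalizer ((X ⊓ centralizer (Y : Set G) : Subgroup G) : Set G) := by
    refine le_trans (le_inf le_normalizer ?_) inf_normalizer_le_normalizer_inf
    exact hY.nor.trans (DBlkReduce.nc _)
  have h1 : x ∈ (((X ⊓ centralizer (Y : Set G)) ⊔ (X ⊓ normalizer (jj T : Set G)) : Subgroup G) : Set G) :=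
    zero_gen hY h0 hx
  rw [coe_mul_of_right_le_normalizer_left _ _ (inf_le_left.trans hn)] at h1
  obtain ⟨a, ha, b, hb, hab⟩ := h1
  exact ⟨a, ha, b, hb, hab.symm⟩

/-- a 2-local with a fixed point `u ≠ 1` in `Z_J` is of type `zero` -/
theorem type_zero (h : EqOne S L V q) (hf : (S : Subgroup G) = bau (S : Subgroup G) ∨ 3 ∣ q - 1) {X T Y : Subgroup G}
    (hX : X ≠ ⊤) (hY : YC X T Y) (hBT : bau (S : Subgroup G) ≤ T) {u : G} (hu : u ∈ zj (S : Subgroup G)) (hu1 : u ≠ 1)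
    (hXu : X ≤ centralizer ({u} : Set G)) : jj T ≤ centralizer (Y : Set G) := by
  have hb : bau T = bau (S : Subgroup G) := SamePt.bau_eq S hY.two hBT
  have hj : jj T = jj (S : Subgroup G) := SamePt.jj_eq S hY.two hBT
  cases h.cx.ty X T Y hX hY with
  | zero h0 => exact h0
  | tri V' h0 =>
    obtain ⟨L', k, -, h1, -⟩ := h0.blk
    rw [hb] at h1
    exact absurd h1 (h.nodih L' k)
  | sev N V' z h0 =>
    obtain ⟨L', k, -, h1, -⟩ := h0.blk
    rw [hb] at h1
    exact absurd h1 (h.nodih L' k)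
  | fiv U φ e h0 =>
    obtain ⟨L', k, -, h1, -⟩ := h0.blk₁
    rw [hb] at h1
    exact absurd h1 (h.nodih L' k)
  | lin L' q' h0 =>
    exfalso
    have h1 := h0.blk
    rw [hb] at h1
    have h2 := (h.only L' q' h1).2.2.1
    have h3 : u ∈ rl (bau (S : Subgroup G)) L' := by
      refine mem_inf.2 ⟨by rw [zj_eq_zc]; exact hu, ?_⟩
      rw [mem_centralizer_iff]
      intro l hl
      exact mem_centralizer_singleton_iff.1 (hXu (h0.le hl))
    rw [h2] at h3
    exact hu1 h3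
  | bc L' h0 =>
    exfalso
    rcases hf with hf | hf
    · have h1 : (S : Subgroup G) ≤ T := hf.le.trans hBT
      have h2 : T = S := S.is_maximal' hY.two h1
      apply h0.bau_ne
      rw [hb, h2]; exact hf.symm
    · obtain ⟨x, hx, hxn, hx3⟩ := bc_three hY h0
      rw [hj] at hxn
      exact hu1 (no_fix h Nat.prime_three hf (njj_le_nzj S hxn) hx3 u hu (mem_centralizer_singleton_iff.1 (hXu hx)))

/-! ### (1.1) -/

/-- a subgroup `C_G(U)`, `1 ≠ U ≤ Z_J` -/
theorem char2_cent (h : EqOne S L V q) {U : Subgroup G} (hU : U ≤ zj (S : Subgroup G)) (hU1 : U ≠ ⊥) :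
    centralizer (U : Set G) ⊓ centralizer (o2 (centralizer (U : Set G)) : Set G) ≤ o2 (centralizer (U : Set G)) ∧
      centralizer (U : Set G) ≠ ⊤ := by
  have hUp : IsPGroup 2 U := S.isPGroup'.to_le (hU.trans ((zj_le_bau _).trans (ChoiceBase.bau_le _)))
  refine ⟨Cfsg.Agent.OddCyclic.EmpFrame.ENS.char2_of_normal (Basic.char2_normalizer h.cx.char2 hUp hU1) (centralizer_le_normalizer _)
    (DBlkReduce.nc _), fun h0 => ?_⟩
  apply h.cx.ne_top hUp hU1
  rw [← top_le_iff, ← h0]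
  exact centralizer_le_normalizer _

/-- the Sylow 2-subgroups of `C_G(U)` over `B` -/
theorem exists_loc (h : EqOne S L V q) {U : Subgroup G} (hU : U ≤ zj (S : Subgroup G)) (hU1 : U ≠ ⊥) :
    ∃ T : Subgroup G, bau (S : Subgroup G) ≤ T ∧ Loc (centralizer (U : Set G)) T := by
  have hB : bau (S : Subgroup G) ≤ centralizer (U : Set G) := bau_cent.trans (centralizer_le hU)
  obtain ⟨T, hT, hBT⟩ := ChoiceSit.exists_syl (S.isPGroup'.to_le (ChoiceBase.bau_le _)) hB
  exact ⟨T, hBT, (char2_cent h hU hU1).1, hT.2.1, hT.1, ChoiceSit.syl_not_dvd hT⟩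

/-- **(1.1)** -/
theorem lemU (h : EqOne S L V q) (hf : (S : Subgroup G) = bau (S : Subgroup G) ∨ 3 ∣ q - 1) {N R : Subgroup G}
    (hN : normalizer (zj (S : Subgroup G) : Set G) ≤ N) (hR : R ≤ zj (S : Subgroup G)) (hR1 : R ≠ ⊥)
    (hRN : ¬ centralizer (R : Set G) ≤ N) :
    ∃ T : Subgroup G, IsPGroup 2 T ∧ bau (S : Subgroup G) ≤ T ∧ T ≤ centralizer (R : Set G) ∧
      ∃ s ∈ T, s ∉ bau (S : Subgroup G) ∧ s * s ∈ bau (S : Subgroup G) := by
  let P : Subgroup G → Prop := fun U => R ≤ U ∧ U ≤ zj (S : Subgroup G) ∧ ¬ centralizer (U : Set G) ≤ N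
  obtain ⟨U, hUP, hmax⟩ := (Set.toFinite {U | P U}).exists_maximal ⟨R, le_rfl, hR, hRN⟩
  obtain ⟨hRU, hUz, hUN⟩ := hUP
  have hU1 : U ≠ ⊥ := fun h0 => hR1 (le_bot_iff.1 (h0 ▸ hRU))
  obtain ⟨T, hBT, hloc⟩ := exists_loc h hUz hU1
  set X := centralizer (U : Set G) with hX
  have hY := yc_mod hloc
  obtain ⟨⟨u, hu⟩, hu1⟩ := Subgroup.ne_bot_iff_exists_ne_one.mp hU1
  have hu1' : u ≠ 1 := fun h0 => hu1 (Subtype.ext h0)
  have h0 := type_zero h hf (char2_cent h hUz hU1).2 hY hBT (hUz hu) hu1'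
    (centralizer_le (Set.singleton_subset_iff.2 hu))
  have hYz := zero_le hY h0 hBT
  have hj : jj T = jj (S : Subgroup G) := SamePt.jj_eq S hY.two hBT
  have h1 : ¬ centralizer (mod X T : Set G) ≤ N := by
    intro h1
    apply hUN
    refine (zero_gen hY h0).trans (sup_le (inf_le_right.trans h1) (inf_le_right.trans ?_))
    rw [hj]
    exact (njj_le_nzj S).trans hN
  have hUY : U ≤ mod X T := by
    refine le_trans (fun x hx => ChoiceBase.mem_zc.2 ⟨?_, ?_, ?_⟩) hY.zc_le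
    · exact hBT (zj_le_bau _ (hUz hx))
    · exact (ChoiceBase.mem_zj.1 (hUz hx)).2.1
    · intro y hy
      exact (mem_centralizer_iff.1 (hloc.TX hy) x hx).symm
  have hYU : mod X T ≤ U := hmax (y := mod X T) ⟨hRU.trans hUY, hYz, h1⟩ hUY
  have hTB : ¬ T ≤ bau (S : Subgroup G) := by
    intro hTB
    have hTe : T = bau (S : Subgroup G) := le_antisymm hTB hBT
    have h2 : zj (S : Subgroup G) ≤ U := by
      rw [← zj_eq_zc, ← hTe]
      exact hY.zc_le.trans hYU
    exact hUN ((centralizer_le h2).trans ((centralizer_le_normalizer _).trans hN))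
  obtain ⟨s, hs, hsB, hss⟩ := exists_sq_mem hY.two hTB
  exact ⟨T, hY.two, hBT, hloc.TX.trans (centralizer_le hRU), s, hs, hsB, hss⟩

/-- **(1.1)** -/
theorem lemU' (h : EqOne S L V q) (hf : (S : Subgroup G) = bau (S : Subgroup G) ∨ 3 ∣ q - 1) {N R : Subgroup G}
    (hN : normalizer (zj (S : Subgroup G) : Set G) ≤ N) (hR : R ≤ zj (S : Subgroup G)) (hR1 : R ≠ ⊥)
    (hRN : ¬ centralizer (R : Set G) ≤ N) : (S : Subgroup G) ≠ bau (S : Subgroup G) ∧
    ∃ s ∈ centralizer (R : Set G), s ∈ normalizer (bau (S : Subgroup G) : Set G) ∧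
      s ∉ centralizer (zj (S : Subgroup G) : Set G) ∧ s * s ∈ bau (S : Subgroup G) := by
  obtain ⟨T, hT, hBT, hTR, s, hs, hsB, hss⟩ := lemU h hf hN hR hR1 hRN
  refine ⟨fun he => ?_, s, hTR hs, SamePt.le_normalizer S hT hBT hs, fun hc => ?_, hss⟩
  · have h1 : (S : Subgroup G) ≤ T := he.le.trans hBT
    have h2 : T = S := S.is_maximal' hT h1
    apply hsB
    rw [← he, ← h2]
    exact hs
  · apply hsB
    rw [← SamePt.bau_eq S hT hBT]
    refine ⟨hs, ?_⟩
    rw [SamePt.zj_eq S hT hBT]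
    exact hc

/-! ### (1.2) -/

/-- (1.2): `t₀ = 1` if `S = B`, and `|C_{Z_J}(s)| ≤ r` for `s` of field type -/
theorem cent_le (h : EqOne S L V q) (hf : (S : Subgroup G) = bau (S : Subgroup G) ∨ 3 ∣ q - 1) {r : ℕ}
    (hr : ∀ s ∈ normalizer (bau (S : Subgroup G) : Set G), s ∉ centralizer (zj (S : Subgroup G) : Set G) →
      s * s ∈ bau (S : Subgroup G) → Nat.card (zj (S : Subgroup G) ⊓ centralizer ({s} : Set G) : Subgroup G) ≤ r)
    {R : Subgroup G} (hR : R ≤ zj (S : Subgroup G)) (hR1 : R ≠ ⊥)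
    (hc : r < Nat.card R ∨ (S : Subgroup G) = bau (S : Subgroup G)) :
    centralizer (R : Set G) ≤ normalizer (zj (S : Subgroup G) : Set G) := by
  by_contra hcon
  obtain ⟨h1, s, hs, hsn, hsz, hss⟩ := lemU' h hf le_rfl hR hR1 hcon
  have h2 := hc.resolve_right h1
  have h3 : R ≤ zj (S : Subgroup G) ⊓ centralizer ({s} : Set G) := by
    refine le_inf hR fun x hx => mem_centralizer_singleton_iff.2 ?_
    exact mem_centralizer_iff.1 hs x hx
  have h4 := (card_le_of_le h3).trans (hr s hsn hsz hss)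
  omega

/-- (1.2), two lines -/
theorem inter (h : EqOne S L V q) (hf : (S : Subgroup G) = bau (S : Subgroup G) ∨ 3 ∣ q - 1) {r : ℕ} (hr1 : 1 ≤ r)
    (hr : ∀ s ∈ normalizer (bau (S : Subgroup G) : Set G), s ∉ centralizer (zj (S : Subgroup G) : Set G) →
      s * s ∈ bau (S : Subgroup G) → Nat.card (zj (S : Subgroup G) ⊓ centralizer ({s} : Set G) : Subgroup G) ≤ r)
    {g : G} (hg : g ∉ normalizer (zj (S : Subgroup G) : Set G)) :
    Nat.card (zj (S : Subgroup G) ⊓ cj g (zj (S : Subgroup G)) : Subgroup G) ≤ r ∧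
      ((S : Subgroup G) = bau (S : Subgroup G) → zj (S : Subgroup G) ⊓ cj g (zj (S : Subgroup G)) = ⊥) := by
  set R := zj (S : Subgroup G) ⊓ cj g (zj (S : Subgroup G)) with hR
  obtain ⟨c, hc, -, he⟩ := orbit S (R := R) (g := g) inf_le_left inf_le_right
  have hcon : ¬ centralizer (R : Set G) ≤ normalizer (zj (S : Subgroup G) : Set G) := by
    intro h1
    have h2 := ChoiceBase.mem_normalizer_iff_cj.1 (h1 hc)
    apply hg
    rw [ChoiceBase.mem_normalizer_iff_cj, ← he, h2]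
  constructor
  · by_contra h1
    have hR1 : R ≠ ⊥ := by
      intro h0
      rw [h0, Subgroup.card_bot] at h1
      omega
    exact hcon (cent_le h hf hr inf_le_left hR1 (Or.inl (not_le.1 h1)))
  · intro hSB
    by_contra hR1
    exact hcon (cent_le h hf hr inf_le_left hR1 (Or.inr hSB))

/-! ### (1.5) -/

/-- `N_G(J) ∩ C_G(u)` acts on `Z_J` as an abelian group -/
def AbJ (S : Sylow 2 G) (u : G) : Prop :=
  ∀ a ∈ normalizer (bau (S : Subgroup G) : Set G), ∀ b ∈ normalizer (bau (S : Subgroup G) : Set G), a * u = u * a →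
    b * u = u * b → a * b * a⁻¹ * b⁻¹ ∈ centralizer (zj (S : Subgroup G) : Set G)

theorem abJ_jj {u : G} (hu : u ∈ zj (S : Subgroup G)) (hab : AbJ S u) {a b : G}
    (ha : a ∈ normalizer (jj (S : Subgroup G) : Set G)) (hb : b ∈ normalizer (jj (S : Subgroup G) : Set G))
    (hau : a * u = u * a) (hbu : b * u = u * b) : a * b * a⁻¹ * b⁻¹ ∈ centralizer (zj (S : Subgroup G) : Set G) := by
  have key : ∀ x ∈ normalizer (jj (S : Subgroup G) : Set G), x * u = u * x →
      ∃ c ∈ centralizer (zj (S : Subgroup G) : Set G), ∃ n ∈ normalizer (bau (S : Subgroup G) : Set G),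
        n * u = u * n ∧ x = c * n := by
    intro x hx hxu
    obtain ⟨c, hc, n, hn, rfl⟩ := LemXPerm.exists_mul_of_mem_normalizer_jj (X := ⊤) (T := (S : Subgroup G)) le_top
      S.isPGroup' (ChoiceSit.syl_not_dvd (EmptyTI.syl_of_le le_top)) (mem_top x) hx
    refine ⟨c, hc.2, n, hn.2, ?_, rfl⟩
    have h1 : u * c = c * u := mem_centralizer_iff.1 hc.2 u hu
    have h2 : c * (n * u) = c * (u * n) := by
      rw [← mul_assoc, hxu, ← mul_assoc, h1, mul_assoc]
    exact mul_left_cancel h2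
  obtain ⟨c, hc, n, hn, hnu, rfl⟩ := key a ha hau
  obtain ⟨d, hd, m, hm, hmu, rfl⟩ := key b hb hbu
  set C := centralizer (zj (S : Subgroup G) : Set G) with hC
  have hnC : ∀ g ∈ normalizer (bau (S : Subgroup G) : Set G), ∀ x ∈ C, g * x * g⁻¹ ∈ C := fun g hg x hx =>
    Four.conj_mem (DBlkReduce.nc _ (nb_le_nzj S hg)) hx
  have h1 := hab n hn m hm hnu hmu
  have e : c * n * (d * m) * (c * n)⁻¹ * (d * m)⁻¹ =
      c * (n * d * n⁻¹) * (n * m * n⁻¹ * m⁻¹) * (m * c⁻¹ * m⁻¹) * d⁻¹ := by group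
  rw [e]
  exact mul_mem (mul_mem (mul_mem (mul_mem hc (hnC n hn d hd)) h1) (hnC m hm _ (inv_mem hc))) (inv_mem hd)

/-- a subgroup centralising `u ∈ Z_J`, `u ≠ 1`, is proper -/
theorem ne_top_of (h : EqOne S L V q) {u : G} (hu : u ∈ zj (S : Subgroup G)) (hu1 : u ≠ 1) {X : Subgroup G}
    (hXu : X ≤ centralizer ({u} : Set G)) : X ≠ ⊤ := by
  rintro rfl
  have h1 : u ∈ center G := by
    rw [mem_center_iff]
    intro g
    exact mem_centralizer_singleton_iff.1 (hXu (mem_top g))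
  have h2 : IsPGroup 2 (zpowers u) := Basic.isPGroup_zpowers (ChoiceBase.mem_zj.1 hu).2.1
  have h3 : (zpowers u).Normal := ⟨fun x hx g => by
    obtain ⟨n, rfl⟩ := mem_zpowers_iff.1 hx
    have h4 : u ^ n ∈ center G := zpow_mem h1 n
    have h5 : g * u ^ n * g⁻¹ = u ^ n := by
      rw [mem_center_iff.1 h4 g, mul_inv_cancel_right]
    rw [h5]; exact hx⟩
  exact hu1 (zpowers_eq_bot.1 (h.cx.core _ h2 h3))

/-- **(1.5)**, for a Sylow 2-subgroup `T ≥ B` of `X` -/
theorem redT (h : EqOne S L V q) (hf : (S : Subgroup G) = bau (S : Subgroup G) ∨ 3 ∣ q - 1) {u : G}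
    (hu : u ∈ zj (S : Subgroup G)) (hu1 : u ≠ 1) (hab : AbJ S u) {X T Y : Subgroup G}
    (hXu : X ≤ centralizer ({u} : Set G)) (hloc : Loc X T) (hBT : bau (S : Subgroup G) ≤ T)
    (hYX : Y ≤ X) (hXY : X ≤ normalizer (Y : Set G)) (hsq : ∀ y ∈ Y, y * y = 1)
    (hcore : ∀ D ≤ X, X ≤ normalizer (D : Set G) →
      (∀ d ∈ D, ∃ c ∈ centralizer (Y : Set G), ∃ t ∈ T, d = c * t) → D ≤ centralizer (Y : Set G)) :
    Y ≤ zc T := by
  have hXt := ne_top_of h hu hu1 hXu
  have hj : jj T = jj (S : Subgroup G) := SamePt.jj_eq S hloc.two hBT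
  have hYp : IsPGroup 2 Y := by
    rintro ⟨y, hy⟩
    refine ⟨1, Subtype.ext ?_⟩
    rw [pow_one, pow_two]
    exact hsq y hy
  have hYo : Y ≤ o2 X := Block.le_o2 hYp hYX hXY
  have hoS : o2 X ≤ T := hloc.o2_le
  have hYc : o2 X ≤ centralizer (Y : Set G) := hcore _ (ZN.o2_le X) (ZN.le_normalizer_o2 X) fun d hd =>
    ⟨1, one_mem _, d, hoS hd, (one_mul d).symm⟩
  have hYz : Y ≤ zc (o2 X) := fun y hy => ChoiceBase.mem_zc.2 ⟨hYo hy, by rw [pow_two]; exact hsq y hy,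
    fun b hb => (mem_centralizer_iff.1 (hYc hb) y hy).symm⟩
  have hYC := yc_sup hloc hYz hXY hcore
  set W := Y ⊔ mod X T with hW
  have h0 := type_zero h hf hXt hYC hBT hu hu1 hXu
  have hWz := zero_le hYC h0 hBT
  set C := X ⊓ centralizer (W : Set G) with hC
  have hCn : X ≤ normalizer (C : Set G) := by
    refine le_trans (le_inf le_normalizer ?_) inf_normalizer_le_normalizer_inf
    exact hYC.nor.trans (DBlkReduce.nc _)
  -- commutators of `X` lie in `C`
  have hcom : ∀ x ∈ X, ∀ y ∈ X, x * y * x⁻¹ * y⁻¹ ∈ C := by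
    intro x hx y hy
    obtain ⟨c, hc, n, hn, rfl⟩ := zero_mul hYC h0 hx
    obtain ⟨d, hd, m, hm, rfl⟩ := zero_mul hYC h0 hy
    rw [hj] at hn hm
    have h1 : n * m * n⁻¹ * m⁻¹ ∈ C := by
      refine mem_inf.2 ⟨mul_mem (mul_mem (mul_mem hn.1 hm.1) (inv_mem hn.1)) (inv_mem hm.1), ?_⟩
      exact centralizer_le hWz (abJ_jj hu hab hn.2 hm.2 (mem_centralizer_singleton_iff.1 (hXu hn.1))
        (mem_centralizer_singleton_iff.1 (hXu hm.1)))
    have hnC : ∀ g ∈ X, ∀ x ∈ C, g * x * g⁻¹ ∈ C := fun g hg x hx => Four.conj_mem (hCn hg) hx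
    have e : c * n * (d * m) * (c * n)⁻¹ * (d * m)⁻¹ =
        c * (n * d * n⁻¹) * (n * m * n⁻¹ * m⁻¹) * (m * c⁻¹ * m⁻¹) * d⁻¹ := by group
    rw [e]
    exact mul_mem (mul_mem (mul_mem (mul_mem hc (hnC n hn.1 d hd)) h1) (hnC m hm.1 _ (inv_mem hc))) (inv_mem hd)
  set D := C ⊔ T with hD
  have hDX : D ≤ X := sup_le inf_le_left hloc.TX
  have hDn : X ≤ normalizer (D : Set G) := by
    rw [le_normalizer_iff]
    intro g hg d hd
    have h1 := hcom g hg d (hDX hd)
    have e : g * d * g⁻¹ = (g * d * g⁻¹ * d⁻¹) * d := by group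
    rw [e]
    exact mul_mem (mem_sup_left h1) hd
  have h2 : D ≤ centralizer (W : Set G) := by
    refine hYC.core D hDX hDn fun d hd => ?_
    have h3 : d ∈ ((C ⊔ T : Subgroup G) : Set G) := hd
    rw [coe_mul_of_right_le_normalizer_left _ _ (hloc.TX.trans hCn)] at h3
    obtain ⟨c, hc, t, ht, he⟩ := h3
    exact ⟨c, hc.2, t, ht, he.symm⟩
  intro y hy
  have hyW : y ∈ W := (le_sup_left : Y ≤ W) hy
  refine ChoiceBase.mem_zc.2 ⟨hoS (hYo hy), by rw [pow_two]; exact hsq y hy, fun s hs => ?_⟩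
  exact (mem_centralizer_iff.1 (h2 ((le_sup_right : T ≤ D) hs)) y hyW).symm

/-- **(1.5)** -/
theorem red (h : EqOne S L V q) (hf : (S : Subgroup G) = bau (S : Subgroup G) ∨ 3 ∣ q - 1) {u : G}
    (hu : u ∈ zj (S : Subgroup G)) (hu1 : u ≠ 1) (hab : AbJ S u) {X Y : Subgroup G}
    (hXu : X ≤ centralizer ({u} : Set G)) (hSX : (S : Subgroup G) ≤ X) (hc2 : X ⊓ centralizer (o2 X : Set G) ≤ o2 X)
    (hYX : Y ≤ X) (hXY : X ≤ normalizer (Y : Set G)) (hsq : ∀ y ∈ Y, y * y = 1)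
    (hcore : ∀ D ≤ X, X ≤ normalizer (D : Set G) →
      (∀ d ∈ D, ∃ c ∈ centralizer (Y : Set G), ∃ t ∈ (S : Subgroup G), d = c * t) → D ≤ centralizer (Y : Set G)) :
    Y ≤ zc (S : Subgroup G) :=
  redT h hf hu hu1 hab hXu ⟨hc2, S.isPGroup', hSX, Basic.not_dvd_relIndex S hSX⟩ (ChoiceBase.bau_le _) hYX hXY hsq
    hcore

/-- (1.5): `Y_X = Z` normal in `X`, for `S ≤ X ≤ C_G(u)` -/
theorem le_normalizer_zc (h : EqOne S L V q) (hf : (S : Subgroup G) = bau (S : Subgroup G) ∨ 3 ∣ q - 1) {u : G}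
    (hu : u ∈ zj (S : Subgroup G)) (hu1 : u ≠ 1) (hab : AbJ S u) {X : Subgroup G}
    (hXu : X ≤ centralizer ({u} : Set G)) (hSX : (S : Subgroup G) ≤ X)
    (hc2 : X ⊓ centralizer (o2 X : Set G) ≤ o2 X) :
    mod X (S : Subgroup G) = zc (S : Subgroup G) ∧ X ≤ normalizer (zc (S : Subgroup G) : Set G) := by
  have hloc : Loc X (S : Subgroup G) := ⟨hc2, S.isPGroup', hSX, Basic.not_dvd_relIndex S hSX⟩
  have hY := yc_mod hloc
  have h1 : mod X (S : Subgroup G) ≤ zc (S : Subgroup G) := by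
    refine red h hf hu hu1 hab hXu hSX hc2 ?_ hY.nor ?_ hY.core
    · exact fun y hy => ZN.o2_le X (ChoiceBase.mem_zc.1 (hY.le hy)).1
    · intro y hy
      rw [← pow_two]
      exact (ChoiceBase.mem_zc.1 (hY.le hy)).2.1
  have h2 : mod X (S : Subgroup G) = zc (S : Subgroup G) := le_antisymm h1 hY.zc_le
  refine ⟨h2, ?_⟩
  rw [← h2]
  exact hY.nor

end Cfsg.Agent.OddCyclic.Eq.LemU
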