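import Cfsg.Agent.OddCyclic.Eq.Fld
import Cfsg.Agent.OddCyclic.Eq.AbJ
import Cfsg.Agent.OddCyclic.Eq.LemU

/-!
# (E_q) of `T_cyc`, Part II: the configuration of section 5

* `three_dvd` : `S = B` or `3 ∣ q - 1`;
* `nzj_le` : `N_G(Z_J) = C_G(Z_J) N_G(B)`;
* `cfg` : `SecFive.Cfg` for `X = C_G(Ω₁Z(S))`, if `C_G(Z_J) ≤ N_G(V)`.
-/

set_option autoImplicit false
set_option linter.unusedSectionVars false

namespace Cfsg.Agent.OddCyclic.Eq.CfgP

open Subgroup Cfsg Cfsg.Agent.ZN Cfsg.Agent.MinSimple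
open Cfsg.Agent.OddCyclic.RedU (EqOne)
open Cfsg.Agent.OddCyclic.Eq.LemU

universe u

variable {G : Type u} [Group G] [Finite G] {S : Sylow 2 G} {L V : Subgroup G} {q : ℕ}

/-- `S ≤ C(Z_J)` iff `S = B` -/
theorem eq_bau (hS : (S : Subgroup G) ≤ centralizer (zc (bau (S : Subgroup G)) : Set G)) :
    (S : Subgroup G) = bau (S : Subgroup G) := by
  rw [LemU.zj_eq_zc] at hS
  exact le_antisymm (le_inf le_rfl hS) (ChoiceBase.bau_le _)

theorem three_of_sq (h : EqOne S L V q) {r : ℕ} (hr : q = r * r) : 3 ∣ q - 1 := by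
  obtain ⟨n, hn, hq⟩ := odd_q h
  have h3 : ¬ 3 ∣ r := by
    intro h3
    have h4 : 3 ∣ 2 ^ n := by rw [← hq, hr]; exact h3.mul_right r
    have h5 := Nat.Prime.dvd_of_dvd_pow Nat.prime_three h4
    omega
  have h4 : r % 3 = 1 ∨ r % 3 = 2 := by omega
  have h5 : q % 3 = 1 := by
    rw [hr, Nat.mul_mod]
    rcases h4 with h4 | h4 <;> rw [h4]
  have h6 := h.blk.four
  omega

/-- `S = B` or `3 ∣ q - 1` -/
theorem hf (h : EqOne S L V q) : (S : Subgroup G) = bau (S : Subgroup G) ∨ 3 ∣ q - 1 := by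
  by_cases hS : (S : Subgroup G) ≤ centralizer (zc (bau (S : Subgroup G)) : Set G)
  · exact Or.inl (eq_bau hS)
  · obtain ⟨r, hr⟩ := Base.fld h hS
    exact Or.inr (three_of_sq h hr.rr)

theorem S_le_nzj (S : Sylow 2 G) : (S : Subgroup G) ≤ normalizer (zj (S : Subgroup G) : Set G) :=
  (RedE.S_nb S).trans (nb_le_nzj S)

/-- `N_G(Z_J) = C_G(Z_J) N_G(B)` -/
theorem nzj_le (S : Sylow 2 G) : normalizer (zj (S : Subgroup G) : Set G) ≤
    centralizer (zj (S : Subgroup G) : Set G) ⊔ normalizer (bau (S : Subgroup G) : Set G) := by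
  have h1 := Basic.frattini (X := normalizer (zj (S : Subgroup G) : Set G)) (L := centralizer (zj (S : Subgroup G) : Set G))
    (S_le_nzj S) S.isPGroup' (Basic.not_dvd_relIndex S (S_le_nzj S)) (DBlkReduce.nc _)
  exact h1.trans (sup_le_sup_left inf_le_right _)

theorem nzj_le_V (h : EqOne S L V q)
    (hJ : centralizer (zc (bau (S : Subgroup G)) : Set G) ≤ normalizer (V : Set G)) :
    normalizer (zj (S : Subgroup G) : Set G) ≤ normalizer (V : Set G) := by
  rw [LemU.zj_eq_zc] at hJ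
  exact (nzj_le S).trans (sup_le hJ h.nb_V)

/-- Part II: `S ≠ B` -/
theorem not_le (h : EqOne S L V q)
    (hJ : centralizer (zc (bau (S : Subgroup G)) : Set G) ≤ normalizer (V : Set G)) :
    ¬ (S : Subgroup G) ≤ centralizer (zc (bau (S : Subgroup G)) : Set G) := by
  intro hS
  have h1 := eq_bau hS
  apply h.notle
  rw [h1]
  exact hJ

theorem three (h : EqOne S L V q)
    (hJ : centralizer (zc (bau (S : Subgroup G)) : Set G) ≤ normalizer (V : Set G)) : 3 ∣ q - 1 := by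
  obtain ⟨r, hr⟩ := Base.fld h (not_le h hJ)
  exact three_of_sq h hr.rr

theorem zc_ne_bot (h : EqOne S L V q) : zc (S : Subgroup G) ≠ ⊥ := by
  obtain ⟨z, hz, hz1⟩ := Base.exists_ne_zcS h
  intro h0
  rw [h0] at hz
  exact hz1 hz

theorem S_le_cz (S : Sylow 2 G) : (S : Subgroup G) ≤ centralizer (zc (S : Subgroup G) : Set G) := fun s hs =>
  mem_centralizer_iff.2 fun z hz => ((ChoiceBase.mem_zc.1 hz).2.2 s hs).symm

/-- `AbJ` -/
theorem abJ (h : EqOne S L V q) {u : G} (hu : u ∈ zj (S : Subgroup G)) (hu1 : u ≠ 1) : AbJ S u := by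
  intro a ha b hb hau hbu
  rw [← LemU.zj_eq_zc] at hu ⊢
  exact Base.abJ h hu hu1 (h.nb_V ha) (h.nb_V hb) hau hbu

/-- **the configuration of section 5** -/
theorem cfg (h : EqOne S L V q)
    (hJ : centralizer (zc (bau (S : Subgroup G)) : Set G) ≤ normalizer (V : Set G)) :
    ∃ r, SecFive.Cfg q r (zc (S : Subgroup G)) (zc (bau (S : Subgroup G))) V S
      (centralizer (zc (S : Subgroup G) : Set G)) := by
  obtain ⟨r, hr⟩ := Base.fld h (not_le h hJ)
  have h1 := char2_cent h (U := zc (S : Subgroup G)) (ChoiceBase.zc_le_zj _) (zc_ne_bot h)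
  obtain ⟨z, hz, hz1⟩ := Base.exists_ne_zcS h
  have hzj : z ∈ zj (S : Subgroup G) := ChoiceBase.zc_le_zj _ hz
  refine ⟨r, { hr with
    XZ := le_rfl
    SX := S_le_cz S
    syl := Basic.not_dvd_relIndex S (S_le_cz S)
    char2 := h1.1
    CJ := inf_le_right.trans hJ
    red := ?_
    ex := not_le h hJ }⟩
  intro Y hYX hXY hsq hYZ
  by_contra hcon
  apply hYZ
  refine red h (Or.inr (three h hJ)) hzj hz1 (abJ h hzj hz1)
    (centralizer_le (Set.singleton_subset_iff.2 hz)) (S_le_cz S) h1.1 hYX hXY hsq fun D hD hXD h2 => ?_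
  by_contra h3
  exact hcon ⟨D, hD, hXD, h2, h3⟩

end Cfsg.Agent.OddCyclic.Eq.CfgP
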