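import Cfsg.Agent.OddCyclic.Eq.Crd

/-!
# (E_q) of `T_cyc`, Part II: `C₀ = N(V) ∩ C(Z)` in coordinates

`ZSys S Z V J e`: moreover `e 1 0 ∈ Z = C_J(S)`, `N(V) ∩ C(J) = B C(V)`, `N(V) ∩ C(Z) = S C(V)`.
* `sm0`: `c ∈ C₀` acts as `(1 b; 0 d) σ`;
* `u4` (1.4); for `|F| = 4`: `cardZ`, `JZ`, `small`, `center`, `eight`, `nab`, `four`.
-/

set_option autoImplicit false
set_option linter.unusedSectionVars false

namespace Cfsg.Agent.OddCyclic.Eq.Crd

open Subgroup

variable {G : Type*} [Group G] {F : Type} [Field F]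

/-- coordinates of `V`, `J`, `Z = C_J(S)` with `e 1 0 ∈ Z` -/
structure ZSys (S Z V J : Subgroup G) (e : F → F → G) : Prop extends Sys V J e where
  one : e 1 0 ∈ Z
  ZJ : Z ≤ J
  SN : S ≤ normalizer (V : Set G)
  SZ : S ≤ centralizer (Z : Set G)
  memZ : ∀ g ∈ J, (∀ s ∈ S, s * g = g * s) → g ∈ Z
  up : ∀ t, ∃ b ∈ S, Sm e b (RingEquiv.refl F) 1 t 0 1
  root : ∀ m ∈ normalizer (V : Set G), m ∈ centralizer (J : Set G) → ∃ t, Sm e m (RingEquiv.refl F) 1 t 0 1
  cent : ∀ m ∈ normalizer (V : Set G), m ∈ centralizer (Z : Set G) → ∃ s ∈ S, s⁻¹ * m ∈ centralizer (V : Set G)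

namespace ZSys

variable {S Z V J : Subgroup G} {e : F → F → G} (h : ZSys S Z V J e)

include h

/-- the action of `C₀` -/
theorem sm0 {c : G} (hc : c ∈ normalizer (V : Set G)) (hz : c ∈ centralizer (Z : Set G)) :
    ∃ (σ : F ≃+* F) (b d : F), d ≠ 0 ∧ Sm e c σ 1 b 0 d := by
  obtain ⟨σ, a, b, c', d, hd, hs⟩ := h.semi c hc
  have h1 : c * e 1 0 * c⁻¹ = e 1 0 := by
    rw [← mem_centralizer_iff.1 hz _ h.one, mul_inv_cancel_right]
  rw [hs] at h1
  simp only [map_one, map_zero, mul_one, mul_zero, add_zero] at h1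
  obtain ⟨h2, h3⟩ := h.ext h1
  subst h2
  subst h3
  refine ⟨σ, b, d, ?_, hs⟩
  rintro rfl
  apply hd
  ring

theorem S0 {s : G} (hs : s ∈ S) : ∃ (σ : F ≃+* F) (b d : F), d ≠ 0 ∧ Sm e s σ 1 b 0 d :=
  h.sm0 (h.SN hs) (h.SZ hs)

theorem mem_Z {x : F} : e x 0 ∈ Z ↔ ∀ s ∈ S, ∀ (σ : F ≃+* F) (b d : F), Sm e s σ 1 b 0 d → σ x = x := by
  constructor
  · intro h1 s hs σ b d h2
    have h3 : s * e x 0 * s⁻¹ = e x 0 := by
      rw [← mem_centralizer_iff.1 (h.SZ hs) _ h1, mul_inv_cancel_right]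
    rw [h2] at h3
    simp only [map_zero, mul_zero, add_zero, one_mul] at h3
    exact (h.ext h3).1
  · intro h1
    refine h.memZ _ (h.J_mem x) fun s hs => ?_
    obtain ⟨σ, b, d, -, h2⟩ := h.S0 hs
    rw [← mul_inv_eq_iff_eq_mul, h2]
    simp only [map_zero, mul_zero, add_zero, one_mul, zero_mul]
    rw [h1 s hs σ b d h2]

/-- `C₀` normalises `J` -/
theorem CJ : normalizer (V : Set G) ⊓ centralizer (Z : Set G) ≤ normalizer (J : Set G) := by
  have key : ∀ c ∈ normalizer (V : Set G) ⊓ centralizer (Z : Set G), ∀ j ∈ J, c * j * c⁻¹ ∈ J := by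
    intro c hc j hj
    obtain ⟨σ, b, d, -, h2⟩ := h.sm0 hc.1 hc.2
    obtain ⟨x, rfl⟩ := (h.memJ _).1 hj
    rw [h2]
    simp only [map_zero, mul_zero, add_zero, one_mul, zero_mul]
    exact h.J_mem _
  intro c hc
  rw [mem_normalizer_iff]
  intro j
  refine ⟨key c hc j, fun h1 => ?_⟩
  have h2 := key c⁻¹ (inv_mem hc) _ h1
  have h3 : c⁻¹ * (c * j * c⁻¹) * c⁻¹⁻¹ = j := by group
  rwa [h3] at h2

/-- `w u w⁻¹` -/
theorem conj_up {w u : G} {σ : F ≃+* F} {b d t : F} (hd : d ≠ 0) (hw : Sm e w σ 1 b 0 d)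
    (hu : Sm e u (RingEquiv.refl F) 1 t 0 1) : Sm e (w * u * w⁻¹) (RingEquiv.refl F) 1 (σ t * d⁻¹) 0 1 := by
  intro x y
  -- the preimage of `(x, y)`
  set y' := σ.symm (d⁻¹ * y) with hy'
  set x' := σ.symm (x - b * (d⁻¹ * y)) with hx'
  have e1 : σ y' = d⁻¹ * y := σ.apply_symm_apply _
  have e2 : σ x' = x - b * (d⁻¹ * y) := σ.apply_symm_apply _
  have h1 : w * e x' y' * w⁻¹ = e x y := by
    rw [hw x' y', e1, e2]
    congr 1
    · ring
    · rw [zero_mul, zero_add, mul_inv_cancel_left₀ hd]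
  have h2 : w * u * w⁻¹ * e x y * (w * u * w⁻¹)⁻¹ = w * (u * e x' y' * u⁻¹) * w⁻¹ := by
    rw [← h1]; group
  rw [h2, hu, hw]
  simp only [RingEquiv.refl_apply, one_mul, zero_mul, zero_add, map_add, map_mul, e1, e2]
  congr 1
  · ring
  · rw [mul_inv_cancel_left₀ hd]

theorem mem_centJ {c : G} {σ : F ≃+* F} {b d : F} (hs : Sm e c σ 1 b 0 d) :
    c ∈ centralizer (J : Set G) ↔ σ = RingEquiv.refl F := by
  rw [mem_centralizer_iff]
  constructor
  · intro h1
    ext x
    have h2 := h1 _ (h.J_mem x)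
    have h3 := hs x 0
    rw [← h2, mul_inv_cancel_right] at h3
    simp only [map_zero, mul_zero, add_zero, one_mul] at h3
    exact (h.ext h3).1.symm
  · rintro rfl j hj
    obtain ⟨x, rfl⟩ := (h.memJ _).1 hj
    have h3 := hs x 0
    simp only [map_zero, mul_zero, add_zero, one_mul, zero_mul, RingEquiv.refl_apply] at h3
    rw [mul_inv_eq_iff_eq_mul] at h3
    exact h3.symm

/-- `d = 1` for linear elements -/
theorem d_eq {c : G} (hc : c ∈ normalizer (V : Set G)) {b d : F}
    (hs : Sm e c (RingEquiv.refl F) 1 b 0 d) : d = 1 := by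
  obtain ⟨t, ht⟩ := h.root c hc ((h.mem_centJ hs).2 rfl)
  exact (h.uniq' hc hs ht).2.2.2.2

section u4

variable [CharP F 2] [Finite F]

/-- **(1.4)** -/
theorem u4 (hU : ∀ R ≤ J, R ≠ ⊥ → ¬ centralizer (R : Set G) ≤ normalizer (V : Set G) →
      ∃ s ∈ normalizer (V : Set G), s ∈ centralizer (R : Set G) ∧ s ∉ centralizer (J : Set G) ∧
        s * s ∈ centralizer (J : Set G)) {a : G} (ha : a ∉ normalizer (V : Set G)) :
    Nat.card (V ⊓ centralizer ({a} : Set G) : Subgroup G) ≤ Nat.card F := by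
  rw [← h.card_pre inf_le_left]
  have two : (2 : F) = 0 := CharTwo.two_eq_zero
  -- a vector and a multiple of it fixed by `a` give a field automorphism
  have key : ∀ (x y l : F), ((x, y) : F × F) ≠ 0 → e x y ∈ V ⊓ centralizer ({a} : Set G) →
      e (l * x) (l * y) ∈ V ⊓ centralizer ({a} : Set G) →
      ∃ σ : F ≃+* F, (∀ x, σ (σ x) = x) ∧ (∃ x, σ x ≠ x) ∧ σ l = l := by
    intro x y l hxy h1 h2
    obtain ⟨p, r, hpr⟩ : ∃ p r : F, x * r + p * y = 1 := by
      by_cases h4 : x = 0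
      · have h5 : y ≠ 0 := fun h6 => hxy (by rw [h4, h6]; rfl)
        exact ⟨y⁻¹, 0, by rw [inv_mul_cancel₀ h5, mul_zero, zero_add]⟩
      · exact ⟨0, x⁻¹, by rw [mul_inv_cancel₀ h4, zero_mul, add_zero]⟩
    obtain ⟨n, hn, hsn⟩ := h.sl x p y r hpr
    have h3 : n * e 1 0 * n⁻¹ = e x y := by
      rw [hsn]; simp
    have h4 : n * e l 0 * n⁻¹ = e (l * x) (l * y) := by
      rw [hsn]; simp [mul_comm]
    have hcom : ∀ g, n * g * n⁻¹ ∈ V ⊓ centralizer ({a} : Set G) → g * (n⁻¹ * a * n) = (n⁻¹ * a * n) * g := by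
      intro g hg
      have h5 := mem_centralizer_singleton_iff.1 hg.2
      calc g * (n⁻¹ * a * n) = n⁻¹ * ((n * g * n⁻¹) * a) * n := by group
        _ = n⁻¹ * (a * (n * g * n⁻¹)) * n := by rw [h5]
        _ = (n⁻¹ * a * n) * g := by group
    set R := closure ({e 1 0, e l 0} : Set G) with hR
    have hRJ : R ≤ J := by
      rw [hR, closure_le]
      rintro g (rfl | rfl)
      · exact h.J_mem _
      · exact h.J_mem _
    have h10 : e 1 0 ∈ R := subset_closure (Or.inl rfl)
    have hl0 : e l 0 ∈ R := subset_closure (Or.inr rfl)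
    have hR1 : R ≠ ⊥ := by
      intro h5
      rw [h5, mem_bot] at h10
      exact one_ne_zero (h.inj _ _ h10).1
    have hRc : n⁻¹ * a * n ∈ centralizer (R : Set G) := by
      have h5 : R ≤ centralizer ({n⁻¹ * a * n} : Set G) := by
        rw [hR, closure_le]
        rintro g (rfl | rfl)
        · exact mem_centralizer_singleton_iff.2 (hcom _ (by rw [h3]; exact h1))
        · exact mem_centralizer_singleton_iff.2 (hcom _ (by rw [h4]; exact h2))
      rw [mem_centralizer_iff]
      intro g hg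
      exact mem_centralizer_singleton_iff.1 (h5 hg)
    have hnV : ¬ centralizer (R : Set G) ≤ normalizer (V : Set G) := by
      intro h5
      apply ha
      have h6 := mul_mem (mul_mem hn (h5 hRc)) (inv_mem hn)
      have h7 : n * (n⁻¹ * a * n) * n⁻¹ = a := by group
      rwa [h7] at h6
    obtain ⟨s, hsV, hsR, hsJ, hs2⟩ := hU R hRJ hR1 hnV
    obtain ⟨σ, p', q', r', s', hd', hss⟩ := h.semi s hsV
    have g1 := hss 1 0
    have g2 := hss l 0
    rw [← mem_centralizer_iff.1 hsR _ h10, mul_inv_cancel_right] at g1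
    rw [← mem_centralizer_iff.1 hsR _ hl0, mul_inv_cancel_right] at g2
    simp only [map_one, map_zero, mul_one, mul_zero, add_zero] at g1 g2
    obtain ⟨g3, g4⟩ := h.ext g1
    obtain ⟨g5, -⟩ := h.ext g2
    subst g3
    subst g4
    rw [one_mul] at g5
    refine ⟨σ, ?_, ?_, g5.symm⟩
    · intro x
      have g6 := (hss.mul hss) x 0
      rw [← mem_centralizer_iff.1 hs2 _ (h.J_mem x), mul_inv_cancel_right] at g6
      simp only [map_one, map_zero, mul_one, mul_zero, add_zero, RingEquiv.trans_apply, one_mul] at g6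
      exact (h.ext g6).1.symm
    · by_contra hcon
      push Not at hcon
      apply hsJ
      exact (h.mem_centJ hss).2 (RingEquiv.ext hcon)
  by_cases hex : ∃ (σ : F ≃+* F) (l : F), (∀ x, σ (σ x) = x) ∧ σ l ≠ l
  · obtain ⟨σ, l, hσ, hl⟩ := hex
    refine card_le_of_sep _ l ?_
    rintro ⟨x, y⟩ h1 h2
    by_contra hne
    obtain ⟨τ, h3, h4, h5⟩ := key x y l hne h1 h2
    apply hl
    rw [invol_unique hσ h3 ⟨l, hl⟩ h4]
    exact h5
  · push Not at hex
    refine card_le_of_sep _ 1 ?_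
    rintro ⟨x, y⟩ h1 -
    by_contra hne
    obtain ⟨τ, h3, ⟨x', h4⟩, h5⟩ := key x y 1 hne h1 (by rw [one_mul, one_mul]; exact h1)
    exact h4 (hex τ x' h3)

end u4

/-! ### `|F| = 4` -/

section four

variable [CharP F 2]

omit h in
/-- in `F₄` -/
theorem four_sigma [Finite F] (h4 : Nat.card F = 4) (σ : F ≃+* F) (x : F) : σ (σ x) = x := by
  have := Fintype.ofFinite F
  have two : (2 : F) = 0 := CharTwo.two_eq_zero
  by_cases h0 : x = 0
  · rw [h0, map_zero, map_zero]
  by_cases h1 : x = 1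
  · rw [h1, map_one, map_one]
  have h2 : x ^ 4 = x := by
    have := FiniteField.pow_card x
    rwa [← Nat.card_eq_fintype_card, h4] at this
  have h3 : x * ((x - 1) * (x ^ 2 + x + 1)) = 0 := by linear_combination h2
  have h5 : x ^ 2 + x + 1 = 0 :=
    (mul_eq_zero.1 ((mul_eq_zero.1 h3).resolve_left h0)).resolve_left (sub_ne_zero.2 h1)
  have h6 : (σ x) ^ 2 + σ x + 1 = 0 := by
    have := congrArg σ h5
    rwa [map_add, map_add, map_pow, map_one, map_zero] at this
  have h7 : (σ x - x) * (σ x - (x + 1)) = 0 := by linear_combination h6 - h5 - (x * σ x + σ x - x ^ 2 - x) * two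
  rcases mul_eq_zero.1 h7 with h8 | h8
  · rw [sub_eq_zero.1 h8, sub_eq_zero.1 h8]
  · have h9 : σ x = x + 1 := sub_eq_zero.1 h8
    rw [h9, map_add, map_one, h9]
    linear_combination two

variable [Finite F] (h4 : Nat.card F = 4) (hSJ : ¬ S ≤ centralizer (J : Set G))

include h4

omit h in
/-- two nontrivial automorphisms of `F₄` are equal -/
theorem sigma_eq {σ τ : F ≃+* F} (hσ : σ ≠ RingEquiv.refl F) (hτ : τ ≠ RingEquiv.refl F) : σ = τ := by
  refine invol_unique (four_sigma h4 σ) (four_sigma h4 τ) ?_ ?_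
  · by_contra hcon
    push Not at hcon
    exact hσ (RingEquiv.ext hcon)
  · by_contra hcon
    push Not at hcon
    exact hτ (RingEquiv.ext hcon)

/-- all elements of `C₀` of field type have the same `d` -/
theorem d_unique {a b : G} (ha : a ∈ normalizer (V : Set G)) (hb : b ∈ normalizer (V : Set G))
    {σ : F ≃+* F} {p q d d' : F} (h1 : Sm e a σ 1 p 0 d) (h2 : Sm e b σ 1 q 0 d') :
    d = d' := by
  have key : ∀ a ∈ normalizer (V : Set G), ∀ b ∈ normalizer (V : Set G), ∀ p q d d' : F, Sm e a σ 1 p 0 d →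
      Sm e b σ 1 q 0 d' → d * σ d' = 1 := by
    intro a ha b hb p q d d' h1 h2
    have h3 := h1.mul h2
    simp only [map_one, map_zero, mul_one, mul_zero, add_zero, one_mul, zero_mul, zero_add] at h3
    have h5 : σ.trans σ = RingEquiv.refl F := RingEquiv.ext (four_sigma h4 σ)
    rw [h5] at h3
    exact h.d_eq (mul_mem ha hb) h3
  have h3 := key a ha b hb p q d d' h1 h2
  have h5 := key b hb b hb q q d' d' h2 h2
  have h6 : σ d' ≠ 0 := by
    intro h7
    rw [h7, mul_zero] at h3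
    exact zero_ne_one h3
  exact mul_right_cancel₀ h6 (h3.trans h5.symm)

theorem d_norm {a : G} (ha : a ∈ normalizer (V : Set G))
    {σ : F ≃+* F} {p d : F} (h1 : Sm e a σ 1 p 0 d) : d * σ d = 1 := by
  have h3 := h1.mul h1
  simp only [map_one, map_zero, mul_one, mul_zero, add_zero, one_mul, zero_mul, zero_add] at h3
  have h5 : σ.trans σ = RingEquiv.refl F := RingEquiv.ext (four_sigma h4 σ)
  rw [h5] at h3
  exact h.d_eq (mul_mem ha ha) h3

/-- `[J, C₀] ≤ Z` -/
theorem JZ : ∀ c ∈ normalizer (V : Set G) ⊓ centralizer (Z : Set G), ∀ j ∈ J, c * j * c⁻¹ * j⁻¹ ∈ Z := by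
  have two : (2 : F) = 0 := CharTwo.two_eq_zero
  intro c hc j hj
  obtain ⟨σ, b, d, -, h2⟩ := h.sm0 hc.1 hc.2
  obtain ⟨x, rfl⟩ := (h.memJ _).1 hj
  have h3 : c * e x 0 * c⁻¹ * (e x 0)⁻¹ = e (σ x + x) 0 := by
    rw [h2, mul_inv_eq_iff_eq_mul, ← h.add]
    simp only [map_zero, mul_zero, add_zero, one_mul, zero_mul]
    congr 1
    linear_combination (-x) * two
  rw [h3, h.mem_Z]
  intro s hs τ b' d' h5
  by_cases hτ : τ = RingEquiv.refl F
  · rw [hτ]; rfl
  by_cases hσ : σ = RingEquiv.refl F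
  · rw [hσ]
    simp only [RingEquiv.refl_apply]
    have : x + x = 0 := by linear_combination x * two
    rw [this, map_zero]
  · rw [sigma_eq h4 hτ hσ, map_add, four_sigma h4]
    ring

include hSJ

/-- an element of field type in `S` -/
theorem exists_w : ∃ w ∈ S, ∃ (σ : F ≃+* F) (b d : F), σ ≠ RingEquiv.refl F ∧ d ≠ 0 ∧ Sm e w σ 1 b 0 d := by
  obtain ⟨w, hw, hw2⟩ := SetLike.not_le_iff_exists.1 hSJ
  obtain ⟨σ, b, d, hd, h2⟩ := h.S0 hw
  exact ⟨w, hw, σ, b, d, fun h3 => hw2 ((h.mem_centJ h2).2 h3), hd, h2⟩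

/-- `Z = {e 0 0, e 1 0}` -/
theorem mem_Z4 {x : F} : e x 0 ∈ Z ↔ x = 0 ∨ x = 1 := by
  classical
  have two : (2 : F) = 0 := CharTwo.two_eq_zero
  have := Fintype.ofFinite F
  constructor
  · intro h1
    obtain ⟨w, hw, σ, b, d, hσ, hd, h2⟩ := h.exists_w h4 hSJ
    have h3 := h.mem_Z.1 h1 w hw σ b d h2
    by_contra hcon
    push Not at hcon
    apply hσ
    ext y
    -- `F = {0, 1, x, x + 1}`
    have h5 : ({0, 1, x, x + 1} : Finset F) = Finset.univ := by
      apply Finset.eq_univ_of_card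
      rw [← Nat.card_eq_fintype_card, h4]
      have e1 : (0 : F) ≠ 1 := zero_ne_one
      have e2 : (0 : F) ≠ x := hcon.1.symm
      have e3 : (0 : F) ≠ x + 1 := fun h6 => hcon.2 (by linear_combination -h6 - two)
      have e4 : (1 : F) ≠ x := hcon.2.symm
      have e5 : (1 : F) ≠ x + 1 := fun h6 => hcon.1 (by linear_combination -h6)
      have e6 : x ≠ x + 1 := fun h6 => one_ne_zero (α := F) (by linear_combination -h6)
      rw [Finset.card_insert_of_notMem, Finset.card_insert_of_notMem, Finset.card_insert_of_notMem,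
        Finset.card_singleton] <;> simp [e1, e2, e3, e4, e5, e6]
    have h6 : y ∈ ({0, 1, x, x + 1} : Finset F) := by rw [h5]; exact Finset.mem_univ _
    simp only [Finset.mem_insert, Finset.mem_singleton] at h6
    rcases h6 with rfl | rfl | rfl | rfl
    · exact map_zero _
    · exact map_one _
    · exact h3
    · rw [map_add, map_one, h3]; rfl
  · rintro (rfl | rfl)
    · rw [h.zero]; exact one_mem _
    · exact h.one

/-- `|Z| = 2` -/
theorem cardZ : Nat.card Z = 2 := by
  have h1 : (Z : Set G) = {e 0 0, e 1 0} := by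
    ext g
    constructor
    · intro hg
      obtain ⟨x, rfl⟩ := (h.memJ _).1 (h.ZJ hg)
      rcases (h.mem_Z4 h4 hSJ).1 hg with rfl | rfl
      · exact Or.inl rfl
      · exact Or.inr rfl
    · rintro (rfl | rfl)
      · exact (h.mem_Z4 h4 hSJ).2 (Or.inl rfl)
      · exact (h.mem_Z4 h4 hSJ).2 (Or.inr rfl)
  rw [← SetLike.coe_sort_coe, h1, Nat.card_coe_set_eq, Set.ncard_pair]
  intro h2
  exact zero_ne_one (h.ext h2).1

/-- an element of `C₀` with `[V, c] ≤ Z` centralises `V` -/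
theorem small : ∀ c ∈ normalizer (V : Set G) ⊓ centralizer (Z : Set G), (∀ v ∈ V, c * v * c⁻¹ * v⁻¹ ∈ Z) →
    c ∈ centralizer (V : Set G) := by
  have two : (2 : F) = 0 := CharTwo.two_eq_zero
  intro c hc h1
  obtain ⟨σ, b, d, -, h2⟩ := h.sm0 hc.1 hc.2
  have h3 : ∀ x y, σ x + b * σ y + x = 0 ∨ σ x + b * σ y + x = 1 := by
    intro x y
    have h5 := h1 _ (h.memV x y)
    rw [h2] at h5
    have h6 : e (1 * σ x + b * σ y) (0 * σ x + d * σ y) * (e x y)⁻¹ = e (σ x + b * σ y + x) (d * σ y + y) := by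
      rw [mul_inv_eq_iff_eq_mul, ← h.add]
      congr 1
      · linear_combination (-x) * two
      · linear_combination (-y) * two
    rw [h6] at h5
    have h7 : d * σ y + y = 0 := h.mem_J (h.ZJ h5)
    rw [h7] at h5
    exact (h.mem_Z4 h4 hSJ).1 h5
  have h3' : ∀ y, d * σ y + y = 0 := by
    intro y
    have h5 := h1 _ (h.memV 0 y)
    rw [h2] at h5
    have h6 : e (1 * σ 0 + b * σ y) (0 * σ 0 + d * σ y) * (e 0 y)⁻¹ = e (b * σ y) (d * σ y + y) := by
      rw [mul_inv_eq_iff_eq_mul, ← h.add]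
      congr 1
      · rw [map_zero]; ring
      · rw [map_zero]; linear_combination (-y) * two
    rw [h6] at h5
    exact h.mem_J (h.ZJ h5)
  have hd : d = 1 := by
    have := h3' 1
    rw [map_one] at this
    linear_combination this - two
  have hσ : σ = RingEquiv.refl F := by
    ext y
    have := h3' y
    rw [hd] at this
    show σ y = y
    linear_combination this - y * two
  subst hσ
  subst hd
  simp only [RingEquiv.refl_apply] at h3
  have hb : b = 0 := by
    by_contra hb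
    -- the values `b y` exhaust `F`
    have h5 : ∀ y : F, y = 0 ∨ y = 1 := by
      intro y
      have h6 := h3 0 (b⁻¹ * y)
      rwa [zero_add, add_zero, mul_inv_cancel_left₀ hb] at h6
    have := Fintype.ofFinite F
    have h6 : Nat.card F ≤ 2 := by
      classical
      rw [Nat.card_eq_fintype_card, ← Finset.card_univ]
      refine (Finset.card_le_card (t := {0, 1}) fun y _ => ?_).trans Finset.card_le_two
      simp only [Finset.mem_insert, Finset.mem_singleton]
      exact h5 y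
    omega
  subst hb
  exact h.mem_cent.2 h2

/-- `C₀ / C(V)` is not abelian -/
theorem nab : ∃ a ∈ normalizer (V : Set G) ⊓ centralizer (Z : Set G),
    ∃ b ∈ normalizer (V : Set G) ⊓ centralizer (Z : Set G), a * b * a⁻¹ * b⁻¹ ∉ centralizer (V : Set G) := by
  have two : (2 : F) = 0 := CharTwo.two_eq_zero
  obtain ⟨w, hw, σ, b, d, hσ, hd, h2⟩ := h.exists_w h4 hSJ
  have h3 : ∃ t, σ t * d⁻¹ + t ≠ 0 := by
    by_contra hcon
    push Not at hcon
    have h5 := hcon 1
    rw [map_one, one_mul] at h5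
    have h6 : d⁻¹ = 1 := by linear_combination h5 - two
    apply hσ
    ext y
    have h7 := hcon y
    rw [h6] at h7
    show σ y = y
    linear_combination h7 - y * two
  obtain ⟨t, ht⟩ := h3
  obtain ⟨u, hu, hut⟩ := h.up t
  refine ⟨w, ⟨h.SN hw, h.SZ hw⟩, u, ⟨h.SN hu, h.SZ hu⟩, fun h5 => ?_⟩
  have h6 := h.conj_up hd h2 hut
  -- `w u w⁻¹ = k u` with `k ∈ C(V)`
  have h7 := (h.mem_cent.1 h5).mul hut
  have h8 : w * u * w⁻¹ * u⁻¹ * u = w * u * w⁻¹ := by group
  rw [h8] at h7
  have h9 := (h.uniq' (mul_mem (mul_mem (h.SN hw) (h.SN hu)) (inv_mem (h.SN hw))) h6 h7).2.2.1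
  simp only [RingEquiv.refl_apply, mul_one, one_mul, add_zero] at h9
  apply ht
  rw [h9]
  linear_combination t * two

/-- the centre of `C₀ / C(V)` -/
theorem center : ∀ N : Subgroup G, N ≤ normalizer (V : Set G) ⊓ centralizer (Z : Set G) →
    normalizer (V : Set G) ⊓ centralizer (Z : Set G) ≤ normalizer (N : Set G) →
    ¬ N ≤ centralizer (V : Set G) → ∃ s ∈ N,
      (∀ c ∈ normalizer (V : Set G) ⊓ centralizer (Z : Set G), c * s * c⁻¹ * s⁻¹ ∈ centralizer (V : Set G)) ∧
      (∀ j ∈ J, s * j * s⁻¹ * j⁻¹ = 1) ∧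
      (∀ j ∈ J, ∃ v ∈ V, s * v * s⁻¹ * v⁻¹ = j) ∧ (∀ v ∈ V, s * v * s⁻¹ * v⁻¹ ∈ J) := by
  have two : (2 : F) = 0 := CharTwo.two_eq_zero
  intro N hN hNn hNV
  obtain ⟨w, hw, σ, b, d, hσ, hd, h2⟩ := h.exists_w h4 hSJ
  have hdn : d * σ d = 1 := h.d_norm h4 (h.SN hw) h2
  have hwC : w ∈ normalizer (V : Set G) ⊓ centralizer (Z : Set G) := ⟨h.SN hw, h.SZ hw⟩
  -- (1) a nontrivial root element in `N`
  have e1 : ∃ s ∈ N, ∃ t : F, t ≠ 0 ∧ Sm e s (RingEquiv.refl F) 1 t 0 1 := by
    obtain ⟨n, hn, hnV⟩ := SetLike.not_le_iff_exists.1 hNV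
    obtain ⟨τ, b', d', hd', hs⟩ := h.sm0 (hN hn).1 (hN hn).2
    by_cases hτ : τ = RingEquiv.refl F
    · subst hτ
      rw [h.d_eq (hN hn).1 hs] at hs
      refine ⟨n, hn, b', ?_, hs⟩
      rintro rfl
      exact hnV (h.mem_cent.2 hs)
    · have h3 : ∃ t, τ t * d'⁻¹ + t ≠ 0 := by
        by_contra hcon
        push Not at hcon
        have h5 := hcon 1
        rw [map_one, one_mul] at h5
        have h6 : d'⁻¹ = 1 := by linear_combination h5 - two
        apply hτ
        ext y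
        have h7 := hcon y
        rw [h6] at h7
        show τ y = y
        linear_combination h7 - y * two
      obtain ⟨t, ht⟩ := h3
      obtain ⟨u, hu, hut⟩ := h.up t
      refine ⟨n * (u * n⁻¹ * u⁻¹), mul_mem hn ?_, τ t * d'⁻¹ + t, ht, ?_⟩
      · exact (mem_normalizer_iff.1 (hNn ⟨h.SN hu, h.SZ hu⟩) _).1 (inv_mem hn)
      · have h6 := h.conj_up hd' hs hut
        have h7 : Sm e u⁻¹ (RingEquiv.refl F) 1 t 0 1 := by
          intro x y
          have h8 := hut (x + t * y) y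
          simp only [RingEquiv.refl_apply, one_mul, zero_mul, zero_add] at h8 ⊢
          have h9 : x + t * y + t * y = x := by linear_combination (t * y) * two
          rw [h9] at h8
          rw [← h8]
          group
        have h8 := h6.mul h7
        have h9 : n * u * n⁻¹ * u⁻¹ = n * (u * n⁻¹ * u⁻¹) := by group
        rw [h9] at h8
        simp only [RingEquiv.refl_apply, mul_one, one_mul, zero_mul, mul_zero, add_zero, zero_add] at h8
        have h10 : (RingEquiv.refl F).trans (RingEquiv.refl F) = RingEquiv.refl F := rfl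
        rw [h10, add_comm t] at h8
        exact h8
  -- (2) a root element in `N` which is central
  have e2 : ∃ s ∈ N, ∃ t : F, t ≠ 0 ∧ σ t = t * d ∧ Sm e s (RingEquiv.refl F) 1 t 0 1 := by
    obtain ⟨s, hs, t, ht, hst⟩ := e1
    by_cases h3 : σ t = t * d
    · exact ⟨s, hs, t, ht, h3, hst⟩
    · have h6 := h.conj_up hd h2 hst
      have h7 := h6.mul hst
      simp only [RingEquiv.refl_apply, mul_one, one_mul, zero_mul, mul_zero, add_zero, zero_add] at h7
      have h10 : (RingEquiv.refl F).trans (RingEquiv.refl F) = RingEquiv.refl F := rfl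
      rw [h10] at h7
      refine ⟨w * s * w⁻¹ * s, mul_mem ((mem_normalizer_iff.1 (hNn hwC) _).1 hs) hs, t + σ t * d⁻¹, ?_, ?_, h7⟩
      · intro h8
        apply h3
        have h9 : (t + σ t * d⁻¹) * d = 0 := by rw [h8, zero_mul]
        have h11 : t * d + σ t = 0 := by
          rw [add_mul, mul_assoc, inv_mul_cancel₀ hd, mul_one] at h9
          exact h9
        linear_combination h11 - (t * d) * two
      · have h8 : σ d⁻¹ = d := by
          rw [map_inv₀]
          exact inv_eq_of_mul_eq_one_left hdn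
        rw [map_add, map_mul, four_sigma h4, h8, add_mul, mul_assoc, inv_mul_cancel₀ hd, mul_one]
        ring
  obtain ⟨s, hs, t, ht, htσ, hst⟩ := e2
  refine ⟨s, hs, ?_, ?_, ?_, ?_⟩
  · intro c hc
    obtain ⟨τ, b', d', hd', hcs⟩ := h.sm0 hc.1 hc.2
    have h3 := h.conj_up hd' hcs hst
    have h5 : τ t * d'⁻¹ = t := by
      by_cases hτ : τ = RingEquiv.refl F
      · subst hτ
        rw [h.d_eq hc.1 hcs, inv_one, mul_one]; rfl
      · have h6 : τ = σ := sigma_eq h4 hτ hσ
        subst h6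
        rw [h.d_unique h4 hc.1 (h.SN hw) hcs h2, htσ, mul_assoc, mul_inv_cancel₀ hd, mul_one]
    rw [h5] at h3
    have h7 : Sm e s⁻¹ (RingEquiv.refl F) 1 t 0 1 := by
      intro x y
      have h8 := hst (x + t * y) y
      simp only [RingEquiv.refl_apply, one_mul, zero_mul, zero_add] at h8 ⊢
      have h9 : x + t * y + t * y = x := by linear_combination (t * y) * two
      rw [h9] at h8
      rw [← h8]
      group
    have h8 := h3.mul h7
    simp only [RingEquiv.refl_apply, mul_one, one_mul, zero_mul, mul_zero, add_zero, zero_add] at h8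
    have h10 : (RingEquiv.refl F).trans (RingEquiv.refl F) = RingEquiv.refl F := rfl
    have h11 : t + t = 0 := by linear_combination t * two
    rw [h10, h11] at h8
    exact h.mem_cent.2 h8
  · intro j hj
    obtain ⟨x, rfl⟩ := (h.memJ _).1 hj
    rw [h.comm_up hst, mul_zero, h.zero]
  · intro j hj
    obtain ⟨x, rfl⟩ := (h.memJ _).1 hj
    exact ⟨e 0 (t⁻¹ * x), h.memV _ _, by rw [h.comm_up hst, mul_inv_cancel_left₀ ht]⟩
  · intro v hv
    obtain ⟨x, y, rfl⟩ := (h.mem _).1 hv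
    rw [h.comm_up hst]
    exact h.J_mem _

/-- `|C₀ : C(V)| = 8` -/
theorem eight : (centralizer (V : Set G)).relIndex (normalizer (V : Set G) ⊓ centralizer (Z : Set G)) = 8 := by
  classical
  have two : (2 : F) = 0 := CharTwo.two_eq_zero
  obtain ⟨w, hw, σ, b₀, d, hσ, hd, h2⟩ := h.exists_w h4 hSJ
  have key : ∀ c : G, ∃ (τ : F ≃+* F) (b d : F), c ∈ normalizer (V : Set G) ⊓ centralizer (Z : Set G) →
      Sm e c τ 1 b 0 d := by
    intro c
    by_cases hc : c ∈ normalizer (V : Set G) ⊓ centralizer (Z : Set G)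
    · obtain ⟨τ, b, d, -, hs⟩ := h.sm0 hc.1 hc.2
      exact ⟨τ, b, d, fun _ => hs⟩
    · exact ⟨RingEquiv.refl F, 0, 0, fun h3 => absurd h3 hc⟩
  choose τ β δ hs using key
  have h1 : (centralizer (V : Set G)).relIndex (normalizer (V : Set G) ⊓ centralizer (Z : Set G)) =
      Nat.card (Bool × F) := by
    refine Sys.relIndex_eq_of (fun c => (decide (τ c = RingEquiv.refl F), β c)) ?_ ?_
    · intro a ha c hc
      simp only [Prod.mk.injEq, decide_eq_decide]
      constructor
      · rintro ⟨h3, h5⟩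
        have h6 : τ a = τ c ∧ δ a = δ c := by
          by_cases hτ : τ a = RingEquiv.refl F
          · have hτ' := h3.1 hτ
            have g1 := hs a ha
            have g2 := hs c hc
            rw [hτ] at g1
            rw [hτ'] at g2
            exact ⟨hτ.trans hτ'.symm, (h.d_eq ha.1 g1).trans (h.d_eq hc.1 g2).symm⟩
          · have hτ' : τ c ≠ RingEquiv.refl F := fun h7 => hτ (h3.2 h7)
            have h8 : τ a = τ c := sigma_eq h4 hτ hτ'
            have g1 := hs a ha
            rw [h8] at g1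
            exact ⟨h8, h.d_unique h4 ha.1 hc.1 g1 (hs c hc)⟩
        rw [mem_centralizer_iff]
        intro v hv
        obtain ⟨x, y, rfl⟩ := (h.mem _).1 hv
        have g1 := hs a ha x y
        have g2 := hs c hc x y
        rw [h6.1, h6.2, h5] at g1
        have g3 := g1.trans g2.symm
        calc e x y * (a⁻¹ * c) = a⁻¹ * (a * e x y * a⁻¹) * c := by group
          _ = a⁻¹ * (c * e x y * c⁻¹) * c := by rw [g3]
          _ = a⁻¹ * c * e x y := by group
      · intro h3
        have h5 := (hs a ha).mul (h.mem_cent.1 h3)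
        rw [mul_inv_cancel_left] at h5
        obtain ⟨g1, -, g2, -⟩ := h.uniq' hc.1 (hs c hc) h5
        simp only [map_one, map_zero, mul_one, mul_zero, zero_add] at g2
        have g3 : (RingEquiv.refl F).trans (τ a) = τ a := rfl
        rw [g3] at g1
        exact ⟨by rw [g1], g2.symm⟩
    · rintro ⟨b, t⟩
      rcases b with _ | _
      · obtain ⟨u, hu, hut⟩ := h.up ((t - b₀) * d⁻¹)
        have h3 : u * w ∈ normalizer (V : Set G) ⊓ centralizer (Z : Set G) :=
          mul_mem ⟨h.SN hu, h.SZ hu⟩ ⟨h.SN hw, h.SZ hw⟩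
        refine ⟨u * w, h3, ?_⟩
        obtain ⟨g1, -, g2, -⟩ := h.uniq' h3.1 (hs _ h3) (hut.mul h2)
        have g3 : σ.trans (RingEquiv.refl F) = σ := rfl
        rw [g3] at g1
        simp only [RingEquiv.refl_apply, one_mul] at g2
        rw [mul_assoc, inv_mul_cancel₀ hd, mul_one] at g2
        refine Prod.ext ?_ ?_
        · show decide (τ (u * w) = RingEquiv.refl F) = false
          rw [g1, decide_eq_false_iff_not]
          exact hσ
        · show β (u * w) = t
          rw [g2]; ring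
      · obtain ⟨u, hu, hut⟩ := h.up t
        have h3 : u ∈ normalizer (V : Set G) ⊓ centralizer (Z : Set G) := ⟨h.SN hu, h.SZ hu⟩
        refine ⟨u, h3, ?_⟩
        obtain ⟨g1, -, g2, -⟩ := h.uniq' h3.1 (hs _ h3) hut
        refine Prod.ext ?_ g2
        show decide (τ u = RingEquiv.refl F) = true
        rw [g1]; simp
  rw [h1, Nat.card_prod, h4, Nat.card_eq_fintype_card, Fintype.card_bool]

/-- invariant subgroups above `Z` -/
theorem four (U : Subgroup G) (hUV : U ≤ V) (hZU : Z ≤ U)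
    (hn : normalizer (V : Set G) ⊓ centralizer (Z : Set G) ≤ normalizer (U : Set G)) :
    U = Z ∨ U = J ∨ U = V ∨ (J ≤ U ∧ Nat.card U = 8) := by
  have two : (2 : F) = 0 := CharTwo.two_eq_zero
  have hcV : Nat.card V = 16 := by rw [h.cardV, h4]
  have hVf : Finite V := Nat.finite_of_card_ne_zero (by omega)
  have hcJ : Nat.card J = 4 := by rw [h.cardJ, h4]
  have hJf : Finite J := Finite.Set.subset (V : Set G) h.J_le
  have hUf : Finite U := Finite.Set.subset (V : Set G) hUV
  by_cases hUJ : U ≤ J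
  · have h1 : Nat.card U ∣ 4 := by rw [← hcJ]; exact card_dvd_of_le hUJ
    have h2 : 2 ∣ Nat.card U := by rw [← h.cardZ h4 hSJ]; exact card_dvd_of_le hZU
    have h3 : Nat.card U ≤ 4 := Nat.le_of_dvd (by norm_num) h1
    have h5 : Nat.card U = 2 ∨ Nat.card U = 4 := by
      have : 0 < Nat.card U := Nat.card_pos
      interval_cases h6 : Nat.card U <;> omega
    rcases h5 with h5 | h5
    · left
      exact (eq_of_le_of_card_ge hZU (by rw [h5, h.cardZ h4 hSJ])).symm
    · right; left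
      exact eq_of_le_of_card_ge hUJ (by rw [h5, hcJ])
  · obtain ⟨g, hgU, hgJ⟩ := SetLike.not_le_iff_exists.1 hUJ
    obtain ⟨x, y, rfl⟩ := (h.mem _).1 (hUV hgU)
    have hy : y ≠ 0 := by
      rintro rfl
      exact hgJ (h.J_mem x)
    have hJU : J ≤ U := by
      intro j hj
      obtain ⟨x', rfl⟩ := (h.memJ _).1 hj
      obtain ⟨u, hu, hut⟩ := h.up (y⁻¹ * x')
      have h1 : u * e x y * u⁻¹ ∈ U :=
        (mem_normalizer_iff.1 (hn ⟨h.SN hu, h.SZ hu⟩) _).1 hgU
      have h2 := mul_mem h1 (inv_mem hgU)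
      rw [h.comm_up hut] at h2
      have h3 : y⁻¹ * x' * y = x' := by rw [mul_comm, mul_inv_cancel_left₀ hy]
      rwa [h3] at h2
    right; right
    have h1 : Nat.card U ∣ 16 := by rw [← hcV]; exact card_dvd_of_le hUV
    have h2 : 4 ∣ Nat.card U := by rw [← hcJ]; exact card_dvd_of_le hJU
    have h3 : Nat.card U ≤ 16 := Nat.le_of_dvd (by norm_num) h1
    have h5 : Nat.card U ≠ 4 := by
      intro h6
      exact hUJ (eq_of_le_of_card_ge hJU (by rw [h6, hcJ])).ge
    have h6 : Nat.card U = 8 ∨ Nat.card U = 16 := by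
      obtain ⟨k, hk⟩ := h2
      rw [hk] at h1 h3 h5 ⊢
      have : 0 < 4 * k := by rw [← hk]; exact Nat.card_pos
      have h7 : k ≤ 4 := by omega
      interval_cases k <;> omega
    rcases h6 with h6 | h6
    · exact Or.inr ⟨hJU, h6⟩
    · exact Or.inl (eq_of_le_of_card_ge hUV (by rw [h6, hcV]))

end four

end ZSys

end Cfsg.Agent.OddCyclic.Eq.Crd
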