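import Cfsg.Agent.OddCyclic.RedFiveThree

/-!
# (E_q) of `T_cyc`: the critical pair

`V ≤ W`, `W` elementary abelian, `M` normalises `V`, `P` normalises `W`.  If no elementary abelian 2-subgroup
containing `V` is normalised by `M` and `P`, then some `g ∈ ⟨M,P⟩` satisfies `[W,W^g] ≠ 1`, `[W,V^g] = 1 = [W^g,V]`.
-/

set_option autoImplicit false

namespace Cfsg.Agent.OddCyclic.Eq.Crit

open Subgroup Cfsg.Agent.OddCyclic.CompStandard Cfsg.Agent.OddCyclic.RedFiveThree

variable {G : Type*} [Group G]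

/-- words `x₀ y₁ x₁ ⋯ yₙ xₙ` with `xᵢ ∈ P`, `yᵢ ∈ M` -/
def Wd (M P : Subgroup G) : ℕ → G → Prop
  | 0, g => g ∈ P
  | n + 1, g => ∃ h y x : G, Wd M P n h ∧ y ∈ M ∧ x ∈ P ∧ g = h * y * x

theorem wd_mul_right {M P : Subgroup G} {n : ℕ} {g c : G} (h : Wd M P n g) (hc : c ∈ P) : Wd M P n (g * c) := by
  cases n with
  | zero => exact P.mul_mem h hc
  | succ n =>
    obtain ⟨g', y, x, h1, h2, h3, rfl⟩ := h
    exact ⟨g', y, x * c, h1, h2, P.mul_mem h3 hc, by group⟩

theorem wd_mul {M P : Subgroup G} {m n : ℕ} {g h : G} (hg : Wd M P m g) (hh : Wd M P n h) :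
    Wd M P (m + n) (g * h) := by
  induction n generalizing h with
  | zero => exact wd_mul_right hg hh
  | succ n ih =>
    obtain ⟨h', y, x, h1, h2, h3, rfl⟩ := hh
    exact ⟨g * h', y, x, ih h1, h2, h3, by group⟩

theorem wd_inv {M P : Subgroup G} {n : ℕ} {g : G} (h : Wd M P n g) : Wd M P n g⁻¹ := by
  induction n generalizing g with
  | zero => exact P.inv_mem h
  | succ n ih =>
    obtain ⟨g', y, x, h1, h2, h3, rfl⟩ := h
    have h4 : Wd M P 1 (x⁻¹ * y⁻¹) :=
      ⟨x⁻¹, y⁻¹, 1, P.inv_mem h3, M.inv_mem h2, P.one_mem, by group⟩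
    have h5 := wd_mul h4 (ih h1)
    rw [add_comm] at h5
    have h6 : (g' * y * x)⁻¹ = x⁻¹ * y⁻¹ * g'⁻¹ := by group
    rw [h6]
    exact h5

theorem wd_mem {M P : Subgroup G} {n : ℕ} {g : G} (h : Wd M P n g) : g ∈ M ⊔ P := by
  induction n generalizing g with
  | zero => exact mem_sup_right h
  | succ n ih =>
    obtain ⟨g', y, x, h1, h2, h3, rfl⟩ := h
    exact Subgroup.mul_mem _ (Subgroup.mul_mem _ (ih h1) (mem_sup_left h2)) (mem_sup_right h3)

theorem exists_wd {M P : Subgroup G} {g : G} (hg : g ∈ M ⊔ P) : ∃ n, Wd M P n g := by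
  rw [← Subgroup.closure_eq M, ← Subgroup.closure_eq P, ← Subgroup.closure_union] at hg
  induction hg using Subgroup.closure_induction with
  | mem x hx =>
    rcases hx with hx | hx
    · exact ⟨1, 1, x, 1, P.one_mem, hx, P.one_mem, by group⟩
    · exact ⟨0, hx⟩
  | one => exact ⟨0, P.one_mem⟩
  | mul x y _ _ hx hy =>
    obtain ⟨m, hm⟩ := hx
    obtain ⟨n, hn⟩ := hy
    exact ⟨m + n, wd_mul hm hn⟩
  | inv x _ hx =>
    obtain ⟨m, hm⟩ := hx
    exact ⟨m, wd_inv hm⟩

variable [Finite G]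

/-- the conjugates of `W` under `H` commute: they generate an elementary abelian group normalised by `H`. -/
theorem exists_normal {H W : Subgroup G} (hcm : ∀ g ∈ H, Cm W (cj g W)) (hW2 : ∀ x ∈ W, x * x = 1) :
    ∃ R : Subgroup G, W ≤ R ∧ (∀ w ∈ R, w * w = 1) ∧ H ≤ normalizer (R : Set G) := by
  set X : Set G := {x | ∃ g ∈ H, x ∈ cj g W} with hX
  have hXc : ∀ x ∈ X, ∀ y ∈ X, x * y = y * x := by
    rintro x ⟨g, hg, hx⟩ y ⟨g', hg', hy⟩
    have h1 := (hcm (g⁻¹ * g') (H.mul_mem (H.inv_mem hg) hg')).cj g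
    rw [← cj_mul, mul_inv_cancel_left] at h1
    exact h1 x hx y hy
  have hWc : ∀ x ∈ closure X, ∀ y ∈ closure X, x * y = y * x := by
    have h1 : closure X ≤ centralizer (closure X : Set G) := by
      rw [closure_le]
      intro x hx
      rw [SetLike.mem_coe, mem_centralizer_iff]
      intro y hy
      have h2 : closure X ≤ centralizer ({x} : Set G) := by
        rw [closure_le]
        intro z hz
        rw [SetLike.mem_coe, mem_centralizer_singleton_iff]
        exact hXc z hz x hx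
      exact mem_centralizer_singleton_iff.mp (h2 hy)
    intro x hx y hy
    exact (mem_centralizer_iff.mp (h1 hx) y hy).symm
  have hHn : H ≤ normalizer ((closure X : Subgroup G) : Set G) := by
    intro h hh
    refine mem_normalizer_of_forall fun x hx => ?_
    induction hx using Subgroup.closure_induction with
    | mem x hx =>
      obtain ⟨g, hg, hxg⟩ := hx
      refine subset_closure ⟨h * g, H.mul_mem hh hg, ?_⟩
      rw [cj_mul]
      exact conj_mem_cj hxg
    | one => rw [mul_one, mul_inv_cancel]; exact Subgroup.one_mem _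
    | mul x y _ _ hx hy =>
      have : h * (x * y) * h⁻¹ = (h * x * h⁻¹) * (h * y * h⁻¹) := by group
      rw [this]
      exact Subgroup.mul_mem _ hx hy
    | inv x _ hx =>
      have : h * x⁻¹ * h⁻¹ = (h * x * h⁻¹)⁻¹ := by group
      rw [this]
      exact Subgroup.inv_mem _ hx
  refine ⟨closure X, ?_, ?_, hHn⟩
  · intro x hx
    refine subset_closure ⟨1, H.one_mem, ?_⟩
    rw [cj_one]
    exact hx
  · intro w hw
    induction hw using Subgroup.closure_induction with
    | mem x hx =>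
      obtain ⟨g, hg, x, hx, rfl⟩ := hx
      show (g * x * g⁻¹) * (g * x * g⁻¹) = 1
      calc (g * x * g⁻¹) * (g * x * g⁻¹) = g * (x * x) * g⁻¹ := by group
        _ = 1 := by rw [hW2 x hx]; group
    | one => rw [mul_one]
    | mul x y hx' hy' hx hy =>
      calc x * y * (x * y) = x * (y * x) * y := by group
        _ = x * (x * y) * y := by rw [hWc y hy' x hx']
        _ = (x * x) * (y * y) := by group
        _ = 1 := by rw [hx, hy, mul_one]
    | inv x _ hx => rw [← mul_inv_rev, hx, inv_one]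

/-- **the critical pair** -/
theorem exists_crit {M P V W : Subgroup G} (hM : M ≤ normalizer (V : Set G)) (hVW : V ≤ W)
    (hP : P ≤ normalizer (W : Set G)) (hW2 : ∀ x ∈ W, x * x = 1)
    (hno : ∀ R : Subgroup G, V ≤ R → (∀ x ∈ R, x * x = 1) → M ≤ normalizer (R : Set G) →
      P ≤ normalizer (R : Set G) → False) :
    ∃ g ∈ M ⊔ P, ¬ Cm W (cj g W) ∧ Cm W (cj g V) ∧ Cm (cj g W) V := by
  classical
  have hWW : Cm W W := fun x hx y hy => comm_of_sq hW2 hx hy
  have hex : ∃ n, ∃ g, Wd M P n g ∧ ¬ Cm W (cj g W) := by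
    by_contra hcon
    push Not at hcon
    obtain ⟨R, h1, h2, h3⟩ := exists_normal (H := M ⊔ P) (W := W) (fun g hg => by
      obtain ⟨n, hn⟩ := exists_wd hg
      exact hcon n g hn) hW2
    exact hno R (hVW.trans h1) h2 (le_sup_left.trans h3) (le_sup_right.trans h3)
  obtain ⟨g, hg, hng⟩ := Nat.find_spec hex
  have hmin : ∀ m < Nat.find hex, ∀ h, Wd M P m h → Cm W (cj h W) := by
    intro m hm h hh
    by_contra hcon
    exact Nat.find_min hex hm ⟨h, hh, hcon⟩
  generalize Nat.find hex = n at hg hmin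
  cases n with
  | zero =>
    exfalso
    apply hng
    rw [cj_eq_iff.mpr (hP hg)]
    exact hWW
  | succ n =>
    -- every word ending with an element of `M` moves `V` into the conjugate of `W` under a shorter word
    have key : ∀ h, Wd M P (n + 1) h → ∃ x ∈ P, Cm W (cj (h * x) V) := by
      rintro h ⟨h', y, x, h1, h2, h3, rfl⟩
      refine ⟨x⁻¹, P.inv_mem h3, ?_⟩
      have h4 : cj (h' * y * x * x⁻¹) V = cj h' V := by
        rw [mul_inv_cancel_right, cj_mul, cj_eq_iff.mpr (hM h2)]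
      rw [h4]
      exact (hmin n (Nat.lt_succ_self n) h' h1).mono le_rfl (cj_mono hVW)
    obtain ⟨x, hx, h1⟩ := key g hg
    obtain ⟨x', hx', h2⟩ := key g⁻¹ (wd_inv hg)
    have hxW : ∀ x ∈ P, cj x W = W := fun x hx => cj_eq_iff.mpr (hP hx)
    refine ⟨x'⁻¹ * g * x, ?_, ?_, ?_, ?_⟩
    · exact Subgroup.mul_mem _ (Subgroup.mul_mem _ (mem_sup_right (P.inv_mem hx')) (wd_mem hg)) (mem_sup_right hx)
    · intro h
      apply hng
      have h3 := h.cj x'
      rw [← cj_mul, hxW x' hx'] at h3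
      have h4 : x' * (x'⁻¹ * g * x) = g * x := by group
      rw [h4, cj_mul, hxW x hx] at h3
      exact h3
    · have h3 := h1.cj x'⁻¹
      rw [← cj_mul, hxW _ (P.inv_mem hx'), ← mul_assoc] at h3
      exact h3
    · have h3 := h2.cj (x'⁻¹ * g)
      have h4 : x'⁻¹ * g * (g⁻¹ * x') = 1 := by group
      rw [← cj_mul, h4, cj_one] at h3
      have h5 : cj (x'⁻¹ * g * x) W = cj (x'⁻¹ * g) W := by
        rw [cj_mul (x'⁻¹ * g) x, hxW x hx]
      rw [h5]
      exact h3

end Cfsg.Agent.OddCyclic.Eq.Crit
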