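import Mathlib

/-!
# (E_q), Part I, `q = 4`: the module statement of (3.4)

`y` of prime order `s ≥ 5`, `k` of order 3 without fixed points, commuting with `y` and with an involution `a`
inverting `y`, `|M : C_M(a)| ≤ 8`.  Then `|M : C_M(a)| > 2` and no 2-element commutes with `y` and inverts `k`.
-/

set_option autoImplicit false

namespace Cfsg.Agent.OddCyclic.Eq.FourMod

open Subgroup

variable {M : Type*} [CommGroup M]

/-- fixed points -/
def fixS (a : MulAut M) : Subgroup M where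
  carrier := {v | a v = v}
  one_mem' := map_one a
  mul_mem' := by
    intro v w hv hw
    show a (v * w) = v * w
    rw [map_mul, show a v = v from hv, show a w = w from hw]
  inv_mem' := by
    intro v hv
    show a v⁻¹ = v⁻¹
    rw [map_inv, show a v = v from hv]

theorem mem_fixS {a : MulAut M} {v : M} : v ∈ fixS a ↔ a v = v := Iff.rfl

/-- `v ↦ a v * v⁻¹` -/
def dl (a : MulAut M) : M →* M where
  toFun v := a v * v⁻¹
  map_one' := by rw [map_one, inv_one, mul_one]
  map_mul' v w := by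
    rw [map_mul, mul_inv]
    exact mul_mul_mul_comm _ _ _ _

theorem dl_apply (a : MulAut M) (v : M) : dl a v = a v * v⁻¹ := rfl

theorem ker_dl (a : MulAut M) : (dl a).ker = fixS a := by
  ext v
  rw [MonoidHom.mem_ker, dl_apply, mul_inv_eq_one, mem_fixS]

/-- an invariant subgroup on which a power `p ^ n` of `f` is trivial: `|X| ≡ |C_X(f)|` -/
theorem card_mod [Finite M] {p n : ℕ} (hp : p.Prime) (f : MulAut M) (hf : f ^ p ^ n = 1) (X : Subgroup M)
    (hX : ∀ v ∈ X, f v ∈ X) : Nat.card X ≡ Nat.card (X ⊓ fixS f : Subgroup M) [MOD p] := by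
  classical
  have : Fact p.Prime := ⟨hp⟩
  have : Fintype X := Fintype.ofFinite X
  let F : Function.End X := fun v => ⟨f v, hX v v.2⟩
  have hFn : ∀ (m : ℕ) (v : X), ((F ^ m) v : M) = (f ^ m) (v : M) := by
    intro m
    induction m with
    | zero => intro v; rfl
    | succ m ih =>
      intro v
      have h1 : (F ^ (m + 1)) v = (F ^ m) (F v) := by rw [pow_succ]; rfl
      rw [h1, ih, pow_succ]
      rfl
  have hF : F ^ p ^ n = 1 := by
    funext v
    apply Subtype.ext
    rw [hFn, hf]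
    rfl
  have h1 := Equiv.Perm.card_fixedPoints_modEq (f := F) (p := p) (n := n) hF
  rw [← Nat.card_eq_fintype_card, ← Nat.card_eq_fintype_card] at h1
  have h2 : Nat.card (Function.fixedPoints F) = Nat.card (X ⊓ fixS f : Subgroup M) := by
    refine Nat.card_congr ⟨fun v => ⟨v.1.1, v.1.2, ?_⟩, fun v => ⟨⟨v.1, v.2.1⟩, ?_⟩, fun _ => rfl, fun _ => rfl⟩
    · exact congrArg Subtype.val v.2
    · exact Subtype.ext v.2.2
  rw [h2] at h1
  exact h1

theorem card_two [Finite M] (h2 : ∀ v : M, v * v = 1) (X : Subgroup M) : ∃ n, Nat.card X = 2 ^ n := by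
  have : Fact (Nat.Prime 2) := ⟨Nat.prime_two⟩
  have : IsPGroup 2 X := fun v => ⟨1, Subtype.ext (by
    show (v : M) ^ 2 ^ 1 = 1
    rw [pow_one, pow_two]; exact h2 v)⟩
  exact IsPGroup.iff_card.mp this

/-- `C(y) ∩ [M,y] = 1` -/
theorem inf_fix (h2 : ∀ v : M, v * v = 1) {y : MulAut M} {s : ℕ} (hs : Odd s) (hy : y ^ s = 1) :
    (dl y).range ⊓ fixS y = ⊥ := by
  rw [eq_bot_iff]
  rintro w ⟨⟨v, rfl⟩, hw⟩
  have hw' : y (dl y v) = dl y v := hw
  have h3 : ∀ n : ℕ, (y ^ n) v = v * dl y v ^ n := by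
    intro n
    induction n with
    | zero => rw [pow_zero, pow_zero, mul_one]; rfl
    | succ n ih =>
      have h4 : (y ^ (n + 1)) v = y ((y ^ n) v) := by rw [pow_succ']; rfl
      have h5 : y v = v * dl y v := by rw [dl_apply, mul_comm (y v), mul_inv_cancel_left]
      rw [h4, ih, map_mul, map_pow, hw', h5, pow_succ', mul_assoc]
  have h4 := h3 s
  rw [hy] at h4
  have h5 : dl y v ^ s = 1 := by
    have h6 : v = v * dl y v ^ s := h4
    exact (mul_eq_left.mp h6.symm)
  obtain ⟨j, hj⟩ := hs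
  rw [hj, pow_succ, pow_mul, pow_two, h2, one_pow, one_mul] at h5
  exact mem_bot.mpr h5

/-- an automorphism `y` with `y² v = v`, `y^s v = v`, `s` odd -/
theorem fix_of_sq {y : MulAut M} {s : ℕ} (hs : Odd s) (hy : y ^ s = 1) {v : M} (hv : y (y v) = v) : y v = v := by
  have h1 : ∀ n : ℕ, (y ^ (2 * n)) v = v := by
    intro n
    induction n with
    | zero => rfl
    | succ n ih =>
      have : y ^ (2 * (n + 1)) = y ^ (2 * n) * (y * y) := by rw [mul_add, pow_add, mul_one, pow_two]
      rw [this]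
      show (y ^ (2 * n)) (y (y v)) = v
      rw [hv, ih]
  obtain ⟨j, hj⟩ := hs
  have h2 := congrArg (fun f : MulAut M => f v) hy
  have h3 : (y ^ s) v = y ((y ^ (2 * j)) v) := by
    rw [hj, pow_succ']
    rfl
  have h4 : (y ^ s) v = v := h2
  rw [h3, h1] at h4
  exact h4

/-- **the module statement** -/
theorem main [Finite M] (h2 : ∀ v : M, v * v = 1) {y k a : MulAut M} {s : ℕ} (hs : s.Prime) (hs2 : s ≠ 2)
    (hs3 : s ≠ 3) (hy : y ^ s = 1) (hy1 : y ≠ 1) (hk : k ^ 3 = 1) (hkf : ∀ v, k v = v → v = 1)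
    (hky : k * y = y * k) (hka : k * a = a * k) (hay : a * y = y⁻¹ * a) (hi : (fixS a).index ≤ 8) :
    2 < (fixS a).index ∧ ∀ σ : MulAut M, (∃ n, σ ^ 2 ^ n = 1) → σ * y = y * σ → σ * k = k⁻¹ * σ → False := by
  classical
  have hodd : Odd s := hs.odd_of_ne_two hs2
  set N := (dl y).range with hN
  have hNC : N ⊓ fixS y = ⊥ := inf_fix h2 hodd hy
  have hfixN : ∀ v ∈ N, y v = v → v = 1 := fun v hv h => by
    have : v ∈ N ⊓ fixS y := ⟨hv, h⟩
    rw [hNC] at this
    exact mem_bot.mp this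
  have hcomm : ∀ τ : MulAut M, τ * y = y * τ → ∀ v ∈ N, τ v ∈ N := by
    rintro τ hτ _ ⟨v, rfl⟩
    refine ⟨τ v, ?_⟩
    rw [dl_apply, dl_apply, map_mul, map_inv]
    have : τ (y v) = y (τ v) := congrArg (fun f : MulAut M => f v) hτ
    rw [this]
  have hNy : ∀ v ∈ N, y v ∈ N := hcomm y rfl
  have hNk : ∀ v ∈ N, k v ∈ N := hcomm k hky
  -- `|N|`
  have hN1 : N ≠ ⊥ := by
    intro h
    apply hy1
    ext v
    have h3 : dl y v ∈ N := ⟨v, rfl⟩
    rw [h, mem_bot, dl_apply, mul_inv_eq_one] at h3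
    exact h3
  have hNs : Nat.card N ≡ 1 [MOD s] := by
    have h3 := card_mod (p := s) (n := 1) hs y (by rw [pow_one]; exact hy) N hNy
    rwa [hNC, Subgroup.card_bot] at h3
  have hX3 : ∀ X : Subgroup M, (∀ v ∈ X, k v ∈ X) → Nat.card X ≡ 1 [MOD 3] := by
    intro X hX
    have h3 := card_mod (p := 3) (n := 1) Nat.prime_three k (by rw [pow_one]; exact hk) X hX
    have h4 : X ⊓ fixS k = ⊥ := by
      rw [eq_bot_iff]
      rintro v ⟨-, hv⟩
      exact mem_bot.mpr (hkf v hv)
    rwa [h4, Subgroup.card_bot] at h3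
  have hN3 := hX3 N hNk
  -- the image of `N` under `a - 1`
  set I := N.map (dl a) with hI
  have hI3 : Nat.card I ≡ 1 [MOD 3] := by
    apply hX3
    rintro _ ⟨v, hv, rfl⟩
    refine ⟨k v, hNk v hv, ?_⟩
    rw [dl_apply, dl_apply, map_mul, map_inv]
    have : k (a v) = a (k v) := congrArg (fun f : MulAut M => f v) hka
    rw [this]
  have hIle : Nat.card I ≤ (fixS a).index := by
    have h3 : (fixS a).index = Nat.card (dl a).range := by
      rw [← ker_dl, Subgroup.index_ker]
    rw [h3]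
    exact Subgroup.card_le_of_le (Subgroup.map_le_range _ _)
  obtain ⟨i, hi2⟩ := card_two h2 I
  obtain ⟨n, hn2⟩ := card_two h2 N
  have hI4 : Nat.card I ≤ 4 := by
    have h3 := hIle.trans hi
    rw [hi2] at h3 hI3 ⊢
    have h4 : i ≤ 3 := by
      by_contra hcon
      push Not at hcon
      have : 2 ^ 4 ≤ 2 ^ i := Nat.pow_le_pow_right (by norm_num) hcon
      omega
    interval_cases i
    · norm_num
    · norm_num
    · norm_num
    · exact absurd hI3 (by decide)
  -- injectivity
  have hNI : Nat.card N ≤ Nat.card I * Nat.card I := by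
    rw [← Nat.card_prod]
    let f : N → I × I := fun v => (⟨dl a v, v, v.2, rfl⟩, ⟨dl a (y v), y v, hNy v v.2, rfl⟩)
    refine Nat.card_le_card_of_injective f ?_
    intro v w hvw
    have h3 : dl a (v : M) = dl a (w : M) := congrArg (fun x : I × I => (x.1 : M)) hvw
    have h4 : dl a (y (v : M)) = dl a (y (w : M)) := congrArg (fun x : I × I => (x.2 : M)) hvw
    have h5 : dl a ((v : M) * (w : M)⁻¹) = 1 := by rw [map_mul, map_inv, h3, mul_inv_cancel]
    have h6 : dl a (y ((v : M) * (w : M)⁻¹)) = 1 := by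
      rw [map_mul, map_inv, map_mul, map_inv, h4, mul_inv_cancel]
    set z : M := (v : M) * (w : M)⁻¹ with hz
    have hzN : z ∈ N := mul_mem v.2 (inv_mem w.2)
    have h7 : a z = z := by rwa [dl_apply, mul_inv_eq_one] at h5
    have h8 : a (y z) = y z := by rwa [dl_apply, mul_inv_eq_one] at h6
    have h9 : a (y z) = y⁻¹ (a z) := congrArg (fun f : MulAut M => f z) hay
    rw [h7, h8] at h9
    have h10 : y (y z) = z := by
      rw [h9]
      exact MulAut.apply_inv_self _ y z
    have h11 := hfixN z hzN (fix_of_sq hodd hy h10)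
    apply Subtype.ext
    rwa [hz, mul_inv_eq_one] at h11
  have hN16 : Nat.card N ≤ 16 := hNI.trans (by nlinarith)
  have hNgt : 1 < Nat.card N := by
    rw [Subgroup.one_lt_card_iff_ne_bot]
    exact hN1
  have hcardN : Nat.card N = 16 ∧ s = 5 := by
    rw [hn2] at hN16 hN3 hNs hNgt ⊢
    have h4 : n ≤ 4 := by
      by_contra hcon
      push Not at hcon
      have : 2 ^ 5 ≤ 2 ^ n := Nat.pow_le_pow_right (by norm_num) hcon
      omega
    interval_cases n
    · omega
    · exact absurd hN3 (by decide)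
    · exfalso
      have h5 : s ∣ 3 := by
        have := (Nat.modEq_iff_dvd' (by norm_num : 1 ≤ 2 ^ 2)).mp hNs.symm
        simpa using this
      exact hs3 ((Nat.prime_dvd_prime_iff_eq hs Nat.prime_three).mp h5)
    · exact absurd hN3 (by decide)
    · refine ⟨by norm_num, ?_⟩
      have h5 : s ∣ 3 * 5 := by
        have := (Nat.modEq_iff_dvd' (by norm_num : 1 ≤ 2 ^ 4)).mp hNs.symm
        simpa using this
      rcases hs.dvd_mul.mp h5 with h6 | h6
      · exact absurd ((Nat.prime_dvd_prime_iff_eq hs Nat.prime_three).mp h6) hs3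
      · exact (Nat.prime_dvd_prime_iff_eq hs Nat.prime_five).mp h6
  obtain ⟨hN16', rfl⟩ := hcardN
  have hI4' : 4 ≤ Nat.card I := by
    by_contra hcon
    have h3 : Nat.card I ≤ 3 := by omega
    have h4 : Nat.card I * Nat.card I ≤ 3 * 3 := Nat.mul_le_mul h3 h3
    omega
  refine ⟨by omega, ?_⟩
  rintro σ ⟨m, hσ⟩ hσy hσk
  -- `σ` is trivial on `N`
  set X := N ⊓ fixS σ with hX
  have h3 := card_mod (p := 2) (n := m) Nat.prime_two σ hσ N (hcomm σ hσy)
  rw [hN16', ← hX] at h3
  have hXs : Nat.card X ≡ 1 [MOD 5] := by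
    have h4 := card_mod (p := 5) (n := 1) hs y (by rw [pow_one]; exact hy) X (by
      rintro v ⟨hv, hv'⟩
      refine ⟨hNy v hv, ?_⟩
      have h5 : σ (y v) = y (σ v) := congrArg (fun f : MulAut M => f v) hσy
      show σ (y v) = y v
      rw [h5, show σ v = v from hv'])
    have h5 : X ⊓ fixS y = ⊥ := by
      rw [eq_bot_iff, ← hNC]
      exact inf_le_inf_right _ inf_le_left
    rwa [h5, Subgroup.card_bot] at h4
  have hXd : Nat.card X ∣ 16 := by
    rw [← hN16']
    exact Subgroup.card_dvd_of_le inf_le_left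
  have hX16 : Nat.card X = 16 := by
    have h4 : Nat.card X ∈ Nat.divisors 16 := Nat.mem_divisors.mpr ⟨hXd, by norm_num⟩
    have h5 : Nat.divisors 16 = {1, 2, 4, 8, 16} := by decide
    rw [h5] at h4
    simp only [Finset.mem_insert, Finset.mem_singleton] at h4
    rcases h4 with h4 | h4 | h4 | h4 | h4
    · rw [h4] at h3; exact absurd h3 (by decide)
    · rw [h4] at hXs; exact absurd hXs (by decide)
    · rw [h4] at hXs; exact absurd hXs (by decide)
    · rw [h4] at hXs; exact absurd hXs (by decide)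
    · exact h4
  have hXN : X = N := Subgroup.eq_of_le_of_card_ge inf_le_left (by rw [hX16, hN16'])
  have hσN : ∀ v ∈ N, σ v = v := fun v hv => by
    rw [← hXN] at hv
    exact hv.2
  apply hN1
  rw [eq_bot_iff]
  intro v hv
  rw [mem_bot]
  apply hkf
  have h4 : σ (k v) = k⁻¹ (σ v) := congrArg (fun f : MulAut M => f v) hσk
  rw [hσN v hv, hσN _ (hNk v hv)] at h4
  have h5 : k (k v) = v := by
    rw [h4]
    exact MulAut.apply_inv_self _ k v
  exact fix_of_sq (s := 3) (by decide) hk h5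

end Cfsg.Agent.OddCyclic.Eq.FourMod
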