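import Cfsg.Agent.OddCyclic.Eq.PartI
import Cfsg.Agent.OddCyclic.Eq.PartIFourA
import Cfsg.Agent.OddCyclic.Eq.FourMod

/-!
# (E_q), Part I, `q = 4`, `S > B`: (3.4)
-/

set_option autoImplicit false
set_option linter.unusedSectionVars false

namespace Cfsg.Agent.OddCyclic.Eq.PartIFour

open Subgroup Cfsg.Agent.OddCyclic.CompStandard Cfsg.Agent.OddCyclic.RedFiveThree Cfsg.Agent.OddCyclic.CaseABase
open Cfsg.Agent.OddCyclic.Eq.Line Cfsg.Agent.OddCyclic.Eq.LineT Cfsg.Agent.OddCyclic.Eq.SecQ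
open Cfsg.Agent.OddCyclic.Eq.Struct Cfsg.Agent.OddCyclic.T1Module Cfsg.Agent.OddCyclic.Eq.PartI
open Cfsg.Agent.OddCyclic.Eq.FourMod
open Cfsg.Agent.LieExceptional.CITDefs (IsSyl2)
open Cfsg.Agent.OddCyclic.T1Defs (OddCyc)

universe u

/-! ### a characteristic subgroup of prime order -/

section prime

variable {H : Type*} [Group H] {y : H}

/-- automorphisms commute on a characteristic cyclic subgroup -/
theorem comm_on (hch : ∀ γ : MulAut H, ∀ x ∈ zpowers y, γ x ∈ zpowers y) (γ δ : MulAut H) {z : H}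
    (hz : z ∈ zpowers y) : γ (δ z) = δ (γ z) := by
  obtain ⟨l, rfl⟩ := mem_zpowers_iff.mp hz
  obtain ⟨i, hi⟩ := mem_zpowers_iff.mp (hch γ y (mem_zpowers y))
  obtain ⟨j, hj⟩ := mem_zpowers_iff.mp (hch δ y (mem_zpowers y))
  have h1 : γ (δ y) = y ^ (i * j) := by rw [← hj, map_zpow, ← hi, ← zpow_mul]
  have h2 : δ (γ y) = y ^ (j * i) := by rw [← hi, map_zpow, ← hj, ← zpow_mul]
  rw [map_zpow, map_zpow, map_zpow, map_zpow, h1, h2, mul_comm]

/-- the element of order 3 acts trivially -/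
theorem fix_y (hch : ∀ γ : MulAut H, ∀ x ∈ zpowers y, γ x ∈ zpowers y) {κ τ c : MulAut H} (hk : κ ^ 3 = 1)
    (hc : τ * κ * τ⁻¹ * κ = c) {n : ℕ} (hn : c ^ n = 1) (hn3 : ¬ 3 ∣ n) : κ y = y := by
  have hy := mem_zpowers y
  have h1 : c y = (κ ^ 2) y := by
    rw [← hc]
    show τ (κ (τ⁻¹ (κ y))) = (κ ^ 2) y
    rw [comm_on hch τ κ (hch _ _ (hch _ _ hy))]
    show κ ((τ * τ⁻¹) (κ y)) = _
    rw [mul_inv_cancel, pow_two]
    rfl
  have h2 : ∀ m : ℕ, (c ^ m) y = (κ ^ (2 * m)) y := by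
    intro m
    induction m with
    | zero => rfl
    | succ m ih =>
      have e1 : (c ^ (m + 1)) y = c ((c ^ m) y) := by rw [pow_succ']; rfl
      rw [e1, ih, comm_on hch c (κ ^ (2 * m)) hy, h1]
      show (κ ^ (2 * m) * κ ^ 2) y = _
      rw [← pow_add]
      rfl
  have h3 := h2 n
  rw [hn, pow_eq_pow_mod (2 * n) hk] at h3
  have h4 : 2 * n % 3 = 1 ∨ 2 * n % 3 = 2 := by omega
  rcases h4 with h4 | h4
  · rw [h4, pow_one] at h3
    exact h3.symm
  · rw [h4] at h3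
    have h5 : (κ ^ 3) y = κ ((κ ^ 2) y) := by rw [pow_succ']; rfl
    rw [hk, ← h3] at h5
    exact h5.symm

/-- an automorphism fixing `y` and normalising the complement is trivial -/
theorem fix_all (hch : ∀ γ : MulAut H, ∀ x ∈ zpowers y, γ x ∈ zpowers y) {H0 : Subgroup H}
    (hcent : centralizer (zpowers y : Set H) = zpowers y) (hsup : H0 ⊔ zpowers y = ⊤) (hinf : H0 ⊓ zpowers y = ⊥)
    {κ : MulAut H} (hk : κ y = y) (hk0 : ∀ x ∈ H0, κ x ∈ H0) : κ = 1 := by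
  have hz : ∀ z ∈ zpowers y, κ z = z := by
    intro z hz
    obtain ⟨l, rfl⟩ := mem_zpowers_iff.mp hz
    rw [map_zpow, hk]
  have h0 : ∀ x ∈ H0, κ x = x := by
    intro x hx
    have h1 : x * y * x⁻¹ ∈ zpowers y := hch (MulAut.conj x) y (mem_zpowers y)
    have h2 := hz _ h1
    rw [map_mul, map_mul, map_inv, hk] at h2
    have h3 : x⁻¹ * κ x ∈ centralizer (zpowers y : Set H) := by
      rw [mem_centralizer_iff]
      intro z hz'
      obtain ⟨l, rfl⟩ := mem_zpowers_iff.mp hz'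
      have h4 : Commute y (x⁻¹ * κ x) := by
        show y * (x⁻¹ * κ x) = x⁻¹ * κ x * y
        calc y * (x⁻¹ * κ x) = x⁻¹ * (x * y * x⁻¹) * κ x := by group
          _ = x⁻¹ * (κ x * y * (κ x)⁻¹) * κ x := by rw [h2]
          _ = x⁻¹ * κ x * y := by group
      exact h4.zpow_left l
    rw [hcent] at h3
    have h4 : x⁻¹ * κ x ∈ H0 ⊓ zpowers y := mem_inf.mpr ⟨mul_mem (inv_mem hx) (hk0 x hx), h3⟩
    rw [hinf, mem_bot] at h4
    exact (eq_of_inv_mul_eq_one h4).symm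
  let F : Subgroup H :=
    { carrier := {x | κ x = x}
      one_mem' := map_one κ
      mul_mem' := by
        intro a b ha hb
        show κ (a * b) = a * b
        rw [map_mul, show κ a = a from ha, show κ b = b from hb]
      inv_mem' := by
        intro a ha
        show κ a⁻¹ = a⁻¹
        rw [map_inv, show κ a = a from ha] }
  have hF : F = ⊤ := by
    rw [eq_top_iff, ← hsup]
    exact sup_le h0 hz
  ext x
  have : x ∈ F := by rw [hF]; exact mem_top x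
  exact this

theorem mem_zpowers_of_prime {r : ℕ} (hr : r.Prime) (hy : orderOf y = r) {z : H} (hz : z ∈ zpowers y) (hz1 : z ≠ 1) :
    y ∈ zpowers z := by
  have hfin : Finite (zpowers y) := by
    apply Nat.finite_of_card_ne_zero
    rw [Nat.card_zpowers, hy]
    exact hr.ne_zero
  have hle : zpowers z ≤ zpowers y := zpowers_le.mpr hz
  have h1 : orderOf z ∣ r := by
    rw [← hy, ← Nat.card_zpowers, ← Nat.card_zpowers]
    exact card_dvd_of_le hle
  have h2 : orderOf z = r := by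
    rcases (Nat.dvd_prime hr).mp h1 with h | h
    · exact absurd (orderOf_eq_one_iff.mp h) hz1
    · exact h
  have h3 : zpowers z = zpowers y := by
    refine Subgroup.eq_of_le_of_card_ge hle ?_
    rw [Nat.card_zpowers, Nat.card_zpowers, h2, hy]
  rw [h3]
  exact mem_zpowers y

/-- involutions invert -/
theorem inverts (hch : ∀ γ : MulAut H, ∀ x ∈ zpowers y, γ x ∈ zpowers y)
    (hcent : centralizer (zpowers y : Set H) = zpowers y) {r : ℕ} (hr : r.Prime) (hr2 : r ≠ 2) (hy : orderOf y = r)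
    {a : H} (ha : a * a = 1) (ha1 : a ≠ 1) : a * y * a⁻¹ = y⁻¹ := by
  have hy' : a * y * a⁻¹ ∈ zpowers y := hch (MulAut.conj a) y (mem_zpowers y)
  have hcz : ∀ z ∈ zpowers y, ∀ w ∈ zpowers y, z * w = w * z := by
    intro z hz w hw
    obtain ⟨i, rfl⟩ := mem_zpowers_iff.mp hz
    obtain ⟨j, rfl⟩ := mem_zpowers_iff.mp hw
    rw [← zpow_add, ← zpow_add, add_comm]
  by_contra hcon
  set w := y * (a * y * a⁻¹) with hw
  have hwz : w ∈ zpowers y := mul_mem (mem_zpowers y) hy'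
  have hw1 : w ≠ 1 := by
    intro h
    apply hcon
    exact eq_inv_of_mul_eq_one_right h
  have haw : a * w = w * a := by
    have h1 : a * w * a⁻¹ = w := by
      calc a * w * a⁻¹ = (a * y * a⁻¹) * ((a * a) * y * (a * a)⁻¹) := by rw [hw]; group
        _ = (a * y * a⁻¹) * y := by rw [ha]; group
        _ = w := by rw [hw]; exact hcz _ hy' _ (mem_zpowers y)
    calc a * w = (a * w * a⁻¹) * a := by group
      _ = w * a := by rw [h1]
  obtain ⟨i, hi⟩ := mem_zpowers_iff.mp (mem_zpowers_of_prime hr hy hwz hw1)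
  have hac : a ∈ centralizer (zpowers y : Set H) := by
    rw [mem_centralizer_iff]
    intro z hz
    obtain ⟨j, rfl⟩ := mem_zpowers_iff.mp hz
    have h2 : Commute w a := haw.symm
    rw [← hi]
    exact (h2.zpow_left i).zpow_left j
  rw [hcent] at hac
  have h3 : orderOf a ∣ r := by
    have hfin : Finite (zpowers y) := by
      apply Nat.finite_of_card_ne_zero
      rw [Nat.card_zpowers, hy]
      exact hr.ne_zero
    rw [← hy, ← Nat.card_zpowers, ← Nat.card_zpowers]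
    exact card_dvd_of_le (zpowers_le.mpr hac)
  have h4 : orderOf a ∣ 2 := orderOf_dvd_of_pow_eq_one (by rw [pow_two]; exact ha)
  have h5 : Nat.gcd r 2 = 1 := (Nat.coprime_primes hr Nat.prime_two).mpr hr2
  have h6 := Nat.dvd_gcd h3 h4
  rw [h5, Nat.dvd_one, orderOf_eq_one_iff] at h6
  exact ha1 h6

end prime

/-! ### the situation -/

variable {G : Type u} [Group G] [Finite G] {U V B P : Subgroup G}

/-- the additional data for `q = 4` -/
structure Ex (U V : Subgroup G) : Prop where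
  tor : ∃ k ∈ Mp U V, k ^ 3 = 1 ∧ (∀ v ∈ V, k * v * k⁻¹ * v⁻¹ ∈ U → v ∈ U) ∧ ∀ u ∈ U, k * u = u * k → u = 1
  inv : ∃ s ∈ Mp U V, (∃ n, s ^ 2 ^ n = 1) ∧ s ∉ centralizer (U : Set G)
  fus : ∀ u ∈ U, u ≠ 1 → ∀ g : G, u ∈ cj g U → ∃ c ∈ centralizer ({u} : Set G), cj g U = cj c U
  loc : ∀ u ∈ U, u ≠ 1 → ∃ T : Subgroup G, Lc U V u T

/-- `P/K` is faithful on `W/U` -/
theorem mem_Kc_of (h : PtT 4 2 U V B) (m : Mn U V P) {p : G} (hp : p ∈ P)
    (hpw : ∀ w ∈ Wc P V, p * w * p⁻¹ * w⁻¹ ∈ U) : p ∈ Kc P V := by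
  rw [mem_Kc]
  refine ⟨hp, fun x hx => ?_⟩
  refine Subgroup.eq_of_le_of_card_ge ?_ (card_cj p _).ge
  rintro _ ⟨w, hw, rfl⟩
  show p * w * p⁻¹ ∈ cj x V
  have h1 := hpw w (cj_le_Wc hx hw)
  have h2 : p * w * p⁻¹ = (p * w * p⁻¹ * w⁻¹) * w := by group
  rw [h2]
  exact mul_mem ((fr h m).U_le (m.PU hx) h1) hw

theorem rank_one (hc : OddCyc G) (hs : CompStart.SecZero G) (h : PtT 4 2 U V B) (m : Mn U V P) {E : Subgroup G}
    (hE : E ≤ P) (hE2 : ∀ e ∈ E, e * e = 1) : (Kc P V).relIndex E ≤ 2 := by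
  rw [← card_im hE]
  exact (PartI.outR hc hs h m).1.card_le (dat hc hs h m).odd _ (im_sq hE2)

/-- commutators in `P` modulo `K` -/
theorem act_triv {k : G} (hk : k ∈ NP P V) (h1 : act (secP P V) ⟨k, hk⟩ = 1) {p : G} (hp : p ∈ P) :
    k * p * k⁻¹ * p⁻¹ ∈ Kc P V := (act_eq_one (secP P V) ⟨k, hk⟩).mp h1 p hp

/-- `(centralizer {a}).relIndex W` for `a` in a line of the other point -/
theorem relIndex_le (hc : OddCyc G) (hs : CompStart.SecZero G) (h : PtT 4 2 U V B) (m : Mn U V P) {g x a : G}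
    (c : Fr.Cr P V g) (hx : x ∈ P) (ha : a ∈ cj g (cj x V)) :
    (centralizer ({a} : Set G)).relIndex (Wc P V) ≤ 8 ∧
      (U ⊓ cj g U = ⊥ → (centralizer ({a} : Set G)).relIndex (Wc P V) ≤ 2) := by
  have f := fr h m
  set W0 := cj g (Kc P V) ⊓ Wc P V with hW0
  have h1 : (cj g (Kc P V)).relIndex (Wc P V) ≤ 2 := by
    have h4 : Wc P V = cj g (cj g⁻¹ (Wc P V)) := by rw [cj_cj_inv]
    have h5 : (cj g (Kc P V)).relIndex (Wc P V) = (Kc P V).relIndex (cj g⁻¹ (Wc P V)) := by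
      conv_lhs => rw [h4]
      exact Subgroup.relIndex_map_map_of_injective _ _ (MulAut.conj g).injective
    rw [h5]
    exact rank_one hc hs h m (f.W_inv_le c) (f.cjW_sq g⁻¹)
  have hle : ∀ n, (centralizer ({a} : Set G)).relIndex W0 ≤ n →
      (centralizer ({a} : Set G)).relIndex (Wc P V) ≤ n * 2 := by
    intro n hn
    have h3 : (centralizer ({a} : Set G) ⊓ W0).relIndex (Wc P V) =
        (centralizer ({a} : Set G)).relIndex W0 * (cj g (Kc P V)).relIndex (Wc P V) := by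
      have h4 := Subgroup.relIndex_mul_relIndex (centralizer ({a} : Set G) ⊓ W0) W0 (Wc P V) inf_le_right inf_le_right
      rw [inf_relIndex_right] at h4
      rw [← h4]
      congr 1
      rw [hW0, inf_relIndex_right]
    have h4 : (centralizer ({a} : Set G)).relIndex (Wc P V) ≤
        (centralizer ({a} : Set G) ⊓ W0).relIndex (Wc P V) := by
      refine Nat.le_of_dvd (Nat.pos_of_ne_zero Subgroup.index_ne_zero_of_finite) ?_
      exact Subgroup.relIndex_dvd_of_le_left _ inf_le_left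
    rw [h3] at h4
    exact h4.trans (Nat.mul_le_mul hn h1)
  -- elements of `W⁰` act on the line `V^{gx}` trivially modulo `U^g`
  have hact : ∀ w ∈ W0, ∀ d ∈ cj g (cj x V), w * d * w⁻¹ * d⁻¹ ∈ cj g U := by
    intro w hw d hd
    have h3 := f.act' (mem_cj.mp hw.1) hx (mem_cj.mp hd)
    rw [mem_cj]
    have h4 : g⁻¹ * (w * d * w⁻¹ * d⁻¹) * g = g⁻¹ * w * g * (g⁻¹ * d * g) * (g⁻¹ * w * g)⁻¹ * (g⁻¹ * d * g)⁻¹ := by
      group
    rw [h4]
    exact h3
  constructor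
  · refine (hle 4 ?_)
    have h3 : Nat.card (cj g U) = 4 := by rw [card_cj, h.cardU]
    rw [← h3]
    refine relIndex_le_of_comm (D := Wc P V) inf_le_right (fun u hu v hv => f.cm_WW u hu v hv) ?_ ?_
    · intro w hw
      have h4 : a ∈ P := f.cr_le c (cj_mono (cj_le_Wc hx) ha)
      exact forall_of_mem_normalizer (norm_Wc P V h4) _ hw
    · intro w hw
      have h4 : a * w * a⁻¹ * w⁻¹ = (w * a * w⁻¹ * a⁻¹)⁻¹ := by group
      rw [h4]
      exact inv_mem (hact w hw a ha)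
  · intro hbot
    refine (hle 1 ?_)
    rw [Nat.le_one_iff_eq_zero_or_eq_one]
    right
    rw [relIndex_eq_one]
    intro w hw
    -- an element `d` of the line in `K`, not in `U^g`
    obtain ⟨d, ⟨hdK, hdV⟩, hdU⟩ : ∃ d ∈ Kc P V ⊓ cj g (cj x V), d ∉ cj g U := by
      by_contra hcon
      push Not at hcon
      have h3 := Subgroup.card_le_of_le (H := Kc P V ⊓ cj g (cj x V)) (K := cj g U) hcon
      rw [card_cj, h.cardU] at h3
      have h4 := FrT.card_mul_relIndex (Kc P V) (cj g (cj x V))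
      rw [card_cj, card_cj, h.cardV] at h4
      have h5 : (Kc P V).relIndex (cj g (cj x V)) ≤ 2 :=
        rank_one hc hs h m ((cj_mono (cj_le_Wc hx)).trans (f.cr_le c)) (by rw [← cj_mul]; exact f.cj_sq _)
      have h6 := Nat.mul_le_mul h3 h5
      omega
    have hwd : w * d = d * w := by
      have h3 := hact w hw d hdV
      have h4 : d * w * d⁻¹ * w⁻¹ ∈ U := Kc_triv h m hdK w hw.2
      have h5 : w * d * w⁻¹ * d⁻¹ ∈ U ⊓ cj g U := by
        refine mem_inf.mpr ⟨?_, h3⟩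
        have h6 : w * d * w⁻¹ * d⁻¹ = (d * w * d⁻¹ * w⁻¹)⁻¹ := by group
        rw [h6]
        exact inv_mem h4
      rw [hbot, mem_bot] at h5
      calc w * d = (w * d * w⁻¹ * d⁻¹) * (d * w) := by group
        _ = d * w := by rw [h5, one_mul]
    have h3 := f.free' (mem_cj.mp hw.1) hx (mem_cj.mp hdV) (fun h4 => hdU (mem_cj.mpr h4)) (by
      calc g⁻¹ * w * g * (g⁻¹ * d * g) = g⁻¹ * (w * d) * g := by group
        _ = g⁻¹ * d * g * (g⁻¹ * w * g) := by rw [hwd]; group)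
    have h4 := h3 _ (mem_zpowers _) _ (mem_cj.mp ha)
    rw [mem_centralizer_singleton_iff]
    calc w * a = g * (g⁻¹ * w * g * (g⁻¹ * a * g)) * g⁻¹ := by group
      _ = g * (g⁻¹ * a * g * (g⁻¹ * w * g)) * g⁻¹ := by rw [h4]
      _ = a * w := by group

/-- **Part I, `q = 4`, `S > B`** -/
theorem false (hc : OddCyc G) (hs : CompStart.SecZero G) (h : PtT 4 2 U V B) (e : Ex U V) : False := by
  classical
  obtain ⟨P, m⟩ := PartI.exists_min h
  have f := fr h m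
  obtain ⟨⟨r, y, hr, hr2, hy, hch, hcent, hsup, hinf, -⟩, -⟩ := PartI.outR hc hs h m
  have h3H := three_H0 h m
  have hr3 : r ≠ 3 := by
    rintro rfl
    exact h3H (hy ▸ orderOf_dvd_natCard y)
  obtain ⟨py, rfl⟩ := mk_surj (secP P V) y
  -- elements of `C₀` have order prime to 3
  have h3C : ∀ c ∈ Co U V, ¬ 3 ∣ orderOf c := by
    intro c hc h1
    apply h.three
    have h2 : orderOf (⟨c, hc.2⟩ : centralizer (U : Set G)) = orderOf c := Subgroup.orderOf_mk c hc.2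
    rw [← h2] at h1
    exact h1.trans (orderOf_dvd_natCard _)
  have hU2 : ∀ x ∈ U, x * x = 1 := fun x hx => h.sq x (h.UV hx)
  obtain ⟨k, hkM, hk3, hkV, hkU⟩ := e.tor
  obtain ⟨s₀, hsM, ⟨n₀, hs2⟩, hsU⟩ := e.inv
  have hMP := Mp_le m.MP
  -- the products `s k s⁻¹ k`
  have hc0 : ∀ s ∈ Mp U V, (∃ n, s ^ 2 ^ n = 1) → s ∉ centralizer (U : Set G) → s * k * s⁻¹ * k ∈ Co U V := by
    rintro s hsM ⟨n, hs2⟩ hsU
    exact mem_inf.mpr ⟨mul_mem (mul_mem (mul_mem (mem_inf.mp hsM).1 (mem_inf.mp hkM).1)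
      (inv_mem (mem_inf.mp hsM).1)) (mem_inf.mp hkM).1, sym3 h.cardU hU2 hkM.2 hk3 hkU hsM.2 hs2 hsU⟩
  -- `k` centralises `P/K`
  have hκ : act (secP P V) ⟨k, hMP hkM⟩ = 1 := by
    have hc1 := hc0 s₀ hsM ⟨n₀, hs2⟩ hsU
    set κ := act (secP P V) ⟨k, hMP hkM⟩ with hκ
    set τ := act (secP P V) ⟨s₀, hMP hsM⟩ with hτ
    have hc2 : s₀ * k * s₀⁻¹ * k ∈ NP P V := hMP (Co_le_Mp hc1)
    have h1 : τ * κ * τ⁻¹ * κ = act (secP P V) ⟨s₀ * k * s₀⁻¹ * k, hc2⟩ := by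
      rw [hκ, hτ, ← map_inv, ← map_mul, ← map_mul, ← map_mul]
      rfl
    have h2 : (act (secP P V) ⟨s₀ * k * s₀⁻¹ * k, hc2⟩) ^ orderOf (s₀ * k * s₀⁻¹ * k) = 1 := by
      rw [← map_pow]
      have h3 : (⟨s₀ * k * s₀⁻¹ * k, hc2⟩ : NP P V) ^ orderOf (s₀ * k * s₀⁻¹ * k) = 1 :=
        Subtype.ext (pow_orderOf_eq_one _)
      rw [h3, map_one]
    have h3 : κ ^ 3 = 1 := by
      rw [hκ, ← map_pow]
      have h3 : (⟨k, hMP hkM⟩ : NP P V) ^ 3 = 1 := Subtype.ext hk3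
      rw [h3, map_one]
    have h4 := fix_y hch h3 h1 h2 (h3C _ hc1)
    refine fix_all hch hcent hsup hinf h4 ?_
    intro x hx
    exact inv_H0 m κ ⟨⟨k, hMP hkM⟩, hkM, rfl⟩ x hx
  have hkP : ∀ p ∈ P, k * p * k⁻¹ * p⁻¹ ∈ Kc P V := fun p hp => act_triv (hMP hkM) hκ hp
  -- the critical pair
  obtain ⟨g, c⟩ := PartI.exists_cr h m
  obtain ⟨g, c, x, hx, hne⟩ : ∃ g : G, Fr.Cr P V g ∧ ∃ x ∈ P, ¬ cj g (cj x V) ≤ Kc P V := by
    obtain ⟨x, hx, h1⟩ := exists_not_cm c.not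
    have h2 : ¬ Cm (Wc P V) (cj g⁻¹ (cj x V)) := by
      intro h3
      have h4 := h3.cj g
      rw [cj_cj_inv] at h4
      exact h1 h4.symm
    obtain ⟨y, hy, h3⟩ := exists_not_cm h2
    have h4 : ¬ Cm (cj x V) (cj g (cj y V)) := by
      intro h5
      have h6 := h5.symm.cj g⁻¹
      rw [cj_inv_cj] at h6
      exact h3 h6
    by_cases h5 : cj g (cj y V) ≤ Kc P V
    · refine ⟨g⁻¹, c.inv, x, hx, fun h7 => ?_⟩
      refine f.not_both c hx hy h4 ?_ h5
      have h8 := cj_mono (g := g) h7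
      rwa [cj_cj_inv] at h8
    · exact ⟨g, c, y, hy, h5⟩
  obtain ⟨a, ha, haK⟩ := SetLike.not_le_iff_exists.mp hne
  have haP : a ∈ P := f.cr_le c (cj_mono (cj_le_Wc hx) ha)
  have ha2 : a * a = 1 := by
    rw [← cj_mul] at ha
    exact f.cj_sq _ a ha
  have hAy : mk (secP P V) ⟨a, haP⟩ * mk (secP P V) py * (mk (secP P V) ⟨a, haP⟩)⁻¹ = (mk (secP P V) py)⁻¹ := by
    refine inverts hch hcent hr hr2 hy ?_ ?_
    · rw [← map_mul]
      have : (⟨a, haP⟩ : P) * ⟨a, haP⟩ = 1 := Subtype.ext ha2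
      rw [this, map_one]
    · rw [Ne, SecQ.mk_eq_one]
      exact haK
  -- the module
  set sW := secW h m with hsW
  have hPN : ∀ p ∈ P, p ∈ NW P U V := fun p hp => P_le_NW m hp
  have hMN : ∀ p ∈ Mp U V, p ∈ NW P U V := fun p hp => Mp_norm_W m hp
  have htriv : ∀ {p : G} (hp : p ∈ NW P U V), p ∈ Kc P V → actM sW ⟨p, hp⟩ = 1 := by
    intro p hp hpK
    exact (actM_eq_one sW _).2 (Kc_triv h m hpK)
  have heq : ∀ {p p' : G} (hp : p ∈ NW P U V) (hp' : p' ∈ NW P U V), p * p'⁻¹ ∈ Kc P V →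
      actM sW ⟨p, hp⟩ = actM sW ⟨p', hp'⟩ := by
    intro p p' hp hp' hK
    have h1 : (⟨p, hp⟩ : NW P U V) = ⟨p * p'⁻¹, mul_mem hp (inv_mem hp')⟩ * ⟨p', hp'⟩ := Subtype.ext (by
      show p = p * p'⁻¹ * p'
      group)
    rw [h1, map_mul, htriv _ hK, one_mul]
  set Y := actM sW ⟨py, hPN py py.2⟩ with hY
  set κ := actM sW ⟨k, hMN k hkM⟩ with hκ'
  set α := actM sW ⟨a, hPN a haP⟩ with hα
  have hkcomm : ∀ {p : G} (hp : p ∈ P), κ * actM sW ⟨p, hPN p hp⟩ = actM sW ⟨p, hPN p hp⟩ * κ := by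
    intro p hp
    rw [hκ', ← map_mul, ← map_mul]
    refine heq _ _ ?_
    have h1 : k * p * (p * k)⁻¹ = k * p * k⁻¹ * p⁻¹ := by group
    show k * p * (p * k)⁻¹ ∈ Kc P V
    rw [h1]
    exact hkP p hp
  have hYr : Y ^ r = 1 := by
    rw [hY, ← map_pow]
    refine htriv (p := (py : G) ^ r) (pow_mem (hPN py py.2) r) ?_
    have h1 : mk (secP P V) (py ^ r) = 1 := by rw [map_pow, ← hy, pow_orderOf_eq_one]
    exact (SecQ.mk_eq_one (secP P V)).mp h1
  have hY1 : Y ≠ 1 := by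
    intro h1
    have h2 := mem_Kc_of h m py.2 ((actM_eq_one sW _).mp h1)
    have h3 : mk (secP P V) py = 1 := (SecQ.mk_eq_one (secP P V)).mpr h2
    rw [h3, orderOf_one] at hy
    exact hr.one_lt.ne hy
  have hk3' : κ ^ 3 = 1 := by
    rw [hκ', ← map_pow]
    have h3 : (⟨k, hMN k hkM⟩ : NW P U V) ^ 3 = 1 := Subtype.ext hk3
    rw [h3, map_one]
  have hαY : α * Y = Y⁻¹ * α := by
    rw [hα, hY, ← map_inv, ← map_mul, ← map_mul]
    refine heq _ _ ?_
    have h1 : mk (secP P V) (⟨a, haP⟩ * py * ⟨a, haP⟩⁻¹) = mk (secP P V) py⁻¹ := by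
      rw [map_mul, map_mul, map_inv, map_inv]
      exact hAy
    have h2 := (SecQ.mk_eq (secP P V)).mp h1
    have h3 : a * (py : G) * ((py : G)⁻¹ * a)⁻¹ = (((⟨a, haP⟩ * py * ⟨a, haP⟩⁻¹ : P)) : G) * ((py⁻¹ : P) : G)⁻¹ := by
      show a * (py : G) * ((py : G)⁻¹ * a)⁻¹ = a * py * a⁻¹ * (py : G)⁻¹⁻¹
      group
    show a * (py : G) * ((py : G)⁻¹ * a)⁻¹ ∈ Kc P V
    rw [h3]
    exact h2
  -- `κ` has no fixed points
  have hT3 : ∀ v : VQ sW, v * κ v * κ (κ v) = 1 := by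
    let T3 : VQ sW →* VQ sW :=
      { toFun := fun v => v * κ v * κ (κ v)
        map_one' := by simp
        map_mul' := by
          intro v w
          rw [map_mul, map_mul]
          calc v * w * (κ v * κ w) * (κ (κ v) * κ (κ w)) = (v * κ v * (w * κ w)) * (κ (κ v) * κ (κ w)) := by
                rw [mul_mul_mul_comm v w (κ v) (κ w)]
            _ = _ := by rw [mul_mul_mul_comm (v * κ v) (w * κ w)] }
    have hT3k : ∀ w ∈ Wc P V, ∀ hw : w ∈ Wc P V, T3 (mkM sW ⟨w, hw⟩) = 1 := by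
      intro w hw0
      induction hw0 using Subgroup.closure_induction with
      | mem w hw0 =>
        intro hw
        obtain ⟨z, hz, hwz⟩ := hw0
        obtain ⟨v, hv, rfl⟩ := hwz
        have hvW : v ∈ Wc P V := le_Wc P V hv
        have hv' : k * v * k⁻¹ ∈ V := forall_of_mem_normalizer hkM.1 _ hv
        have hv'' : k * (k * v * k⁻¹) * k⁻¹ ∈ V := forall_of_mem_normalizer hkM.1 _ hv'
        have h1 : v * (k * v * k⁻¹) * (k * (k * v * k⁻¹) * k⁻¹) ∈ U := by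
          apply hkV _ (mul_mem (mul_mem hv hv') hv'')
          have h2 : k * (v * (k * v * k⁻¹) * (k * (k * v * k⁻¹) * k⁻¹)) * k⁻¹ =
              (k * v * k⁻¹) * (k * (k * v * k⁻¹) * k⁻¹) * (k ^ 3 * v * (k ^ 3)⁻¹) := by
            rw [pow_succ, pow_two]; group
          have h3 : k ^ 3 * v * (k ^ 3)⁻¹ = v := by rw [hk3]; group
          rw [h2, h3, f.V_comm (mul_mem hv' hv'') hv, ← mul_assoc, mul_inv_cancel]
          exact one_mem _
        have h4 : mkM sW ⟨z * v * z⁻¹, hw⟩ = actM sW ⟨z, hPN z hz⟩ (mkM sW ⟨v, hvW⟩) := by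
          rw [actM_mk]
          rfl
        have h5 : T3 (mkM sW ⟨v, hvW⟩) = 1 := by
          show mkM sW ⟨v, hvW⟩ * κ (mkM sW ⟨v, hvW⟩) * κ (κ (mkM sW ⟨v, hvW⟩)) = 1
          rw [hκ', actM_mk, actM_mk, ← map_mul, ← map_mul, mkM_eq_one]
          exact h1
        show T3 (mkM sW ⟨z * v * z⁻¹, hw⟩) = 1
        rw [h4]
        have h6 : ∀ v, κ (actM sW ⟨z, hPN z hz⟩ v) = actM sW ⟨z, hPN z hz⟩ (κ v) := fun v =>
          congrArg (fun φ : MulAut (VQ sW) => φ v) (hkcomm hz)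
        show actM sW ⟨z, hPN z hz⟩ (mkM sW ⟨v, hvW⟩) * κ (actM sW ⟨z, hPN z hz⟩ (mkM sW ⟨v, hvW⟩)) *
          κ (κ (actM sW ⟨z, hPN z hz⟩ (mkM sW ⟨v, hvW⟩))) = 1
        rw [h6, h6, ← map_mul, ← map_mul]
        have h7 : mkM sW ⟨v, hvW⟩ * κ (mkM sW ⟨v, hvW⟩) * κ (κ (mkM sW ⟨v, hvW⟩)) = 1 := h5
        rw [h7, map_one]
      | one =>
        intro hw
        have h1 : mkM sW ⟨1, hw⟩ = 1 := (mkM_eq_one sW).mpr (one_mem U)
        rw [h1, map_one]
      | mul v w hv hw ihv ihw =>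
        intro hvw
        have h1 : mkM sW ⟨v * w, hvw⟩ = mkM sW ⟨v, hv⟩ * mkM sW ⟨w, hw⟩ := by
          rw [← map_mul]
          rfl
        rw [h1, map_mul, ihv hv, ihw hw, mul_one]
      | inv v hv ihv =>
        intro hvi
        have h1 : mkM sW ⟨v⁻¹, hvi⟩ = (mkM sW ⟨v, hv⟩)⁻¹ := by
          rw [← map_inv]
          rfl
        rw [h1, map_inv, ihv hv, inv_one]
    intro v
    obtain ⟨w, rfl⟩ := mkM_surj sW v
    exact hT3k w w.2 w.2
  have hkf : ∀ v, κ v = v → v = 1 := by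
    intro v hv
    have h1 := hT3 v
    rw [hv, hv, vq_sq, one_mul] at h1
    exact h1
  -- the index
  have hcomap : (fixS α).index ≤ (centralizer ({a} : Set G)).relIndex (Wc P V) := by
    have h1 : (centralizer ({a} : Set G)).subgroupOf (Wc P V) ≤ (fixS α).comap (mkM sW) := by
      intro w hw
      rw [mem_comap, mem_fixS, hα, actM_eq_iff]
      have h2 := mem_centralizer_singleton_iff.mp (mem_subgroupOf.1 hw)
      have h3 : a * (w : G) * a⁻¹ * (w : G)⁻¹ = 1 := by rw [← h2]; group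
      show a * (w : G) * a⁻¹ * (w : G)⁻¹ ∈ U
      rw [h3]
      exact one_mem _
    have h2 : ((fixS α).comap (mkM sW)).index = (fixS α).index := index_comap_of_surjective _ (mkM_surj sW)
    rw [← h2]
    exact Nat.le_of_dvd (Nat.pos_of_ne_zero Subgroup.index_ne_zero_of_finite) (Subgroup.index_dvd_of_le h1)
  obtain ⟨hidx8, hidx2⟩ := relIndex_le hc hs h m c hx ha
  obtain ⟨hmod1, hmod2⟩ := FourMod.main (vq_sq sW) hr hr2 hr3 hYr hY1 hk3' hkf (hkcomm py.2) (hkcomm haP) hαY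
    (hcomap.trans hidx8)
  -- (ii)
  have hmod1' : 2 < (fixS α).index := hmod1
  have hbot : U ⊓ cj g U ≠ ⊥ := fun h1 => by
    have := hcomap.trans (hidx2 h1)
    omega
  obtain ⟨⟨u, hu⟩, hu1'⟩ := Subgroup.ne_bot_iff_exists_ne_one.1 hbot
  have hu1 : u ≠ 1 := fun h1 => hu1' (Subtype.ext h1)
  obtain ⟨huU, huU'⟩ := hu
  -- (iii)
  obtain ⟨T, l⟩ := e.loc u huU hu1
  obtain ⟨σ, hσM, hσ2, hσD, hσU⟩ := exists_sigma h.cardU hU2 huU hu1 l
  set X := centralizer ({u} : Set G) with hX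
  obtain ⟨c', hc'X, hc'⟩ := e.fus u huU hu1 g huU'
  by_cases hσy : act (secP P V) ⟨σ, hMP hσM⟩ (mk (secP P V) py) = mk (secP P V) py
  · -- (v)
    obtain ⟨n, hn⟩ := hσ2
    refine hmod2 (actM sW ⟨σ, hMN σ hσM⟩) ⟨n, ?_⟩ ?_ ?_
    · rw [← map_pow]
      have h3 : (⟨σ, hMN σ hσM⟩ : NW P U V) ^ 2 ^ n = 1 := Subtype.ext hn
      rw [h3, map_one]
    · rw [hY, ← map_mul, ← map_mul]
      refine heq _ _ ?_
      rw [act_mk] at hσy
      have h2 := (SecQ.mk_eq (secP P V)).mp hσy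
      have h3 : σ * (py : G) * ((py : G) * σ)⁻¹ = σ * (py : G) * σ⁻¹ * (py : G)⁻¹ := by group
      show σ * (py : G) * ((py : G) * σ)⁻¹ ∈ Kc P V
      rw [h3]
      exact h2
    · have hcσ := hc0 σ hσM ⟨n, hn⟩ hσU
      have hcP : σ * k * σ⁻¹ * k ∈ P := m.lt.le hcσ
      set S := actM sW ⟨σ, hMN σ hσM⟩ with hS
      set C := actM sW ⟨σ * k * σ⁻¹ * k, hPN _ hcP⟩ with hC
      have h1 : S * κ * S⁻¹ * κ = C := by
        rw [hS, hκ', hC, ← map_inv, ← map_mul, ← map_mul, ← map_mul]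
        rfl
      have h2 : κ * C = C * κ := hkcomm hcP
      have h3 : C ^ orderOf (σ * k * σ⁻¹ * k) = 1 := by
        rw [hC, ← map_pow]
        have h3 : (⟨σ * k * σ⁻¹ * k, hPN _ hcP⟩ : NW P U V) ^ orderOf (σ * k * σ⁻¹ * k) = 1 :=
          Subtype.ext (pow_orderOf_eq_one _)
        rw [h3, map_one]
      have h4 : S * κ * S⁻¹ = C * κ⁻¹ := by rw [← h1]; group
      have h5 : C ^ 3 = 1 := by
        have h6 : (S * κ * S⁻¹) ^ 3 = 1 := by rw [conj_pow, hk3', mul_one, mul_inv_cancel]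
        have h7 : Commute C κ⁻¹ := (Commute.inv_right (show Commute C κ from h2.symm))
        rw [h4, h7.mul_pow, inv_pow, hk3', inv_one, mul_one] at h6
        exact h6
      have h6 : C = 1 := by
        have h7 : orderOf C ∣ 3 := orderOf_dvd_of_pow_eq_one h5
        have h8 : orderOf C ∣ orderOf (σ * k * σ⁻¹ * k) := orderOf_dvd_of_pow_eq_one h3
        rcases (Nat.dvd_prime Nat.prime_three).mp h7 with h9 | h9
        · exact orderOf_eq_one_iff.mp h9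
        · exact absurd (h9 ▸ h8) (h3C _ hcσ)
      rw [h6, one_mul] at h4
      calc S * κ = (S * κ * S⁻¹) * S := by group
        _ = κ⁻¹ * S := by rw [h4]
  · -- (iv)
    have hyM : mk (secP P V) py ≠ 1 := by
      intro h3
      rw [h3, orderOf_one] at hy
      exact hr.one_lt.ne hy
    set z : G := (py : G) * (σ * (py : G)⁻¹ * σ⁻¹) with hz
    have hzP : z ∈ P := mul_mem py.2 (forall_of_mem_normalizer (m.MP hσM) _ (inv_mem py.2))
    have hmz : mk (secP P V) ⟨z, hzP⟩ = mk (secP P V) py * (act (secP P V) ⟨σ, hMP hσM⟩ (mk (secP P V) py))⁻¹ := by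
      rw [act_mk, ← map_inv, ← map_mul]
      congr 1
      apply Subtype.ext
      show (py : G) * (σ * (py : G)⁻¹ * σ⁻¹) = (py : G) * (σ * (py : G) * σ⁻¹)⁻¹
      group
    have hmzR : mk (secP P V) ⟨z, hzP⟩ ∈ zpowers (mk (secP P V) py) := by
      rw [hmz]
      exact mul_mem (mem_zpowers _) (inv_mem (hch _ _ (mem_zpowers _)))
    have hmz1 : mk (secP P V) ⟨z, hzP⟩ ≠ 1 := by
      rw [hmz, Ne, mul_inv_eq_one]
      exact fun h1 => hσy h1.symm
    have hmzr : orderOf (mk (secP P V) ⟨z, hzP⟩) = r := by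
      have h1 := mem_zpowers_of_prime hr hy hmzR hmz1
      have h2 : zpowers (mk (secP P V) ⟨z, hzP⟩) = zpowers (mk (secP P V) py) :=
        le_antisymm (zpowers_le.mpr hmzR) (zpowers_le.mpr h1)
      rw [← Nat.card_zpowers, h2, Nat.card_zpowers, hy]
    -- `z` normalises all members of `Δ`
    have hPX : P ≤ X := by
      intro p hp
      rw [hX, mem_centralizer_singleton_iff]
      exact (mem_centralizer_iff.mp (m.PU hp) u huU).symm
    have hpy : ∀ c ∈ X, (py : G) * σ * (py : G)⁻¹ ∈ normalizer (cj c U : Set G) := by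
      intro c hc
      have h1 := hσD ((py : G)⁻¹ * c) (mul_mem (inv_mem (hPX py.2)) hc)
      rw [← cj_eq_iff] at h1 ⊢
      have h2 : (py : G) * σ * (py : G)⁻¹ = (py : G) * (σ * (py : G)⁻¹) := by group
      rw [h2, cj_mul, cj_mul, ← cj_mul _ c, h1, ← cj_mul, mul_inv_cancel_left]
    have hzD : z ∈ normalizer (cj c' U : Set G) := by
      have h1 : z = ((py : G) * σ * (py : G)⁻¹) * σ⁻¹ := by rw [hz]; group
      rw [h1]
      exact mul_mem (hpy c' hc'X) (inv_mem (hσD c' hc'X))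
    -- the `r`-part
    obtain ⟨b, w, hbr, hbw⟩ : ∃ b w : ℕ, orderOf z = r ^ w * b ∧ ¬ r ∣ b := by
      obtain ⟨w, b, hb, hzo⟩ := Nat.exists_eq_pow_mul_and_not_dvd (orderOf_pos z).ne' r hr.ne_one
      exact ⟨b, w, hzo, hb⟩
    set z' := z ^ b with hz'
    have hz'o : Odd (orderOf z') := by
      have h1 : orderOf z' ∣ r ^ w := by
        apply orderOf_dvd_of_pow_eq_one
        rw [hz', ← pow_mul, mul_comm, ← hbr, pow_orderOf_eq_one]
      exact Odd.of_dvd_nat ((hr.odd_of_ne_two hr2).pow) h1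
    have hz'P : z' ∈ P := pow_mem hzP b
    have hmz' : mk (secP P V) ⟨z', hz'P⟩ = mk (secP P V) ⟨z, hzP⟩ ^ b := by
      rw [← map_pow]
      rfl
    have hmz'1 : mk (secP P V) ⟨z', hz'P⟩ ≠ 1 := by
      rw [hmz']
      intro h1
      apply hbw
      rw [← hmzr]
      exact orderOf_dvd_of_pow_eq_one h1
    have hmz'R : mk (secP P V) ⟨z', hz'P⟩ ∈ zpowers (mk (secP P V) py) := by
      rw [hmz']
      exact pow_mem hmzR b
    have hz'c : z' ∈ centralizer (cj g U : Set G) := by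
      refine odd_cent (by rw [card_cj, h.cardU]) ?_ huU' hu1 ?_ ?_ hz'o
      · rintro _ ⟨v, hv, rfl⟩
        show (g * v * g⁻¹) * (g * v * g⁻¹) = 1
        calc (g * v * g⁻¹) * (g * v * g⁻¹) = g * (v * v) * g⁻¹ := by group
          _ = 1 := by rw [hU2 v hv]; group
      · rw [hc']
        exact pow_mem hzD b
      · have h1 := mem_centralizer_iff.mp (m.PU hz'P) u huU
        rw [← h1, mul_inv_cancel_right]
    -- the commutator with `a`
    have hd : g⁻¹ * z' * g ∈ centralizer (U : Set G) := by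
      have h1 : z' ∈ cj g (centralizer (U : Set G)) := by rw [cj_centralizer]; exact hz'c
      exact mem_cj.mp h1
    set a₁ := g⁻¹ * a * g with ha₁
    have ha₁V : a₁ ∈ cj x V := mem_cj.mp ha
    set d := g⁻¹ * z' * g with hd'
    have hsq : (a₁ * (d * a₁⁻¹ * d⁻¹)) * (a₁ * (d * a₁⁻¹ * d⁻¹)) = 1 := by
      have h1 : d * a₁⁻¹ * d⁻¹ ∈ cj (d * x) V := by
        rw [cj_mul]
        exact conj_mem_cj (inv_mem ha₁V)
      have h2 := f.ab' (m.PU hx) (mul_mem hd (m.PU hx)) a₁ ha₁V _ h1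
      have h3 := f.cj_sq _ _ h1
      have h4 := f.cj_sq _ _ ha₁V
      calc (a₁ * (d * a₁⁻¹ * d⁻¹)) * (a₁ * (d * a₁⁻¹ * d⁻¹)) =
          (a₁ * (d * a₁⁻¹ * d⁻¹)) * ((d * a₁⁻¹ * d⁻¹) * a₁) := by rw [← h2]
        _ = a₁ * ((d * a₁⁻¹ * d⁻¹) * (d * a₁⁻¹ * d⁻¹)) * a₁ := by simp only [mul_assoc]
        _ = 1 := by rw [h3, mul_one, h4]
    have hsq' : (a * z' * a⁻¹ * z'⁻¹) * (a * z' * a⁻¹ * z'⁻¹) = 1 := by
      have h1 : a * z' * a⁻¹ * z'⁻¹ = g * (a₁ * (d * a₁⁻¹ * d⁻¹)) * g⁻¹ := by rw [ha₁, hd']; group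
      rw [h1]
      calc g * (a₁ * (d * a₁⁻¹ * d⁻¹)) * g⁻¹ * (g * (a₁ * (d * a₁⁻¹ * d⁻¹)) * g⁻¹) =
          g * ((a₁ * (d * a₁⁻¹ * d⁻¹)) * (a₁ * (d * a₁⁻¹ * d⁻¹))) * g⁻¹ := by group
        _ = 1 := by rw [hsq]; group
    -- modulo `K`
    set A := mk (secP P V) ⟨a, haP⟩ with hA
    set Z := mk (secP P V) ⟨z', hz'P⟩ with hZ
    have h1 : (A * Z * A⁻¹ * Z⁻¹) * (A * Z * A⁻¹ * Z⁻¹) = 1 := by
      rw [hA, hZ, ← map_inv, ← map_inv, ← map_mul, ← map_mul, ← map_mul, ← map_mul, SecQ.mk_eq_one]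
      show (a * z' * a⁻¹ * z'⁻¹) * (a * z' * a⁻¹ * z'⁻¹) ∈ Kc P V
      rw [hsq']
      exact one_mem _
    have h2 : A * Z * A⁻¹ = Z⁻¹ := by
      obtain ⟨i, hi⟩ := mem_zpowers_iff.mp hmz'R
      rw [← hi, ← conj_zpow, hAy, inv_zpow]
    rw [h2] at h1
    have h3 : Z ^ 4 = 1 := by
      have h4 : Z⁻¹ * Z⁻¹ * (Z⁻¹ * Z⁻¹) = (Z ^ 4)⁻¹ := by
        rw [← inv_pow, pow_succ, pow_succ, pow_two, mul_assoc, mul_assoc, mul_assoc]
      rw [h4, inv_eq_one] at h1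
      exact h1
    apply hmz'1
    have h5 : Z ^ r = 1 := by
      obtain ⟨i, hi⟩ := mem_zpowers_iff.mp hmz'R
      rw [← hi, ← zpow_natCast, ← zpow_mul, mul_comm, zpow_mul, zpow_natCast, ← hy, pow_orderOf_eq_one, one_zpow]
    have h6 : orderOf Z ∣ 4 := orderOf_dvd_of_pow_eq_one h3
    have h7 : orderOf Z ∣ r := orderOf_dvd_of_pow_eq_one h5
    have h8 : Nat.Coprime 4 r := by
      have : Nat.Coprime (2 ^ 2) r := Nat.Coprime.pow_left 2 ((Nat.coprime_primes Nat.prime_two hr).mpr (Ne.symm hr2))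
      simpa using this
    have h9 := Nat.dvd_gcd h6 h7
    rw [Nat.Coprime.gcd_eq_one h8, Nat.dvd_one, orderOf_eq_one_iff] at h9
    exact h9

end Cfsg.Agent.OddCyclic.Eq.PartIFour
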