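import Cfsg.Agent.OddCyclic.Eq.Ab
import Cfsg.Agent.OddCyclic.Eq.PartIFour
import Cfsg.Agent.OddCyclic.Eq.LemU

/-!
# (E_q), Part I, `q = 4`, `S > B`: the data `PartIFour.Ex`

* `orbit` : (0.6);
* `tor`, `inv`, `fus`;
* `red` : a 2-reduced normal subgroup of `C(u)` is in `⟨u⟩`, from "type zero".
-/

set_option autoImplicit false
set_option linter.unusedSectionVars false

namespace Cfsg.Agent.OddCyclic.Eq.ExFour

open Subgroup Cfsg Cfsg.Agent.ZN Cfsg.Agent.ZN.ChoiceBase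
open Cfsg.Agent.MinSimple
open Cfsg.Agent.OddCyclic.RedU (EqOne)
open Cfsg.Agent.OddCyclic.RedX (mod Loc)
open Cfsg.Agent.OddCyclic.RedTy
open Cfsg.Agent.OddCyclic.Eq.Base Cfsg.Agent.OddCyclic.Eq.Ab
open Cfsg.Agent.OddCyclic.T1Sl2 (up dg ww)
open Cfsg.Agent.LieExceptional.CITDefs (IsSyl2)
open Matrix (SpecialLinearGroup)

universe u

variable {G : Type u} [Group G] [Finite G] {S : Sylow 2 G} {L V : Subgroup G} {q : ℕ}

/-- **(0.6)** -/
theorem orbit (S : Sylow 2 G) {X : Subgroup G} {g : G} (h1 : bau (S : Subgroup G) ≤ X)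
    (h2 : ChoiceBase.cj g (bau (S : Subgroup G)) ≤ X) :
    ∃ c ∈ X, ChoiceBase.cj g (bau (S : Subgroup G)) = ChoiceBase.cj c (bau (S : Subgroup G)) := by
  have hB : IsPGroup 2 (bau (S : Subgroup G)) := S.isPGroup'.to_le (ChoiceBase.bau_le _)
  obtain ⟨T, hT, hBT⟩ := ChoiceSit.exists_syl hB h1
  obtain ⟨T', hT', hBT'⟩ := ChoiceSit.exists_syl (isPGroup_cj g hB) h2
  obtain ⟨c, hc, hcT⟩ := ChoiceSit.syl_conj hT hT'
  refine ⟨c, hc, ?_⟩
  have e1 : bau T = bau (S : Subgroup G) := SamePt.bau_eq S hT.2.1 hBT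
  have e2 : bau (ChoiceBase.cj g⁻¹ T') = bau (S : Subgroup G) := by
    refine SamePt.bau_eq S (isPGroup_cj _ hT'.2.1) ?_
    have := cj_mono g⁻¹ hBT'
    rwa [cj_inv_cj] at this
  rw [bau_cj] at e2
  have e3 : bau T' = ChoiceBase.cj g (bau (S : Subgroup G)) := by
    rw [← e2, cj_cj_inv]
  rw [← e3, ← hcT, bau_cj, e1]

/-- **(0.6)** for `Z_J` -/
theorem orbit_zc (S : Sylow 2 G) {u g : G} (hu : u ∈ zc (bau (S : Subgroup G)))
    (hg : u ∈ ChoiceBase.cj g (zc (bau (S : Subgroup G)))) :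
    ∃ c ∈ centralizer ({u} : Set G),
      ChoiceBase.cj g (zc (bau (S : Subgroup G))) = ChoiceBase.cj c (zc (bau (S : Subgroup G))) := by
  have h1 : bau (S : Subgroup G) ≤ centralizer ({u} : Set G) := by
    intro b hb
    rw [mem_centralizer_singleton_iff]
    exact (ChoiceBase.mem_zc.1 hu).2.2 b hb
  have h2 : ChoiceBase.cj g (bau (S : Subgroup G)) ≤ centralizer ({u} : Set G) := by
    rintro b hb
    rw [mem_cj] at hb hg
    rw [mem_centralizer_singleton_iff]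
    have h3 := (ChoiceBase.mem_zc.1 hg).2.2 _ hb
    calc b * u = g * ((g⁻¹ * b * g) * (g⁻¹ * u * g)) * g⁻¹ := by group
      _ = g * ((g⁻¹ * u * g) * (g⁻¹ * b * g)) * g⁻¹ := by rw [h3]
      _ = u * b := by group
  obtain ⟨c, hc, hcB⟩ := orbit S h1 h2
  refine ⟨c, hc, ?_⟩
  have e : ∀ x : G, ChoiceBase.cj x (zc (bau (S : Subgroup G))) = zc (ChoiceBase.cj x (bau (S : Subgroup G))) := by
    intro x
    rw [← bau_cj, ChoiceBase.zc_bau, ChoiceBase.zc_bau, zj_cj]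
  rw [e, e, hcB]

/-- `s ∈ S \ B` moves `Z_J` -/
theorem not_cent {s : G} (hs : s ∈ (S : Subgroup G)) (hsB : s ∉ bau (S : Subgroup G)) :
    s ∉ centralizer (ZJ S : Set G) := by
  intro h
  apply hsB
  rw [mem_bau]
  refine ⟨hs, ?_⟩
  rw [ZJ, ChoiceBase.zc_bau] at h
  exact mem_centralizer_iff.1 h

theorem Mp_S (h : EqOne S L V q) : (S : Subgroup G) ≤ PartI.Mp (ZJ S) V := le_inf h.S_V (S_le S)

section four

variable (h : EqOne S L V 4)

include h

/-- the field `tor` -/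
theorem tor : ∃ k ∈ PartI.Mp (ZJ S) V, k ^ 3 = 1 ∧ (∀ v ∈ V, k * v * k⁻¹ * v⁻¹ ∈ ZJ S → v ∈ ZJ S) ∧
    ∀ u ∈ ZJ S, k * u = u * k → u = 1 := by
  classical
  obtain ⟨F, _, _, _, e, φ, hF, c⟩ := exists_co_of h
  obtain ⟨l, hl0, hl1⟩ : ∃ l : F, l ≠ 0 ∧ l ≠ 1 := by
    by_contra hcon
    push Not at hcon
    have h1 : (Finset.univ : Finset F) ⊆ {0, 1} := by
      intro x _
      by_cases hx : x = 0
      · simp [hx]
      · simp [hcon x hx]
    have h2 := Finset.card_le_card h1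
    rw [Finset.card_univ, hF] at h2
    have h3 : ({0, 1} : Finset F).card ≤ 2 := Finset.card_le_two
    omega
  obtain ⟨k, hkL, hk3, hk⟩ := exists_tor h c hl0
  have hk3' : k ^ 3 = 1 := by rw [hF] at hk3; exact hk3
  refine ⟨k, mem_inf.2 ⟨L_V c hkL, ?_⟩, hk3', ?_, ?_⟩
  · refine CompStandard.mem_normalizer_of_forall fun v hv => ?_
    obtain ⟨x, rfl⟩ := (mem_zc h c).1 hv
    rw [hk, mul_zero]
    exact (mem_zc h c).2 ⟨_, rfl⟩
  · intro v hv hkv
    obtain ⟨x, y, rfl⟩ := (c.mem v).1 hv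
    obtain ⟨z, hz⟩ := (mem_zc h c).1 hkv
    have h1 : e (l * x) (l⁻¹ * y) = e z 0 * e x y := by
      rw [← hz, hk, inv_mul_cancel_right]
    rw [← c.add] at h1
    have h2 := (c.ext h1).2
    rw [zero_add] at h2
    have h3 : y = 0 := by
      by_contra hy
      have h4 : l⁻¹ = 1 := mul_right_cancel₀ hy (by rw [h2, one_mul])
      exact hl1 (inv_eq_one.1 h4)
    rw [h3]
    exact (mem_zc h c).2 ⟨_, rfl⟩
  · intro u hu hku
    obtain ⟨x, rfl⟩ := (mem_zc h c).1 hu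
    have h1 := hk x 0
    rw [hku, mul_inv_cancel_right, mul_zero] at h1
    have h2 := (c.ext h1).1
    have h3 : x = 0 := by
      by_contra hx
      exact hl1 (mul_right_cancel₀ hx (by rw [← h2, one_mul]))
    rw [h3]
    exact c.zero

end four

/-- the field `inv` -/
theorem inv (h : EqOne S L V q) (hSB : bau (S : Subgroup G) ≠ S) :
    ∃ s ∈ PartI.Mp (ZJ S) V, (∃ n, s ^ 2 ^ n = 1) ∧ s ∉ centralizer (ZJ S : Set G) := by
  obtain ⟨s, hs, hsB⟩ : ∃ s ∈ (S : Subgroup G), s ∉ bau (S : Subgroup G) := by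
    by_contra hcon
    push Not at hcon
    exact hSB (le_antisymm (ChoiceBase.bau_le _) hcon)
  refine ⟨s, Mp_S h hs, ?_, not_cent hs hsB⟩
  obtain ⟨n, hn⟩ := S.isPGroup' ⟨s, hs⟩
  exact ⟨n, congrArg Subtype.val hn⟩

/-- the field `fus` -/
theorem fus (S : Sylow 2 G) : ∀ u ∈ ZJ S, u ≠ 1 → ∀ g : G, u ∈ CompStandard.cj g (ZJ S) →
    ∃ c ∈ centralizer ({u} : Set G), CompStandard.cj g (ZJ S) = CompStandard.cj c (ZJ S) :=
  fun _ hu _ _ hg => orbit_zc S hu hg

/-! ### the 2-local `C(u)` -/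

/-- `C(u) = N(⟨u⟩)` -/
theorem cent_eq {u : G} (hu : u * u = 1) : centralizer ({u} : Set G) = normalizer (zpowers u : Set G) := by
  ext x
  rw [mem_centralizer_singleton_iff, mem_normalizer_iff_cj]
  have h2 : ∀ y ∈ zpowers u, y = 1 ∨ y = u := by
    intro y hy
    obtain ⟨n, rfl⟩ := mem_zpowers_iff.1 hy
    rcases Int.even_or_odd n with ⟨m, rfl⟩ | ⟨m, rfl⟩
    · left
      rw [← two_mul, zpow_mul, zpow_two, hu, one_zpow]
    · right
      rw [zpow_add, zpow_mul, zpow_two, hu, one_zpow, one_mul, zpow_one]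
  constructor
  · intro hx
    have h1 : x * u * x⁻¹ = u := by rw [hx, mul_inv_cancel_right]
    apply le_antisymm
    · rintro _ ⟨y, hy, rfl⟩
      show x * y * x⁻¹ ∈ zpowers u
      rcases h2 y hy with rfl | rfl
      · rw [mul_one, mul_inv_cancel]; exact one_mem _
      · rw [h1]; exact mem_zpowers _
    · intro y hy
      rw [mem_cj]
      rcases h2 y hy with rfl | rfl
      · rw [mul_one, inv_mul_cancel]; exact one_mem _
      · have : x⁻¹ * y * x = y := by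
          calc x⁻¹ * y * x = x⁻¹ * (y * x) := by group
            _ = x⁻¹ * (x * y) := by rw [hx]
            _ = y := by group
        rw [this]; exact mem_zpowers _
  · intro hx
    have h3 : x * u * x⁻¹ ∈ zpowers u := by
      rw [← hx]
      exact ⟨u, mem_zpowers u, rfl⟩
    rcases h2 _ h3 with h4 | h4
    · have h5 : u = 1 := by
        calc u = x⁻¹ * (x * u * x⁻¹) * x := by group
          _ = 1 := by rw [h4]; group
      rw [h5, mul_one, one_mul]
    · calc x * u = (x * u * x⁻¹) * x := by group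
        _ = u * x := by rw [h4]

theorem zp_ne {u : G} (hu1 : u ≠ 1) : zpowers u ≠ ⊥ := fun h => hu1 (zpowers_eq_bot.1 h)

theorem zp_two {u : G} (hu : u * u = 1) : IsPGroup 2 (zpowers u) := by
  rintro ⟨y, hy⟩
  refine ⟨1, Subtype.ext ?_⟩
  show y ^ 2 ^ 1 = 1
  obtain ⟨n, rfl⟩ := mem_zpowers_iff.1 hy
  rw [pow_one, ← zpow_natCast, ← zpow_mul, mul_comm, zpow_mul, zpow_natCast, pow_two, hu, one_zpow]

/-- the local data of `C(u)` -/
theorem loc_of (h : EqOne S L V q) {u : G} (hu : u * u = 1) (hu1 : u ≠ 1) {T : Subgroup G}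
    (hT : ChoiceSit.Syl T (centralizer ({u} : Set G))) : Loc (centralizer ({u} : Set G)) T := by
  rw [cent_eq hu] at hT ⊢
  exact h.cx.toCtx.loc (zp_two hu) (zp_ne hu1) hT

theorem ne_top (h : EqOne S L V q) {u : G} (hu : u * u = 1) (hu1 : u ≠ 1) : centralizer ({u} : Set G) ≠ ⊤ := by
  rw [cent_eq hu]
  exact h.cx.toCtx.ne_top (zp_two hu) (zp_ne hu1)

theorem T_le (h : EqOne S L V q) {T : Subgroup G} (hT : IsPGroup 2 T) (hBT : bau (S : Subgroup G) ≤ T) :
    T ≤ PartI.Mp (ZJ S) V := by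
  have h1 : T ≤ normalizer (bau (S : Subgroup G) : Set G) := SamePt.le_normalizer S hT hBT
  exact le_inf (h1.trans h.nb_V) (h1.trans (ZN.normalizer_le_normalizer_zc _))

/-- elements of `T` centralising `J(T)` -/
theorem le_ZJ {T Y : Subgroup G} (hT : IsPGroup 2 T) (hBT : bau (S : Subgroup G) ≤ T) (hY : Y ≤ T)
    (hY2 : ∀ y ∈ Y, y * y = 1) (h0 : jj T ≤ centralizer (Y : Set G)) : Y ≤ ZJ S := by
  intro y hy
  have hc : ∀ a ∈ jj T, a * y = y * a := fun a ha => (mem_centralizer_iff.1 (h0 ha) y hy).symm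
  have hy2 : y ^ 2 = 1 := by rw [pow_two]; exact hY2 y hy
  have h1 : y ∈ jj T := mem_jj_of_comm (hY hy) hy2 hc
  rw [ZJ, ChoiceBase.zc_bau, ← SamePt.zj_eq S hT hBT, ChoiceBase.mem_zj]
  exact ⟨h1, hy2, hc⟩

/-- `Ω₁Z(S) ≤ Z_J` -/
theorem zcS_le (S : Sylow 2 G) : zc (S : Subgroup G) ≤ ZJ S := by
  rw [ZJ, ChoiceBase.zc_bau]; exact ChoiceBase.zc_le_zj _

theorem exists_zcS (h : EqOne S L V q) : ∃ z ∈ zc (S : Subgroup G), z ≠ 1 := by
  have hS1 : (S : Subgroup G) ≠ ⊥ := by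
    intro h1
    obtain ⟨z, hz, hz1⟩ := exists_ne_zc h
    have h2 : z ∈ (S : Subgroup G) := ChoiceBase.bau_le _ (ChoiceBase.mem_zc.1 hz).1
    rw [h1, mem_bot] at h2
    exact hz1 h2
  by_contra hcon
  push Not at hcon
  exact ChoiceSit.zc_ne_bot S.isPGroup' hS1 ((Subgroup.eq_bot_iff_forall _).mpr hcon)

open PartIFour (four_cases)

section four

variable (h : EqOne S L V 4)

include h

theorem ZJ_sq : ∀ x ∈ ZJ S, x * x = 1 := fun x hx => h.sq x (h.zc_le hx)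

/-- the involutions of `Z_J` are conjugate under `M_p` -/
theorem exists_conj {u z : G} (hu : u ∈ ZJ S) (hu1 : u ≠ 1) (hz : z ∈ ZJ S) (hz1 : z ≠ 1) :
    ∃ g ∈ PartI.Mp (ZJ S) V, g * z * g⁻¹ = u := by
  obtain ⟨k, hk, hk3, -, hkf⟩ := tor h
  have hNk : ∀ x ∈ ZJ S, k * x * k⁻¹ ∈ ZJ S := fun x hx =>
    CompStandard.forall_of_mem_normalizer (mem_inf.1 hk).2 _ hx
  have hzk := hNk z hz
  have hzk1 : k * z * k⁻¹ ≠ 1 := by
    intro h0; apply hz1
    calc z = k⁻¹ * (k * z * k⁻¹) * k := by group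
      _ = 1 := by rw [h0]; group
  have hzz : z ≠ k * z * k⁻¹ := by
    intro h0
    apply hz1
    apply hkf z hz
    calc k * z = (k * z * k⁻¹) * k := by group
      _ = z * k := by rw [← h0]
  rcases four_cases h.card_zc (ZJ_sq h) hz hzk hz1 hzk1 hzz hu with h1 | h1 | h1 | h1
  · exact absurd h1 hu1
  · exact ⟨1, one_mem _, by rw [h1]; group⟩
  · exact ⟨k, hk, h1.symm⟩
  · refine ⟨k * k, mul_mem hk hk, ?_⟩
    have h2 : k * k * z * (k * k)⁻¹ = k * (k * z * k⁻¹) * k⁻¹ := by group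
    rw [h2, h1]
    rcases four_cases h.card_zc (ZJ_sq h) hz hzk hz1 hzk1 hzz (hNk _ hzk) with h3 | h3 | h3 | h3
    · exfalso; apply hzk1
      calc k * z * k⁻¹ = k⁻¹ * (k * (k * z * k⁻¹) * k⁻¹) * k := by group
        _ = 1 := by rw [h3]; group
    · exfalso
      have h4 : k ^ 3 * z * (k ^ 3)⁻¹ = k * z * k⁻¹ := by
        calc k ^ 3 * z * (k ^ 3)⁻¹ = k * (k * (k * z * k⁻¹) * k⁻¹) * k⁻¹ := by rw [pow_succ, pow_two]; group
          _ = k * z * k⁻¹ := by rw [h3]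
      rw [hk3] at h4
      apply hzz
      rw [← h4]
      group
    · exfalso
      apply hzk1
      apply hkf _ hzk
      calc k * (k * z * k⁻¹) = (k * (k * z * k⁻¹) * k⁻¹) * k := by group
        _ = _ := by rw [h3]
    · exact h3

/-- an element moving `Z_J` and centralising `u` -/
theorem exists_s (hSB : bau (S : Subgroup G) ≠ S) {u : G} (hu : u ∈ ZJ S) (hu1 : u ≠ 1) :
    ∃ s ∈ PartI.Mp (ZJ S) V, (∃ n, s ^ 2 ^ n = 1) ∧ s ∉ centralizer (ZJ S : Set G) ∧ s * u = u * s := by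
  obtain ⟨s, hs, hsB⟩ : ∃ s ∈ (S : Subgroup G), s ∉ bau (S : Subgroup G) := by
    by_contra hcon
    push Not at hcon
    exact hSB (le_antisymm (ChoiceBase.bau_le _) hcon)
  obtain ⟨z, hz, hz1⟩ := exists_zcS h
  obtain ⟨g, hg, hgz⟩ := exists_conj h hu hu1 (zcS_le S hz) hz1
  refine ⟨g * s * g⁻¹, mul_mem (mul_mem hg (Mp_S h hs)) (inv_mem hg), ?_, ?_, ?_⟩
  · obtain ⟨n, hn⟩ := S.isPGroup' ⟨s, hs⟩
    have hn' : s ^ 2 ^ n = 1 := congrArg Subtype.val hn
    exact ⟨n, by rw [conj_pow, hn', mul_one, mul_inv_cancel]⟩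
  · intro h1
    apply not_cent hs hsB
    have h2 : g⁻¹ ∈ normalizer ((centralizer (ZJ S : Set G) : Subgroup G) : Set G) :=
      cent_norm S (inv_mem (mem_inf.1 hg).2)
    have h3 := CompStandard.forall_of_mem_normalizer h2 _ h1
    have h4 : g⁻¹ * (g * s * g⁻¹) * g⁻¹⁻¹ = s := by group
    rwa [h4] at h3
  · have h1 : s * z = z * s := (ChoiceBase.mem_zc.1 hz).2.2 s hs
    rw [← hgz]
    calc g * s * g⁻¹ * (g * z * g⁻¹) = g * (s * z) * g⁻¹ := by group
      _ = g * (z * s) * g⁻¹ := by rw [h1]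
      _ = g * z * g⁻¹ * (g * s * g⁻¹) := by group

/-- elements of `N(Z_J) ∩ C(u)` are equal modulo `C(Z_J)` -/
theorem two_cases {u d t : G} (hu : u ∈ ZJ S) (hu1 : u ≠ 1) (hd : d ∈ normalizer (ZJ S : Set G))
    (ht : t ∈ normalizer (ZJ S : Set G)) (hdu : d * u = u * d) (htu : t * u = u * t)
    (hdc : d ∉ centralizer (ZJ S : Set G)) (htc : t ∉ centralizer (ZJ S : Set G)) :
    d * t⁻¹ ∈ centralizer (ZJ S : Set G) := by
  have hcom : ∀ x ∈ ZJ S, ∀ y ∈ ZJ S, x * y = y * x := fun x hx y hy => h.comm x (h.zc_le hx) y (h.zc_le hy)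
  obtain ⟨y, hy, hy1, hyu⟩ := PartIFour.exists_ne h.card_zc u
  -- the action
  have key : ∀ a ∈ normalizer (ZJ S : Set G), a * u = u * a → a ∉ centralizer (ZJ S : Set G) → a * y * a⁻¹ = u * y := by
    intro a ha hau hac
    have hau' : a * u * a⁻¹ = u := by rw [hau, mul_inv_cancel_right]
    rcases four_cases h.card_zc (ZJ_sq h) hu hy hu1 hy1 (Ne.symm hyu)
      (CompStandard.forall_of_mem_normalizer ha _ hy) with h1 | h1 | h1 | h1
    · exfalso; apply hy1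
      calc y = a⁻¹ * (a * y * a⁻¹) * a := by group
        _ = 1 := by rw [h1]; group
    · exfalso; apply hyu
      have : a * y * a⁻¹ = a * u * a⁻¹ := by rw [h1, hau']
      exact mul_left_cancel (mul_right_cancel this)
    · exfalso
      apply hac
      rw [mem_centralizer_iff]
      intro x hx
      have hya : y * a = a * y := by
        calc y * a = (a * y * a⁻¹) * a := by rw [h1]
          _ = a * y := by group
      rcases four_cases h.card_zc (ZJ_sq h) hu hy hu1 hy1 (Ne.symm hyu) hx with h | h | h | h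
      · rw [h, one_mul, mul_one]
      · rw [h, hau]
      · rw [h, hya]
      · rw [h, mul_assoc, hya, ← mul_assoc, ← hau, mul_assoc]
    · exact h1
  have e1 := key d hd hdu hdc
  have e2 := key t ht htu htc
  have hti : t⁻¹ * y * t = u * y := by
    have h1 : t * (u * y) * t⁻¹ = y := by
      calc t * (u * y) * t⁻¹ = (t * u) * t⁻¹ * (t * y * t⁻¹) := by group
        _ = u * (u * y) := by rw [e2, htu, mul_inv_cancel_right]
        _ = y := by rw [← mul_assoc, ZJ_sq h u hu, one_mul]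
    calc t⁻¹ * y * t = t⁻¹ * (t * (u * y) * t⁻¹) * t := by rw [h1]
      _ = u * y := by group
  have hcu : u * (d * t⁻¹) = d * t⁻¹ * u := by
    have h1 : u * t⁻¹ = t⁻¹ * u := by
      calc u * t⁻¹ = t⁻¹ * (t * u) * t⁻¹ := by group
        _ = t⁻¹ * (u * t) * t⁻¹ := by rw [htu]
        _ = t⁻¹ * u := by group
    rw [← mul_assoc, ← hdu, mul_assoc, h1, ← mul_assoc]
  have hcy : y * (d * t⁻¹) = d * t⁻¹ * y := by
    have h1 : d * (u * y) * d⁻¹ = y := by
      calc d * (u * y) * d⁻¹ = (d * u) * d⁻¹ * (d * y * d⁻¹) := by group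
        _ = u * (u * y) := by rw [e1, hdu, mul_inv_cancel_right]
        _ = y := by rw [← mul_assoc, ZJ_sq h u hu, one_mul]
    calc y * (d * t⁻¹) = (d * (u * y) * d⁻¹) * (d * t⁻¹) := by rw [h1]
      _ = d * (u * y) * t⁻¹ := by group
      _ = d * (t⁻¹ * y * t) * t⁻¹ := by rw [hti]
      _ = d * t⁻¹ * y := by group
  rw [mem_centralizer_iff]
  intro x hx
  rcases four_cases h.card_zc (ZJ_sq h) hu hy hu1 hy1 (Ne.symm hyu) hx with h | h | h | h
  · rw [h, one_mul, mul_one]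
  · rw [h, hcu]
  · rw [h, hcy]
  · rw [h, mul_assoc, hcy, ← mul_assoc, hcu, mul_assoc]

/-- **the field `loc`**, from "type zero" -/
theorem loc (hSB : bau (S : Subgroup G) ≠ S) {u : G} (hu : u ∈ ZJ S) (hu1 : u ≠ 1)
    (hz : ∀ T Y : Subgroup G, bau (S : Subgroup G) ≤ T → YC (centralizer ({u} : Set G)) T Y →
      jj T ≤ centralizer (Y : Set G)) : ∃ T : Subgroup G, PartIFour.Lc (ZJ S) V u T := by
  have hu2 : u * u = 1 := ZJ_sq h u hu
  set X := centralizer ({u} : Set G) with hX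
  have hXu : ∀ x ∈ X, x * u = u * x := fun x hx => mem_centralizer_singleton_iff.1 hx
  have hBX : bau (S : Subgroup G) ≤ X := by
    intro b hb
    rw [hX, mem_centralizer_singleton_iff]
    exact (ChoiceBase.mem_zc.1 hu).2.2 b hb
  obtain ⟨T, hT, hBT⟩ := ChoiceSit.exists_syl (S.isPGroup'.to_le (ChoiceBase.bau_le _)) hBX
  have hloc := loc_of h hu2 hu1 hT
  refine ⟨T, ⟨hT.1, hT.2.1, hT.2.2⟩, T_le h hT.2.1 hBT, fun x hx hx' => hloc.char2 (mem_inf.2 ⟨hx, hx'⟩), ?_⟩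
  intro Y hYX hXY hY2 hYu
  by_contra hcon
  push Not at hcon
  have hcon' : ∀ D : Subgroup G, D ≤ X → X ≤ normalizer (D : Set G) →
      (∀ d ∈ D, ∃ c ∈ centralizer (Y : Set G), ∃ t ∈ T, d = c * t) → D ≤ centralizer (Y : Set G) := hcon
  have hO : o2 X ≤ centralizer (Y : Set G) := hcon' _ (ZN.Block.o2_le X) (ZN.le_normalizer_o2 X)
    fun d hd => ⟨1, one_mem _, d, hloc.o2_le hd, (one_mul d).symm⟩
  have hYc : ∀ y ∈ Y, y ∈ centralizer (o2 X : Set G) := by
    intro y hy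
    rw [mem_centralizer_iff]
    intro o ho
    exact (mem_centralizer_iff.1 (hO ho) y hy).symm
  have hYz : Y ≤ zc (o2 X) := by
    intro y hy
    rw [ChoiceBase.mem_zc]
    exact ⟨hloc.char2 (mem_inf.2 ⟨hYX hy, hYc y hy⟩), by rw [pow_two]; exact hY2 y hy,
      fun o ho => mem_centralizer_iff.1 (hYc y hy) o ho⟩
  have hyc := yc_sup hloc hYz hXY hcon'
  set Y' := Y ⊔ mod X T with hY'
  have hj := hz T Y' hBT hyc
  have hY'o : Y' ≤ zc (o2 X) := hyc.le
  have hY'T : Y' ≤ T := hY'o.trans ((ZN.Block.zc_le _).trans hloc.o2_le)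
  have hY'2 : ∀ y ∈ Y', y * y = 1 := by
    intro y hy
    have := (ChoiceBase.mem_zc.1 (hY'o hy)).2.1
    rwa [pow_two] at this
  have hY'Z : Y' ≤ ZJ S := le_ZJ hT.2.1 hBT hY'T hY'2 hj
  have huT : u ∈ zc T := by
    rw [ChoiceBase.mem_zc]
    exact ⟨hBT (ChoiceBase.mem_zc.1 hu).1, by rw [pow_two]; exact hu2, fun t ht => hXu t (hT.1 ht)⟩
  have huY : u ∈ Y' := hyc.zc_le huT
  -- an element of `Y'` outside `⟨u⟩`
  obtain ⟨y, hy, hyu⟩ : ∃ y ∈ Y', y ∉ zpowers u := by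
    by_contra hcon2
    push Not at hcon2
    exact hYu fun y hy => hcon2 y (mem_sup_left hy)
  have hy1 : y ≠ 1 := fun h0 => hyu (h0 ▸ one_mem _)
  have hyu' : u ≠ y := fun h0 => hyu (h0 ▸ mem_zpowers u)
  have hYZ : Y' = ZJ S := by
    apply le_antisymm hY'Z
    intro x hx
    rcases four_cases h.card_zc (ZJ_sq h) hu (hY'Z hy) hu1 hy1 hyu' hx with h1 | h1 | h1 | h1
    · rw [h1]; exact one_mem _
    · rw [h1]; exact huY
    · rw [h1]; exact hy
    · rw [h1]; exact mul_mem huY hy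
  have hXN : X ≤ normalizer (ZJ S : Set G) := by rw [← hYZ]; exact hyc.nor
  obtain ⟨s, hs, ⟨n, hn⟩, hsc, hsu⟩ := exists_s h hSB hu hu1
  have hsX : s ∈ X := by rw [hX, mem_centralizer_singleton_iff]; exact hsu
  -- `T` moves `Z_J`
  obtain ⟨t, ht, htc⟩ : ∃ t ∈ T, t ∉ centralizer (ZJ S : Set G) := by
    by_contra hcon2
    push Not at hcon2
    have hs2 : IsPGroup 2 (zpowers s) := by
      rintro ⟨y, hy⟩
      refine ⟨n, Subtype.ext ?_⟩
      show y ^ 2 ^ n = 1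
      obtain ⟨m, rfl⟩ := mem_zpowers_iff.1 hy
      rw [← zpow_natCast, ← zpow_mul, mul_comm, zpow_mul, zpow_natCast, hn, one_zpow]
    obtain ⟨T', hT', hsT'⟩ := ChoiceSit.exists_syl hs2 (zpowers_le.2 hsX)
    obtain ⟨x, hx, rfl⟩ := ChoiceSit.syl_conj hT hT'
    have h1 := hsT' (mem_zpowers s)
    rw [mem_cj] at h1
    have h2 := hcon2 _ h1
    have h3 := CompStandard.forall_of_mem_normalizer (cent_norm S (hXN hx)) _ h2
    have h4 : x * (x⁻¹ * s * x) * x⁻¹ = s := by group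
    rw [h4] at h3
    exact hsc h3
  have h1 : X ≤ centralizer (Y' : Set G) := by
    refine hyc.core X le_rfl Subgroup.le_normalizer fun d hd => ?_
    rw [hYZ]
    by_cases hdc : d ∈ centralizer (ZJ S : Set G)
    · exact ⟨d, hdc, 1, one_mem _, (mul_one d).symm⟩
    · exact ⟨d * t⁻¹, two_cases h hu hu1 (hXN hd) (hXN (hT.1 ht)) (hXu d hd) (hXu t (hT.1 ht)) hdc htc, t, ht,
        by group⟩
  rw [hYZ] at h1
  exact hsc (h1 hsX)

/-- **the data `Ex`**, from "type zero" -/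
theorem ex_of (hSB : bau (S : Subgroup G) ≠ S)
    (hz : ∀ u ∈ ZJ S, u ≠ 1 → ∀ T Y : Subgroup G, bau (S : Subgroup G) ≤ T → YC (centralizer ({u} : Set G)) T Y →
      jj T ≤ centralizer (Y : Set G)) : PartIFour.Ex (ZJ S) V where
  tor := tor h
  inv := inv h hSB
  fus := fus S
  loc := fun u hu hu1 => loc h hSB hu hu1 (hz u hu hu1)

/-- **the data `Ex`** -/
theorem ex (hSB : bau (S : Subgroup G) ≠ S) : PartIFour.Ex (ZJ S) V := by
  refine ex_of h hSB fun u hu hu1 T Y hBT hY => ?_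
  refine LemU.type_zero h (Or.inr (by norm_num)) (ne_top h (ZJ_sq h u hu) hu1) hY hBT ?_ hu1 le_rfl
  rw [← LemU.zj_eq_zc]
  exact hu

end four

end Cfsg.Agent.OddCyclic.Eq.ExFour
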