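import Cfsg.Agent.OddCyclic.RedBlock
import Cfsg.Agent.MinSimple.TvEq

/-!
# (E_q) of `T_cyc`, section 5 of blueprints/S0342-A2-helper402.md

`X = C_G(Z)`, `V ≰ O₂(X)`: then `q = 4`, `|V ∩ O₂(X)| = 8` and `V ∩ O₂(X) = [V, S]` (`Cfg.five`).

* `Fld q r J V S`: the action of `S` on the natural module `V` by `F_q`-semilinear maps, `J = Z_J`, `q = r²`;
* `Cfg`: the configuration in `X`.
-/

set_option autoImplicit false
set_option linter.unusedSectionVars false

namespace Cfsg.Agent.OddCyclic.Eq.SecFive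

open Subgroup Cfsg Cfsg.Agent.ZN
open Cfsg.Agent.MinSimple.LemX (nc le_nc nc_le le_normalizer_nc)

/-! ### the `A × B` lemma -/

section axb

open Cfsg.Agent.MinSimple.TvMod

variable {M : Type*} [CommGroup M]

/-- a 2-group acting on a nontrivial invariant subgroup of exponent 2 has a nontrivial fixed point there -/
theorem exists_fix' [Finite M] (hsq : ∀ m : M, m * m = 1) {B : Subgroup (MulAut M)}
    (hp : IsPGroup 2 B) {N : Subgroup M} (hN : ∀ b ∈ B, ∀ n ∈ N, b n ∈ N) (hN1 : N ≠ ⊥) :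
    ∃ n ∈ N, n ≠ 1 ∧ n ∈ fix B := by
  have hf : Fact (Nat.Prime 2) := ⟨Nat.prime_two⟩
  let _ : MulAction B N :=
    { smul := fun b n => ⟨(b : MulAut M) n, hN b b.2 n n.2⟩
      one_smul := fun n => rfl
      mul_smul := fun a b n => rfl }
  have h2 : 2 ∣ Nat.card N := by
    have hpN : IsPGroup 2 N := fun x => ⟨1, by
      rw [pow_one, pow_two]; exact Subtype.ext (hsq x)⟩
    obtain ⟨k, hk⟩ := IsPGroup.iff_card.mp hpN
    rw [hk]
    rcases k with _ | k
    · exact absurd ((card_eq_one).mp (by rw [hk, pow_zero])) hN1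
    · exact dvd_pow_self 2 (Nat.succ_ne_zero k)
  obtain ⟨n, hn, hn1⟩ := hp.exists_fixed_point_of_prime_dvd_card_of_fixed_point N h2
    (a := (1 : N)) (fun b => Subtype.ext (map_one (b : MulAut M)))
  exact ⟨n, n.2, fun e => hn1 (Subtype.ext e.symm), fun b hb => congrArg Subtype.val (hn ⟨b, hb⟩)⟩

/-- Thompson's `A × B` lemma: `y` of odd order commutes with the 2-group `B` and is trivial on `C_M(B)` -/
theorem axb [Finite M] (hsq : ∀ m : M, m * m = 1) {B : Subgroup (MulAut M)}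
    (hB : IsPGroup 2 B) {y : MulAut M} (hy : Odd (orderOf y)) (hc : ∀ b ∈ B, b * y = y * b)
    (hf : ∀ m ∈ fix B, y m = m) : y = 1 := by
  have h1 : (nm y).ker = ⊥ := by
    by_contra hne
    obtain ⟨n, hn, hn1, hnf⟩ := exists_fix' hsq hB (N := (nm y).ker) (fun b hb n hn => by
      rw [MonoidHom.mem_ker] at hn ⊢
      have hcomm : ∀ i : ℕ, (y ^ i : MulAut M) (b n) = b ((y ^ i : MulAut M) n) := by
        intro i
        have h2 : Commute b y := hc b hb
        have h3 : b * y ^ i = y ^ i * b := (h2.pow_right i).eq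
        calc (y ^ i : MulAut M) (b n) = (y ^ i * b) n := rfl
          _ = (b * y ^ i) n := by rw [h3]
          _ = _ := rfl
      rw [nm_apply] at hn ⊢
      rw [Finset.prod_congr rfl fun i _ => hcomm i, ← map_prod, hn, map_one]) hne
    have h2 := nm_of_fix hsq hy (hf n hnf)
    rw [MonoidHom.mem_ker.mp hn] at h2
    exact hn1 h2.symm
  ext m
  rw [MulAut.one_apply]
  have h2 : m⁻¹ * y m ∈ (nm y).ker := by
    rw [MonoidHom.mem_ker, map_mul, map_inv, nm_smul, inv_mul_cancel]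
  rw [h1, mem_bot] at h2
  exact (inv_mul_eq_one.mp h2).symm

end axb

variable {G : Type*} [Group G]

theorem comm_of_sq' {V : Subgroup G} (h : ∀ v ∈ V, v * v = 1) {a b : G} (ha : a ∈ V) (hb : b ∈ V) : a * b = b * a :=
  Four.comm_of_sq (V := V) (fun v hv => by rw [pow_two]; exact h v hv) ha hb

/-- the `A × B` lemma in a group -/
theorem axb_cent [Finite G] {Y R : Subgroup G} {g : G} (hsq : ∀ y ∈ Y, y * y = 1) (hR : R ≤ normalizer (Y : Set G))
    (hRp : ∀ r ∈ R, ∃ n : ℕ, r ^ 2 ^ n ∈ centralizer (Y : Set G)) (hg : g ∈ normalizer (Y : Set G))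
    (ho : Odd (orderOf g)) (hc : ∀ r ∈ R, g * r * g⁻¹ * r⁻¹ ∈ centralizer (Y : Set G))
    (hf : ∀ y ∈ Y, (∀ r ∈ R, r * y * r⁻¹ = y) → g * y * g⁻¹ = y) : g ∈ centralizer (Y : Set G) := by
  let _ : CommGroup Y := { (inferInstance : Group Y) with
    mul_comm := fun a b => Subtype.ext (comm_of_sq' hsq a.2 b.2) }
  let ρ : normalizer (Y : Set G) →* MulAut Y := Y.normalizerMonoidHom
  have hρ : ∀ (x : normalizer (Y : Set G)) (y : Y), ((ρ x y : Y) : G) = x * y * (x : G)⁻¹ := fun _ _ => rfl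
  have hmem : ∀ x : normalizer (Y : Set G), (x : G) ∈ centralizer (Y : Set G) ↔ ρ x = 1 := by
    intro x
    rw [Four.mem_cent_iff]
    constructor
    · intro h1
      ext y
      rw [hρ]
      exact h1 y y.2
    · intro h1 y hy
      have := hρ x ⟨y, hy⟩
      rw [h1] at this
      exact this.symm
  rw [show g = ((⟨g, hg⟩ : normalizer (Y : Set G)) : G) from rfl, hmem]
  refine axb (B := (R.subgroupOf (normalizer (Y : Set G))).map ρ) (fun m => Subtype.ext (hsq m m.2)) ?_ ?_ ?_ ?_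
  · rintro ⟨_, ⟨r, hr, rfl⟩⟩
    obtain ⟨n, hn⟩ := hRp r hr
    refine ⟨n, Subtype.ext ?_⟩
    change (ρ r) ^ 2 ^ n = 1
    rw [← map_pow, ← hmem]
    exact hn
  · refine Odd.of_dvd_nat ho ?_
    have h1 := orderOf_map_dvd ρ (⟨g, hg⟩ : normalizer (Y : Set G))
    rwa [Subgroup.orderOf_mk] at h1
  · rintro _ ⟨r, hr, rfl⟩
    have h1 := (hmem (⟨g, hg⟩ * r * ⟨g, hg⟩⁻¹ * r⁻¹)).1 (hc r hr)
    rw [map_mul, map_mul, map_mul, map_inv, map_inv] at h1
    have h2 := mul_inv_eq_one.1 h1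
    have h3 := mul_inv_eq_iff_eq_mul.1 h2
    exact h3.symm
  · intro m hm
    apply Subtype.ext
    rw [hρ]
    refine hf m m.2 fun r hr => ?_
    have h1 := hm (ρ ⟨r, hR hr⟩) ⟨_, hr, rfl⟩
    exact congrArg Subtype.val h1

/-- a normal subgroup all of whose elements of odd order lie in `D` -/
theorem decomp [Finite G] {X N D S : Subgroup G} (hNX : N ≤ X) (hN : X ≤ normalizer (N : Set G)) (hS : IsPGroup 2 S)
    (syl : ¬ 2 ∣ S.relIndex X) (hD : D ≤ N)
    (h : ∀ g ∈ N, Odd (orderOf g) → g ∈ D) : N ≤ D ⊔ (S ⊓ N) := by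
  have h2 := Cfsg.Agent.OddCyclic.Red.not_dvd_inf hS syl hNX hN
  set E := D ⊔ (S ⊓ N) with hE
  have hEN : E ≤ N := sup_le hD inf_le_right
  have h1 : E.relIndex N = 1 := by
    by_contra hne
    obtain ⟨p, hp, hpd⟩ := Nat.exists_prime_and_dvd hne
    rcases hp.eq_two_or_odd' with rfl | ho
    · exact h2 (hpd.trans (relIndex_dvd_of_le_left N le_sup_right))
    · have hf : Fact p.Prime := ⟨hp⟩
      obtain ⟨P⟩ : Nonempty (Sylow p N) := inferInstance
      have hPE : (P : Subgroup N) ≤ E.subgroupOf N := by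
        intro x hx
        rw [mem_subgroupOf]
        refine mem_sup_left (h x x.2 ?_)
        obtain ⟨k, hk⟩ := IsPGroup.iff_orderOf.1 P.isPGroup' ⟨x, hx⟩
        rw [Subgroup.orderOf_mk] at hk
        rw [orderOf_coe, hk]
        exact ho.pow
      have h3 : (E.subgroupOf N).index ∣ (P : Subgroup N).index := index_dvd_of_le hPE
      exact P.not_dvd_index (hpd.trans h3)
  exact relIndex_eq_one.1 h1

/-! ### the hypotheses -/

/-- the action of the 2-group `S` on the natural module `V`, `J = Z_J = C_V(B)`, `B = C_S(J)`, `q = r²` -/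
structure Fld (q r : ℕ) (J V S : Subgroup G) : Prop where
  rr : q = r * r
  four : 4 ≤ q
  sq : ∀ v ∈ V, v * v = 1
  cardV : Nat.card V = q * q
  cardJ : Nat.card J = q
  JV : J ≤ V
  VS : V ≤ S
  SV : S ≤ normalizer (V : Set G)
  SJ : S ≤ normalizer (J : Set G)
  two : IsPGroup 2 S
  /-- `C_V(b) = Z_J = [V, b]` for `b ∈ B - C(V)` -/
  cE : ∀ b ∈ S, b ∈ centralizer (J : Set G) → b ∉ centralizer (V : Set G) → ∀ v ∈ V, b * v = v * b → v ∈ J
  kE : ∀ b ∈ S, b ∈ centralizer (J : Set G) → b ∉ centralizer (V : Set G) → ∀ j ∈ J, ∃ v ∈ V, v * b * v⁻¹ * b⁻¹ = j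
  /-- the elements of field type -/
  cF : ∀ s ∈ S, s ∉ centralizer (J : Set G) → s * s ∈ centralizer (V : Set G) →
    Nat.card (V ⊓ centralizer {s} : Subgroup G) = q ∧ Nat.card (J ⊓ centralizer {s} : Subgroup G) = r ∧
      ∀ v ∈ V, s * v = v * s → ∃ u ∈ V, u * s * u⁻¹ * s⁻¹ = v
  /-- `S / B` is cyclic -/
  cyc : ∀ s ∈ S, ∀ t ∈ S, s ∉ centralizer (J : Set G) → t ∉ centralizer (J : Set G) →
    s * s ∈ centralizer (J : Set G) → t * t ∈ centralizer (J : Set G) → s * t ∈ centralizer (J : Set G)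
  /-- `|C_E(s)| = r` -/
  cEs : ∀ s ∈ S, s ∉ centralizer (J : Set G) → s * s ∈ centralizer (V : Set G) → ∀ A ≤ S,
    A ≤ centralizer (J : Set G) → (∀ a ∈ A, a * s * a⁻¹ * s⁻¹ ∈ centralizer (V : Set G)) →
      (A ⊓ centralizer (V : Set G)).relIndex A ≤ r
  /-- `C_{S/C_S(V)}(E) = E` -/
  self : ∀ s ∈ S, (∀ b ∈ S, b ∈ centralizer (J : Set G) → b * s * b⁻¹ * s⁻¹ ∈ centralizer (V : Set G)) →
    s ∈ centralizer (J : Set G)

/-- the configuration: `X = C_G(Z)` -/
structure Cfg (q r : ℕ) (Z J V S X : Subgroup G) : Prop extends Fld q r J V S where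
  XZ : X ≤ centralizer (Z : Set G)
  SX : S ≤ X
  syl : ¬ 2 ∣ S.relIndex X
  char2 : X ⊓ centralizer (o2 X : Set G) ≤ o2 X
  /-- `C_G(Z_J) ≤ M` -/
  CJ : X ⊓ centralizer (J : Set G) ≤ normalizer (V : Set G)
  /-- `Y_X = Z` -/
  red : ∀ Y ≤ X, X ≤ normalizer (Y : Set G) → (∀ y ∈ Y, y * y = 1) → ¬ Y ≤ Z →
    ∃ R ≤ X, X ≤ normalizer (R : Set G) ∧ (∀ r ∈ R, ∃ c ∈ centralizer (Y : Set G), ∃ s ∈ S, r = c * s) ∧
      ¬ R ≤ centralizer (Y : Set G)
  ex : ¬ S ≤ centralizer (J : Set G)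

/-! ### consequences of `Fld` -/

namespace Fld

variable [Finite G] {q r : ℕ} {J V S : Subgroup G} (h : Fld q r J V S)

include h

theorem centJ_norm {s : G} (hs : s ∈ S) {c : G} (hc : c ∈ centralizer (J : Set G)) :
    s * c * s⁻¹ ∈ centralizer (J : Set G) :=
  Four.conj_mem (Cfsg.Agent.MinSimple.DBlkReduce.nc J (h.SJ hs)) hc

omit [Finite G] in
theorem centV_le : centralizer (V : Set G) ≤ centralizer (J : Set G) := centralizer_le h.JV

omit [Finite G] in
theorem two_le : 2 ≤ r := by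
  have h1 := h.four
  rw [h.rr] at h1
  by_contra hcon
  have : r ≤ 1 := by omega
  nlinarith

/-- `A ≤ S` elementary abelian, not centralising `J` -/
theorem index_two {A : Subgroup G} (hA : A ≤ S) (hsq : ∀ a ∈ A, a * a = 1) {s : G} (hs : s ∈ A)
    (hsJ : s ∉ centralizer (J : Set G)) : (A ⊓ centralizer (J : Set G)).relIndex A = 2 := by
  rw [relIndex_eq_two_iff]
  refine ⟨s, hs, fun b hb => ?_⟩
  have hone : ∀ a ∈ A, a * a ∈ centralizer (J : Set G) := fun a ha => by rw [hsq a ha]; exact one_mem _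
  rw [xor_iff_iff_not]
  constructor
  · rintro ⟨-, h1⟩ ⟨-, h2⟩
    apply hsJ
    have := (centralizer (J : Set G)).mul_mem ((centralizer (J : Set G)).inv_mem h2) h1
    rwa [inv_mul_cancel_left] at this
  · intro h1
    have hb' : b ∉ centralizer (J : Set G) := fun h2 => h1 ⟨hb, h2⟩
    exact ⟨mul_mem hb hs, h.cyc b (hA hb) s (hA hs) hb' hsJ (hone b hb) (hone s hs)⟩

/-- `|A : C_A(V)| ≤ 2 r` -/
theorem relIndex_le {A : Subgroup G} (hA : A ≤ S) (hsq : ∀ a ∈ A, a * a = 1) {s : G} (hs : s ∈ A)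
    (hsJ : s ∉ centralizer (J : Set G)) : (A ⊓ centralizer (V : Set G)).relIndex A ≤ r * 2 := by
  have h1 := h.index_two hA hsq hs hsJ
  set A1 := A ⊓ centralizer (J : Set G) with hA1
  have h2 : (A1 ⊓ centralizer (V : Set G)).relIndex A1 ≤ r := by
    refine h.cEs s (hA hs) hsJ (by rw [hsq s hs]; exact one_mem _) A1 (inf_le_left.trans hA) inf_le_right ?_
    intro a ha
    have h3 : a * s * a⁻¹ * s⁻¹ = 1 := by
      rw [comm_of_sq' hsq ha.1 hs]
      group
    rw [h3]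
    exact one_mem _
  have h3 : A1 ⊓ centralizer (V : Set G) = A ⊓ centralizer (V : Set G) := by
    rw [hA1, inf_assoc, inf_eq_right.2 h.centV_le]
  rw [h3] at h2
  have h4 := relIndex_mul_relIndex (A ⊓ centralizer (V : Set G)) A1 A
    (inf_le_inf_left _ h.centV_le) inf_le_left
  rw [← h4, h1]
  exact Nat.mul_le_mul_right 2 h2

/-- `|A : C_A(V)| = 2` if `C_A(J)` centralises `V` -/
theorem relIndex_eq {A : Subgroup G} (hA : A ≤ S) (hsq : ∀ a ∈ A, a * a = 1) {s : G} (hs : s ∈ A)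
    (hsJ : s ∉ centralizer (J : Set G)) (hc : A ⊓ centralizer (J : Set G) ≤ centralizer (V : Set G)) :
    (A ⊓ centralizer (V : Set G)).relIndex A = 2 := by
  have h1 := h.index_two hA hsq hs hsJ
  have h3 : A ⊓ centralizer (J : Set G) = A ⊓ centralizer (V : Set G) :=
    le_antisymm (le_inf inf_le_left hc) (inf_le_inf_left _ h.centV_le)
  rwa [h3] at h1

end Fld

/-! ### (5.1) -/

namespace Cfg

variable [Finite G] {q r : ℕ} {Z J V S X : Subgroup G} (h : Cfg q r Z J V S X)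

include h

theorem Q_le : o2 X ≤ S := Cfsg.Agent.ZN.o2_le_of_sylow h.SX h.two h.syl

omit [Finite G] in
theorem VX : V ≤ X := h.VS.trans h.SX

theorem norm_Q {x : G} (hx : x ∈ X) {y : G} (hy : y ∈ o2 X) : x * y * x⁻¹ ∈ o2 X :=
  Four.conj_mem (Cfsg.Agent.ZN.le_normalizer_o2 X hx) hy

theorem norm_Q' {x : G} (hx : x ∈ X) {y : G} (hy : y ∈ o2 X) : x⁻¹ * y * x ∈ o2 X :=
  Four.conj_mem' (Cfsg.Agent.ZN.le_normalizer_o2 X hx) hy

theorem two_V : IsPGroup 2 V := h.two.to_le h.VS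

/-- a normal subgroup of `X` normalising `V` -/
theorem inf_le {R : Subgroup G} (hRX : R ≤ X) (hXR : X ≤ normalizer (R : Set G)) (hRV : R ≤ normalizer (V : Set G)) :
    V ⊓ R ≤ o2 X := by
  have h1 : V ⊓ R ≤ o2 R := by
    refine Cfsg.Agent.ZN.le_o2 inf_le_right (h.two_V.to_le inf_le_left) ?_
    exact le_trans (le_inf hRV le_normalizer) inf_normalizer_le_normalizer_inf
  refine h1.trans (Cfsg.Agent.ZN.le_o2 ((Cfsg.Agent.ZN.o2_le R).trans hRX) (ChoiceSit.isPGroup_o2 R) ?_)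
  exact hXR.trans (Cfsg.Agent.ZN.normalizer_le_normalizer_o2 R)

theorem exists_e (hV : ¬ V ≤ o2 X) : ∃ e ∈ o2 X, e ∈ centralizer (J : Set G) ∧ e ∉ centralizer (V : Set G) := by
  by_contra hcon
  push Not at hcon
  have h1 : ∀ s ∈ o2 X, s ∈ centralizer (J : Set G) := by
    intro s hs
    refine h.self s (h.Q_le hs) fun b hb hbJ => hcon _ ?_ ?_
    · exact mul_mem (h.norm_Q (h.SX hb) hs) (inv_mem hs)
    · have h2 := h.centJ_norm (h.Q_le hs) (inv_mem hbJ)
      have h3 := mul_mem hbJ h2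
      have e : b * (s * b⁻¹ * s⁻¹) = b * s * b⁻¹ * s⁻¹ := by group
      rwa [e] at h3
  apply hV
  intro v hv
  refine h.char2 ⟨h.VX hv, ?_⟩
  change v ∈ centralizer (o2 X : Set G)
  rw [mem_centralizer_iff]
  intro s hs
  exact (mem_centralizer_iff.1 (hcon s hs (h1 s hs)) v hv).symm

/-- (5.1) -/
theorem J_le (hV : ¬ V ≤ o2 X) : J ≤ o2 X := by
  obtain ⟨e, he, heJ, heV⟩ := h.exists_e hV
  intro j hj
  obtain ⟨v, hv, rfl⟩ := h.kE e (h.Q_le he) heJ heV j hj
  exact mul_mem (h.norm_Q (h.VX hv) he) (inv_mem he)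

/-! ### (5.2) -/

theorem exists_move (hV : ¬ V ≤ o2 X) : ∃ x ∈ X, ∃ v ∈ V, v ∈ o2 X ∧ x * v * x⁻¹ ∉ centralizer (J : Set G) := by
  by_contra hcon
  push Not at hcon
  set D1 := nc X (V ⊓ o2 X) with hD1
  set Y := nc X J with hY
  have hJV0 : J ≤ V ⊓ o2 X := le_inf h.JV (h.J_le hV)
  have hD1Q : D1 ≤ o2 X := nc_le inf_le_right (Cfsg.Agent.ZN.le_normalizer_o2 X)
  have hXD : X ≤ normalizer (D1 : Set G) := le_normalizer_nc _ _
  have hXY : X ≤ normalizer (Y : Set G) := le_normalizer_nc _ _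
  have hYD : Y ≤ D1 := nc_le (hJV0.trans (le_nc _ _)) hXD
  have hD1J : D1 ≤ centralizer (J : Set G) := by
    rw [hD1, nc]
    refine iSup_le fun g => ?_
    rintro _ ⟨v, hv, rfl⟩
    exact hcon g g.2 v hv.1 hv.2
  have hYC : Y ≤ centralizer (D1 : Set G) :=
    nc_le (le_centralizer_iff.1 hD1J) (hXD.trans (Cfsg.Agent.MinSimple.DBlkReduce.nc D1))
  have hYcomm : ∀ a ∈ Y, ∀ b ∈ Y, a * b = b * a := fun a ha b hb =>
    mem_centralizer_iff.1 (hYC hb) a (hYD ha)
  have hYsq : ∀ y ∈ Y, y * y = 1 := by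
    let T : Subgroup G :=
      { carrier := {y | y ∈ Y ∧ y * y = 1}
        one_mem' := ⟨one_mem _, one_mul 1⟩
        mul_mem' := by
          rintro a b ⟨ha, ha1⟩ ⟨hb, hb1⟩
          refine ⟨mul_mem ha hb, ?_⟩
          calc a * b * (a * b) = a * (b * a) * b := by group
            _ = a * (a * b) * b := by rw [hYcomm b hb a ha]
            _ = (a * a) * (b * b) := by group
            _ = 1 := by rw [ha1, hb1, one_mul]
        inv_mem' := by
          rintro a ⟨ha, ha1⟩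
          refine ⟨inv_mem ha, ?_⟩
          rw [← mul_inv_rev, ha1, inv_one] }
    have hT : Y ≤ T := by
      refine nc_le (fun j hj => ⟨le_nc _ _ hj, h.sq j (h.JV hj)⟩) ?_
      intro x hx
      refine Cfsg.Agent.MinSimple.VModule.mem_normalizer_of_map_le ?_
      rintro _ ⟨y, ⟨hy, hy1⟩, rfl⟩
      refine ⟨Four.conj_mem (hXY hx) hy, ?_⟩
      change x * y * x⁻¹ * (x * y * x⁻¹) = 1
      calc x * y * x⁻¹ * (x * y * x⁻¹) = x * (y * y) * x⁻¹ := by group
        _ = 1 := by rw [hy1]; group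
    exact fun y hy => (hT hy).2
  have hYX : Y ≤ X := hYD.trans (hD1Q.trans (Cfsg.Agent.ZN.o2_le X))
  have hYZ : ¬ Y ≤ Z := by
    intro hcon2
    apply h.ex
    have h1 : J ≤ Z := (le_nc _ _).trans hcon2
    exact (h.SX.trans h.XZ).trans (centralizer_le h1)
  obtain ⟨R, hRX, hXR, hR, hRn⟩ := h.red Y hYX hXY hYsq hYZ
  have hJY : J ≤ Y := le_nc _ _
  have hCYV : ∀ c ∈ X, c ∈ centralizer (Y : Set G) → c ∈ normalizer (V : Set G) := fun c hcX hc =>
    h.CJ ⟨hcX, centralizer_le hJY hc⟩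
  have hRV : R ≤ normalizer (V : Set G) := by
    intro r hr
    obtain ⟨c, hc, s, hs, rfl⟩ := hR r hr
    have hcX : c ∈ X := by
      have := mul_mem (hRX hr) (inv_mem (h.SX hs))
      rwa [mul_inv_cancel_right] at this
    exact mul_mem (hCYV c hcX hc) (h.SV hs)
  have hVR0 : V ⊓ R ≤ o2 X := h.inf_le hRX hXR hRV
  have hXCY : X ≤ normalizer (centralizer (Y : Set G) : Set G) := hXY.trans (Cfsg.Agent.MinSimple.DBlkReduce.nc Y)
  have hVR : ∀ v ∈ V, ∀ r ∈ R, v * r * v⁻¹ * r⁻¹ ∈ centralizer (Y : Set G) := by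
    intro v hv r hr
    have h1 : v * r * v⁻¹ * r⁻¹ ∈ R := mul_mem (Four.conj_mem (hXR (h.VX hv)) hr) (inv_mem hr)
    have h2 : v * r * v⁻¹ * r⁻¹ ∈ V := by
      have := mul_mem hv (Four.conj_mem (hRV hr) (inv_mem hv))
      have e : v * (r * v⁻¹ * r⁻¹) = v * r * v⁻¹ * r⁻¹ := by group
      rwa [e] at this
    have h3 : v * r * v⁻¹ * r⁻¹ ∈ D1 := le_nc _ _ ⟨h2, hVR0 ⟨h2, h1⟩⟩
    exact le_centralizer_iff.1 hYC h3
  set NV := nc X V with hNV
  have hXNV : X ≤ normalizer (NV : Set G) := le_normalizer_nc _ _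
  have hNVX : NV ≤ X := nc_le h.VX le_normalizer
  have hkey : ∀ g ∈ NV, ∀ r ∈ R, g * r * g⁻¹ * r⁻¹ ∈ centralizer (Y : Set G) := by
    let P : Subgroup G :=
      { carrier := {g | g ∈ X ∧ ∀ r ∈ R, g * r * g⁻¹ * r⁻¹ ∈ centralizer (Y : Set G)}
        one_mem' := ⟨one_mem _, fun r _ => by simp⟩
        mul_mem' := by
          rintro a b ⟨ha, ha1⟩ ⟨hb, hb1⟩
          refine ⟨mul_mem ha hb, fun r hr => ?_⟩
          have e : a * b * r * (a * b)⁻¹ * r⁻¹ = (a * (b * r * b⁻¹ * r⁻¹) * a⁻¹) * (a * r * a⁻¹ * r⁻¹) := by group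
          rw [e]
          exact mul_mem (Four.conj_mem (hXCY ha) (hb1 r hr)) (ha1 r hr)
        inv_mem' := by
          rintro a ⟨ha, ha1⟩
          refine ⟨inv_mem ha, fun r hr => ?_⟩
          have e : a⁻¹ * r * a⁻¹⁻¹ * r⁻¹ = a⁻¹ * (a * r * a⁻¹ * r⁻¹)⁻¹ * a := by group
          rw [e]
          exact Four.conj_mem' (hXCY ha) (inv_mem (ha1 r hr)) }
    have hP : NV ≤ P := by
      refine nc_le (fun v hv => ⟨h.VX hv, hVR v hv⟩) ?_
      intro x hx
      refine Cfsg.Agent.MinSimple.VModule.mem_normalizer_of_map_le ?_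
      rintro _ ⟨g, ⟨hg, hg1⟩, rfl⟩
      refine ⟨mul_mem (mul_mem hx hg) (inv_mem hx), fun r hr => ?_⟩
      have h1 := hg1 _ (Four.conj_mem' (hXR hx) hr)
      have h2 := Four.conj_mem (hXCY hx) h1
      have e : x * (g * (x⁻¹ * r * x) * g⁻¹ * (x⁻¹ * r * x)⁻¹) * x⁻¹ = x * g * x⁻¹ * r * (x * g * x⁻¹)⁻¹ * r⁻¹ := by
        group
      rw [e] at h2
      exact h2
    exact fun g hg => (hP hg).2
  set YR := Y ⊓ centralizer (R : Set G) with hYR
  have hXYR : X ≤ normalizer (YR : Set G) :=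
    le_trans (le_inf hXY (hXR.trans (Cfsg.Agent.MinSimple.DBlkReduce.nc R))) inf_normalizer_le_normalizer_inf
  obtain ⟨y, hy, hyV⟩ : ∃ y ∈ YR, y ∉ centralizer (V : Set G) := by
    by_contra hcon2
    push Not at hcon2
    have h1 : NV ≤ centralizer (YR : Set G) :=
      nc_le (le_centralizer_iff.1 hcon2) (hXYR.trans (Cfsg.Agent.MinSimple.DBlkReduce.nc YR))
    have h2 : ∀ g ∈ NV, Odd (orderOf g) → g ∈ centralizer (Y : Set G) := by
      intro g hg ho
      refine axb_cent (R := R) hYsq (hRX.trans hXY) ?_ (hXY (hNVX hg)) ho (hkey g hg) ?_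
      · intro r hr
        obtain ⟨c, hc, s, hs, rfl⟩ := hR r hr
        obtain ⟨n, hn⟩ := h.two ⟨s, hs⟩
        have hn' : s ^ 2 ^ n = 1 := congrArg Subtype.val hn
        have hpow : ∀ m : ℕ, ∃ c' ∈ centralizer (Y : Set G), (c * s) ^ m = c' * s ^ m := by
          intro m
          induction m with
          | zero => exact ⟨1, one_mem _, by simp⟩
          | succ m ih =>
            obtain ⟨c', hc', he⟩ := ih
            refine ⟨c' * (s ^ m * c * (s ^ m)⁻¹),
              mul_mem hc' (Four.conj_mem (hXCY (X.pow_mem (h.SX hs) m)) hc), ?_⟩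
            rw [pow_succ, he, pow_succ]
            group
        obtain ⟨c', hc', he⟩ := hpow (2 ^ n)
        refine ⟨n, ?_⟩
        rw [he, hn', mul_one]
        exact hc'
      · intro y hy hfix
        have h3 : y ∈ YR := by
          refine ⟨hy, ?_⟩
          change y ∈ centralizer (R : Set G)
          rw [mem_centralizer_iff]
          exact fun r hr => Four.conj_eq_iff_comm.1 (hfix r hr)
        exact Four.mem_cent_iff.1 (h1 hg) y h3
    have h3 : NV ≤ (NV ⊓ centralizer (Y : Set G)) ⊔ (S ⊓ NV) :=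
      decomp hNVX hXNV h.two h.syl inf_le_left fun g hg ho => ⟨hg, h2 g hg ho⟩
    have h4 : NV ≤ normalizer (V : Set G) := by
      refine h3.trans (sup_le ?_ (inf_le_left.trans h.SV))
      intro g hg
      exact hCYV g (hNVX hg.1) hg.2
    have h5 := h.inf_le hNVX hXNV h4
    exact hV fun v hv => h5 ⟨hv, le_nc _ _ hv⟩
  have hyD : y ∈ D1 := hYD hy.1
  have hJR : J ≤ YR := by
    intro j hj
    obtain ⟨v, hv, rfl⟩ := h.kE y (h.Q_le (hD1Q hyD)) (hD1J hyD) hyV j hj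
    exact mul_mem (Four.conj_mem (hXYR (h.VX hv)) hy) (inv_mem hy)
  have h6 : Y ≤ centralizer (R : Set G) :=
    nc_le (hJR.trans inf_le_right) (hXR.trans (Cfsg.Agent.MinSimple.DBlkReduce.nc R))
  exact hRn (le_centralizer_iff.1 h6)

/-! ### (5.3) -/

/-- the elements `x⁻¹ u x`, `u ∈ V ∩ O₂(X)` -/
def bk (x : G) (W : Subgroup G) : Subgroup G := W.map (MulAut.conj x).toMonoidHom

omit h [Finite G] in
theorem mem_bk {x : G} {W : Subgroup G} {y : G} : y ∈ bk x W ↔ x⁻¹ * y * x ∈ W := by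
  constructor
  · rintro ⟨w, hw, rfl⟩
    have : x⁻¹ * (x * w * x⁻¹) * x = w := by group
    change x⁻¹ * (x * w * x⁻¹) * x ∈ W
    rwa [this]
  · intro h1
    refine ⟨_, h1, ?_⟩
    change x * (x⁻¹ * y * x) * x⁻¹ = y
    group

omit h [Finite G] in
theorem card_bk (x : G) (W : Subgroup G) : Nat.card (bk x W) = Nat.card W :=
  Nat.card_congr (W.equivMapOfInjective _ (MulAut.conj x).injective).symm.toEquiv

theorem bk_le {x : G} (hx : x ∈ X) : bk x (V ⊓ o2 X) ≤ S := by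
  rintro _ ⟨u, hu, rfl⟩
  exact h.Q_le (h.norm_Q hx hu.2)

theorem bk_sq {x : G} : ∀ a ∈ bk x (V ⊓ o2 X), a * a = 1 := by
  rintro _ ⟨u, hu, rfl⟩
  change x * u * x⁻¹ * (x * u * x⁻¹) = 1
  calc x * u * x⁻¹ * (x * u * x⁻¹) = x * (u * u) * x⁻¹ := by group
    _ = 1 := by rw [h.sq u hu.1]; group

/-- the upper bound -/
theorem card_le (hV : ¬ V ≤ o2 X) {x v : G} (hx : x ∈ X) (hv : v ∈ V) (hvQ : v ∈ o2 X)
    (hw : x * v * x⁻¹ ∉ centralizer (J : Set G))
    (hCw : V ⊓ centralizer {x * v * x⁻¹} ≤ o2 X) : Nat.card (V ⊓ o2 X : Subgroup G) ≤ r * r * 2 := by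
  set w := x * v * x⁻¹ with hwdef
  have hJQ := h.J_le hV
  have hr2 := h.two_le
  have hxi : x⁻¹ ∈ X := inv_mem hx
  set A := bk x (V ⊓ o2 X) with hA
  set B := bk x⁻¹ (V ⊓ o2 X) with hB
  have hAS : A ≤ S := h.bk_le hx
  have hBS : B ≤ S := h.bk_le hxi
  have hAsq : ∀ a ∈ A, a * a = 1 := h.bk_sq
  have hBsq : ∀ a ∈ B, a * a = 1 := h.bk_sq
  have hwA : w ∈ A := ⟨v, ⟨hv, hvQ⟩, rfl⟩
  have hwS : w ∈ S := hAS hwA
  have hwsq : w * w = 1 := hAsq w hwA
  have hcA : Nat.card A = Nat.card (V ⊓ o2 X : Subgroup G) := card_bk _ _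
  have hcB : Nat.card B = Nat.card (V ⊓ o2 X : Subgroup G) := card_bk _ _
  obtain ⟨hw1, hw2, -⟩ := h.cF w hwS hw (by rw [hwsq]; exact one_mem _)
  have hmulA : Nat.card (A ⊓ centralizer (V : Set G) : Subgroup G) * (A ⊓ centralizer (V : Set G)).relIndex A =
      Nat.card A := Cfsg.Agent.MinSimple.TvMod.card_mul_relIndex' inf_le_left
  have hmulB : Nat.card (B ⊓ centralizer (V : Set G) : Subgroup G) * (B ⊓ centralizer (V : Set G)).relIndex B =
      Nat.card B := Cfsg.Agent.MinSimple.TvMod.card_mul_relIndex' inf_le_left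
  -- `a = x u x⁻¹` commutes with `c` iff `u` commutes with `x⁻¹ c x`
  have hcomm : ∀ u c : G, (x⁻¹ * c * x) * u = u * (x⁻¹ * c * x) ↔ c * (x * u * x⁻¹) = (x * u * x⁻¹) * c := by
    intro u c
    constructor
    · intro h1
      calc c * (x * u * x⁻¹) = x * ((x⁻¹ * c * x) * u) * x⁻¹ := by group
        _ = x * (u * (x⁻¹ * c * x)) * x⁻¹ := by rw [h1]
        _ = _ := by group
    · intro h1
      calc (x⁻¹ * c * x) * u = x⁻¹ * (c * (x * u * x⁻¹)) * x := by group
        _ = x⁻¹ * ((x * u * x⁻¹) * c) * x := by rw [h1]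
        _ = _ := by group
  by_cases hcase : ∀ u ∈ V, u ∈ o2 X → x⁻¹ * u * x ∈ centralizer (J : Set G)
  · -- case 1
    obtain ⟨b, hbJ, hbw⟩ : ∃ b ∈ J, b * w ≠ w * b := by
      by_contra hcon
      push Not at hcon
      exact hw (mem_centralizer_iff.2 hcon)
    have hvJ : v ∉ J := by
      intro hvJ
      have h1 := hcase b (h.JV hbJ) (hJQ hbJ)
      have h2 := mem_centralizer_iff.1 h1 v hvJ
      exact hbw ((hcomm v b).1 h2.symm)
    have hc1 : ∀ c ∈ V, c * w = w * c → x⁻¹ * c * x ∈ centralizer (V : Set G) := by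
      intro c hc hcw
      have hcQ : c ∈ o2 X := hCw ⟨hc, mem_centralizer_singleton_iff.2 hcw⟩
      by_contra hcon
      refine hvJ (h.cE _ (h.Q_le (h.norm_Q' hx hcQ)) (hcase c hc hcQ) hcon v hv ?_)
      exact (hcomm v c).2 hcw
    have hc2 : A ⊓ centralizer (J : Set G) ≤ centralizer (V : Set G) := by
      rintro a ⟨⟨u, hu, rfl⟩, haJ⟩
      by_contra hcon
      have h1 : V ⊓ centralizer {w} ≤ J := by
        rintro c ⟨hc, hcw⟩
        have hcw' : c * w = w * c := mem_centralizer_singleton_iff.1 hcw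
        refine h.cE _ (hAS ⟨u, hu, rfl⟩) haJ hcon c hc ?_
        have h2 := mem_centralizer_iff.1 (hc1 c hc hcw') u hu.1
        exact ((hcomm u c).1 h2.symm).symm
      have h2 : V ⊓ centralizer {w} = J ⊓ centralizer {w} :=
        le_antisymm (le_inf h1 inf_le_right) (inf_le_inf_right _ h.JV)
      rw [h2, hw2] at hw1
      have h3 := h.rr
      rw [← hw1] at h3
      nlinarith
    have hi := h.relIndex_eq hAS hAsq hwA hw hc2
    -- `C_A(V) ≤ J^x`
    have hb' : x⁻¹ * b * x ∉ centralizer (V : Set G) := by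
      intro hcon
      have h1 := mem_centralizer_iff.1 hcon v hv
      exact hbw ((hcomm v b).1 h1.symm)
    have hle : A ⊓ centralizer (V : Set G) ≤ bk x J := by
      rintro a ⟨⟨u, hu, rfl⟩, haV⟩
      refine ⟨u, ?_, rfl⟩
      refine h.cE _ (h.Q_le (h.norm_Q' hx (hJQ hbJ))) (hcase b (h.JV hbJ) (hJQ hbJ)) hb' u hu.1 ?_
      exact (hcomm u b).2 (mem_centralizer_iff.1 haV b (h.JV hbJ))
    have h1 : Nat.card (A ⊓ centralizer (V : Set G) : Subgroup G) ≤ r * r := by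
      have := Subgroup.card_le_of_le hle
      rwa [card_bk, h.cardJ, h.rr] at this
    rw [← hcA, ← hmulA, hi]
    exact Nat.mul_le_mul_right 2 h1
  · -- case 2
    push Not at hcase
    obtain ⟨b, hb, hbQ, hb'⟩ := hcase
    set b' := x⁻¹ * b * x with hb'def
    have hb'B : b' ∈ B := by
      rw [hB, mem_bk, inv_inv]
      have : x * b' * x⁻¹ = b := by rw [hb'def]; group
      rw [this]
      exact ⟨hb, hbQ⟩
    obtain ⟨hb1, hb2, -⟩ := h.cF b' (hBS hb'B) hb' (by rw [hBsq b' hb'B]; exact one_mem _)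
    by_cases hc2 : A ⊓ centralizer (J : Set G) ≤ centralizer (V : Set G)
    · have hi := h.relIndex_eq hAS hAsq hwA hw hc2
      have hle : A ⊓ centralizer (V : Set G) ≤ bk x (V ⊓ centralizer {b'}) := by
        rintro a ⟨⟨u, hu, rfl⟩, haV⟩
        refine ⟨u, ⟨hu.1, ?_⟩, rfl⟩
        change u ∈ centralizer {b'}
        rw [mem_centralizer_singleton_iff]
        exact ((hcomm u b).2 (mem_centralizer_iff.1 haV b hb)).symm
      have h1 : Nat.card (A ⊓ centralizer (V : Set G) : Subgroup G) ≤ r * r := by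
        have := Subgroup.card_le_of_le hle
        rwa [card_bk, hb1, h.rr] at this
      rw [← hcA, ← hmulA, hi]
      exact Nat.mul_le_mul_right 2 h1
    · obtain ⟨a, ha, haV⟩ := SetLike.not_le_iff_exists.1 hc2
      have hle : B ⊓ centralizer (V : Set G) ≤ bk x⁻¹ (J ⊓ centralizer {w}) := by
        rintro c ⟨hcB, hcV⟩
        rw [mem_bk, inv_inv]
        have hcB2 : x * c * x⁻¹ ∈ V ⊓ o2 X := by
          have h0 : c ∈ bk x⁻¹ (V ⊓ o2 X) := hcB
          rw [mem_bk, inv_inv] at h0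
          exact h0
        have hcc : c ∈ centralizer (V : Set G) := hcV
        have hx2 : ∀ u ∈ V, (x * c * x⁻¹) * (x * u * x⁻¹) = (x * u * x⁻¹) * (x * c * x⁻¹) := by
          intro u hu
          have h1 := mem_centralizer_iff.1 hcc u hu
          calc (x * c * x⁻¹) * (x * u * x⁻¹) = x * (c * u) * x⁻¹ := by group
            _ = x * (u * c) * x⁻¹ := by rw [h1]
            _ = _ := by group
        refine ⟨?_, ?_⟩
        · obtain ⟨u, hu, rfl⟩ := ha.1
          exact h.cE _ (hAS ha.1) ha.2 haV _ hcB2.1 (hx2 u hu.1).symm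
        · change _ ∈ centralizer {w}
          rw [mem_centralizer_singleton_iff]
          exact hx2 v hv
      have h1 : Nat.card (B ⊓ centralizer (V : Set G) : Subgroup G) ≤ r := by
        have := Subgroup.card_le_of_le hle
        rwa [card_bk, hw2] at this
      have h2 := h.relIndex_le hBS hBsq hb'B hb'
      rw [← hcB, ← hmulB]
      calc Nat.card (B ⊓ centralizer (V : Set G) : Subgroup G) * (B ⊓ centralizer (V : Set G)).relIndex B
          ≤ r * (r * 2) := Nat.mul_le_mul h1 h2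
        _ = r * r * 2 := by ring

/-- **section 5**: `q = 4` and `V ∩ O₂(X) = [V, S]` of order 8 -/
theorem five (hV : ¬ V ≤ o2 X) : r = 2 ∧ q = 4 ∧ Nat.card (V ⊓ o2 X : Subgroup G) = 8 ∧
    V ⊓ o2 X = closure {w | ∃ v ∈ V, ∃ s ∈ S, w = v * s * v⁻¹ * s⁻¹} ∧
    ∃ x ∈ X, ∃ v ∈ V, v ∈ o2 X ∧ x * v * x⁻¹ ∉ centralizer (J : Set G) := by
  obtain ⟨x, hx, v, hv, hvQ, hw⟩ := h.exists_move hV
  have hJQ := h.J_le hV
  have hr2 := h.two_le
  set w := x * v * x⁻¹ with hwdef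
  have hwQ : w ∈ o2 X := h.norm_Q hx hvQ
  have hwS : w ∈ S := h.Q_le hwQ
  have hwsq : w * w = 1 := by
    calc w * w = x * (v * v) * x⁻¹ := by rw [hwdef]; group
      _ = 1 := by rw [h.sq v hv]; group
  obtain ⟨hw1, hw2, hw3⟩ := h.cF w hwS hw (by rw [hwsq]; exact one_mem _)
  have hCw : V ⊓ centralizer {w} ≤ o2 X := by
    rintro c ⟨hc, hcw⟩
    obtain ⟨u, hu, rfl⟩ := hw3 c hc (mem_centralizer_singleton_iff.1 hcw).symm
    exact mul_mem (h.norm_Q (h.VX hu) hwQ) (inv_mem hwQ)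
  have hup := h.card_le hV hx hv hvQ hw hCw
  -- the lower bound
  have hJ : J ⊔ (V ⊓ centralizer {w}) ≤ V ⊓ o2 X := sup_le (le_inf h.JV hJQ) (le_inf inf_le_left hCw)
  have hlow : Nat.card (J ⊔ (V ⊓ centralizer {w}) : Subgroup G) = r * r * r := by
    have h1 := Cfsg.Agent.ZN.Block.card_sup_mul_card_inf (H := J) (N := V ⊓ centralizer {w}) (by
      intro j hj
      rw [mem_normalizer_iff]
      intro c
      have hjc : ∀ c ∈ V, j * c * j⁻¹ = c := fun c hc =>
        Four.conj_eq_iff_comm.2 (comm_of_sq' h.sq (h.JV hj) hc)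
      constructor
      · intro hc
        rw [hjc c hc.1]
        exact hc
      · intro hc
        have hcV : c ∈ V := by
          have := mul_mem (mul_mem (inv_mem (h.JV hj)) hc.1) (h.JV hj)
          have e : j⁻¹ * (j * c * j⁻¹) * j = c := by group
          rwa [e] at this
        rw [hjc c hcV] at hc
        exact hc)
    have h2 : J ⊓ (V ⊓ centralizer {w}) = J ⊓ centralizer {w} := by
      rw [← inf_assoc, inf_eq_left.2 h.JV]
    rw [h2, hw2, h.cardJ, hw1, h.rr] at h1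
    have h3 : Nat.card (J ⊔ (V ⊓ centralizer {w}) : Subgroup G) * r = r * r * r * r := by rw [h1]; ring
    exact Nat.eq_of_mul_eq_mul_right (by omega) h3
  have h1 := Subgroup.card_le_of_le hJ
  rw [hlow] at h1
  have hr : r = 2 := by
    have h2 := h1.trans hup
    have h3 : r ≤ 2 := by
      by_contra hcon
      have h4 : 3 ≤ r := by omega
      nlinarith
    omega
  have hq : q = 4 := by rw [h.rr, hr]
  have hc8 : Nat.card (V ⊓ o2 X : Subgroup G) = 8 := by
    rw [hr] at h1 hup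
    omega
  refine ⟨hr, hq, hc8, ?_, x, hx, v, hv, hvQ, hw⟩
  have heq : J ⊔ (V ⊓ centralizer {w}) = V ⊓ o2 X :=
    Subgroup.eq_of_le_of_card_ge hJ (by rw [hlow, hc8, hr])
  apply le_antisymm
  · rw [← heq]
    refine sup_le ?_ ?_
    · obtain ⟨e, he, heJ, heV⟩ := h.exists_e hV
      intro j hj
      obtain ⟨u, hu, rfl⟩ := h.kE e (h.Q_le he) heJ heV j hj
      exact subset_closure ⟨u, hu, e, h.Q_le he, rfl⟩
    · rintro c ⟨hc, hcw⟩
      obtain ⟨u, hu, rfl⟩ := hw3 c hc (mem_centralizer_singleton_iff.1 hcw).symm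
      exact subset_closure ⟨u, hu, w, hwS, rfl⟩
  · rw [closure_le]
    rintro _ ⟨u, hu, s, hs, rfl⟩
    have hidx : (V ⊓ o2 X).relIndex V = 2 := by
      have h2 : Nat.card (V ⊓ o2 X : Subgroup G) * (V ⊓ o2 X).relIndex V = Nat.card V :=
        Cfsg.Agent.MinSimple.TvMod.card_mul_relIndex' inf_le_left
      rw [hc8, h.cardV, hq] at h2
      omega
    obtain ⟨a, ha, hx2⟩ := relIndex_eq_two_iff.1 hidx
    have hsu : s * u⁻¹ * s⁻¹ ∈ V := Four.conj_mem (h.SV hs) (inv_mem hu)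
    have hiff : s * u⁻¹ * s⁻¹ ∈ V ⊓ o2 X ↔ u ∈ V ⊓ o2 X := by
      constructor
      · rintro ⟨-, h2⟩
        refine ⟨hu, ?_⟩
        have h3 := inv_mem (h.norm_Q' (h.SX hs) h2)
        have e : (s⁻¹ * (s * u⁻¹ * s⁻¹) * s)⁻¹ = u := by group
        rwa [e] at h3
      · rintro ⟨-, h2⟩
        exact ⟨hsu, h.norm_Q (h.SX hs) (inv_mem h2)⟩
    have e : u * s * u⁻¹ * s⁻¹ = u * (s * u⁻¹ * s⁻¹) := by group
    rw [e]
    by_cases hu2 : u ∈ V ⊓ o2 X
    · exact mul_mem hu2 (hiff.2 hu2)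
    · have hu3 : s * u⁻¹ * s⁻¹ ∉ V ⊓ o2 X := fun hcon => hu2 (hiff.1 hcon)
      have h4 : u * a ∈ V ⊓ o2 X := by
        have := hx2 u hu
        rw [xor_iff_iff_not] at this
        exact this.2 hu2
      have h5 : s * u⁻¹ * s⁻¹ * a ∈ V ⊓ o2 X := by
        have := hx2 _ hsu
        rw [xor_iff_iff_not] at this
        exact this.2 hu3
      have h6 := mul_mem h4 h5
      have ha2 : a * a = 1 := h.sq a ha
      have e2 : u * a * (s * u⁻¹ * s⁻¹ * a) = u * (s * u⁻¹ * s⁻¹) := by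
        rw [comm_of_sq' h.sq hsu ha]
        calc u * a * (a * (s * u⁻¹ * s⁻¹)) = u * (a * a) * (s * u⁻¹ * s⁻¹) := by group
          _ = _ := by rw [ha2, mul_one]
      rwa [e2] at h6

end Cfg

end Cfsg.Agent.OddCyclic.Eq.SecFive
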