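import Cfsg.Agent.OddCyclic.Eq.BaseTwo
import Cfsg.Agent.OddCyclic.Eq.SecFive

/-!
# (E_q) of `T_cyc`: (0.3), elements of field type

Coordinates with `e 1 0 ∈ Ω₁Z(S)`: `s ∈ S` acts as `e x y ↦ e (σ x + b σ y) (d σ y)`.
* `exists_norm`: normalised coordinates;
* `fld`: `SecFive.Fld q r Z_J V S`, if `S` does not centralise `Z_J`.
-/

set_option autoImplicit false

namespace Cfsg.Agent.OddCyclic.Eq.Base

open Subgroup Cfsg Cfsg.Agent.ZN Cfsg.Agent.OddCyclic.COneBlk
open Cfsg.Agent.OddCyclic.COneDefs (LBlk)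
open Cfsg.Agent.OddCyclic.T1Sl2 (up dg ww)
open Cfsg.Agent.OddCyclic.T1Defs (OddCyc)
open Cfsg.Agent.OddCyclic.RedU (EqOne)
open Cfsg.Agent.OddCyclic.CompStandard (mem_normalizer_of_forall)
open Matrix (SpecialLinearGroup)

universe u

variable {G : Type u} [Group G] [Finite G] {S : Sylow 2 G} {L V : Subgroup G} {q : ℕ}

section

variable {F : Type} [Field F] [Fintype F] [CharP F 2] {e : F → F → G} {φ : L →* SpecialLinearGroup (Fin 2) F}

omit [Finite G] in
/-- scaling the coordinates -/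
theorem Co.scale {B : Subgroup G} (c : Co B L V e φ) {z : F} (hz : z ≠ 0) :
    Co B L V (fun x y => e (z * x) (z * y)) φ where
  add x y x' y' := by
    show e (z * (x + x')) (z * (y + y')) = _
    rw [mul_add, mul_add, c.add]
  inj x y hxy := by
    obtain ⟨h1, h2⟩ := c.inj _ _ hxy
    exact ⟨(mul_eq_zero.mp h1).resolve_left hz, (mul_eq_zero.mp h2).resolve_left hz⟩
  mem g := by
    rw [c.mem]
    constructor
    · rintro ⟨x, y, rfl⟩
      refine ⟨z⁻¹ * x, z⁻¹ * y, ?_⟩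
      show _ = e (z * (z⁻¹ * x)) (z * (z⁻¹ * y))
      rw [mul_inv_cancel_left₀ hz, mul_inv_cancel_left₀ hz]
    · rintro ⟨x, y, rfl⟩
      exact ⟨_, _, rfl⟩
  surj := c.surj
  ker := c.ker
  memB := c.memB
  act l x y := by
    show (l : G) * e (z * x) (z * y) * (l : G)⁻¹ = e (z * _) (z * _)
    rw [c.act]
    congr 1 <;> ring
  le := c.le

omit [Finite G] in
theorem Co.card {B : Subgroup G} (c : Co B L V e φ) : Nat.card V = Fintype.card F * Fintype.card F := by
  rw [← Fintype.card_prod, ← Nat.card_eq_fintype_card]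
  symm
  refine Nat.card_congr (Equiv.ofBijective (fun p : F × F => (⟨e p.1 p.2, c.eM _ _⟩ : V)) ⟨?_, ?_⟩)
  · intro p p' hp
    obtain ⟨h1, h2⟩ := c.ext (congrArg Subtype.val hp)
    exact Prod.ext h1 h2
  · rintro ⟨v, hv⟩
    obtain ⟨x, y, rfl⟩ := (c.mem v).mp hv
    exact ⟨(x, y), rfl⟩

end

omit [Finite G] in
theorem bau_ne_bot (h : EqOne S L V q) : bau (S : Subgroup G) ≠ ⊥ := by
  intro h1
  have h2 := h.card_zc
  have h3 : zc (bau (S : Subgroup G)) ≤ bau (S : Subgroup G) := fun x hx => (ChoiceBase.mem_zc.mp hx).1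
  rw [h1, le_bot_iff] at h3
  rw [h1, h3, card_bot] at h2
  have := h.blk.four
  omega

omit [Finite G] in
theorem S_ne_bot (h : EqOne S L V q) : (S : Subgroup G) ≠ ⊥ := by
  intro h1
  apply bau_ne_bot h
  have h2 := ChoiceBase.bau_le (S : Subgroup G)
  rw [h1, le_bot_iff] at h2
  rw [h1]; exact h2

theorem zcS_le (_ : EqOne S L V q) : zc (S : Subgroup G) ≤ zc (bau (S : Subgroup G)) := by
  rw [ChoiceBase.zc_bau]; exact ChoiceBase.zc_le_zj _

theorem exists_ne_zcS (h : EqOne S L V q) : ∃ z ∈ zc (S : Subgroup G), z ≠ 1 := by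
  by_contra hcon
  push Not at hcon
  exact ChoiceSit.zc_ne_bot S.isPGroup' (S_ne_bot h) ((Subgroup.eq_bot_iff_forall _).mpr hcon)

/-- **normalised coordinates**: `e 1 0 ∈ Ω₁Z(S)` -/
theorem exists_norm (h : EqOne S L V q) {z : G} (hz : z ∈ zc (S : Subgroup G)) (hz1 : z ≠ 1) :
    ∃ (F : Type) (_ : Field F) (_ : Fintype F) (_ : CharP F 2) (e : F → F → G)
      (φ : L →* SpecialLinearGroup (Fin 2) F), Fintype.card F = q ∧ Co (bau (S : Subgroup G)) L V e φ ∧ e 1 0 = z := by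
  obtain ⟨F, _, _, _, e, φ, hq, c⟩ := exists_co_of h
  obtain ⟨z₀, rfl⟩ := (mem_zc h c).mp (zcS_le h hz)
  have hz0 : z₀ ≠ 0 := by
    rintro rfl
    exact hz1 c.zero
  refine ⟨F, inferInstance, inferInstance, inferInstance, _, φ, hq, c.scale hz0, ?_⟩
  show e (z₀ * 1) (z₀ * 0) = e z₀ 0
  rw [mul_one, mul_zero]

section

variable {F : Type} [Field F] [Fintype F] [CharP F 2] {e : F → F → G} {φ : L →* SpecialLinearGroup (Fin 2) F}

/-- the action of an element of `N(V)` fixing `e 1 0` -/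
theorem exists_sig (h : EqOne S L V q) (c : Co (bau (S : Subgroup G)) L V e φ) {m : G}
    (hm : m ∈ normalizer (V : Set G)) (h1 : m * e 1 0 = e 1 0 * m) : ∃ (σ : RingAut F) (b d : F), d ≠ 0 ∧
      ∀ x y, m * e x y * m⁻¹ = e (σ x + b * σ y) (d * σ y) := by
  obtain ⟨σ, a, b, c', d, hdet, hs⟩ := semi h c hm
  have h2 := hs 1 0
  rw [map_zero, mul_zero, mul_zero, add_zero, add_zero, map_one, mul_one, mul_one, h1, mul_inv_cancel_right] at h2
  obtain ⟨h3, h4⟩ := c.ext h2
  refine ⟨σ, b, d, ?_, fun x y => ?_⟩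
  · rintro rfl
    apply hdet
    rw [← h4, mul_zero, mul_zero, add_zero]
  · rw [hs, ← h3, ← h4, one_mul, zero_mul, zero_add]

omit [Finite G] in
/-- `m ∈ C(V)` in coordinates -/
theorem Co.mem_cent {B : Subgroup G} (c : Co B L V e φ) {m : G} :
    m ∈ centralizer (V : Set G) ↔ ∀ x y, m * e x y * m⁻¹ = e x y := by
  rw [mem_centralizer_iff]
  constructor
  · intro h1 x y
    rw [← h1 _ (c.eM x y), mul_inv_cancel_right]
  · intro h1 v hv
    obtain ⟨x, y, rfl⟩ := (c.mem v).mp hv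
    calc e x y * m = (m * e x y * m⁻¹) * m := by rw [h1]
      _ = m * e x y := by group

omit [Finite G] in
/-- `m ∈ C(Z_J)` in coordinates -/
theorem mem_cent_zc (h : EqOne S L V q) (c : Co (bau (S : Subgroup G)) L V e φ) {m : G} :
    m ∈ centralizer (zc (bau (S : Subgroup G)) : Set G) ↔ ∀ x, m * e x 0 * m⁻¹ = e x 0 := by
  rw [mem_centralizer_iff]
  constructor
  · intro h1 x
    rw [← h1 _ ((mem_zc h c).mpr ⟨x, rfl⟩), mul_inv_cancel_right]
  · intro h1 v hv
    obtain ⟨x, rfl⟩ := (mem_zc h c).mp hv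
    calc e x 0 * m = (m * e x 0 * m⁻¹) * m := by rw [h1]
      _ = m * e x 0 := by group

theorem mem_bau_iff {s : G} : s ∈ bau (S : Subgroup G) ↔ s ∈ (S : Subgroup G) ∧
    s ∈ centralizer (zc (bau (S : Subgroup G)) : Set G) := by
  rw [ChoiceBase.zc_bau]; exact Iff.rfl

end

/-! ### involutory automorphisms of a finite field of characteristic 2 -/

section field

variable {F : Type} [Field F] [Fintype F] [CharP F 2]

omit [Fintype F] in
/-- the trace of an involutory automorphism represents 1 -/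
theorem exists_trace {σ : RingAut F} (h1 : σ ≠ 1) (h2 : ∀ x, σ (σ x) = x) : ∃ l, l + σ l = 1 := by
  obtain ⟨l, hl⟩ : ∃ l, σ l ≠ l := by
    by_contra hcon
    push Not at hcon
    exact h1 (RingEquiv.ext hcon)
  have ht : l + σ l ≠ 0 := fun h3 => hl (CharTwo.add_eq_zero.mp h3).symm
  have hst : σ (l + σ l) = l + σ l := by rw [map_add, h2, add_comm]
  refine ⟨l / (l + σ l), ?_⟩
  rw [map_div₀, hst, ← add_div, div_self ht]

/-- `|F| = |F_σ|²` -/
theorem card_fix {σ : RingAut F} (h1 : σ ≠ 1) (h2 : ∀ x, σ (σ x) = x) :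
    Fintype.card F = Nat.card {x : F // σ x = x} * Nat.card {x : F // σ x = x} := by
  let f : F →+ F := AddMonoidHom.id F + (σ : F ≃+* F).toAddEquiv.toAddMonoidHom
  have hf : ∀ x, f x = x + σ x := fun _ => rfl
  obtain ⟨l, hl⟩ := exists_trace h1 h2
  have hk : ∀ x, x ∈ f.ker ↔ σ x = x := by
    intro x
    rw [AddMonoidHom.mem_ker, hf]
    constructor
    · intro h3; exact (CharTwo.add_eq_zero.mp h3).symm
    · intro h3; rw [h3]; exact CharTwo.add_self_eq_zero x
  have hr : ∀ x, x ∈ f.range ↔ σ x = x := by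
    intro x
    rw [AddMonoidHom.mem_range]
    constructor
    · rintro ⟨y, rfl⟩
      rw [hf, map_add, h2, add_comm]
    · intro h3
      refine ⟨l * x, ?_⟩
      rw [hf, map_mul, h3, ← add_mul, hl, one_mul]
  have e1 : Nat.card f.ker = Nat.card {x : F // σ x = x} := Nat.card_congr (Equiv.subtypeEquivRight hk)
  have e2 : Nat.card f.range = Nat.card {x : F // σ x = x} := Nat.card_congr (Equiv.subtypeEquivRight hr)
  have h3 := AddSubgroup.card_mul_index f.ker
  rw [AddSubgroup.index_ker, e1, e2, Nat.card_eq_fintype_card (α := F)] at h3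
  exact h3.symm

/-- the involutory automorphism is unique -/
theorem invol_unique {σ τ : RingAut F} (h1 : σ ≠ 1) (h2 : ∀ x, σ (σ x) = x) (h3 : τ ≠ 1) (h4 : ∀ x, τ (τ x) = x) :
    σ = τ := by
  classical
  -- both fix the elements with `x ^ r = x`
  have key : ∀ {ρ : RingAut F}, ρ ≠ 1 → (∀ x, ρ (ρ x) = x) → ∀ r : ℕ, Fintype.card F = r * r → ∀ x, ρ x = x ↔ x ^ r = x := by
    intro ρ h5 h6 r hr
    have h7 := card_fix h5 h6
    have hr' : Nat.card {x : F // ρ x = x} = r := by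
      rw [hr] at h7
      exact (Nat.mul_self_inj.mp h7).symm
    have hr1 : 1 < r := by
      rcases Nat.lt_or_ge 1 r with h8 | h8
      · exact h8
      · have h9 : 1 < Fintype.card F := Fintype.one_lt_card
        rw [hr] at h9
        nlinarith
    let K : Subfield F :=
      { carrier := {x | ρ x = x}
        mul_mem' := by
          intro a b ha hb
          show ρ (a * b) = a * b
          rw [map_mul, show ρ a = a from ha, show ρ b = b from hb]
        one_mem' := map_one ρ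
        add_mem' := by
          intro a b ha hb
          show ρ (a + b) = a + b
          rw [map_add, show ρ a = a from ha, show ρ b = b from hb]
        zero_mem' := map_zero ρ
        neg_mem' := by
          intro a ha
          show ρ (-a) = -a
          rw [map_neg, show ρ a = a from ha]
        inv_mem' := by
          intro a ha
          show ρ a⁻¹ = a⁻¹
          rw [map_inv₀, show ρ a = a from ha] }
    have hK : Nat.card K = r := hr'
    have hKf : Fintype K := Fintype.ofFinite K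
    have hK2 : Fintype.card K = r := by rw [← hK, Nat.card_eq_fintype_card]
    have hsub : ∀ x, ρ x = x → x ^ r = x := by
      intro x hx
      have h8 := FiniteField.pow_card (⟨x, hx⟩ : K)
      rw [hK2] at h8
      exact congrArg Subtype.val h8
    intro x
    refine ⟨hsub x, fun hx => ?_⟩
    -- the polynomial `X ^ r - X` has at most `r` roots
    have h8 : (Polynomial.X ^ r - Polynomial.X : Polynomial F) ≠ 0 := FiniteField.X_pow_card_sub_X_ne_zero F hr1
    have h9 := Polynomial.card_roots' (Polynomial.X ^ r - Polynomial.X : Polynomial F)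
    rw [FiniteField.X_pow_card_sub_X_natDegree_eq F hr1] at h9
    let T : Finset F := Finset.univ.filter (fun y => ρ y = y)
    have hT : T.card = r := by
      rw [← hr', Nat.card_eq_fintype_card, Fintype.card_subtype]
    have hTR : T ⊆ (Polynomial.X ^ r - Polynomial.X : Polynomial F).roots.toFinset := by
      intro y hy
      rw [Multiset.mem_toFinset, Polynomial.mem_roots h8, Polynomial.IsRoot, Polynomial.eval_sub, Polynomial.eval_pow,
        Polynomial.eval_X, sub_eq_zero]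
      exact hsub y (Finset.mem_filter.mp hy).2
    have h10 : (Polynomial.X ^ r - Polynomial.X : Polynomial F).roots.toFinset.card ≤ T.card := by
      rw [hT]
      exact (Multiset.toFinset_card_le _).trans h9
    have h11 := Finset.eq_of_subset_of_card_le hTR h10
    have h12 : x ∈ T := by
      rw [h11, Multiset.mem_toFinset, Polynomial.mem_roots h8, Polynomial.IsRoot, Polynomial.eval_sub,
        Polynomial.eval_pow, Polynomial.eval_X, sub_eq_zero]
      exact hx
    exact (Finset.mem_filter.mp h12).2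
  have hr := card_fix h1 h2
  set r := Nat.card {x : F // σ x = x} with hrdef
  have hfix : ∀ x, σ x = x → τ x = x := fun x hx => (key h3 h4 r hr x).mpr ((key h1 h2 r hr x).mp hx)
  have hmem : τ ∈ zpowers σ := by
    apply artin
    intro x hx
    exact hfix x (hx σ (mem_zpowers σ))
  have hσ2 : σ * σ = 1 := RingEquiv.ext h2
  obtain ⟨n, hn⟩ := mem_zpowers_iff.mp hmem
  rcases Int.even_or_odd' n with ⟨k, hk | hk⟩
  · exfalso
    apply h3
    rw [← hn, hk, zpow_mul, zpow_ofNat, pow_two, hσ2, one_zpow]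
  · rw [← hn, hk, zpow_add, zpow_mul, zpow_ofNat, pow_two, hσ2, one_zpow, one_mul, zpow_one]

end field

/-! ### elements of `B` -/

section

variable {F : Type} [Field F] [Fintype F] [CharP F 2] {e : F → F → G} {φ : L →* SpecialLinearGroup (Fin 2) F}

omit [Finite G] in
/-- `C_V(b) ≤ Z_J` for `b ∈ B - C(V)` -/
theorem cE (h : EqOne S L V q) (c : Co (bau (S : Subgroup G)) L V e φ) {b : G} (hb : b ∈ bau (S : Subgroup G))
    (hbV : b ∉ centralizer (V : Set G)) {v : G} (hv : v ∈ V) (hc : b * v = v * b) : v ∈ zc (bau (S : Subgroup G)) := by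
  obtain ⟨t, ht⟩ := c.act_B hb
  obtain ⟨x, y, rfl⟩ := (c.mem v).mp hv
  have ht0 : t ≠ 0 := by
    rintro rfl
    apply hbV
    rw [c.mem_cent]
    intro x y
    rw [ht, zero_mul, add_zero]
  have h1 := ht x y
  rw [hc, mul_inv_cancel_right] at h1
  obtain ⟨h2, -⟩ := c.ext h1
  have h3 : t * y = 0 := by
    have : x + t * y = x + 0 := by rw [← h2, add_zero]
    exact add_left_cancel this
  rw [(mul_eq_zero.mp h3).resolve_left ht0]
  exact (mem_zc h c).mpr ⟨x, rfl⟩

omit [Finite G] in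
/-- `[V, b] = Z_J` for `b ∈ B - C(V)` -/
theorem kE (h : EqOne S L V q) (c : Co (bau (S : Subgroup G)) L V e φ) {b : G} (hb : b ∈ bau (S : Subgroup G))
    (hbV : b ∉ centralizer (V : Set G)) {j : G} (hj : j ∈ zc (bau (S : Subgroup G))) :
    ∃ v ∈ V, v * b * v⁻¹ * b⁻¹ = j := by
  obtain ⟨t, ht⟩ := c.act_B hb
  obtain ⟨x, rfl⟩ := (mem_zc h c).mp hj
  have ht0 : t ≠ 0 := by
    rintro rfl
    apply hbV
    rw [c.mem_cent]
    intro x y
    rw [ht, zero_mul, add_zero]
  refine ⟨e 0 (t⁻¹ * x), c.eM _ _, ?_⟩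
  have h1 := ht 0 (t⁻¹ * x)
  rw [zero_add, mul_inv_cancel_left₀ ht0] at h1
  have h2 : e 0 (t⁻¹ * x) * b * (e 0 (t⁻¹ * x))⁻¹ * b⁻¹ = e 0 (t⁻¹ * x) * (b * e 0 (t⁻¹ * x) * b⁻¹)⁻¹ := by group
  rw [h2, h1, inv_eq_of_mul_eq_one_right (c.sq x (t⁻¹ * x)), ← c.add, zero_add, CharTwo.add_self_eq_zero]

/-! ### elements of `S` -/

omit [Finite G] in
/-- `s` acts trivially on `Z_J` iff `σ = 1` -/
theorem sig_iff (h : EqOne S L V q) (c : Co (bau (S : Subgroup G)) L V e φ) {s : G} {σ : RingAut F} {b d : F}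
    (hs : ∀ x y, s * e x y * s⁻¹ = e (σ x + b * σ y) (d * σ y)) :
    s ∈ centralizer (zc (bau (S : Subgroup G)) : Set G) ↔ σ = 1 := by
  rw [mem_cent_zc h c]
  constructor
  · intro h1
    refine RingEquiv.ext fun x => ?_
    have h2 := hs x 0
    rw [h1, map_zero, mul_zero, mul_zero, add_zero] at h2
    exact (c.ext h2).1.symm
  · rintro rfl x
    rw [hs]
    show e (x + b * 0) (d * 0) = e x 0
    rw [mul_zero, mul_zero, add_zero]

omit [Finite G] [Fintype F] [CharP F 2] in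
/-- the square of an element of `N(V)` -/
theorem sig_sq {s : G} {σ : RingAut F} {b d : F}
    (hs : ∀ x y, s * e x y * s⁻¹ = e (σ x + b * σ y) (d * σ y)) (x y : F) :
    (s * s) * e x y * (s * s)⁻¹ = e (σ (σ x) + (σ b + b * σ d) * σ (σ y)) (d * σ d * σ (σ y)) := by
  have h1 : (s * s) * e x y * (s * s)⁻¹ = s * (s * e x y * s⁻¹) * s⁻¹ := by group
  rw [h1, hs, hs]
  congr 1
  · rw [map_add, map_mul, map_mul]; ring
  · rw [map_mul]; ring

omit [Finite G] in
theorem sq_of_sq {B : Subgroup G} (c : Co B L V e φ) {s : G} {σ : RingAut F} {b d : F}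
    (hs : ∀ x y, s * e x y * s⁻¹ = e (σ x + b * σ y) (d * σ y)) (h2 : s * s ∈ centralizer (V : Set G)) :
    (∀ x, σ (σ x) = x) ∧ d * σ d = 1 ∧ σ b = b * σ d := by
  rw [c.mem_cent] at h2
  have h3 : ∀ x y, x = σ (σ x) + (σ b + b * σ d) * σ (σ y) ∧ y = d * σ d * σ (σ y) := by
    intro x y
    have h4 := sig_sq hs x y
    rw [h2] at h4
    exact c.ext h4
  have h4 : ∀ x, σ (σ x) = x := by
    intro x
    have := (h3 x 0).1
    rw [map_zero, map_zero, mul_zero, add_zero] at this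
    exact this.symm
  refine ⟨h4, ?_, ?_⟩
  · have := (h3 0 1).2
    rw [map_one, map_one, mul_one] at this
    exact this.symm
  · have := (h3 0 1).1
    rw [map_one, map_one, mul_one, map_zero, map_zero, zero_add] at this
    exact CharTwo.add_eq_zero.mp this.symm

omit [Finite G] in
/-- `|C_V(s)| = q` and `C_V(s) = [V, s]` for an involutory semilinear `s` -/
theorem field_V {B : Subgroup G} (c : Co B L V e φ) {s : G} {σ : RingAut F} {b d : F} (hσ : σ ≠ 1)
    (hs : ∀ x y, s * e x y * s⁻¹ = e (σ x + b * σ y) (d * σ y)) (h2 : s * s ∈ centralizer (V : Set G)) :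
    Nat.card (V ⊓ centralizer {s} : Subgroup G) = Fintype.card F ∧
      ∀ v ∈ V, s * v = v * s → ∃ u ∈ V, u * s * u⁻¹ * s⁻¹ = v := by
  obtain ⟨hσ2, -, -⟩ := sq_of_sq c hs h2
  obtain ⟨l, hl⟩ := exists_trace hσ hσ2
  have hV : ∀ v ∈ V, s * v * s⁻¹ ∈ V := by
    intro v hv
    obtain ⟨x, y, rfl⟩ := (c.mem v).mp hv
    rw [hs]; exact c.eM _ _
  have hss : ∀ v ∈ V, s * (s * v * s⁻¹) * s⁻¹ = v := by
    intro v hv
    calc s * (s * v * s⁻¹) * s⁻¹ = (s * s) * v * (s * s)⁻¹ := by group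
      _ = v * (s * s) * (s * s)⁻¹ := by rw [mem_centralizer_iff.mp h2 v hv]
      _ = v := by group
  have key : ∀ v ∈ V, s * v * s⁻¹ = v → ∃ u ∈ V, u * (s * u * s⁻¹) = v := by
    intro v hv hc
    obtain ⟨x, y, rfl⟩ := (c.mem v).mp hv
    rw [hs] at hc
    obtain ⟨h3, h4⟩ := c.ext hc
    refine ⟨e (l * x) (l * y), c.eM _ _, ?_⟩
    rw [hs, ← c.add]
    congr 1
    · calc l * x + (σ (l * x) + b * σ (l * y)) = l * x + σ l * (σ x + b * σ y) := by
            rw [map_mul, map_mul]; ring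
        _ = (l + σ l) * x := by rw [h3]; ring
        _ = x := by rw [hl, one_mul]
    · calc l * y + d * σ (l * y) = l * y + σ l * (d * σ y) := by rw [map_mul]; ring
        _ = (l + σ l) * y := by rw [h4]; ring
        _ = y := by rw [hl, one_mul]
  constructor
  · have hfin : Finite V := by
      apply Nat.finite_of_card_ne_zero
      rw [c.card]
      exact (Nat.mul_pos Fintype.card_pos Fintype.card_pos).ne'
    let N : V →* V := MonoidHom.mk' (fun v => ⟨v * (s * v * s⁻¹), mul_mem v.2 (hV v v.2)⟩) (by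
      rintro ⟨v, hv⟩ ⟨w, hw⟩
      apply Subtype.ext
      show v * w * (s * (v * w) * s⁻¹) = v * (s * v * s⁻¹) * (w * (s * w * s⁻¹))
      calc v * w * (s * (v * w) * s⁻¹) = v * (w * (s * v * s⁻¹)) * (s * w * s⁻¹) := by group
        _ = v * ((s * v * s⁻¹) * w) * (s * w * s⁻¹) := by rw [c.V_comm hw (hV v hv)]
        _ = _ := by group)
    have hN : ∀ v : V, ((N v : V) : G) = v * (s * v * s⁻¹) := fun _ => rfl
    have hk : ∀ v : V, v ∈ N.ker ↔ s * (v : G) * s⁻¹ = v := by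
      intro v
      rw [MonoidHom.mem_ker, ← OneMemClass.coe_eq_one, hN]
      constructor
      · intro h3
        have h4 := inv_eq_of_mul_eq_one_right h3
        rw [← h4]
        exact inv_eq_of_mul_eq_one_right (c.V_sq v.2)
      · intro h3
        rw [h3]; exact c.V_sq v.2
    have hr : ∀ v : V, v ∈ N.range ↔ s * (v : G) * s⁻¹ = v := by
      intro v
      rw [MonoidHom.mem_range]
      constructor
      · rintro ⟨w, rfl⟩
        rw [hN]
        have h3 := hss w w.2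
        calc s * (w * (s * w * s⁻¹)) * s⁻¹ = (s * w * s⁻¹) * (s * (s * w * s⁻¹) * s⁻¹) := by group
          _ = (s * w * s⁻¹) * w := by rw [h3]
          _ = w * (s * w * s⁻¹) := c.V_comm (hV w w.2) w.2
      · intro h3
        obtain ⟨u, hu, hu2⟩ := key v v.2 h3
        exact ⟨⟨u, hu⟩, Subtype.ext hu2⟩
    have e0 : Nat.card (V ⊓ centralizer {s} : Subgroup G) = Nat.card {v : V // s * (v : G) * s⁻¹ = v} := by
      refine Nat.card_congr ?_
      refine
        { toFun := fun v => ⟨⟨v, v.2.1⟩, ?_⟩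
          invFun := fun v => ⟨v.1, v.1.2, ?_⟩
          left_inv := fun v => rfl
          right_inv := fun v => rfl }
      · have h3 := mem_centralizer_iff.mp v.2.2 s rfl
        show s * (v : G) * s⁻¹ = v
        rw [h3, mul_inv_cancel_right]
      · refine mem_centralizer_iff.mpr ?_
        intro w hw
        rw [show w = s from hw]
        have h3 : s * ((v.1 : V) : G) * s⁻¹ = v.1 := v.2
        calc s * ((v.1 : V) : G) = (s * ((v.1 : V) : G) * s⁻¹) * s := by group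
          _ = (v.1 : V) * s := by rw [h3]
    have e1 : Nat.card N.ker = Nat.card {v : V // s * (v : G) * s⁻¹ = v} := Nat.card_congr (Equiv.subtypeEquivRight hk)
    have e2 : Nat.card N.range = Nat.card {v : V // s * (v : G) * s⁻¹ = v} :=
      Nat.card_congr (Equiv.subtypeEquivRight hr)
    have h3 := Subgroup.card_mul_index N.ker
    rw [Subgroup.index_ker, e1, e2, ← e0, c.card] at h3
    exact Nat.mul_self_inj.mp h3
  · intro v hv hc
    obtain ⟨u, hu, hu2⟩ := key v hv (by rw [hc, mul_inv_cancel_right])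
    refine ⟨u, hu, ?_⟩
    have h3 : s * u⁻¹ * s⁻¹ = s * u * s⁻¹ := by rw [inv_eq_of_mul_eq_one_right (c.V_sq hu)]
    calc u * s * u⁻¹ * s⁻¹ = u * (s * u⁻¹ * s⁻¹) := by group
      _ = v := by rw [h3, hu2]

omit [Finite G] in
/-- `|C_{Z_J}(s)| = |F_σ|` -/
theorem field_J (h : EqOne S L V q) (c : Co (bau (S : Subgroup G)) L V e φ) {s : G} {σ : RingAut F} {b d : F}
    (hs : ∀ x y, s * e x y * s⁻¹ = e (σ x + b * σ y) (d * σ y)) :
    Nat.card (zc (bau (S : Subgroup G)) ⊓ centralizer {s} : Subgroup G) = Nat.card {x : F // σ x = x} := by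
  symm
  have hx : ∀ x : F, s * e x 0 * s⁻¹ = e (σ x) 0 := by
    intro x
    rw [hs, map_zero, mul_zero, mul_zero, add_zero]
  refine Nat.card_congr (Equiv.ofBijective (fun x : {x : F // σ x = x} =>
    (⟨e x.1 0, (mem_zc h c).mpr ⟨_, rfl⟩, ?_⟩ : (zc (bau (S : Subgroup G)) ⊓ centralizer {s} : Subgroup G))) ⟨?_, ?_⟩)
  · refine mem_centralizer_iff.mpr ?_
    intro w hw
    rw [show w = s from hw]
    have h1 := hx x.1
    rw [x.2] at h1
    calc s * e x.1 0 = (s * e x.1 0 * s⁻¹) * s := by group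
      _ = e x.1 0 * s := by rw [h1]
  · rintro ⟨x, hx⟩ ⟨y, hy⟩ hxy
    exact Subtype.ext (c.ext (congrArg Subtype.val hxy)).1
  · rintro ⟨v, hv, hvc⟩
    obtain ⟨x, rfl⟩ := (mem_zc h c).mp hv
    have h1 := hx x
    rw [mem_centralizer_iff.mp hvc s rfl, mul_inv_cancel_right] at h1
    exact ⟨⟨x, (c.ext h1).1.symm⟩, rfl⟩

omit [Finite G] in
/-- `a` in `B`, `s` in `S` commute mod `C(V)` -/
theorem comm_mod {B : Subgroup G} (c : Co B L V e φ) {s a : G} {σ : RingAut F} {b d t : F}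
    (hs : ∀ x y, s * e x y * s⁻¹ = e (σ x + b * σ y) (d * σ y)) (ha : ∀ x y, a * e x y * a⁻¹ = e (x + t * y) y)
    (hc : a * s * a⁻¹ * s⁻¹ ∈ centralizer (V : Set G)) : σ t = d * t := by
  have h1 : (a * s) * e 0 1 * (a * s)⁻¹ = (s * a) * e 0 1 * (s * a)⁻¹ := by
    have h2 := mem_centralizer_iff.mp hc ((s * a) * e 0 1 * (s * a)⁻¹) (by
      have h3 : (s * a) * e 0 1 * (s * a)⁻¹ = s * (a * e 0 1 * a⁻¹) * s⁻¹ := by group
      rw [h3, ha, hs]; exact c.eM _ _)
    calc (a * s) * e 0 1 * (a * s)⁻¹ = (a * s * a⁻¹ * s⁻¹) * ((s * a) * e 0 1 * (s * a)⁻¹) * (a * s * a⁻¹ * s⁻¹)⁻¹ := by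
          group
      _ = _ := by rw [← h2, mul_inv_cancel_right]
  have h2 : (a * s) * e 0 1 * (a * s)⁻¹ = a * (s * e 0 1 * s⁻¹) * a⁻¹ := by group
  have h3 : (s * a) * e 0 1 * (s * a)⁻¹ = s * (a * e 0 1 * a⁻¹) * s⁻¹ := by group
  rw [h2, h3, hs, ha, ha, hs, map_one, mul_one, mul_one, map_zero, zero_add, zero_add, mul_one] at h1
  obtain ⟨h4, -⟩ := c.ext h1
  have h5 : t * d + b = σ t + b := by rw [← h4, add_comm]
  rw [← add_right_cancel h5, mul_comm]

omit [Finite G] in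
/-- `|C_E(s)| ≤ |F_σ|` -/
theorem cEs {B : Subgroup G} (c : Co B L V e φ) {s : G} {σ : RingAut F} {b d : F}
    (hs : ∀ x y, s * e x y * s⁻¹ = e (σ x + b * σ y) (d * σ y)) {A : Subgroup G} (hA : A ≤ B)
    (hc : ∀ a ∈ A, a * s * a⁻¹ * s⁻¹ ∈ centralizer (V : Set G)) :
    (A ⊓ centralizer (V : Set G)).relIndex A ≤ Nat.card {x : F // σ x = x} := by
  classical
  have h1 : ∀ a : A, ∃ t : F, (∀ x y, (a : G) * e x y * (a : G)⁻¹ = e (x + t * y) y) ∧ σ t = d * t := by
    intro a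
    obtain ⟨t, ht⟩ := c.act_B (hA a.2)
    exact ⟨t, ht, comm_mod c hs ht (hc a a.2)⟩
  choose t ht hst using h1
  -- a nonzero element
  obtain ⟨t₁, ht₁⟩ : ∃ t₁ : F, ∀ a : A, ∃ x : F, σ x = x ∧ t a = x * t₁ := by
    by_cases h0 : ∃ a : A, t a ≠ 0
    · obtain ⟨a₁, ha₁⟩ := h0
      refine ⟨t a₁, fun a => ⟨t a / t a₁, ?_, ?_⟩⟩
      · have hd : d ≠ 0 := by
          rintro rfl
          have h2 := hst a₁
          rw [zero_mul] at h2
          exact ha₁ (σ.injective (by rw [h2, map_zero]))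
        rw [map_div₀, hst, hst, mul_div_mul_left _ _ hd]
      · rw [div_mul_cancel₀ _ ha₁]
    · push Not at h0
      exact ⟨0, fun a => ⟨0, map_zero σ, by rw [h0, mul_zero]⟩⟩
  choose f hf hft using ht₁
  have h2 : (A ⊓ centralizer (V : Set G)).relIndex A = Nat.card (A ⧸ (A ⊓ centralizer (V : Set G)).subgroupOf A) := rfl
  rw [h2]
  refine Nat.card_le_card_of_injective
    (fun p : A ⧸ (A ⊓ centralizer (V : Set G)).subgroupOf A => (⟨f p.out, hf _⟩ : {x : F // σ x = x})) ?_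
  intro p p' hp
  have h3 : f p.out = f p'.out := congrArg Subtype.val hp
  have h4 : t p.out = t p'.out := by rw [hft, hft, h3]
  rw [← p.out_eq', ← p'.out_eq']
  refine QuotientGroup.eq.mpr ?_
  rw [mem_subgroupOf, mem_inf]
  refine ⟨SetLike.coe_mem _, ?_⟩
  rw [c.mem_cent]
  intro x y
  have h5 := ht p.out x y
  have h6 : ((p.out⁻¹ * p'.out : A) : G) * e x y * ((p.out⁻¹ * p'.out : A) : G)⁻¹ =
      (p.out : G)⁻¹ * ((p'.out : A) * e x y * ((p'.out : A) : G)⁻¹) * (p.out : G) := by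
    rw [Subgroup.coe_mul, Subgroup.coe_inv]; group
  rw [h6, ht, ← h4, ← h5]
  simp only [mul_assoc, inv_mul_cancel_left, inv_mul_cancel, mul_one]

end

/-! ### `Fld` -/

open Cfsg.Agent.OddCyclic.Eq.SecFive (Fld)

/-- **(0.3)** -/
theorem fld (h : EqOne S L V q) (hne : ¬ (S : Subgroup G) ≤ centralizer (zc (bau (S : Subgroup G)) : Set G)) :
    ∃ r, Fld q r (zc (bau (S : Subgroup G))) V S := by
  obtain ⟨z, hz, hz1⟩ := exists_ne_zcS h
  obtain ⟨F, _, _, _, e, φ, hq, c, he⟩ := exists_norm h hz hz1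
  have hSz : ∀ s ∈ (S : Subgroup G), s * e 1 0 = e 1 0 * s := by
    intro s hs
    rw [he]; exact (ChoiceBase.mem_zc.mp hz).2.2 s hs
  have hsig : ∀ s ∈ (S : Subgroup G), ∃ (σ : RingAut F) (b d : F), d ≠ 0 ∧
      ∀ x y, s * e x y * s⁻¹ = e (σ x + b * σ y) (d * σ y) := fun s hs => exists_sig h c (h.S_V hs) (hSz s hs)
  have hsqJ : ∀ {s : G} {σ : RingAut F} {b d : F}, (∀ x y, s * e x y * s⁻¹ = e (σ x + b * σ y) (d * σ y)) →
      s * s ∈ centralizer (zc (bau (S : Subgroup G)) : Set G) → ∀ x, σ (σ x) = x := by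
    intro s σ b d hs h2 x
    have h3 := sig_sq hs x 0
    rw [(mem_cent_zc h c).mp h2, map_zero, map_zero, mul_zero, mul_zero, add_zero] at h3
    exact (c.ext h3).1.symm
  -- an element of order 2 mod `C(Z_J)`
  obtain ⟨s₁, hs₁, hs₁J⟩ := Set.not_subset.mp hne
  obtain ⟨s₀, hs₀, hs₀J, hs₀2⟩ : ∃ s ∈ (S : Subgroup G), s ∉ centralizer (zc (bau (S : Subgroup G)) : Set G) ∧
      s * s ∈ centralizer (zc (bau (S : Subgroup G)) : Set G) := by
    classical
    have h1 : ∃ n : ℕ, s₁ ^ 2 ^ n ∈ centralizer (zc (bau (S : Subgroup G)) : Set G) := by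
      obtain ⟨n, hn⟩ := S.isPGroup' ⟨s₁, hs₁⟩
      have hn' : s₁ ^ 2 ^ n = 1 := congrArg Subtype.val hn
      exact ⟨n, by rw [hn']; exact one_mem _⟩
    obtain ⟨n, hn, hmin⟩ : ∃ n : ℕ, s₁ ^ 2 ^ n ∈ centralizer (zc (bau (S : Subgroup G)) : Set G) ∧
        ∀ m < n, s₁ ^ 2 ^ m ∉ centralizer (zc (bau (S : Subgroup G)) : Set G) :=
      ⟨Nat.find h1, Nat.find_spec h1, fun m hm => Nat.find_min h1 hm⟩
    rcases n with _ | n
    · rw [pow_zero, pow_one] at hn
      exact absurd hn hs₁J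
    · refine ⟨s₁ ^ 2 ^ n, pow_mem hs₁ _, hmin n (Nat.lt_succ_self n), ?_⟩
      rw [← pow_add, ← two_mul, ← pow_succ']
      exact hn
  obtain ⟨σ, b₀, d₀, -, hσ⟩ := hsig s₀ hs₀
  have hσ1 : σ ≠ 1 := fun h1 => hs₀J ((sig_iff h c hσ).mpr h1)
  have hσ2 : ∀ x, σ (σ x) = x := hsqJ hσ hs₀2
  have hcard := card_fix hσ1 hσ2
  have huniq : ∀ {s : G} {τ : RingAut F} {b d : F}, s ∉ centralizer (zc (bau (S : Subgroup G)) : Set G) →
      (∀ x y, s * e x y * s⁻¹ = e (τ x + b * τ y) (d * τ y)) →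
      s * s ∈ centralizer (zc (bau (S : Subgroup G)) : Set G) → τ = σ := by
    intro s τ b d h1 h2 h3
    exact invol_unique (fun h4 => h1 ((sig_iff h c h2).mpr h4)) (hsqJ h2 h3) hσ1 hσ2
  have hVJ : centralizer (V : Set G) ≤ centralizer (zc (bau (S : Subgroup G)) : Set G) := centralizer_le h.zc_le
  have hVS : V ≤ (S : Subgroup G) := by
    have h1 := COnePair.zl_le h.blk
    rw [h.zl_eq] at h1
    exact h1.trans (ChoiceBase.bau_le _)
  refine ⟨Nat.card {x : F // σ x = x}, ?_⟩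
  exact
  { rr := by rw [← hq, hcard]
    four := h.blk.four
    sq := h.sq
    cardV := by rw [h.card, pow_two]
    cardJ := h.card_zc
    JV := h.zc_le
    VS := hVS
    SV := h.S_V
    SJ := by
      rw [ChoiceBase.zc_bau]
      exact le_normalizer.trans (ChoiceBase.normalizer_le_of_cj (F := zj) ChoiceBase.zj_cj _)
    two := S.isPGroup'
    cE := fun b hb hbJ hbV v hv hc => cE h c (mem_bau_iff.mpr ⟨hb, hbJ⟩) hbV hv hc
    kE := fun b hb hbJ hbV j hj => kE h c (mem_bau_iff.mpr ⟨hb, hbJ⟩) hbV hj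
    cF := by
      intro s hs hsJ hs2
      obtain ⟨τ, b, d, -, hτ⟩ := hsig s hs
      obtain rfl := huniq hsJ hτ (hVJ hs2)
      obtain ⟨h1, h2⟩ := field_V c hσ1 hτ hs2
      exact ⟨by rw [h1, hq], field_J h c hτ, h2⟩
    cyc := by
      intro s hs t ht hsJ htJ hs2 ht2
      obtain ⟨τ, b, d, -, hτ⟩ := hsig s hs
      obtain rfl := huniq hsJ hτ hs2
      obtain ⟨ρ, b', d', -, hρ⟩ := hsig t ht
      obtain rfl := huniq htJ hρ ht2
      rw [mem_cent_zc h c]
      intro x
      have h1 : s * t * e x 0 * (s * t)⁻¹ = s * (t * e x 0 * t⁻¹) * s⁻¹ := by group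
      rw [h1, hρ, map_zero, mul_zero, mul_zero, add_zero, hτ, map_zero, mul_zero, mul_zero, add_zero, hσ2]
    cEs := by
      intro s hs hsJ hs2 A hA hAJ hAs
      obtain ⟨τ, b, d, -, hτ⟩ := hsig s hs
      obtain rfl := huniq hsJ hτ (hVJ hs2)
      exact cEs c hτ (fun a ha => mem_bau_iff.mpr ⟨hA ha, hAJ ha⟩) hAs
    self := by
      intro s hs hsb
      obtain ⟨τ, b, d, -, hτ⟩ := hsig s hs
      rw [sig_iff h c hτ]
      have h1 : ∀ t : F, τ t = d * t := by
        intro t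
        obtain ⟨a, ha, hat⟩ := c.exists_up t
        have h2 := mem_bau_iff.mp ha
        exact comm_mod c hτ hat (hsb a h2.1 h2.2)
      have h2 : d = 1 := by
        have := h1 1
        rw [map_one, mul_one] at this
        exact this.symm
      refine RingEquiv.ext fun x => ?_
      rw [h1, h2, one_mul]
      rfl }

/-! ### more on `B` and the torus -/

section

variable {F : Type} [Field F] [Fintype F] [CharP F 2] {e : F → F → G} {φ : L →* SpecialLinearGroup (Fin 2) F}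

omit [Finite G] in
/-- `[V, B] ≤ Z_J` -/
theorem ccom (h : EqOne S L V q) (c : Co (bau (S : Subgroup G)) L V e φ) {b : G} (hb : b ∈ bau (S : Subgroup G))
    {v : G} (hv : v ∈ V) : v * b * v⁻¹ * b⁻¹ ∈ zc (bau (S : Subgroup G)) := by
  obtain ⟨t, ht⟩ := c.act_B hb
  obtain ⟨x, y, rfl⟩ := (c.mem v).mp hv
  have h2 : e x y * b * (e x y)⁻¹ * b⁻¹ = e x y * (b * e x y * b⁻¹)⁻¹ := by group
  rw [h2, ht, inv_eq_of_mul_eq_one_right (c.sq (x + t * y) y), ← c.add, CharTwo.add_self_eq_zero]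
  exact (mem_zc h c).mpr ⟨_, rfl⟩

omit [Finite G] in
/-- `|B / C_B(V)| = q` -/
theorem idx (c : Co (bau (S : Subgroup G)) L V e φ) (hq : Fintype.card F = q) :
    ((S : Subgroup G) ⊓ centralizer (V : Set G)).relIndex (bau (S : Subgroup G)) = q := by
  classical
  have h1 : ∀ a : bau (S : Subgroup G), ∃ t : F, (∀ x y, (a : G) * e x y * (a : G)⁻¹ = e (x + t * y) y) :=
    fun a => c.act_B a.2
  choose t ht using h1
  have h2 : ((S : Subgroup G) ⊓ centralizer (V : Set G)).relIndex (bau (S : Subgroup G)) =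
      Nat.card (bau (S : Subgroup G) ⧸ ((S : Subgroup G) ⊓ centralizer (V : Set G)).subgroupOf (bau (S : Subgroup G))) :=
    rfl
  rw [h2, ← hq, ← Nat.card_eq_fintype_card]
  have key : ∀ a a' : bau (S : Subgroup G), t a = t a' →
      ((a⁻¹ * a' : bau (S : Subgroup G)) : G) ∈ (S : Subgroup G) ⊓ centralizer (V : Set G) := by
    intro a a' h4
    refine mem_inf.mpr ⟨ChoiceBase.bau_le _ (SetLike.coe_mem _), c.mem_cent.mpr fun x y => ?_⟩
    have h5 := ht a x y
    have h6 : ((a⁻¹ * a' : bau (S : Subgroup G)) : G) * e x y * ((a⁻¹ * a' : bau (S : Subgroup G)) : G)⁻¹ =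
        (a : G)⁻¹ * ((a' : G) * e x y * (a' : G)⁻¹) * (a : G) := by
      rw [Subgroup.coe_mul, Subgroup.coe_inv]; group
    rw [h6, ht, ← h4, ← h5]
    simp only [mul_assoc, inv_mul_cancel_left, inv_mul_cancel, mul_one]
  have key2 : ∀ a a' : bau (S : Subgroup G), ((a⁻¹ * a' : bau (S : Subgroup G)) : G) ∈ centralizer (V : Set G) →
      t a = t a' := by
    intro a a' h4
    have h5 := c.mem_cent.mp h4 0 1
    have h6 : ((a⁻¹ * a' : bau (S : Subgroup G)) : G) * e 0 1 * ((a⁻¹ * a' : bau (S : Subgroup G)) : G)⁻¹ =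
        (a : G)⁻¹ * ((a' : G) * e 0 1 * (a' : G)⁻¹) * (a : G) := by
      rw [Subgroup.coe_mul, Subgroup.coe_inv]; group
    rw [h6] at h5
    have h7 : (a' : G) * e 0 1 * (a' : G)⁻¹ = (a : G) * e 0 1 * (a : G)⁻¹ := by
      calc (a' : G) * e 0 1 * (a' : G)⁻¹ = a * ((a : G)⁻¹ * ((a' : G) * e 0 1 * (a' : G)⁻¹) * (a : G)) * (a : G)⁻¹ := by
            group
        _ = _ := by rw [h5]
    rw [ht, ht, mul_one, mul_one, zero_add, zero_add] at h7
    exact (c.ext h7).1.symm
  refine Nat.card_congr (Equiv.ofBijective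
    (fun p : bau (S : Subgroup G) ⧸ ((S : Subgroup G) ⊓ centralizer (V : Set G)).subgroupOf (bau (S : Subgroup G)) =>
      t p.out) ⟨?_, ?_⟩)
  · intro p p' hp
    rw [← p.out_eq', ← p'.out_eq']
    refine QuotientGroup.eq.mpr ?_
    rw [mem_subgroupOf]
    exact key _ _ hp
  · intro x
    obtain ⟨b, hb, hbx⟩ := c.exists_up x
    refine ⟨QuotientGroup.mk ⟨b, hb⟩, ?_⟩
    have h3 : t (⟨b, hb⟩ : bau (S : Subgroup G)) = x := by
      have h4 := ht ⟨b, hb⟩ 0 1
      rw [hbx, mul_one, mul_one, zero_add, zero_add] at h4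
      exact (c.ext h4).1.symm
    rw [← h3]
    refine key2 _ _ ?_
    have h5 : (QuotientGroup.mk (Quotient.out (QuotientGroup.mk (⟨b, hb⟩ : bau (S : Subgroup G)) :
        bau (S : Subgroup G) ⧸ ((S : Subgroup G) ⊓ centralizer (V : Set G)).subgroupOf (bau (S : Subgroup G)))) :
        bau (S : Subgroup G) ⧸ ((S : Subgroup G) ⊓ centralizer (V : Set G)).subgroupOf (bau (S : Subgroup G))) =
        QuotientGroup.mk ⟨b, hb⟩ := QuotientGroup.out_eq' _
    have h6 := QuotientGroup.eq.mp h5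
    rw [mem_subgroupOf] at h6
    exact h6.2

/-- torus elements of prime order in coordinates -/
theorem exists_tor (h : EqOne S L V q) (c : Co (bau (S : Subgroup G)) L V e φ) {r : ℕ} (hr : r.Prime)
    (hrq : r ∣ q - 1) : ∃ k ∈ L, orderOf k = r ∧ k ∈ normalizer (bau (S : Subgroup G) : Set G) ∧
      ∃ a b : F, a ≠ 1 ∧ a ≠ 0 ∧ ∀ x y, k * e x y * k⁻¹ = e (a * x + b * y) (a⁻¹ * y) := by
  have hpf := Fact.mk hr
  obtain ⟨K, hKL, hcyc, hcard, hKB, -, -⟩ := exists_torus h.blk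
  obtain ⟨k, hk⟩ := exists_prime_orderOf_dvd_card' (G := K) r (by rw [hcard]; exact hrq)
  have hr2 : r ≠ 2 := by
    rintro rfl
    exact (Nat.not_even_iff_odd.mpr (COnePair.odd_pred h.blk)) (even_iff_two_dvd.mpr hrq)
  have hk' : orderOf (k : G) = r := by rw [Subgroup.orderOf_coe, hk]
  have hkN : (k : G) ∈ normalizer (bau (S : Subgroup G) : Set G) := mem_normalizer_of_forall (hKB k k.2)
  refine ⟨k, hKL k.2, hk', hkN, ?_⟩
  set l : L := ⟨k, hKL k.2⟩ with hl
  -- `φ l` is triangular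
  obtain ⟨b₁, hb₁⟩ := c.surj (up 1)
  have hb₁B : (b₁ : G) ∈ bau (S : Subgroup G) := (c.memB b₁).mpr ⟨1, hb₁⟩
  obtain ⟨t, ht⟩ := (c.memB (l * b₁ * l⁻¹)).mp (hKB k k.2 _ hb₁B)
  have h1 : φ l * up 1 = up t * φ l := by
    rw [← hb₁, ← ht, ← map_mul, ← map_mul, inv_mul_cancel_right]
  have h10 : φ l 1 0 = 0 := by
    have h2 : ((φ l * up 1 : SpecialLinearGroup (Fin 2) F) : Matrix (Fin 2) (Fin 2) F) 1 1 =
        ((up t * φ l : SpecialLinearGroup (Fin 2) F) : Matrix (Fin 2) (Fin 2) F) 1 1 := by rw [h1]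
    have h3 : ((φ l * up 1 : SpecialLinearGroup (Fin 2) F) : Matrix (Fin 2) (Fin 2) F) 1 1 =
        φ l 1 0 * 1 + φ l 1 1 * 1 := by
      rw [Matrix.SpecialLinearGroup.coe_mul, Matrix.mul_apply, Fin.sum_univ_two]
      rfl
    have h4 : ((up t * φ l : SpecialLinearGroup (Fin 2) F) : Matrix (Fin 2) (Fin 2) F) 1 1 =
        0 * φ l 0 1 + 1 * φ l 1 1 := by
      rw [Matrix.SpecialLinearGroup.coe_mul, Matrix.mul_apply, Fin.sum_univ_two]
      rfl
    rw [h3, h4, mul_one, mul_one, zero_mul, zero_add, one_mul] at h2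
    exact add_eq_right.mp h2
  have hdet : φ l 0 0 * φ l 1 1 = 1 := by
    have h2 : (φ l : Matrix (Fin 2) (Fin 2) F).det = 1 := (φ l).2
    rw [Matrix.det_fin_two, h10, mul_zero, sub_zero] at h2
    exact h2
  have ha0 : φ l 0 0 ≠ 0 := left_ne_zero_of_mul_eq_one hdet
  have hd : φ l 1 1 = (φ l 0 0)⁻¹ := eq_inv_of_mul_eq_one_right hdet
  have hact : ∀ x y, (k : G) * e x y * (k : G)⁻¹ = e (φ l 0 0 * x + φ l 0 1 * y) ((φ l 0 0)⁻¹ * y) := by
    intro x y
    have h2 := c.act l x y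
    rw [h10, hd, zero_mul, zero_add] at h2
    exact h2
  refine ⟨φ l 0 0, φ l 0 1, ?_, ha0, hact⟩
  intro ha
  have h2 : ∀ x y, (k : G) * e x y * (k : G)⁻¹ = e (x + φ l 0 1 * y) y := by
    intro x y
    rw [hact, ha, one_mul, inv_one, one_mul]
  have hfix : (k : G) * e 1 0 = e 1 0 * k := by
    have h3 := h2 1 0
    rw [mul_zero, add_zero] at h3
    calc (k : G) * e 1 0 = ((k : G) * e 1 0 * (k : G)⁻¹) * k := by group
      _ = _ := by rw [h3]
  have h3 := fpf h (hKL k.2) (by rw [hk']; exact hr.odd_of_ne_two hr2) (by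
    intro h4
    rw [h4, orderOf_one] at hk'
    exact hr.one_lt.ne hk') (c.eM 1 0) hfix
  exact one_ne_zero (c.inj _ _ h3).1

omit [Finite G] in
/-- a conjugate of `Z_J` meeting it trivially -/
theorem exists_opp {B : Subgroup G} (c : Co B L V e φ) : ∃ l ∈ L, ∀ x y, l * e x y * l⁻¹ = e y x := by
  obtain ⟨l, hl⟩ := c.surj (ww F)
  refine ⟨l, l.2, fun x y => ?_⟩
  rw [c.act, hl]
  congr 1
  · show (0 : F) * x + 1 * y = _
    rw [zero_mul, zero_add, one_mul]
  · show (1 : F) * x + 0 * y = _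
    rw [zero_mul, add_zero, one_mul]

end

end Cfsg.Agent.OddCyclic.Eq.Base
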