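import Mathlib

/-!
# (E_q) of `T_cyc`: the sum trick

`H` acts transitively on the finite set `Ω` and on the abelian group `Q`; `F : Ω → Q` is equivariant.
If there are commuting involutions `a, b` of `H` with `F ω · F (aω) · F (bω) · F (abω) = 1` for all `ω`
such that each of `a, b, ab` fixes exactly the point `ω₀`, then `F` is constant.
-/

namespace Cfsg.Agent.OddCyclic.Eq.Sum

open Finset

variable {H Ω Q : Type*} [Group H] [MulAction H Ω] [CommGroup Q]

/-- the product of `F` over an `⟨a,b⟩`-invariant set on which the four-group is semiregular -/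
theorem prod_eq_one [DecidableEq Ω] {F : Ω → Q} {a b : H} (ha : a * a = 1) (hb : b * b = 1) (hab : a * b = b * a)
    (hsum : ∀ ω, F ω * F (a • ω) * F (b • ω) * F ((a * b) • ω) = 1) {ω₀ : Ω}
    (hsa : ∀ ω, a • ω = ω → ω = ω₀) (hsb : ∀ ω, b • ω = ω → ω = ω₀) (hsab : ∀ ω, (a * b) • ω = ω → ω = ω₀) :
    ∀ (n : ℕ) (T : Finset Ω), T.card ≤ n → ω₀ ∉ T → (∀ ω ∈ T, a • ω ∈ T) → (∀ ω ∈ T, b • ω ∈ T) →
      ∏ ω ∈ T, F ω = 1 := by
  intro n
  induction n with
  | zero =>
    intro T hT _ _ _
    rw [Finset.card_eq_zero.mp (Nat.le_zero.mp hT)]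
    exact Finset.prod_empty
  | succ n ih =>
    intro T hT h0 hTa hTb
    rcases T.eq_empty_or_nonempty with h | ⟨ω, hω⟩
    · rw [h]; exact Finset.prod_empty
    · have haa : ∀ x : Ω, a • a • x = x := fun x => by rw [smul_smul, ha, one_smul]
      have hbb : ∀ x : Ω, b • b • x = x := fun x => by rw [smul_smul, hb, one_smul]
      have hba : ∀ x : Ω, b • a • x = (a * b) • x := fun x => by rw [smul_smul, hab]
      have hab' : ∀ x : Ω, a • b • x = (a * b) • x := fun x => by rw [smul_smul]
      have hne : ω ≠ ω₀ := fun h => h0 (h ▸ hω)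
      have h1 : a • ω ≠ ω := fun h => hne (hsa _ h)
      have h2 : b • ω ≠ ω := fun h => hne (hsb _ h)
      have h3 : (a * b) • ω ≠ ω := fun h => hne (hsab _ h)
      have h4 : a • ω ≠ b • ω := by
        intro h
        apply h3
        rw [← hab', ← h, haa]
      have h5 : a • ω ≠ (a * b) • ω := by
        intro h
        apply h2
        have h' := congrArg (fun x => a • x) h
        simp only [← hab', haa] at h'
        exact h'.symm
      have h6 : b • ω ≠ (a * b) • ω := by
        intro h
        apply h1
        have h' := congrArg (fun x => b • x) h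
        simp only [← hba, hbb] at h'
        exact h'.symm
      set D : Finset Ω := {ω, a • ω, b • ω, (a * b) • ω} with hD
      have hDT : D ⊆ T := by
        intro x hx
        simp only [hD, Finset.mem_insert, Finset.mem_singleton] at hx
        rcases hx with rfl | rfl | rfl | rfl
        · exact hω
        · exact hTa _ hω
        · exact hTb _ hω
        · rw [← hab']; exact hTa _ (hTb _ hω)
      have hDa : ∀ x, a • x ∈ D → x ∈ D := by
        intro x hx
        simp only [hD, Finset.mem_insert, Finset.mem_singleton] at hx ⊢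
        rcases hx with h | h | h | h
        · right; left; rw [← h, haa]
        · left; rw [← haa x, h, haa]
        · right; right; right; rw [← hab', ← h, haa]
        · right; right; left; rw [← haa x, h, ← hab', haa]
      have hDb : ∀ x, b • x ∈ D → x ∈ D := by
        intro x hx
        simp only [hD, Finset.mem_insert, Finset.mem_singleton] at hx ⊢
        rcases hx with h | h | h | h
        · right; right; left; rw [← h, hbb]
        · right; right; right; rw [← hba, ← h, hbb]
        · left; rw [← hbb x, h, hbb]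
        · right; left; rw [← hbb x, h, ← hba, hbb]
      have hprod : ∏ x ∈ D, F x = 1 := by
        rw [hD, Finset.prod_insert, Finset.prod_insert, Finset.prod_insert, Finset.prod_singleton]
        · rw [← mul_assoc, ← mul_assoc]; exact hsum ω
        · simpa using h6
        · simp only [Finset.mem_insert, Finset.mem_singleton, not_or]
          exact ⟨h4, h5⟩
        · simp only [Finset.mem_insert, Finset.mem_singleton, not_or]
          exact ⟨h1.symm, h2.symm, h3.symm⟩
      rw [← Finset.prod_sdiff hDT, hprod, mul_one]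
      apply ih
      · have : (T \ D).card < T.card := by
          apply Finset.card_lt_card
          refine ⟨Finset.sdiff_subset, fun h => ?_⟩
          have := h hω
          simp [hD] at this
        omega
      · exact fun h => h0 (Finset.sdiff_subset h)
      · intro x hx
        rw [Finset.mem_sdiff] at hx ⊢
        exact ⟨hTa x hx.1, fun h => hx.2 (hDa x h)⟩
      · intro x hx
        rw [Finset.mem_sdiff] at hx ⊢
        exact ⟨hTb x hx.1, fun h => hx.2 (hDb x h)⟩

/-- **the sum trick** -/
theorem const [Finite Ω] {F : Ω → Q} (act : H → Q →* Q) (hF : ∀ h ω, F (h • ω) = act h (F ω))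
    (htr : ∀ ω ω' : Ω, ∃ h : H, h • ω = ω') {a b : H} (ha : a * a = 1) (hb : b * b = 1) (hab : a * b = b * a)
    (hsum : ∀ ω, F ω * F (a • ω) * F (b • ω) * F ((a * b) • ω) = 1) {ω₀ : Ω}
    (h0a : a • ω₀ = ω₀) (h0b : b • ω₀ = ω₀)
    (hsa : ∀ ω, a • ω = ω → ω = ω₀) (hsb : ∀ ω, b • ω = ω → ω = ω₀) (hsab : ∀ ω, (a * b) • ω = ω → ω = ω₀)
    (ω ω' : Ω) : F ω = F ω' := by
  classical
  haveI := Fintype.ofFinite Ω
  have haa : ∀ x : Ω, a • a • x = x := fun x => by rw [smul_smul, ha, one_smul]
  have hbb : ∀ x : Ω, b • b • x = x := fun x => by rw [smul_smul, hb, one_smul]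
  have h1 : ∏ x ∈ Finset.univ.erase ω₀, F x = 1 := by
    refine prod_eq_one ha hb hab hsum hsa hsb hsab _ _ le_rfl (Finset.notMem_erase _ _) ?_ ?_
    · intro x hx
      rw [Finset.mem_erase] at hx ⊢
      refine ⟨fun h => hx.1 ?_, Finset.mem_univ _⟩
      rw [← haa x, h, h0a]
    · intro x hx
      rw [Finset.mem_erase] at hx ⊢
      refine ⟨fun h => hx.1 ?_, Finset.mem_univ _⟩
      rw [← hbb x, h, h0b]
  have h2 : ∏ x : Ω, F x = F ω₀ := by
    rw [← Finset.mul_prod_erase Finset.univ F (Finset.mem_univ ω₀), h1, mul_one]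
  have h3 : ∀ h : H, act h (F ω₀) = F ω₀ := by
    intro h
    rw [← h2, map_prod, ← (Equiv.prod_comp (MulAction.toPerm h) F)]
    refine Finset.prod_congr rfl fun x _ => ?_
    rw [MulAction.toPerm_apply, hF]
  have h4 : ∀ x, F x = F ω₀ := by
    intro x
    obtain ⟨h, rfl⟩ := htr ω₀ x
    rw [hF, h3]
  rw [h4 ω, h4 ω']

end Cfsg.Agent.OddCyclic.Eq.Sum
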