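import Cfsg.Agent.OddCyclic.Eq.Line
import Cfsg.Agent.OddCyclic.Eq.Sum

/-!
# (E_q) of `T_cyc`: the sum trick in `G`

`W = ⟨V^P⟩` elementary abelian, `U₀ ≤ V` normalised by `P`, `v ∈ V` fixed modulo `U₀` by `N_P(V)`; `{1, a, b, ab}` a
four-group quadratic on `W`, each of `a`, `b`, `ab` fixing only the line `V`: then `P` fixes `v` modulo `U₀`.
-/

set_option autoImplicit false

namespace Cfsg.Agent.OddCyclic.Eq.SumG

open Subgroup Cfsg.Agent.OddCyclic.CompStandard Cfsg.Agent.OddCyclic.RedFiveThree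
open Cfsg.Agent.OddCyclic.Eq.Line

variable {G : Type*} [Group G] [Finite G] {q : ℕ} {U V P : Subgroup G}

/-- conjugation by `x ∈ P` on `W` -/
def cW (P V : Subgroup G) (x : P) : Wc P V →* Wc P V where
  toFun w := ⟨x * w * (x : G)⁻¹, forall_of_mem_normalizer (norm_Wc P V x.2) _ w.2⟩
  map_one' := Subtype.ext (by simp)
  map_mul' a b := Subtype.ext (by simp [mul_assoc])

/-- **the sum trick** -/
theorem fix {U₀ : Subgroup G} (hWc : Cm (Wc P V) (Wc P V)) (hW2 : ∀ w ∈ Wc P V, w * w = 1) (hUV : U₀ ≤ V)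
    (hPU : P ≤ normalizer (U₀ : Set G)) {v : G} (hv : v ∈ V)
    (hvC : ∀ c ∈ P, c ∈ normalizer (V : Set G) → c * v * c⁻¹ * v⁻¹ ∈ U₀) {a b : G} (ha : a ∈ P) (hb : b ∈ P)
    (haa : a * a = 1) (hbb : b * b = 1) (hab : a * b = b * a)
    (haV : cj a V = V) (hbV : cj b V = V)
    (hquad : ∀ w ∈ Wc P V, (a * w * a⁻¹ * w⁻¹) * b = b * (a * w * a⁻¹ * w⁻¹))
    (hfa : ∀ x ∈ P, cj a (cj x V) = cj x V → cj x V = V)
    (hfb : ∀ x ∈ P, cj b (cj x V) = cj x V → cj x V = V)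
    (hfab : ∀ x ∈ P, cj (a * b) (cj x V) = cj x V → cj x V = V) {x₀ : G} (hx₀ : x₀ ∈ P) :
    x₀ * v * x₀⁻¹ * v⁻¹ ∈ U₀ := by
  have hN : (U₀.subgroupOf (Wc P V)).Normal := by
    constructor
    intro u hu g
    have h1 : g * u = u * g := Subtype.ext (hWc g g.2 u u.2)
    rw [h1, mul_inv_cancel_right]
    exact hu
  set C : Subgroup P := (normalizer (V : Set G)).subgroupOf P with hC
  let Q := Wc P V ⧸ (U₀.subgroupOf (Wc P V))
  let cQ : CommGroup Q :=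
    { QuotientGroup.Quotient.group (U₀.subgroupOf (Wc P V)) with
      mul_comm := by
        intro x y
        obtain ⟨a, rfl⟩ := QuotientGroup.mk_surjective x
        obtain ⟨b, rfl⟩ := QuotientGroup.mk_surjective y
        have h1 : a * b = b * a := Subtype.ext (hWc a a.2 b b.2)
        show ((a * b : Wc P V) : Wc P V ⧸ (U₀.subgroupOf (Wc P V))) = ((b * a : Wc P V) : _)
        rw [h1] }
  have hUW : U₀ ≤ Wc P V := hUV.trans (le_Wc P V)
  have hcU : ∀ x ∈ P, ∀ u ∈ U₀, x * u * x⁻¹ ∈ U₀ := fun x hx u hu => forall_of_mem_normalizer (hPU hx) u hu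
  -- the action on `W/U₀`
  let act : P → Q →* Q := fun x => QuotientGroup.map _ _ (cW P V x) (by
    intro w hw
    show (x : G) * w * (x : G)⁻¹ ∈ U₀
    exact hcU x x.2 w hw)
  -- the function
  have hmem : ∀ x : P, (x : G) * v * (x : G)⁻¹ ∈ Wc P V := fun x => cj_le_Wc x.2 (conj_mem_cj hv)
  let F₀ : P → Q := fun x => QuotientGroup.mk (⟨(x : G) * v * (x : G)⁻¹, hmem x⟩ : Wc P V)
  have hwd : ∀ x y : P, x⁻¹ * y ∈ C → F₀ x = F₀ y := by
    intro x y hxy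
    apply QuotientGroup.eq.mpr
    show ((x : G) * v * (x : G)⁻¹)⁻¹ * ((y : G) * v * (y : G)⁻¹) ∈ U₀
    have h1 := hvC ((x : G)⁻¹ * y) (mul_mem (inv_mem x.2) y.2) hxy
    have h2 := hcU x x.2 _ h1
    have h3 : (x : G) * (((x : G)⁻¹ * y) * v * ((x : G)⁻¹ * y)⁻¹ * v⁻¹) * (x : G)⁻¹ ∈ Wc P V := hUW h2
    have h4 : ((x : G) * v * (x : G)⁻¹)⁻¹ * ((y : G) * v * (y : G)⁻¹) =
        ((x : G) * v * (x : G)⁻¹)⁻¹ * (((x : G) * (((x : G)⁻¹ * y) * v * ((x : G)⁻¹ * y)⁻¹ * v⁻¹) * (x : G)⁻¹) *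
          ((x : G) * v * (x : G)⁻¹)) := by group
    have h5 := hWc _ h3 _ (hmem x)
    rw [h4, h5, inv_mul_cancel_left]
    exact h2
  let F : P ⧸ C → Q := Quotient.lift F₀ (fun x y hxy => hwd x y (QuotientGroup.leftRel_apply.mp hxy))
  have hCV : ∀ x : P, (x : P ⧸ C) = ((1 : P) : P ⧸ C) ↔ cj (x : G) V = V := by
    intro x
    rw [eq_comm, QuotientGroup.eq, inv_one, one_mul, cj_eq_iff]
    exact Iff.rfl
  have hsmul : ∀ (p : P) (ω : P ⧸ C), p • ω = ω → (∀ x ∈ P, cj (p : G) (cj x V) = cj x V → cj x V = V) →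
      ω = ((1 : P) : P ⧸ C) := by
    intro p ω hp hf
    obtain ⟨x, rfl⟩ := QuotientGroup.mk_surjective ω
    rw [hCV]
    apply hf x x.2
    have h1 : ((p * x : P) : P ⧸ C) = (x : P ⧸ C) := hp
    have h2 : x⁻¹ * (p * x) ∈ C := QuotientGroup.eq.mp h1.symm
    have h3 : cj ((x : G)⁻¹ * (p * x)) V = V := cj_eq_iff.mpr h2
    have h4 := congrArg (cj (x : G)) h3
    rwa [← cj_mul, mul_inv_cancel_left, cj_mul] at h4
  have hconst := Sum.const (H := P) (Ω := P ⧸ C) (Q := Q) (F := F) act (by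
      intro p ω
      obtain ⟨x, rfl⟩ := QuotientGroup.mk_surjective ω
      show F₀ (p * x) = QuotientGroup.mk (cW P V p ⟨(x : G) * v * (x : G)⁻¹, hmem x⟩)
      show QuotientGroup.mk (⟨((p * x : P) : G) * v * ((p * x : P) : G)⁻¹, _⟩ : Wc P V) = _
      congr 1
      apply Subtype.ext
      show ((p : G) * x) * v * ((p : G) * x)⁻¹ = (p : G) * ((x : G) * v * (x : G)⁻¹) * (p : G)⁻¹
      group) (by
      intro ω ω'
      obtain ⟨x, rfl⟩ := QuotientGroup.mk_surjective ω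
      obtain ⟨y, rfl⟩ := QuotientGroup.mk_surjective ω'
      refine ⟨y * x⁻¹, ?_⟩
      show ((y * x⁻¹ * x : P) : P ⧸ C) = y
      rw [inv_mul_cancel_right])
      (a := ⟨a, ha⟩) (b := ⟨b, hb⟩) (Subtype.ext haa) (Subtype.ext hbb) (Subtype.ext hab) (by
      intro ω
      obtain ⟨x, rfl⟩ := QuotientGroup.mk_surjective ω
      set w : G := (x : G) * v * (x : G)⁻¹ with hw
      have hwW : w ∈ Wc P V := hmem x
      have haw : a * w * a⁻¹ ∈ Wc P V := forall_of_mem_normalizer (norm_Wc P V ha) _ hwW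
      have hbw : b * w * b⁻¹ ∈ Wc P V := forall_of_mem_normalizer (norm_Wc P V hb) _ hwW
      have h1 : w * (a * w * a⁻¹) * (b * w * b⁻¹) * ((a * b) * w * (a * b)⁻¹) = 1 := by
        have e1 := hquad w hwW
        have e2 : (a * b) * w * (a * b)⁻¹ = (a * w * a⁻¹ * w⁻¹) * (b * w * b⁻¹) := by
          calc (a * b) * w * (a * b)⁻¹ = (b * a) * w * (b * a)⁻¹ := by rw [hab]
            _ = (b * (a * w * a⁻¹ * w⁻¹)) * w * b⁻¹ := by group
            _ = ((a * w * a⁻¹ * w⁻¹) * b) * w * b⁻¹ := by rw [e1]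
            _ = _ := by group
        have e3 : w⁻¹ = w := inv_eq_of_mul_eq_one_left (hW2 w hwW)
        rw [e2, e3]
        have c1 := hWc _ hbw _ haw
        have c2 := hWc _ hbw _ hwW
        have s1 := hW2 _ hwW
        have s2 := hW2 _ haw
        have s3 := hW2 _ hbw
        calc w * (a * w * a⁻¹) * (b * w * b⁻¹) * (a * w * a⁻¹ * w * (b * w * b⁻¹))
            = w * (a * w * a⁻¹) * ((b * w * b⁻¹) * (a * w * a⁻¹)) * w * (b * w * b⁻¹) := by
              simp only [mul_assoc]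
          _ = w * ((a * w * a⁻¹) * (a * w * a⁻¹)) * (b * w * b⁻¹) * w * (b * w * b⁻¹) := by
              rw [c1]; simp only [mul_assoc]
          _ = w * ((b * w * b⁻¹) * w) * (b * w * b⁻¹) := by rw [s2]; simp only [mul_assoc, mul_one]
          _ = (w * w) * ((b * w * b⁻¹) * (b * w * b⁻¹)) := by rw [c2]; simp only [mul_assoc]
          _ = 1 := by rw [s1, s3, mul_one]
      show F₀ x * F₀ (⟨a, ha⟩ * x) * F₀ (⟨b, hb⟩ * x) * F₀ (⟨a, ha⟩ * ⟨b, hb⟩ * x) = 1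
      show QuotientGroup.mk ((⟨(x : G) * v * (x : G)⁻¹, _⟩ : Wc P V) *
        (⟨(a * (x : G)) * v * (a * (x : G))⁻¹, _⟩ : Wc P V) * (⟨(b * (x : G)) * v * (b * (x : G))⁻¹, _⟩ : Wc P V) *
        (⟨((a * b) * (x : G)) * v * ((a * b) * (x : G))⁻¹, _⟩ : Wc P V)) = _
      have e0 : (⟨(x : G) * v * (x : G)⁻¹, hmem x⟩ : Wc P V) *
        (⟨(a * (x : G)) * v * (a * (x : G))⁻¹, hmem (⟨a, ha⟩ * x)⟩ : Wc P V) *
          (⟨(b * (x : G)) * v * (b * (x : G))⁻¹, hmem (⟨b, hb⟩ * x)⟩ : Wc P V) *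
        (⟨((a * b) * (x : G)) * v * ((a * b) * (x : G))⁻¹, hmem (⟨a, ha⟩ * ⟨b, hb⟩ * x)⟩ : Wc P V) = 1 := by
        apply Subtype.ext
        show (x : G) * v * (x : G)⁻¹ * ((a * (x : G)) * v * (a * (x : G))⁻¹) *
          ((b * (x : G)) * v * (b * (x : G))⁻¹) * (((a * b) * (x : G)) * v * ((a * b) * (x : G))⁻¹) = 1
        have e1 : ∀ p : G, (p * (x : G)) * v * (p * (x : G))⁻¹ = p * w * p⁻¹ := by
          intro p; rw [hw]; group
        rw [e1, e1, e1]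
        exact h1
      rw [e0]
      rfl) (ω₀ := ((1 : P) : P ⧸ C))
      (by
        show ((⟨a, ha⟩ * 1 : P) : P ⧸ C) = _
        rw [mul_one, hCV]
        exact haV) (by
        show ((⟨b, hb⟩ * 1 : P) : P ⧸ C) = _
        rw [mul_one, hCV]
        exact hbV) (fun ω hω => hsmul _ _ hω hfa) (fun ω hω => hsmul _ _ hω hfb)
      (fun ω hω => hsmul _ _ hω hfab)
  have h1 := hconst ((1 : P) : P ⧸ C) ((⟨x₀, hx₀⟩ : P) : P ⧸ C)
  have h1' : ((⟨((1 : P) : G) * v * ((1 : P) : G)⁻¹, hmem 1⟩ : Wc P V) : Wc P V ⧸ (U₀.subgroupOf (Wc P V))) =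
    ((⟨x₀ * v * x₀⁻¹, hmem ⟨x₀, hx₀⟩⟩ : Wc P V) : Wc P V ⧸ (U₀.subgroupOf (Wc P V))) := h1
  have h2' := QuotientGroup.eq.mp h1'
  have h2 : (((1 : G) * v * (1 : G)⁻¹)⁻¹ * (x₀ * v * x₀⁻¹)) ∈ U₀ := h2'
  rw [one_mul, inv_one, mul_one] at h2
  have h3 := hWc _ (inv_mem (le_Wc P V hv)) _ (hmem ⟨x₀, hx₀⟩)
  rw [h3] at h2
  exact h2

/-- a four-group in `N_P(V)`, quadratic on `W`, each of whose involutions fixes only the line `V`, does not exist -/
theorem false (h : Fr q U V P) {v : G} (hv : v ∈ V) (hvU : v ∉ U) {a b : G} (ha : a ∈ P) (hb : b ∈ P)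
    (haa : a * a = 1) (hbb : b * b = 1) (hab : a * b = b * a)
    (haV : cj a V = V) (hbV : cj b V = V)
    (hquad : ∀ w ∈ Wc P V, (a * w * a⁻¹ * w⁻¹) * b = b * (a * w * a⁻¹ * w⁻¹))
    (hfa : ∀ x ∈ P, cj a (cj x V) = cj x V → cj x V = V)
    (hfb : ∀ x ∈ P, cj b (cj x V) = cj x V → cj x V = V)
    (hfab : ∀ x ∈ P, cj (a * b) (cj x V) = cj x V → cj x V = V)
    (hne : ∃ x ∈ P, cj x V ≠ V) : False := by
  have hPU : P ≤ normalizer (U : Set G) := h.PU.trans (centralizer_le_normalizer _)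
  obtain ⟨x, hx, hxV⟩ := hne
  have h2 := fix h.cm_WW h.W_sq h.UV hPU hv (fun c hc hcV => h.act c hcV (h.PU hc) v hv) ha hb haa hbb hab haV hbV
    hquad hfa hfb hfab hx
  have h3 : x * v * x⁻¹ ∈ V := by
    have h4 := mul_mem (h.UV h2) hv
    rwa [inv_mul_cancel_right] at h4
  have h4 : x * v * x⁻¹ ∈ cj 1 V := by rw [cj_one]; exact h3
  have h5 := h.inter (h.PU hx) (Subgroup.one_mem _) (by rw [cj_one]; exact hxV) (conj_mem_cj hv) h4
  apply hvU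
  have h6 : v = x⁻¹ * (x * v * x⁻¹) * x⁻¹⁻¹ := by group
  rw [h6]
  exact forall_of_mem_normalizer (inv_mem (hPU hx)) _ h5

end Cfsg.Agent.OddCyclic.Eq.SumG
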