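import Cfsg.Agent.OddCyclic.Eq.Quot
import Cfsg.Agent.OddCyclic.Eq.SumG

/-!
# (E_q) of `T_cyc`: a quadratic four-group in `P/K`

`Pd.three_dvd`: if `A ≤ P` is elementary abelian, quadratic on `W = ⟨V^P⟩` and `|A : A ∩ K| ≥ 4`, then `3` divides
`|P/K|` and the elementary abelian 2-subgroups of `P/K` have order at most 4.
-/

set_option autoImplicit false

namespace Cfsg.Agent.OddCyclic.Eq.Quot

open Subgroup Cfsg.Agent.OddCyclic.CompStandard Cfsg.Agent.OddCyclic.RedFiveThree Cfsg.Agent.OddCyclic.CaseABase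
open Cfsg.Agent.LieExceptional.CITDefs (IsSyl2)
open Cfsg.Agent.OddCyclic.T1Defs (OddCyc)
open Cfsg.Agent.OddCyclic.Eq.Line

universe u

variable {G : Type u} [Group G]

/-- more than two cosets: a four-group modulo `K` -/
theorem exists_four {H : Type*} [Group H] {K A : Subgroup H} (h : 4 ≤ K.relIndex A) :
    ∃ a ∈ A, ∃ b ∈ A, a ∉ K ∧ b ∉ K ∧ a * b ∉ K := by
  have h1 : ∃ a ∈ A, a ∉ K := by
    by_contra hcon
    push Not at hcon
    have : K.relIndex A = 1 := relIndex_eq_one.mpr hcon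
    omega
  obtain ⟨a, ha, haK⟩ := h1
  by_contra hcon
  push Not at hcon
  have h2 : K.relIndex A = 2 := by
    rw [relIndex_eq_two_iff]
    refine ⟨a, ha, fun b hb => ?_⟩
    by_cases hbK : b ∈ K
    · refine Or.inr ⟨hbK, fun h3 => haK ?_⟩
      have h4 := K.mul_mem (K.inv_mem hbK) h3
      rwa [inv_mul_cancel_left] at h4
    · refine Or.inl ⟨?_, hbK⟩
      have h3 : b⁻¹ ∉ K := fun h4 => hbK (by rw [← inv_inv b]; exact K.inv_mem h4)
      have h4 : a⁻¹ ∉ K := fun h4 => haK (by rw [← inv_inv a]; exact K.inv_mem h4)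
      have h5 := hcon a⁻¹ (inv_mem ha) b⁻¹ (inv_mem hb) h4 h3
      have h6 := K.inv_mem h5
      rwa [mul_inv_rev, inv_inv, inv_inv] at h6
  omega

/-- the intersection of the lines on the point -/
def Uo (P V : Subgroup G) : Subgroup G := ⨅ x : P, cj (x : G) V

theorem mem_Uo {P V : Subgroup G} {v : G} : v ∈ Uo P V ↔ ∀ x ∈ P, v ∈ cj x V := by
  rw [Uo, mem_iInf]
  exact ⟨fun h x hx => h ⟨x, hx⟩, fun h x => h x x.2⟩

theorem Uo_le (P V : Subgroup G) : Uo P V ≤ V := fun v hv => by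
  have := mem_Uo.mp hv 1 P.one_mem
  rwa [cj_one] at this

variable [Finite G]

theorem norm_Uo (P V : Subgroup G) : P ≤ normalizer (Uo P V : Set G) := by
  intro p hp
  refine mem_normalizer_of_forall fun v hv => ?_
  rw [mem_Uo] at hv ⊢
  intro x hx
  have h1 := hv (p⁻¹ * x) (mul_mem (inv_mem hp) hx)
  have h2 := conj_mem_cj (g := p) h1
  rwa [← cj_mul, mul_inv_cancel_left] at h2

omit [Finite G] in
/-- `v` is moved modulo `U₀` if `v ∉ U₀` -/
theorem exists_moved {P V : Subgroup G} {v : G} (hv : v ∈ V) (hvU : v ∉ Uo P V) :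
    ∃ x ∈ P, x * v * x⁻¹ * v⁻¹ ∉ Uo P V := by
  by_contra hcon
  push Not at hcon
  apply hvU
  rw [mem_Uo]
  intro x hx
  rw [mem_cj]
  have h1 := mul_mem (Uo_le P V (hcon x⁻¹ (inv_mem hx))) hv
  rwa [inv_mul_cancel_right, inv_inv] at h1

/-- the order of the image in `P/K` -/
theorem card_image {P V A : Subgroup G} (hAP : A ≤ P) :
    Nat.card ((A.subgroupOf P).map (QuotientGroup.mk' ((Kc P V).subgroupOf P)) : Subgroup (P ⧸ (Kc P V).subgroupOf P)) =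
      (Kc P V).relIndex A := by
  rw [← relIndex_ker, QuotientGroup.ker_mk', ← relIndex_subgroupOf hAP]

/-- if involutions of `H₀` fix only one line -/
theorem fixes {P V : Subgroup G}
    (h1 : ∀ a ∈ Hz P V, a * a = 1 → a ≠ 1 → ∀ h : P ⧸ Kp P V, h * a * h⁻¹ ∈ Hz P V → h ∈ Hz P V)
    {a : G} (haP : a ∈ P) (haV : a ∈ normalizer (V : Set G)) (ha : a * a = 1) (haK : a ∉ Kc P V) {x : G}
    (hx : x ∈ P) (hax : cj a (cj x V) = cj x V) : cj x V = V := by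
  have h3 : x⁻¹ * a * x ∈ normalizer (V : Set G) := by
    rw [← cj_eq_iff, mul_assoc, cj_mul, cj_mul, hax, cj_inv_cj]
  have h4 := h1 (((⟨a, haP⟩ : P) : P ⧸ Kp P V)) (mem_Hz.mpr haV)
    (by
      rw [← QuotientGroup.mk_mul]
      have : (⟨a, haP⟩ : P) * ⟨a, haP⟩ = 1 := Subtype.ext ha
      rw [this]
      rfl)
    (by
      rw [Ne, QuotientGroup.eq_one_iff]
      exact haK) (((⟨x⁻¹, inv_mem hx⟩ : P) : P ⧸ Kp P V)) (by
      rw [← QuotientGroup.mk_inv, ← QuotientGroup.mk_mul, ← QuotientGroup.mk_mul, mem_Hz]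
      show x⁻¹ * a * (x⁻¹)⁻¹ ∈ normalizer (V : Set G)
      rw [inv_inv]
      exact h3)
  have h6 : x⁻¹ ∈ normalizer (V : Set G) := mem_Hz.mp h4
  rw [cj_eq_iff, ← inv_inv x]
  exact inv_mem h6

variable {X V T P : Subgroup G}

/-- **a quadratic four-group** -/
theorem Pd.three_dvd (h : Pd X V T) (hc : OddCyc G) (hs : CompStart.SecZero G) (hX : X ≠ ⊤) (hP : P ≤ X)
    (hlt : normalizer (V : Set G) ⊓ X < P)
    (hmin : ∀ Q : Subgroup G, normalizer (V : Set G) ⊓ X < Q → Q ≤ P → Q = P)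
    (hWc : Cm (Wc P V) (Wc P V)) (hW2 : ∀ w ∈ Wc P V, w * w = 1)
    {v : G} (hv : v ∈ V) (hvU : v ∉ Uo P V)
    (hvC : ∀ c ∈ P, c ∈ normalizer (V : Set G) → c * v * c⁻¹ * v⁻¹ ∈ Uo P V)
    {A : Subgroup G} (hAP : A ≤ P) (hAV : A ≤ normalizer (V : Set G)) (hA2 : ∀ a ∈ A, a * a = 1)
    (hAq : ∀ a ∈ A, ∀ b ∈ A, ∀ w ∈ Wc P V, (a * w * a⁻¹ * w⁻¹) * b = b * (a * w * a⁻¹ * w⁻¹))
    (hA4 : 4 ≤ (Kc P V).relIndex A) :
    3 ∣ Nat.card (P ⧸ Kp P V) ∧
      ∀ E : Subgroup G, E ≤ P → (∀ e ∈ E, e * e = 1) → (Kc P V).relIndex E ≤ 4 := by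
  have key : ∀ E : Subgroup G, (∀ e ∈ E, e * e = 1) → ∀ a ∈ (E.subgroupOf P).map (QuotientGroup.mk' (Kp P V)),
      a * a = 1 := by
    rintro E hE _ ⟨a, ha, rfl⟩
    rw [← map_mul]
    have : a * a = 1 := Subtype.ext (hE a ha)
    rw [this, map_one]
  rcases h.cases hc hs hX hP hlt hmin with h1 | h1 | ⟨h1, h2⟩
  · have h2 := h1 _ (key A hA2)
    rw [card_image hAP] at h2
    omega
  · exfalso
    obtain ⟨a, ha, b, hb, haK, hbK, habK⟩ := exists_four hA4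
    obtain ⟨x, hx, hxv⟩ := exists_moved hv hvU
    apply hxv
    refine SumG.fix hWc hW2 (Uo_le P V) (norm_Uo P V) hv hvC (hAP ha) (hAP hb) (hA2 a ha) (hA2 b hb)
      (comm_of_sq hA2 ha hb) (cj_eq_iff.mpr (hAV ha)) (cj_eq_iff.mpr (hAV hb)) (fun w hw => hAq a ha b hb w hw)
      (fun y hy hy' => fixes h1 (hAP ha) (hAV ha) (hA2 a ha) haK hy hy')
      (fun y hy hy' => fixes h1 (hAP hb) (hAV hb) (hA2 b hb) hbK hy hy')
      (fun y hy hy' => fixes h1 (hAP (mul_mem ha hb)) (hAV (mul_mem ha hb)) (hA2 _ (mul_mem ha hb)) habK hy hy') hx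
  · refine ⟨h1, fun E hE hE2 => ?_⟩
    have h3 := h2 _ (key E hE2)
    rwa [card_image hE] at h3

end Cfsg.Agent.OddCyclic.Eq.Quot
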