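import Cfsg.Agent.OddCyclic.Eq.QAct
import Cfsg.Agent.OddCyclic.BTwoLin.Defs

/-!
# The quadratic form `w ↦ w²` on `W / ⟨z⟩`
-/

set_option autoImplicit false

namespace Cfsg.Agent.OddCyclic.Eq

open Subgroup
open Cfsg.Agent.OddCyclic.BTwoLin (Form)

universe u v

variable {G : Type u} [Group G]

open Classical in
/-- the isomorphism `⟨z⟩ → ℤ/2` -/
noncomputable def chi (x : G) : ZMod 2 := if x = 1 then 0 else 1

theorem chi_one : chi (1 : G) = 0 := if_pos rfl

theorem chi_ne {x : G} (hx : x ≠ 1) : chi x = 1 := if_neg hx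

theorem chi_eq_zero {x : G} : chi x = 0 ↔ x = 1 := by
  constructor
  · intro h
    by_contra hx
    rw [chi_ne hx] at h
    exact absurd h (by decide)
  · rintro rfl
    exact chi_one

theorem chi_mul {z x y : G} (hz : z * z = 1) (hx : x = 1 ∨ x = z) (hy : y = 1 ∨ y = z) :
    chi (x * y) = chi x + chi y := by
  rcases hx with rfl | rfl
  · rw [one_mul, chi_one, zero_add]
  · rcases hy with rfl | rfl
    · rw [mul_one, chi_one, add_zero]
    · rw [hz, chi_one]
      have : ∀ a : ZMod 2, 0 = a + a := by decide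
      exact this _

theorem mem_zp_iff {z x : G} (hz : z * z = 1) : x ∈ zpowers z ↔ x = 1 ∨ x = z := by
  constructor
  · intro hx
    obtain ⟨n, rfl⟩ := mem_zpowers_iff.1 hx
    rcases Int.even_or_odd' n with ⟨k, rfl | rfl⟩
    · left
      rw [zpow_mul, zpow_two, hz, one_zpow]
    · right
      rw [zpow_add, zpow_mul, zpow_two, hz, one_zpow, one_mul, zpow_one]
  · rintro (rfl | rfl)
    · exact one_mem _
    · exact mem_zpowers _

/-- the form on `N = W/⟨z⟩` -/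
theorem exists_form {C W : Subgroup G} {z : G} (hz : z * z = 1) (hWC : W ≤ C) (hC : ∀ c ∈ C, c * z = z * c)
    (hCW : ∀ c ∈ C, ∀ w ∈ W, c * w * c⁻¹ ∈ W)
    {N : Type v} [CommGroup N] {ρ : ↥C →* MulAut N} {p : ↥W →* N} (surj : Function.Surjective p)
    (ker : ∀ w, p w = 1 ↔ (w : G) ∈ zpowers z)
    (act : ∀ (c : C) (w w' : W), (w' : G) = c * w * c⁻¹ → ρ c (p w) = p w') (sq : ∀ m : N, m * m = 1) :
    ∃ (f : N → N → ZMod 2) (q : N → ZMod 2), Form ρ f q ∧
      (∀ w w' : W, f (p w) (p w') = chi ((w : G) * w' * (w : G)⁻¹ * (w' : G)⁻¹)) ∧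
      ∀ w : W, q (p w) = chi ((w : G) * w) := by
  have hc2 : ∀ w w' : W, (w : G) * w' * (w : G)⁻¹ * (w' : G)⁻¹ = 1 ∨ (w : G) * w' * (w : G)⁻¹ * (w' : G)⁻¹ = z := by
    intro w w'
    rw [← mem_zp_iff hz]
    have h1 : ((w * w' * w⁻¹ * w'⁻¹ : W) : G) ∈ zpowers z := by
      rw [← ker, map_mul, map_mul, map_mul, map_inv, map_inv, mul_comm (p w), mul_inv_cancel_right, mul_inv_cancel]
    exact h1
  have hs2 : ∀ w : W, (w : G) * w = 1 ∨ (w : G) * w = z := by
    intro w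
    rw [← mem_zp_iff hz]
    have h1 : ((w * w : W) : G) ∈ zpowers z := by
      rw [← ker, map_mul, sq]
    exact h1
  have hzW : ∀ w : W, (w : G) * z = z * w := fun w => hC w (hWC w.2)
  have hcen : ∀ c ∈ C, ∀ x : G, (x = 1 ∨ x = z) → c * x * c⁻¹ = x := by
    rintro c hc x (rfl | rfl)
    · rw [mul_one, mul_inv_cancel]
    · rw [hC c hc, mul_inv_cancel_right]
  let s : N → W := fun n => (surj n).choose
  have hs : ∀ n, p (s n) = n := fun n => (surj n).choose_spec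
  have hrep : ∀ w : W, (s (p w) : G) = w ∨ (s (p w) : G) = z * w := by
    intro w
    have h1 : ((s (p w) * w⁻¹ : W) : G) ∈ zpowers z := by
      rw [← ker, map_mul, map_inv, hs, mul_inv_cancel]
    rcases (mem_zp_iff hz).1 h1 with h2 | h2
    · left
      exact mul_inv_eq_one.1 h2
    · right
      exact mul_inv_eq_iff_eq_mul.1 h2
  let f : N → N → ZMod 2 := fun n m => chi ((s n : G) * s m * (s n : G)⁻¹ * (s m : G)⁻¹)
  let q : N → ZMod 2 := fun n => chi ((s n : G) * s n)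
  have hf : ∀ w w' : W, f (p w) (p w') = chi ((w : G) * w' * (w : G)⁻¹ * (w' : G)⁻¹) := by
    intro w w'
    change chi _ = _
    congr 1
    have e1 : ∀ x y : W, z * (x : G) * y * (z * (x : G))⁻¹ * (y : G)⁻¹ = x * y * (x : G)⁻¹ * (y : G)⁻¹ := by
      intro x y
      calc z * (x : G) * y * (z * (x : G))⁻¹ * (y : G)⁻¹ = z * (x * y * (x : G)⁻¹) * (z⁻¹ * (y : G)⁻¹) := by group
        _ = (x * y * (x : G)⁻¹) * z * (z⁻¹ * (y : G)⁻¹) := by
            have := hzW (x * y * x⁻¹)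
            rw [Subgroup.coe_mul, Subgroup.coe_mul, Subgroup.coe_inv] at this
            rw [this]
        _ = _ := by group
    have e2 : ∀ x y : W, (x : G) * (z * y) * (x : G)⁻¹ * (z * (y : G))⁻¹ = x * y * (x : G)⁻¹ * (y : G)⁻¹ := by
      intro x y
      calc (x : G) * (z * y) * (x : G)⁻¹ * (z * (y : G))⁻¹ = (x * z) * (y * (x : G)⁻¹ * (y : G)⁻¹) * z⁻¹ := by group
        _ = z * (x * y * (x : G)⁻¹ * (y : G)⁻¹) * z⁻¹ := by rw [hzW]; group
        _ = (x * y * (x : G)⁻¹ * (y : G)⁻¹) * z * z⁻¹ := by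
            have := hzW (x * y * x⁻¹ * y⁻¹)
            rw [Subgroup.coe_mul, Subgroup.coe_mul, Subgroup.coe_mul, Subgroup.coe_inv, Subgroup.coe_inv] at this
            rw [this]
        _ = _ := by group
    rcases hrep w with h1 | h1
    · rcases hrep w' with h2 | h2
      · rw [h1, h2]
      · rw [h1, h2, e2]
    · rcases hrep w' with h2 | h2
      · rw [h1, h2, e1]
      · have e3 : z * (w : G) * (z * w') * (z * (w : G))⁻¹ * (z * (w' : G))⁻¹ =
            w * (z * w') * (w : G)⁻¹ * (z * (w' : G))⁻¹ := by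
          have h3 := (surj (p w')).choose_spec
          have h4 := e1 w (s (p w'))
          rw [h2] at h4
          exact h4
        rw [h1, h2, e3, e2]
  have hq : ∀ w : W, q (p w) = chi ((w : G) * w) := by
    intro w
    change chi _ = _
    congr 1
    rcases hrep w with h1 | h1
    · rw [h1]
    · rw [h1]
      calc z * (w : G) * (z * w) = z * (w * z) * w := by group
        _ = (z * z) * (w * w) := by rw [hzW]; group
        _ = w * w := by rw [hz, one_mul]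
  refine ⟨f, q, ⟨sq, ?_, ?_, ?_, ?_, ?_⟩, hf, hq⟩
  · intro x y w
    obtain ⟨x, rfl⟩ := surj x
    obtain ⟨y, rfl⟩ := surj y
    obtain ⟨w, rfl⟩ := surj w
    rw [← map_mul, hf, hf, hf, ← chi_mul hz (hc2 x w) (hc2 y w)]
    congr 1
    rw [Subgroup.coe_mul]
    have h1 := hcen x (hWC x.2) _ (hc2 y w)
    calc (x : G) * y * w * ((x : G) * y)⁻¹ * (w : G)⁻¹ =
          (x * (y * w * (y : G)⁻¹ * (w : G)⁻¹) * (x : G)⁻¹) * (x * w * (x : G)⁻¹ * (w : G)⁻¹) := by group
      _ = (y * w * (y : G)⁻¹ * (w : G)⁻¹) * (x * w * (x : G)⁻¹ * (w : G)⁻¹) := by rw [h1]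
      _ = _ := by
          rcases hc2 y w with h2 | h2
          · rw [h2, one_mul, mul_one]
          · have h3 := hzW (x * w * x⁻¹ * w⁻¹)
            rw [Subgroup.coe_mul, Subgroup.coe_mul, Subgroup.coe_mul, Subgroup.coe_inv, Subgroup.coe_inv] at h3
            rw [h2, h3]
  · intro x y
    obtain ⟨x, rfl⟩ := surj x
    obtain ⟨y, rfl⟩ := surj y
    rw [hf, hf]
    have h1 : (y : G) * x * (y : G)⁻¹ * (x : G)⁻¹ = (x * y * (x : G)⁻¹ * (y : G)⁻¹)⁻¹ := by group
    rw [h1]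
    rcases hc2 x y with h2 | h2
    · rw [h2, inv_one]
    · rw [h2, inv_eq_of_mul_eq_one_left hz]
  · intro x y
    obtain ⟨x, rfl⟩ := surj x
    obtain ⟨y, rfl⟩ := surj y
    rw [← map_mul, hq, hq, hq, hf, ← chi_mul hz (hs2 x) (hs2 y)]
    have hxy : (x : G) * x * (y * y) = 1 ∨ (x : G) * x * (y * y) = z := by
      rcases hs2 x with h1 | h1
      · rw [h1, one_mul]; exact hs2 y
      · rcases hs2 y with h2 | h2
        · rw [h1, h2, mul_one]; exact Or.inr rfl
        · rw [h1, h2, hz]; exact Or.inl rfl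
    rw [← chi_mul hz hxy (hc2 x y)]
    congr 1
    rw [Subgroup.coe_mul]
    have h1 : ((x : G) * y) * (x * y) = (x * x) * ((x : G)⁻¹ * (x * y * (x : G)⁻¹ * (y : G)⁻¹)⁻¹ * x) * (y * y) := by
      group
    have h2 : (x : G)⁻¹ * (x * y * (x : G)⁻¹ * (y : G)⁻¹)⁻¹ * x = x * y * (x : G)⁻¹ * (y : G)⁻¹ := by
      have h4 : (x * y * (x : G)⁻¹ * (y : G)⁻¹)⁻¹ = x * y * (x : G)⁻¹ * (y : G)⁻¹ := by
        rcases hc2 x y with h2 | h2
        · rw [h2, inv_one]
        · rw [h2, inv_eq_of_mul_eq_one_left hz]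
      rw [h4]
      have h5 := hcen (x : G)⁻¹ (C.inv_mem (hWC x.2)) _ (hc2 x y)
      rwa [inv_inv] at h5
    rw [h1, h2]
    rcases hc2 x y with h3 | h3
    · rw [h3, mul_one, mul_one]
    · have h4 := hzW (y * y)
      rw [Subgroup.coe_mul] at h4
      rw [h3, mul_assoc, ← h4, ← mul_assoc]
  · intro c x y
    obtain ⟨x, rfl⟩ := surj x
    obtain ⟨y, rfl⟩ := surj y
    rw [act c x ⟨c * x * c⁻¹, hCW c c.2 x x.2⟩ rfl, act c y ⟨c * y * c⁻¹, hCW c c.2 y y.2⟩ rfl, hf, hf]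
    congr 1
    have h1 := hcen c c.2 _ (hc2 x y)
    calc (c : G) * x * (c : G)⁻¹ * ((c : G) * y * (c : G)⁻¹) * ((c : G) * x * (c : G)⁻¹)⁻¹ * ((c : G) * y * (c : G)⁻¹)⁻¹ =
          (c : G) * (x * y * (x : G)⁻¹ * (y : G)⁻¹) * (c : G)⁻¹ := by group
      _ = _ := h1
  · intro c x
    obtain ⟨x, rfl⟩ := surj x
    rw [act c x ⟨c * x * c⁻¹, hCW c c.2 x x.2⟩ rfl, hq, hq]
    congr 1
    have h1 := hcen c c.2 _ (hs2 x)
    calc (c : G) * x * (c : G)⁻¹ * ((c : G) * x * (c : G)⁻¹) = (c : G) * (x * x) * (c : G)⁻¹ := by group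
      _ = _ := h1

end Cfsg.Agent.OddCyclic.Eq
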