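import Cfsg.Agent.OddCyclic.Eq.SixAAct
import Cfsg.Agent.OddCyclic.Eq.SecFive
import Cfsg.Agent.OddCyclic.Eq.QForm
import Cfsg.Agent.OddCyclic.EqNMain
import Cfsg.Agent.OddCyclic.FFSec

/-!
# (E_q) of `T_cyc`, 6.B: `V_z` nonabelian is impossible
-/

set_option autoImplicit false
set_option linter.unusedSectionVars false
set_option linter.style.haveILetI false

namespace Cfsg.Agent.OddCyclic.Eq.SixB

open Subgroup Cfsg Cfsg.Agent.ZN
open Cfsg.Agent.OddCyclic.Eq.SixA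
open Cfsg.Agent.OddCyclic.Eq.SecFive (Fld)
open Cfsg.Agent.OddCyclic.T1Defs (OddCyc)
open Cfsg.Agent.OddCyclic.FFBasic

universe u

variable {G : Type u} [Group G] {S V J : Subgroup G} {z : G}

/-- `V_z` does not centralise `J` -/
theorem exists_w (hnab : ∃ x ∈ Vz J z, ∃ y ∈ Vz J z, x * y ≠ y * x) : ∃ w ∈ Vz J z, w ∉ centralizer (J : Set G) := by
  by_contra hcon
  push Not at hcon
  obtain ⟨x, hx, y, hy, hxy⟩ := hnab
  apply hxy
  revert x
  intro x hx _
  induction hy using closure_induction with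
  | mem y hy =>
    obtain ⟨c, hc, a, ha, rfl⟩ := hy
    have hc' : c⁻¹ ∈ Cz z := (Cz z).inv_mem (mem_Cz.2 hc)
    have h1 : c⁻¹ * x * c ∈ Vz J z := by
      have := Vz_conj hc' hx
      rwa [inv_inv] at this
    have h2 := mem_centralizer_iff.1 (hcon _ h1) a ha
    calc x * (c * a * c⁻¹) = c * ((c⁻¹ * x * c) * a) * c⁻¹ := by group
      _ = c * (a * (c⁻¹ * x * c)) * c⁻¹ := by rw [h2]
      _ = c * a * c⁻¹ * x := by group
  | one => rw [mul_one, one_mul]
  | mul y y' _ _ h1 h2 =>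
    by_cases h3 : x * y = y * x
    · by_cases h4 : x * y' = y' * x
      · rw [← mul_assoc, h3, mul_assoc, h4, mul_assoc]
      · exact absurd (h2 h4) h4
    · exact absurd (h1 h3) h3
  | inv y _ h1 =>
    by_cases h3 : x * y = y * x
    · exact (Commute.inv_right (show Commute x y from h3)).eq
    · exact absurd (h1 h3) h3

section

variable [Finite G] (h : Hyp S V J z) (fl : Fld 4 2 J V S)

include h

/-- `[Q, V_z] ≤ ⟨z⟩`, in the form `[v, w]` -/
theorem comm_zp {x w : G} (hx : x ∈ o2 (Cz z)) (hw : w ∈ Vz J z) : x * w * x⁻¹ * w⁻¹ ∈ zpowers z :=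
  (h.o2_le_Kz hx).2 w hw

theorem Vcomm {x y : G} (hx : x ∈ V) (hy : y ∈ V) : x * y = y * x := comm_of_sq h.Vsq hx hy

theorem Vinv {x : G} (hx : x ∈ V) : x⁻¹ = x := inv_eq_of_mul_eq_one_left (h.Vsq x hx)

theorem V_le_CV {x : G} (hx : x ∈ V) : x ∈ centralizer (V : Set G) :=
  mem_centralizer_iff.2 fun _ hy => Vcomm h hy hx

theorem comm_mem_V {x w : G} (hx : x ∈ V) (hw : w ∈ Vz J z) : x * w * x⁻¹ * w⁻¹ ∈ V ⊓ Vz J z := by
  constructor
  · have h1 := (mem_normalizer_iff.1 (h.SV (h.Vz_le_S hw)) x⁻¹).1 (V.inv_mem hx)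
    have h2 := V.mul_mem hx h1
    simpa [mul_assoc] using h2
  · exact (Vz J z).mul_mem (Vz_conj (h.V_le_Cz hx) hw) ((Vz J z).inv_mem hw)

theorem J_le_V1 : J ≤ V ⊓ o2 (Cz z) := le_inf h.JV h.Jo2

/-- squares of elements of `V_z` -/
theorem sq_mem {w : G} (hw : w ∈ Vz J z) : w * w ∈ zpowers z := by
  obtain ⟨a, ha, haz⟩ := h.exists_a
  obtain ⟨N, iN, ρ, p, lam, hA⟩ := h.exists_act ha haz
  have h1 := hA.sq (p ⟨w, hw⟩)
  rw [← map_mul, hA.ker] at h1
  exact h1

/-- `|C_J(w)| = 2` -/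
theorem J_inf {w : G} (hwS : w ∈ S) (hwJ : w ∉ centralizer (J : Set G)) {x : G} (hx : x ∈ J) (hxw : w * x = x * w) :
    x ∈ zpowers z := by
  by_contra hxz
  apply hwJ
  rw [mem_centralizer_iff]
  intro y hy
  rcases h.J_cases hx hxz hy with rfl | rfl | rfl | rfl
  · rw [one_mul, mul_one]
  · exact (h.Sz w hwS).symm
  · exact hxw.symm
  · rw [mul_assoc, ← h.Sz w hwS, ← mul_assoc, ← hxw, mul_assoc]

include fl

/-- the element `w` of field type -/
theorem card_Cw {w : G} (hw : w ∈ Vz J z) (hwJ : w ∉ centralizer (J : Set G)) :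
    Nat.card (V ⊓ centralizer {w} : Subgroup G) = 4 ∧ ∀ v ∈ V, w * v = v * w → ∃ u ∈ V, u * w * u⁻¹ * w⁻¹ = v := by
  have h1 := fl.cF w (h.Vz_le_S hw) hwJ (V_le_CV h (h.JV (h.zp_le (sq_mem h hw))))
  exact ⟨h1.1, h1.2.2⟩

/-- `V¹ ≤ V_z` -/
theorem V1_le {w : G} (hw : w ∈ Vz J z) (hwJ : w ∉ centralizer (J : Set G)) : V ⊓ o2 (Cz z) ≤ Vz J z := by
  obtain ⟨hc, hcom⟩ := card_Cw h fl hw hwJ
  have h1 : V ⊓ Vz J z ≤ V ⊓ o2 (Cz z) := inf_le_inf_left _ h.Vz_le_o2
  have h2 : J ≤ V ⊓ Vz J z := le_inf h.JV (J_le_Vz J z)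
  have h3 : V ⊓ centralizer {w} ≤ V ⊓ Vz J z := by
    intro v hv
    obtain ⟨u, hu, rfl⟩ := hcom v hv.1 (mem_centralizer_singleton_iff.1 hv.2).symm
    exact comm_mem_V h hu hw
  have h4 : Nat.card (V ⊓ Vz J z : Subgroup G) ∣ 8 := by
    rw [← h.card8]; exact Subgroup.card_dvd_of_le h1
  have h5 : 4 ∣ Nat.card (V ⊓ Vz J z : Subgroup G) := by
    rw [← h.cardJ]; exact Subgroup.card_dvd_of_le h2
  have h6 : Nat.card (V ⊓ Vz J z : Subgroup G) ≠ 4 := by
    intro h6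
    have h7 : J = V ⊓ Vz J z := Subgroup.eq_of_le_of_card_ge h2 (by rw [h6, h.cardJ])
    have h8 : V ⊓ centralizer {w} ≤ zpowers z := by
      intro v hv
      have h9 : v ∈ J := by rw [h7]; exact h3 hv
      exact J_inf h (h.Vz_le_S hw) hwJ h9 (mem_centralizer_singleton_iff.1 hv.2).symm
    have h9 := Subgroup.card_le_of_le h8
    have h10 : Nat.card (zpowers z) = 2 := by
      rw [Nat.card_zpowers]
      exact orderOf_eq_prime (by rw [pow_two]; exact h.z_sq) h.z1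
    omega
  have h7 : Nat.card (V ⊓ Vz J z : Subgroup G) = 8 := by
    obtain ⟨k, hk⟩ := h5
    have h8 := Nat.le_of_dvd (by norm_num) h4
    have h9 : k = 0 ∨ k = 1 ∨ k = 2 := by omega
    rcases h9 with rfl | rfl | rfl
    · rw [hk] at h4; norm_num at h4
    · exact absurd hk h6
    · exact hk
  have h8 : V ⊓ Vz J z = V ⊓ o2 (Cz z) := Subgroup.eq_of_le_of_card_ge h1 (by rw [h7, h.card8])
  rw [← h8]; exact inf_le_right

/-- the transvection in `V_z` -/
theorem exists_e {w : G} (hw : w ∈ Vz J z) (hwJ : w ∉ centralizer (J : Set G)) :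
    ∃ e ∈ Vz J z, e ∈ centralizer (J : Set G) ∧ e ∉ centralizer (V : Set G) := by
  by_contra hcon
  push Not at hcon
  apply hwJ
  apply fl.self w (h.Vz_le_S hw)
  intro b hb hbJ
  refine hcon _ ((Vz J z).mul_mem (Vz_conj (h.S_le_Cz hb) hw) ((Vz J z).inv_mem hw)) ?_
  have h1 : w * b⁻¹ * w⁻¹ ∈ centralizer (J : Set G) := by
    rw [mem_centralizer_iff]
    intro y hy
    have h2 : w⁻¹ * y * w ∈ J := by
      have := (mem_normalizer_iff.1 ((normalizer (J : Set G)).inv_mem (h.SJ (h.Vz_le_S hw))) y).1 hy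
      rwa [inv_inv] at this
    have h3 := mem_centralizer_iff.1 ((centralizer (J : Set G)).inv_mem hbJ) _ h2
    calc y * (w * b⁻¹ * w⁻¹) = w * ((w⁻¹ * y * w) * b⁻¹) * w⁻¹ := by group
      _ = w * (b⁻¹ * (w⁻¹ * y * w)) * w⁻¹ := by rw [h3]
      _ = w * b⁻¹ * w⁻¹ * y := by group
  have h2 : b * w * b⁻¹ * w⁻¹ = b * (w * b⁻¹ * w⁻¹) := by group
  rw [h2]
  exact (centralizer (J : Set G)).mul_mem hbJ h1

omit fl

/-- an element of `B` moving `v₁` modulo `⟨z⟩` -/
theorem exists_b {v : G} (hv : v ∈ V) (hvJ : v ∉ J) :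
    ∃ b ∈ S ⊓ centralizer (J : Set G), v * b * v⁻¹ * b⁻¹ ∉ zpowers z := by
  by_contra hcon
  push Not at hcon
  set B := S ⊓ centralizer (J : Set G) with hB
  have hz2 : z * z = 1 := h.z_sq
  have key : ∀ b ∈ B, b ∉ centralizer (V : Set G) → v * b * v⁻¹ * b⁻¹ = z := by
    intro b hb hbV
    rcases h.mem_zp.1 (hcon b hb) with h1 | h1
    · exfalso
      apply hvJ
      apply h.cfix b hb hbV v hv
      have h2 := mul_inv_eq_one.1 h1
      exact (mul_inv_eq_iff_eq_mul.1 h2).symm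
    · exact h1
  have hmul : ∀ b ∈ B, ∀ c ∈ B, b ∉ centralizer (V : Set G) → c ∉ centralizer (V : Set G) →
      b * c ∈ centralizer (V : Set G) := by
    intro b hb c hc hbV hcV
    by_contra hbc
    have h1 := key _ (B.mul_mem hb hc) hbc
    have h2 : v * (b * c) * v⁻¹ * (b * c)⁻¹ = (v * b * v⁻¹ * b⁻¹) * (b * (v * c * v⁻¹ * c⁻¹) * b⁻¹) := by group
    have h3 : b * z * b⁻¹ = z := by rw [← h.Sz b hb.1 |>.symm, mul_inv_cancel_right]
    rw [h2, key b hb hbV, key c hc hcV, h3, hz2] at h1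
    exact h.z1 h1.symm
  have hne : (S ⊓ centralizer (V : Set G)).relIndex B = 2 := by
    obtain ⟨b, hb, hbV⟩ : ∃ b ∈ B, b ∉ centralizer (V : Set G) := by
      by_contra hcon'
      push Not at hcon'
      have h1 : (S ⊓ centralizer (V : Set G)).relIndex B = 1 := by
        rw [Subgroup.relIndex_eq_one]
        exact fun b hb => ⟨hb.1, hcon' b hb⟩
      rw [h.idx] at h1
      norm_num at h1
    rw [Subgroup.relIndex, Subgroup.index_eq_two_iff]
    refine ⟨⟨b, hb⟩, fun c => ?_⟩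
    have hmem : ∀ c : B, c ∈ (S ⊓ centralizer (V : Set G)).subgroupOf B ↔ (c : G) ∈ centralizer (V : Set G) := by
      intro c
      rw [mem_subgroupOf]
      exact ⟨fun h => h.2, fun h => ⟨c.2.1, h⟩⟩
    rw [hmem, hmem, Subgroup.coe_mul]
    by_cases hc : (c : G) ∈ centralizer (V : Set G)
    · right
      refine ⟨hc, fun h1 => hbV ?_⟩
      have h2 := (centralizer (V : Set G)).mul_mem ((centralizer (V : Set G)).inv_mem hc) h1
      rwa [inv_mul_cancel_left] at h2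
    · left
      exact ⟨hmul c c.2 b hb hc hbV, hc⟩
  rw [h.idx] at hne
  norm_num at hne

end

/-- **6.B is impossible** -/
theorem false_of [Finite G] (hc : OddCyc G) (hs : CompStart.SecZero G) (hzt : Cz z ≠ ⊤) (h : Hyp S V J z)
    (fl : Fld 4 2 J V S)
    (baer : ∀ m ∈ V, m ∉ zpowers z → ∀ x : G, x ^ 3 = 1 → x * z = z * x → x * m = m * x → x = 1)
    (hnab : ∃ x ∈ Vz J z, ∃ y ∈ Vz J z, x * y ≠ y * x) : False := by
  classical
  obtain ⟨a, ha, haz⟩ := h.exists_a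
  obtain ⟨N, iN, ρ, p, lam, hA⟩ := h.exists_act ha haz
  obtain ⟨f, q, hform, hf, hq⟩ := exists_form h.z_sq h.Vz_le_Cz (fun c hc => mem_Cz.1 hc)
    (fun c hc w hw => Vz_conj hc hw) hA.surj hA.ker hA.act hA.sq
  obtain ⟨w, hw, hwJ⟩ := exists_w hnab
  obtain ⟨e, he, heJ, heV⟩ := exists_e h fl hw hwJ
  have hV1 := V1_le h fl hw hwJ
  have hNf : Finite N := Finite.of_surjective p hA.surj
  have hzc : Nat.card (zpowers z) = 2 := by
    rw [Nat.card_zpowers]
    exact orderOf_eq_prime (by rw [pow_two]; exact h.z_sq) h.z1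
  obtain ⟨v0, hv0, hv0e⟩ := fl.kE e (h.Vz_le_S he) heJ heV a ha
  have hv0Q : v0 ∉ o2 (Cz z) := fun h1 => haz (hv0e ▸ comm_zp h h1 he)
  have hv0C : v0 ∈ Cz z := h.V_le_Cz hv0
  -- the Sylow subgroup
  haveI : Fact (Nat.Prime 2) := ⟨Nat.prime_two⟩
  let P : Sylow 2 G := ⟨S, h.two, fun hQ hle => le_antisymm (h.smax _ hQ hle) hle⟩
  let P' : Sylow 2 ↥(Cz z) := P.subtype h.S_le_Cz
  let T : Sylow 2 ρ.range := P'.mapSurjective ρ.rangeRestrict_surjective
  have hT : ∀ s ∈ T, ∃ s' : Cz z, (s' : G) ∈ S ∧ ρ.rangeRestrict s' = s := by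
    rintro s ⟨s', hs', hs''⟩
    exact ⟨s', hs', hs''⟩
  have hT' : ∀ s' : Cz z, (s' : G) ∈ S → ρ.rangeRestrict s' ∈ T := fun s' hs' => ⟨s', hs', rfl⟩
  let t : ρ.range := ρ.rangeRestrict ⟨v0, hv0C⟩
  have hlam : p ⟨a, J_le_Vz J z ha⟩ = lam := hA.lam_eq _ rfl
  have happ : ∀ (c : Cz z) (x : G) (hx : x ∈ Vz J z),
      ρ c (p ⟨x, hx⟩) = p ⟨c * x * (c : G)⁻¹, Vz_conj c.2 hx⟩ := fun c x hx => hA.act c ⟨x, hx⟩ _ rfl
  have hcm : ∀ (x : G) (hx : x ∈ Vz J z), cm (ρ.range.subtype) t (p ⟨x, hx⟩) =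
      p ⟨v0 * x * v0⁻¹ * x⁻¹, (comm_mem_V h hv0 hx).2⟩ := by
    intro x hx
    have h1 : cm (ρ.range.subtype) t (p ⟨x, hx⟩) = ρ ⟨v0, hv0C⟩ (p ⟨x, hx⟩) * (p ⟨x, hx⟩)⁻¹ := rfl
    rw [h1, happ, ← map_inv, ← map_mul]
    rfl
  set R := (cm (ρ.range.subtype) t).range with hR
  have hRmem : ∀ r ∈ R, ∃ (x : G) (hx : x ∈ Vz J z), x ∈ V ∧ p ⟨x, hx⟩ = r := by
    rintro _ ⟨n, rfl⟩
    obtain ⟨⟨x, hx⟩, rfl⟩ := hA.surj n
    rw [hcm]
    exact ⟨_, (comm_mem_V h hv0 hx).2, (comm_mem_V h hv0 hx).1, rfl⟩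
  -- the element `c`
  obtain ⟨hCw, hcom⟩ := card_Cw h fl hw hwJ
  obtain ⟨c, hcV, hcz⟩ : ∃ c ∈ V ⊓ centralizer {w}, c ∉ zpowers z := by
    by_contra hcon
    push Not at hcon
    have h1 : V ⊓ centralizer {w} ≤ zpowers z := hcon
    have h2 := Subgroup.card_le_of_le h1
    omega
  obtain ⟨u, hu, huc⟩ := hcom c hcV.1 (mem_centralizer_singleton_iff.1 hcV.2).symm
  have huQ : u ∉ o2 (Cz z) := fun h1 => hcz (huc ▸ comm_zp h h1 hw)
  have hcJ : c ∉ J := fun h1 => hcz (J_inf h (h.Vz_le_S hw) hwJ h1 (mem_centralizer_singleton_iff.1 hcV.2).symm)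
  have hcVz : c ∈ Vz J z := huc ▸ (comm_mem_V h hu hw).2
  have hpc : cm (ρ.range.subtype) t (p ⟨w, hw⟩) = p ⟨c, hcVz⟩ := by
    rw [hcm, hA.p_eq]
    have hg : v0 * u ∈ o2 (Cz z) := h.mul_mem_o2 hv0 hu hv0Q huQ
    have h1 : v0 = v0 * u * u := by rw [mul_assoc, h.Vsq u hu, mul_one]
    have h2 : v0 * w * v0⁻¹ * w⁻¹ * c⁻¹ = (v0 * u) * w * (v0 * u)⁻¹ * w⁻¹ := by
      have h3 : v0 * w * v0⁻¹ * w⁻¹ = (v0 * u) * c * (v0 * u)⁻¹ * ((v0 * u) * w * (v0 * u)⁻¹ * w⁻¹) := by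
        rw [← huc]
        have h4 : v0⁻¹ = u⁻¹ * (v0 * u)⁻¹ := by
          rw [← mul_inv_rev, ← h1]
        calc v0 * w * v0⁻¹ * w⁻¹ = (v0 * u * u) * w * (u⁻¹ * (v0 * u)⁻¹) * w⁻¹ := by rw [← h1, ← h4]
          _ = _ := by group
      have h5 : (v0 * u) * c * (v0 * u)⁻¹ = c := by
        rw [Vcomm h (V.mul_mem hv0 hu) hcV.1, mul_inv_cancel_right]
      have h6 : (v0 * u) * w * (v0 * u)⁻¹ * w⁻¹ ∈ V := (comm_mem_V h (V.mul_mem hv0 hu) hw).1
      rw [h3, h5, Vcomm h hcV.1 h6, mul_inv_cancel_right]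
    change v0 * w * v0⁻¹ * w⁻¹ * c⁻¹ ∈ zpowers z
    rw [h2]
    exact comm_zp h hg hw
  have hcR : p ⟨c, hcVz⟩ ∈ R := ⟨_, hpc⟩
  have hlamR : lam ∈ R := by
    refine ⟨p ⟨e, he⟩, ?_⟩
    rw [hcm, ← hlam]
    congr 1
    exact Subtype.ext hv0e
  have hlam1 : lam ≠ 1 := by
    intro h1
    rw [← hlam, hA.ker] at h1
    exact haz h1
  have hpc1 : p ⟨c, hcVz⟩ ≠ 1 := by
    intro h1
    rw [hA.ker] at h1
    exact hcz h1
  have hpcl : p ⟨c, hcVz⟩ ≠ lam := by
    intro h1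
    rw [← hlam, hA.p_eq] at h1
    apply hcJ
    have h2 := J.mul_mem (h.zp_le h1) ha
    have h3 : c * a⁻¹ * a = c := inv_mul_cancel_right c a
    rwa [h3] at h2
  -- `|R| = 4`
  have hRc : Nat.card R = 4 := by
    set W1 : Subgroup (Vz J z) := (V ⊓ o2 (Cz z)).subgroupOf (Vz J z) with hW1
    have hW1c : Nat.card W1 = 8 := by
      rw [hW1, Nat.card_congr (subgroupOfEquivOfLe hV1).toEquiv, h.card8]
    let k : W1 →* N := p.comp W1.subtype
    have h1 := k.ker.card_mul_index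
    rw [Subgroup.index_ker, hW1c] at h1
    have h2 : 2 ≤ Nat.card k.ker := by
      have h3 : k.ker ≠ ⊥ := by
        intro h3
        have h4 : (⟨⟨z, J_le_Vz J z h.zJ⟩, mem_subgroupOf.2 (J_le_V1 h h.zJ)⟩ : W1) ∈ k.ker := by
          rw [MonoidHom.mem_ker]
          exact (hA.ker _).2 (mem_zpowers z)
        rw [h3, mem_bot] at h4
        exact h.z1 (congrArg (fun x : W1 => ((x : Vz J z) : G)) h4)
      exact (Subgroup.one_lt_card_iff_ne_bot _).2 h3
    have h3 : Nat.card k.range ≤ 4 := by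
      by_contra hcon
      push Not at hcon
      have := Nat.mul_le_mul h2 hcon
      omega
    have h4 : R ≤ k.range := by
      rintro _ ⟨n, rfl⟩
      obtain ⟨⟨x, hx⟩, rfl⟩ := hA.surj n
      rw [hcm]
      have h5 := comm_mem_V h hv0 hx
      exact ⟨⟨⟨_, h5.2⟩, mem_subgroupOf.2 ⟨h5.1, h.Vz_le_o2 h5.2⟩⟩, rfl⟩
    have h5 : Nat.card R ∣ Nat.card k.range := Subgroup.card_dvd_of_le h4
    have h6 : (({1, lam, p ⟨c, hcVz⟩} : Finset N) : Set N) ⊆ (R : Set N) := by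
      intro x hx
      simp only [Finset.coe_insert, Finset.coe_singleton, Set.mem_insert_iff, Set.mem_singleton_iff] at hx
      rcases hx with rfl | rfl | rfl
      · exact one_mem _
      · exact hlamR
      · exact hcR
    have h7 := Set.ncard_le_ncard h6 (Set.toFinite _)
    rw [Set.ncard_coe_finset, ← Nat.card_coe_set_eq] at h7
    have h8 : ({1, lam, p ⟨c, hcVz⟩} : Finset N).card = 3 := by
      rw [Finset.card_insert_of_notMem, Finset.card_insert_of_notMem, Finset.card_singleton]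
      · simpa using hpcl.symm
      · simp only [Finset.mem_insert, Finset.mem_singleton, not_or]
        exact ⟨hlam1.symm, hpc1.symm⟩
    rw [h8] at h7
    have h9 : 3 ≤ Nat.card R := h7
    have h10 : Nat.card k.range ∣ 8 := ⟨_, by rw [← h1]; ring⟩
    have h11 := Nat.le_of_dvd Nat.card_pos h5
    have h12 : Nat.card k.range = 4 := by
      have : Nat.card k.range = 3 ∨ Nat.card k.range = 4 := by omega
      rcases this with h13 | h13
      · rw [h13] at h10; norm_num at h10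
      · exact h13
    rw [h12] at h5 h11
    have : Nat.card R = 3 ∨ Nat.card R = 4 := by omega
    rcases this with h13 | h13
    · rw [h13] at h5; norm_num at h5
    · exact h13
  obtain ⟨b, hb, hbc⟩ := exists_b h hcV.1 hcJ
  -- the situation of 6.B
  have hsit : EqN.Sit (ρ.range.subtype) f q T t lam :=
    { form :=
        { sq := hform.sq
          f_mul := hform.f_mul
          f_symm := hform.f_symm
          q_mul := hform.q_mul
          f_inv := by
            rintro ⟨_, c, rfl⟩ x y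
            exact hform.f_inv c x y
          q_inv := by
            rintro ⟨_, c, rfl⟩ x
            exact hform.q_inv c x }
      ne := by
        intro h1
        have h2 : ρ ⟨v0, hv0C⟩ = 1 := congrArg Subtype.val h1
        rw [hA.one_iff] at h2
        exact hv0Q (h.V_inf_Kz hv0 h2)
      sq := by
        change ρ.rangeRestrict _ * ρ.rangeRestrict _ = 1
        rw [← map_mul]
        have h1 : (⟨v0, hv0C⟩ : Cz z) * ⟨v0, hv0C⟩ = 1 := Subtype.ext (h.Vsq v0 hv0)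
        rw [h1, map_one]
      comm := by
        intro s hsT
        obtain ⟨s', hs', rfl⟩ := hT s hsT
        change ρ.rangeRestrict _ * ρ.rangeRestrict _ = ρ.rangeRestrict _ * ρ.rangeRestrict _
        have h1 : (s' : G) * v0 * (s' : G)⁻¹ * v0⁻¹ ∈ o2 (Cz z) := h.comm_o2 s'.2 (h.SV hs') hv0 hv0Q
        have h2 : ρ (s' * ⟨v0, hv0C⟩ * s'⁻¹ * (⟨v0, hv0C⟩ : Cz z)⁻¹) = 1 := by
          rw [hA.one_iff]
          exact h.o2_le_Kz h1
        have h3 : ρ.rangeRestrict (s' * ⟨v0, hv0C⟩ * s'⁻¹ * (⟨v0, hv0C⟩ : Cz z)⁻¹) = 1 := Subtype.ext h2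
        rw [map_mul, map_mul, map_mul, map_inv, map_inv] at h3
        exact mul_inv_eq_iff_eq_mul.1 (mul_inv_eq_one.1 h3)
      idx := by
        rw [← card_range_cm]; exact hRc
      sing := by
        intro r hr
        obtain ⟨x, hx, hxV, rfl⟩ := hRmem r hr
        rw [hq, chi_eq_zero]
        exact h.Vsq x hxV
      lne := hlam1
      lmem := hlamR
      fixl := by
        intro s hsT
        obtain ⟨s', hs', rfl⟩ := hT s hsT
        exact (hA.stab s').2 (h.SJ hs')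
      gen := by
        intro K hK
        rw [eq_top_iff, ← hA.gen, closure_le]
        rintro _ ⟨c, rfl⟩
        exact hK ⟨ρ c, c, rfl⟩
      nrad := by
        refine ⟨p ⟨w, hw⟩, ?_⟩
        rw [← hlam, hf]
        intro h1
        rw [chi_eq_zero] at h1
        change a * w * a⁻¹ * w⁻¹ = 1 at h1
        apply haz
        apply J_inf h (h.Vz_le_S hw) hwJ ha
        exact (mul_inv_eq_iff_eq_mul.1 (mul_inv_eq_one.1 h1)).symm
      swap := by
        refine ⟨_, hT' ⟨b, h.S_le_Cz hb.1⟩ hb.1, _, hcR, ?_⟩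
        intro h1
        have h2 : ρ ⟨b, h.S_le_Cz hb.1⟩ (p ⟨c, hcVz⟩) = p ⟨c, hcVz⟩ := h1
        rw [happ, hA.p_eq] at h2
        apply hbc
        have h3 : c * b * c⁻¹ * b⁻¹ = (b * c * b⁻¹ * c⁻¹)⁻¹ := by group
        rw [h3]
        exact (zpowers z).inv_mem h2
      baer := by
        rintro ⟨_, c', rfl⟩ hy r hr hyr
        obtain ⟨x, hx, hxV, rfl⟩ := hRmem r hr
        by_contra hx1
        have hxz : x ∉ zpowers z := fun h1 => hx1 ((hA.ker _).2 h1)
        have hyr' : ρ c' (p ⟨x, hx⟩) = p ⟨x, hx⟩ := hyr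
        have hy' : orderOf (ρ c') = 3 := by
          rw [← hy]
          exact (Subgroup.orderOf_mk _ _).symm
        obtain ⟨j, m, hm, hj⟩ := Nat.exists_eq_two_pow_mul_odd (n := orderOf c') (orderOf_pos c').ne'
        set c1 := c' ^ 2 ^ j with hc1
        have ho : orderOf c1 = m := by
          rw [hc1, orderOf_pow, hj, Nat.gcd_eq_right (Dvd.intro _ rfl), Nat.mul_div_cancel_left _ (by positivity)]
        have h3c : 3 ∣ orderOf c1 := by
          have h1 : orderOf (ρ c1) = 3 := by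
            rw [hc1, map_pow, orderOf_pow, hy']
            have h2 : Nat.gcd 3 (2 ^ j) = 1 := Nat.Coprime.pow_right j (by norm_num)
            rw [h2]
          rw [← h1]
          exact orderOf_map_dvd ρ c1
        have hfix1 : ρ c1 (p ⟨x, hx⟩) = p ⟨x, hx⟩ := by
          have h1 : p ⟨x, hx⟩ ∈ fx ρ (c' ^ 2 ^ j) := fx_pow ρ hyr' _
          exact h1
        rw [happ, hA.p_eq] at hfix1
        have hfix1' : (c1 : G) * x * (c1 : G)⁻¹ * x⁻¹ ∈ zpowers z := hfix1
        have hz1 : (c1 : G) * z = z * c1 := mem_Cz.1 c1.2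
        have hx2 : (c1 : G) * c1 * x = x * (c1 * c1) := by
          rw [← mul_inv_eq_iff_eq_mul]
          rcases h.mem_zp.1 hfix1' with h1 | h1
          · have h2 : (c1 : G) * x * (c1 : G)⁻¹ = x := mul_inv_eq_one.1 h1
            calc (c1 : G) * c1 * x * ((c1 : G) * c1)⁻¹ = c1 * (c1 * x * (c1 : G)⁻¹) * (c1 : G)⁻¹ := by group
              _ = x := by rw [h2, h2]
          · have h2 : (c1 : G) * x * (c1 : G)⁻¹ = z * x := mul_inv_eq_iff_eq_mul.1 h1
            calc (c1 : G) * c1 * x * ((c1 : G) * c1)⁻¹ = c1 * (c1 * x * (c1 : G)⁻¹) * (c1 : G)⁻¹ := by group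
              _ = c1 * (z * x) * (c1 : G)⁻¹ := by rw [h2]
              _ = (c1 * z * (c1 : G)⁻¹) * (c1 * x * (c1 : G)⁻¹) := by group
              _ = z * (z * x) := by rw [h2, hz1, mul_inv_cancel_right]
              _ = x := by rw [← mul_assoc, h.z_sq, one_mul]
        have hx3 : (c1 : G) * x = x * c1 := by
          have hodd : Odd (orderOf c1) := by rw [ho]; exact hm
          obtain ⟨i, hi⟩ := hodd
          have h1 : ((c1 : G) * c1) ^ (i + 1) = c1 := by
            rw [← pow_two, ← pow_mul]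
            have h2 : 2 * (i + 1) = orderOf c1 + 1 := by omega
            rw [h2, pow_succ]
            have h3 : (c1 : G) ^ orderOf c1 = 1 := by
              rw [← Subgroup.orderOf_coe c1, pow_orderOf_eq_one]
            rw [h3, one_mul]
          have h2 : Commute (((c1 : G) * c1) ^ (i + 1)) x := Commute.pow_left hx2 _
          rw [h1] at h2
          exact h2
        set g : G := (c1 : G) ^ (orderOf c1 / 3) with hg
        have hgo : orderOf g = 3 := by
          rw [hg, ← Subgroup.orderOf_coe c1]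
          exact orderOf_pow_orderOf_div (orderOf_pos (c1 : G)).ne' (by rw [Subgroup.orderOf_coe]; exact h3c)
        have hg1 : g = 1 := by
          refine baer x hxV hxz g ?_ ?_ ?_
          · rw [← hgo, pow_orderOf_eq_one]
          · exact (Commute.pow_left (show Commute (c1 : G) z from hz1) _).eq
          · exact (Commute.pow_left (show Commute (c1 : G) x from hx3) _).eq
        rw [hg1, orderOf_one] at hgo
        norm_num at hgo }
  have hcX : OddCyc ρ.range := T1Structure.oddCyc_of_surjective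
    (T1Structure.oddCyc_of_injective hc (Cz z).subtype (Cz z).subtype_injective) ρ.rangeRestrict
    ρ.rangeRestrict_surjective
  refine hsit.false hcX (FFSec.kzero_of_image hs hzt ρ.rangeRestrict ρ.rangeRestrict_surjective) ?_
    (Subgroup.subtype_injective _)
  rw [Cfsg.Agent.Lib.Cores.pCore_def, eq_bot_iff]
  exact sSup_le fun D hD => (hA.core D hD.1 hD.2).le

end Cfsg.Agent.OddCyclic.Eq.SixB
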