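import Cfsg.Agent.OddCyclic.Eq.SixAEnd
import Cfsg.Agent.OddCyclic.Eq.SixB

/-!
# (E_q) of `T_cyc`, section 6: `q = 4`, `|V ∩ O₂(C_G(z))| = 8` is impossible
-/

set_option autoImplicit false

namespace Cfsg.Agent.OddCyclic.Eq.Six

open Subgroup Cfsg.Agent.OddCyclic.Eq.SixA
open Cfsg.Agent.OddCyclic.Eq.SecFive (Fld)
open Cfsg.Agent.OddCyclic.T1Defs (OddCyc)

universe u

variable {G : Type u} [Group G] {S V J : Subgroup G} {z : G}

theorem false_of [Finite G] (hc : OddCyc G) (hs : CompStart.SecZero G) (hzt : Cz z ≠ ⊤) (h : Hyp S V J z)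
    (fl : Fld 4 2 J V S)
    (baer : ∀ m ∈ V, m ∉ zpowers z → ∀ x : G, x ^ 3 = 1 → x * z = z * x → x * m = m * x → x = 1) : False := by
  by_cases hab : ∀ x ∈ Vz J z, ∀ y ∈ Vz J z, x * y = y * x
  · exact SixA.false h hab
  · push Not at hab
    exact SixB.false_of hc hs hzt h fl baer hab

end Cfsg.Agent.OddCyclic.Eq.Six
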