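import Cfsg.Agent.OddCyclic.Eq.CfgP
import Cfsg.Agent.OddCyclic.Eq.Six

/-!
# (E_q) of `T_cyc`, Part II, `V ≰ O₂(C_G(Ω₁Z(S)))`

* `hyp` : `SixA.Hyp`, for `q = 4` and `|V ∩ O₂(C_G(z))| = 8`;
* `baer` : (0.4), no element of order 3 centralises a four-group of `V`;
* `partTwoB`.
-/

set_option autoImplicit false
set_option linter.unusedSectionVars false

namespace Cfsg.Agent.OddCyclic.Eq.HypSix

open Subgroup Cfsg Cfsg.Agent.ZN Cfsg.Agent.MinSimple
open Cfsg.Agent.OddCyclic.RedU (EqOne)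
open Cfsg.Agent.OddCyclic.Eq.LemU
open Cfsg.Agent.OddCyclic.Eq.CfgP
open Cfsg.Agent.OddCyclic.T1Sl2 (up dg ww)
open Matrix (SpecialLinearGroup)

universe u

variable {G : Type u} [Group G] [Finite G] {S : Sylow 2 G} {L V : Subgroup G} {q : ℕ}

/-- an element acting as a 3-cycle has order divisible by 3 -/
theorem three_dvd_order {l z m : G} (hl1 : l * z * l⁻¹ = m) (hl2 : l * m * l⁻¹ = z * m) (hl3 : l * (z * m) * l⁻¹ = z)
    (hne : z ≠ m) : 3 ∣ orderOf l := by
  by_contra h3
  have h5 : Nat.Coprime 3 (orderOf l) := by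
    rcases Nat.coprime_or_dvd_of_prime Nat.prime_three (orderOf l) with h5 | h5
    · exact h5
    · exact absurd h5 h3
  obtain ⟨j, hj⟩ := exists_pow_eq_self_of_coprime h5
  have e : l ^ 3 * z * (l ^ 3)⁻¹ = l * (l * (l * z * l⁻¹) * l⁻¹) * l⁻¹ := by
    rw [pow_succ, pow_two]; group
  have e2 : l ^ 3 * z * (l ^ 3)⁻¹ = z := by rw [e, hl1, hl2, hl3]
  have h6 : Commute (l ^ 3) z := Four.conj_eq_iff_comm.1 e2
  have h7 := (h6.pow_left j).eq
  rw [hj] at h7
  apply hne
  rw [← hl1]
  exact (Four.conj_eq_iff_comm.2 h7).symm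

/-- **(0.4)**, "BAER": no element of order 3 centralises a four-group `⟨z, m⟩` of `V`, `q = 4` -/
theorem baer (h : EqOne S L V q) (h4 : q = 4) {z m x : G} (hz : z ∈ zc (bau (S : Subgroup G))) (hz1 : z ≠ 1)
    (hm : m ∈ V) (hmz : m ∉ zpowers z) (hx : x ^ 3 = 1) (hxz : x * z = z * x) (hxm : x * m = m * x) : x = 1 := by
  subst h4
  by_contra hx1
  have hf3 : Fact (Nat.Prime 3) := ⟨Nat.prime_three⟩
  have ho : orderOf x = 3 := orderOf_eq_prime hx hx1
  obtain ⟨F, _, _, _, e, φ, hq, c, hez⟩ := Base.exists_norm' h hz hz1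
  obtain ⟨a, b, rfl⟩ := (c.mem m).1 hm
  have hm1 : e a b ≠ 1 := fun h0 => hmz (h0 ▸ one_mem _)
  have hmz' : e a b ≠ z := fun h0 => hmz (h0 ▸ mem_zpowers _)
  by_cases hb : b = 0
  · -- the line `Z_J`
    subst hb
    have hxJ : x ∈ centralizer (zj (S : Subgroup G) : Set G) := by
      rw [← LemU.zj_eq_zc, Base.mem_cent_zc h c]
      intro y
      have h1 : x * e 1 0 * x⁻¹ = e 1 0 := by rw [hez]; exact Four.conj_eq_iff_comm.2 hxz
      have h2 : x * e a 0 * x⁻¹ = e a 0 := Four.conj_eq_iff_comm.2 hxm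
      -- `F = {0, 1, a, a + 1}`
      have ha0 : a ≠ 0 := by rintro rfl; exact hm1 c.zero
      have ha1 : a ≠ 1 := by rintro rfl; exact hmz' hez
      have hcard : Fintype.card F = 4 := hq
      have h3 : y = 0 ∨ y = 1 ∨ y = a ∨ y = 1 + a := by
        classical
        by_contra hcon
        push Not at hcon
        obtain ⟨c0, c1, c2, c3⟩ := hcon
        have h5 : ({0, 1, a, 1 + a, y} : Finset F).card ≤ 4 := by
          rw [← hcard]; exact Finset.card_le_univ _
        have h01 : (0 : F) ≠ 1 := zero_ne_one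
        have h1a : (1 : F) + a ≠ 0 := fun h0 => ha1 (CharTwo.add_eq_zero.1 h0).symm
        have h1a1 : (1 : F) + a ≠ 1 := fun h0 => ha0 (by
          have : (1 : F) + a = 1 + 0 := by rw [h0, add_zero]
          exact add_left_cancel this)
        have h1aa : (1 : F) + a ≠ a := fun h0 => h01 (by
          have : (1 : F) + a = 0 + a := by rw [h0, zero_add]
          exact (add_right_cancel this).symm)
        rw [Finset.card_insert_of_notMem, Finset.card_insert_of_notMem, Finset.card_insert_of_notMem,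
          Finset.card_insert_of_notMem, Finset.card_singleton] at h5
        · omega
        · simp only [Finset.mem_singleton]; exact c3.symm
        · simp only [Finset.mem_insert, Finset.mem_singleton, not_or]; exact ⟨h1aa.symm, c2.symm⟩
        · simp only [Finset.mem_insert, Finset.mem_singleton, not_or]; exact ⟨ha1.symm, h1a1.symm, c1.symm⟩
        · simp only [Finset.mem_insert, Finset.mem_singleton, not_or]; exact ⟨h01, ha0.symm, h1a.symm, c0.symm⟩
      rcases h3 with rfl | rfl | rfl | rfl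
      · rw [c.zero, mul_one, mul_inv_cancel]
      · exact h1
      · exact h2
      · have h5 : e (1 + a) 0 = e 1 0 * e a 0 := by rw [← c.add, add_zero]
        rw [h5]
        calc x * (e 1 0 * e a 0) * x⁻¹ = (x * e 1 0 * x⁻¹) * (x * e a 0 * x⁻¹) := by group
          _ = _ := by rw [h1, h2]
    exact cent_zj h Nat.prime_three (by norm_num) hxJ ho
  · -- a Baer subline
    have hdet : (!![a, (a * a + a + 1) / b; b, 1 + a] : Matrix (Fin 2) (Fin 2) F).det = 1 := by
      rw [Matrix.det_fin_two_of, div_mul_cancel₀ _ hb]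
      have : a * (1 + a) - (a * a + a + 1) = a + a * a - (a * a + a) - 1 := by ring
      rw [this, add_comm a (a * a), sub_self, zero_sub]
      exact CharTwo.neg_eq 1
    obtain ⟨l, hl⟩ := c.surj ⟨_, hdet⟩
    have hl' : ∀ x y, (l : G) * e x y * (l : G)⁻¹ = e (a * x + (a * a + a + 1) / b * y) (b * x + (1 + a) * y) := by
      intro x y
      rw [c.act, hl]
      rfl
    have h1 : (l : G) * z * (l : G)⁻¹ = e a b := by
      rw [← hez, hl']
      congr 1 <;> ring
    have h2 : (l : G) * e a b * (l : G)⁻¹ = z * e a b := by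
      rw [← hez, hl', ← c.add, div_mul_cancel₀ _ hb]
      congr 1
      · have : a * a + (a * a + a + 1) = (a * a + a * a) + (1 + a) := by ring
        rw [this, CharTwo.add_self_eq_zero, zero_add]
      · have : b * a + (1 + a) * b = (a * b + a * b) + b := by ring
        rw [this, CharTwo.add_self_eq_zero, zero_add]
    have hzm : z * e a b = e a b * z := by rw [← hez]; exact c.comm _ _ _ _
    have hmm : e a b * e a b = 1 := c.sq _ _
    have h3 : (l : G) * (z * e a b) * (l : G)⁻¹ = z := by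
      calc (l : G) * (z * e a b) * (l : G)⁻¹ = ((l : G) * z * (l : G)⁻¹) * ((l : G) * e a b * (l : G)⁻¹) := by group
        _ = e a b * (z * e a b) := by rw [h1, h2]
        _ = z := by rw [hzm, ← mul_assoc, hmm, one_mul]
    have h5 := three_dvd_order h1 h2 h3 hmz'.symm
    set W : Subgroup G := closure {z, e a b} with hW
    have hzW : z ∈ W := subset_closure (Or.inl rfl)
    have hmW : e a b ∈ W := subset_closure (Or.inr rfl)
    have hzV : z ∈ V := by rw [← hez]; exact c.eM _ _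
    have hWV : W ≤ V := by
      rw [hW, closure_le]
      rintro y (rfl | rfl)
      · exact hzV
      · exact hm
    have hlW : (l : G) ∈ normalizer (W : Set G) := by
      have h6 : W ≤ W.comap (MulAut.conj (l : G)).toMonoidHom := by
        rw [hW, closure_le]
        rintro y (rfl | rfl)
        · show (l : G) * _ * (l : G)⁻¹ ∈ W
          rw [h1]; exact hmW
        · show (l : G) * _ * (l : G)⁻¹ ∈ W
          rw [h2]; exact mul_mem hzW hmW
      exact ChoiceBase.mem_normalizer_of_cj_le (map_le_iff_le_comap.2 h6)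
    have hxW : x ∈ normalizer (W : Set G) := by
      refine centralizer_le_normalizer _ ?_
      have h6 : W ≤ centralizer ({x} : Set G) := by
        rw [hW, closure_le]
        rintro y (rfl | rfl)
        · exact mem_centralizer_singleton_iff.2 hxz.symm
        · exact mem_centralizer_singleton_iff.2 hxm.symm
      rw [mem_centralizer_iff]
      intro w hw
      exact mem_centralizer_singleton_iff.1 (h6 hw)
    exact hz1 (no_fix_W h Nat.prime_three (by norm_num) hWV (l := (l : G) ^ (orderOf (l : G) / 3)) (pow_mem l.2 _)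
      (pow_mem hlW _) (orderOf_pow_orderOf_div (orderOf_pos _).ne' h5) hxW ho z hzW hxz)

/-- `Ω₁Z(S) = ⟨z⟩` -/
theorem zcS (h : EqOne S L V 4) (hne : ¬ (S : Subgroup G) ≤ centralizer (zc (bau (S : Subgroup G)) : Set G)) {z : G}
    (hz : z ∈ zc (S : Subgroup G)) (hz1 : z ≠ 1) : ∀ x ∈ zc (S : Subgroup G), x = 1 ∨ x = z := by
  have h1 : Nat.card (zc (S : Subgroup G)) ∣ 4 := by
    rw [← h.card_zc]; exact card_dvd_of_le (Base.zcS_le h)
  have h2 : Nat.card (zc (S : Subgroup G)) ≠ 4 := by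
    intro h2
    apply hne
    have h3 : zc (S : Subgroup G) = zc (bau (S : Subgroup G)) :=
      Subgroup.eq_of_le_of_card_ge (Base.zcS_le h) (by rw [h.card_zc, h2])
    rw [← h3]
    exact S_le_cz S
  have h3 : Nat.card (zc (S : Subgroup G)) ≤ 2 := by
    have h4 := Nat.le_of_dvd (by norm_num) h1
    interval_cases h5 : Nat.card (zc (S : Subgroup G)) <;> omega
  intro x hx
  by_contra hcon
  push Not at hcon
  classical
  have h4 : ({⟨1, one_mem _⟩, ⟨z, hz⟩, ⟨x, hx⟩} : Finset (zc (S : Subgroup G))).card ≤ Nat.card (zc (S : Subgroup G)) := by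
    have := Fintype.ofFinite (zc (S : Subgroup G))
    rw [Nat.card_eq_fintype_card]
    exact Finset.card_le_univ _
  rw [Finset.card_insert_of_notMem, Finset.card_insert_of_notMem, Finset.card_singleton] at h4
  · omega
  · simp only [Finset.mem_singleton, Subtype.mk.injEq]; exact fun h0 => hcon.2 h0.symm
  · simp only [Finset.mem_insert, Finset.mem_singleton, Subtype.mk.injEq, not_or]
    exact ⟨fun h0 => hz1 h0.symm, fun h0 => hcon.1 h0.symm⟩

/-- `C_G(Ω₁Z(S)) = C_G(z)` -/
theorem cent_eq (h : EqOne S L V 4) (hne : ¬ (S : Subgroup G) ≤ centralizer (zc (bau (S : Subgroup G)) : Set G)) {z : G}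
    (hz : z ∈ zc (S : Subgroup G)) (hz1 : z ≠ 1) :
    centralizer (zc (S : Subgroup G) : Set G) = centralizer {z} := by
  apply le_antisymm (centralizer_le (Set.singleton_subset_iff.2 hz))
  intro x hx
  rw [mem_centralizer_iff]
  intro y hy
  rcases zcS h hne hz hz1 y hy with rfl | rfl
  · rw [one_mul, mul_one]
  · exact (mem_centralizer_singleton_iff.1 hx).symm

theorem isEA {A : Subgroup G} (hA : ∀ x ∈ A, x * x = 1) : IsElementaryAbelian 2 A :=
  ⟨⟨⟨fun a b => Subtype.ext (Four.comm_of_sq (V := A) (fun v hv => by rw [pow_two]; exact hA v hv) a.2 b.2)⟩⟩,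
    fun x hx => by rw [pow_two]; exact hA x hx⟩

/-- an element of `𝒜(S)` not centralising `V` -/
theorem exists_A (h : EqOne S L V q) : ∃ A ≤ bau (S : Subgroup G), ¬ A ≤ centralizer (V : Set G) ∧
    (∀ x ∈ A, x * x = 1) ∧ ∀ A' ≤ (S : Subgroup G), (∀ x ∈ A', x * x = 1) → Nat.card A' ≤ Nat.card A := by
  have h1 : ¬ jj (S : Subgroup G) ≤ centralizer (V : Set G) := by
    have h2 := APC.not_jj_le_cent (ZN.bau_bau (S : Subgroup G)) h.blk
    rwa [ChoiceBase.jj_bau, h.vl_eq] at h2
  obtain ⟨A, hA, hne⟩ : ∃ A ∈ ChoiceBase.AA (S : Subgroup G), ¬ A ≤ centralizer (V : Set G) := by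
    by_contra hcon
    push Not at hcon
    apply h1
    rw [ChoiceBase.jj_eq]
    exact sSup_le hcon
  refine ⟨A, (ChoiceBase.le_jj hA).trans (ChoiceBase.jj_le_bau _), hne, fun x hx => ?_, fun A' hA' hsq => ?_⟩
  · rw [← pow_two]; exact hA.1.2 x hx
  · exact hA.2.2 A' (isEA hsq) hA'

/-- **the hypotheses of section 6** -/
theorem hyp (h : EqOne S L V 4)
    (hJ : centralizer (zc (bau (S : Subgroup G)) : Set G) ≤ normalizer (V : Set G)) {z : G}
    (hz : z ∈ zc (S : Subgroup G)) (hz1 : z ≠ 1)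
    (hJo : zc (bau (S : Subgroup G)) ≤ o2 (centralizer {z}))
    (h8 : Nat.card (V ⊓ o2 (centralizer {z}) : Subgroup G) = 8) :
    SixA.Hyp (S : Subgroup G) V (zc (bau (S : Subgroup G))) z := by
  have hne := not_le h hJ
  obtain ⟨r, fl⟩ := Base.fld h hne
  have hB : (S : Subgroup G) ⊓ centralizer (zc (bau (S : Subgroup G)) : Set G) = bau (S : Subgroup G) := by
    rw [LemU.zj_eq_zc]; rfl
  have hce := cent_eq h hne hz hz1
  have hSz : ∀ s ∈ (S : Subgroup G), s * z = z * s := (ChoiceBase.mem_zc.1 hz).2.2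
  obtain ⟨F, _, _, _, e, φ, hq, c, hez⟩ := Base.exists_norm h hz hz1
  refine
  { two := S.isPGroup'
    smax := fun P hP hSP => (S.is_maximal' hP hSP).le
    VS := fl.VS
    SV := h.S_V
    Vsq := h.sq
    cardV := by rw [h.card]; norm_num
    JV := h.zc_le
    cardJ := h.card_zc
    SJ := fl.SJ
    zJ := Base.zcS_le h hz
    z1 := hz1
    Sz := hSz
    zS := fun x hx hxx hxS => zcS h hne hz hz1 x
      (ChoiceBase.mem_zc.2 ⟨hx, by rw [pow_two]; exact hxx, fun s hs => (hxS s hs)⟩)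
    NJ := by rw [LemU.zj_eq_zc]; exact nzj_le_V h hJ
    fact := ?_
    no3 := ?_
    maxl := fun U hU hU2 hle => h.le_NV _ ⟨U, hU2, hU, rfl⟩ L 4 h.blk ((Base.L_V c).trans hle)
    char2 := ?_
    notle := ?_
    cfix := ?_
    ccom := ?_
    csurj := ?_
    idx := ?_
    Jo2 := hJo
    card8 := h8
    exA := ?_
    cB := ?_
    exk := ?_
    exl := ?_
    cyc3 := fun P => h.cx.cyc 3 P Nat.prime_three (by norm_num) }
  · intro x hx hxV
    obtain ⟨s, hs, k, hk, he⟩ := Base.cent_zc h c hq (inv_mem hxV) (by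
      rw [hce]
      exact inv_mem (mem_centralizer_singleton_iff.2 hx))
    refine ⟨k⁻¹, inv_mem hk, s⁻¹, inv_mem hs, ?_⟩
    rw [← mul_inv_rev, ← he, inv_inv]
  · intro x hx h3
    by_contra hx1
    have hf3 : Fact (Nat.Prime 3) := ⟨Nat.prime_three⟩
    exact cent_V h Nat.prime_three (by norm_num) hx (orderOf_eq_prime h3 hx1)
  · intro x hx hxo
    exact ChoiceSit.self_cent h.cx.char2 h.local_V ⟨hx, mem_centralizer_iff.2 fun r hr => (hxo r hr).symm⟩
  · obtain ⟨x, hx, hxV⟩ := SetLike.not_le_iff_exists.1 h.notle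
    rw [hce] at hx
    exact ⟨x, mem_centralizer_singleton_iff.1 hx, hxV⟩
  · intro b hb hbV v hv hc
    rw [hB] at hb
    exact Base.cE h c hb hbV hv hc
  · intro b hb v hv
    rw [hB] at hb
    exact Base.ccom h c hb hv
  · intro b hb hbV j hj
    rw [hB] at hb
    exact Base.kE h c hb hbV hj
  · rw [hB]
    exact Base.idx c hq
  · rw [hB]
    exact exists_A h
  · intro x hx hxx hxB
    rw [hB] at hxB
    rw [LemU.zj_eq_zc]
    exact ZN.mem_zj_of_comm hx (by rw [pow_two]; exact hxx) fun b hb => hxB b (ChoiceBase.jj_le_bau _ hb)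
  · rw [hB]
    obtain ⟨k, hkL, ho, hkB, a, b, ha1, ha0, hk⟩ := Base.exists_tor h c Nat.prime_three (by norm_num)
    have hk1 : k ≠ 1 := by
      rintro rfl
      rw [orderOf_one] at ho
      omega
    have hkJ : k ∈ normalizer (zc (bau (S : Subgroup G)) : Set G) := ZN.normalizer_le_normalizer_zc _ hkB
    refine ⟨k, by rw [← ho]; exact pow_orderOf_eq_one k, hkB, Base.L_V c hkL, hkJ, ?_, ?_, ?_⟩
    · intro x hx hxk
      exact fpf h hkL (by rw [ho]; decide) hk1 x (h.zc_le hx) (Four.conj_eq_iff_comm.1 hxk)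
    · intro x hx hxk
      obtain ⟨x₀, y₀, rfl⟩ := (c.mem x).1 hx
      rw [hk, inv_eq_of_mul_eq_one_right (c.sq x₀ y₀), ← c.add, Base.mem_zc h c] at hxk
      obtain ⟨w, hw⟩ := hxk
      have h1 := (c.ext hw).2
      have h2 : (a⁻¹ + 1) * y₀ = 0 := by rw [add_mul, one_mul]; exact h1
      have h3 : a⁻¹ + 1 ≠ 0 := fun h0 => ha1 (inv_eq_one.1 (CharTwo.add_eq_zero.1 h0))
      rw [(mul_eq_zero.1 h2).resolve_left h3]
      exact (Base.mem_zc h c).2 ⟨x₀, rfl⟩
    · intro x hx hxk
      obtain ⟨t, ht⟩ := c.act_B hx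
      -- `k x k⁻¹` acts as `x`
      have h1 : ∀ v ∈ V, (k * x * k⁻¹) * v * (k * x * k⁻¹)⁻¹ = x * v * x⁻¹ := by
        intro v hv
        have h2 : x * v * x⁻¹ ∈ V := by
          obtain ⟨x₀, y₀, rfl⟩ := (c.mem v).1 hv
          rw [ht]; exact c.eM _ _
        have h3 := mem_centralizer_iff.1 hxk _ h2
        calc (k * x * k⁻¹) * v * (k * x * k⁻¹)⁻¹ = (k * x * k⁻¹ * x⁻¹) * (x * v * x⁻¹) * (k * x * k⁻¹ * x⁻¹)⁻¹ := by
              group
          _ = x * v * x⁻¹ := by rw [← h3]; group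
      have h2 : k⁻¹ * e 0 1 * k = e b a := by
        have h3 := hk b a
        have h4 : e (a * b + b * a) (a⁻¹ * a) = e 0 1 := by
          rw [mul_comm b a, CharTwo.add_self_eq_zero, inv_mul_cancel₀ ha0]
        rw [h4] at h3
        rw [← h3]; group
      have h3 := h1 (e 0 1) (c.eM _ _)
      have h4 : (k * x * k⁻¹) * e 0 1 * (k * x * k⁻¹)⁻¹ = k * (x * (k⁻¹ * e 0 1 * k) * x⁻¹) * k⁻¹ := by group
      rw [h4, h2, ht, ht, hk] at h3
      have h5 := (c.ext h3).1
      have h6 : (a * a + 1) * t = 0 := by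
        have h7 : a * (b + t * a) + b * a = (a * b + a * b) + a * a * t := by ring
        rw [h7, CharTwo.add_self_eq_zero, zero_add, zero_add, mul_one] at h5
        rw [add_mul, one_mul, h5, CharTwo.add_self_eq_zero]
      have h7 : a * a + 1 ≠ 0 := by
        intro h0
        apply ha1
        have h8 : (a + 1) * (a + 1) = 0 := by
          have : (a + 1) * (a + 1) = (a * a + 1) + (a + a) := by ring
          rw [this, h0, CharTwo.add_self_eq_zero, add_zero]
        exact CharTwo.add_eq_zero.1 (mul_self_eq_zero.1 h8)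
      have ht0 := (mul_eq_zero.1 h6).resolve_left h7
      rw [c.mem_cent]
      intro x₀ y₀
      rw [ht, ht0, MulZeroClass.zero_mul, add_zero]
  · obtain ⟨l, hl, hle⟩ := Base.exists_opp c
    refine ⟨l, Base.L_V c hl, fun x hx hxl => ?_⟩
    obtain ⟨x₀, rfl⟩ := (Base.mem_zc h c).1 hx
    rw [hle, Base.mem_zc h c] at hxl
    obtain ⟨w, hw⟩ := hxl
    rw [(c.ext hw).2]
    exact c.zero

/-- **Part II, `V ≰ O₂(C_G(Ω₁Z(S)))`** -/
theorem partTwoB (h : EqOne S L V q)
    (hJ : centralizer (zc (bau (S : Subgroup G)) : Set G) ≤ normalizer (V : Set G))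
    (hV : ¬ V ≤ o2 (centralizer (zc (S : Subgroup G) : Set G))) : False := by
  obtain ⟨r, hc⟩ := cfg h hJ
  obtain ⟨hr, hq, h8, -, -⟩ := hc.five hV
  have hJo := hc.J_le hV
  subst hr hq
  obtain ⟨z, hz, hz1⟩ := Base.exists_ne_zcS h
  have hce := cent_eq h (not_le h hJ) hz hz1
  rw [hce] at h8 hJo
  refine Six.false_of h.cx.cyc h.cx.sec ?_ (hyp h hJ hz hz1 hJo h8) hc.toFld ?_
  · exact ne_top_of h (ChoiceBase.zc_le_zj _ hz) hz1 le_rfl
  · intro m hm hmz x hx3 hxz hxm
    exact baer h rfl (Base.zcS_le h hz) hz1 hm hmz hx3 hxz hxm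

end Cfsg.Agent.OddCyclic.Eq.HypSix
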