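import Cfsg.Agent.OddCyclic.Eq.ModP
import Cfsg.Agent.GH.L2AutFour

/-!
# (E_q), piece J = (4.6) of blueprints/S0342-A2-helper402.md, module part

`L = PSL₂(7)` normal in `H`, `C_H(L) = 1`, `L ≠ H` (so `H = PGL₂(7)`), `H` acts on an elementary abelian 2-group `V`,
`L` acts nontrivially.  Then `|V : C_V(A)| ≥ 8` for every elementary abelian `A ≤ H` of order at least 4.
-/

set_option autoImplicit false
set_option linter.unusedSectionVars false

namespace Cfsg.Agent.OddCyclic.Eq.PGLSeven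

open Matrix Cfsg.Agent.Lib.SL2Mat Cfsg.Agent.OddCyclic.T1Module Cfsg.Agent.OddCyclic.FFBasic
  Cfsg.Agent.OddCyclic.FFSl2 Cfsg.Agent.OddCyclic.FFPsl Cfsg.Agent.OddCyclic.FFPslMat
  Cfsg.Agent.OddCyclic.T1Defs Cfsg.Agent.OddCyclic.PGLTorus Cfsg.Agent.GH.L2Aut

local instance fact7 : Fact (Nat.Prime 7) := ⟨by norm_num⟩

section rep

variable {F : Type*} [Field F] [Finite F] {L : Type*} [Group L]

/-- coordinates over `ZMod 7` -/
theorem exists_rep (R : Cfsg.Agent.GH.L2Aut.Rep F L) (hF : Nat.card F = 7) :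
    Nonempty (Cfsg.Agent.GH.L2Aut.Rep (ZMod 7) L) := by
  have hp : (Nat.card F).Prime := by rw [hF]; norm_num
  have hch : CharP F 7 := by
    have := FFPsl.charP (F := F) hp
    rwa [hF] at this
  have := Fintype.ofFinite F
  have hb := ZMod.castHom_bijective (n := 7) F (by rw [← Nat.card_eq_fintype_card, hF])
  let φ : ZMod 7 →+* F := ZMod.castHom (dvd_refl 7) F
  let e : ZMod 7 ≃+* F := RingEquiv.ofBijective φ hb
  have hinj : Function.Injective (Matrix.SpecialLinearGroup.map (n := Fin 2) φ) := by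
    intro a b hab
    apply Subtype.ext
    ext i j
    have := congrArg (fun w : Matrix.SpecialLinearGroup (Fin 2) F => w.1 i j) hab
    exact φ.injective this
  have hsurj : Function.Surjective (Matrix.SpecialLinearGroup.map (n := Fin 2) φ) := by
    intro x
    refine ⟨Matrix.SpecialLinearGroup.map (e.symm : F →+* ZMod 7) x, ?_⟩
    apply Subtype.ext
    ext i j
    exact e.apply_symm_apply (x.1 i j)
  have hneg : Matrix.SpecialLinearGroup.map (n := Fin 2) φ (-1) = -1 := by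
    apply Subtype.ext
    ext i j
    fin_cases i <;> fin_cases j <;> simp
  have hker : ∀ x, (R.π.comp (Matrix.SpecialLinearGroup.map φ)) x = 1 ↔ x = 1 ∨ x = -1 := by
    intro x
    rw [MonoidHom.comp_apply, R.ker]
    constructor
    · rintro (h | h)
      · exact Or.inl (hinj (h.trans (map_one _).symm))
      · exact Or.inr (hinj (h.trans hneg.symm))
    · rintro (rfl | rfl)
      · exact Or.inl (map_one _)
      · exact Or.inr hneg
  have h2 : (2 : ZMod 7) ≠ 0 := by decide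
  exact ⟨{ π := R.π.comp (Matrix.SpecialLinearGroup.map φ)
           surj := R.surj.comp hsurj
           ker := hker
           two := h2 }⟩

end rep

def i1 : Matrix.SpecialLinearGroup (Fin 2) (ZMod 7) := ⟨!![0, 1; 6, 0], by decide⟩
def j1 : Matrix.SpecialLinearGroup (Fin 2) (ZMod 7) := ⟨!![2, 3; 3, 5], by decide⟩
def i2 : Matrix.SpecialLinearGroup (Fin 2) (ZMod 7) := ⟨!![0, 2; 3, 0], by decide⟩
def j2 : Matrix.SpecialLinearGroup (Fin 2) (ZMod 7) := ⟨!![2, 1; 2, 5], by decide⟩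

theorem facts : i1.1 * i1.1 = -1 ∧ j1.1 * j1.1 = -1 ∧ i1.1 * j1.1 = -(j1.1 * i1.1) ∧
    i2.1 * i2.1 = -1 ∧ j2.1 * j2.1 = -1 ∧ i2.1 * j2.1 = -(j2.1 * i2.1) ∧
    i1 * j2 * (i1 * j1) * i2 = -up 1 := by decide +kernel

theorem nonsq : ∀ a b : ZMod 7, a ≠ 0 → b ≠ 0 → ¬ IsSquare a → ¬ IsSquare b → IsSquare (a⁻¹ * b) := by decide +kernel

theorem neg_sq : ∀ a : ZMod 7, ¬ IsSquare a → IsSquare (-a) := by decide +kernel

variable {H : Type*} [Group H] [Finite H] {V : Type*} [CommGroup V] [Finite V] {ρ : H →* MulAut V}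
variable {L A : Subgroup H} [L.Normal] (R : Cfsg.Agent.GH.L2Aut.Rep (ZMod 7) L)

local notation "ψ" => (MulAut.conjNormal (H := L))

theorem psi_one (hC : Subgroup.centralizer (L : Set H) = ⊥) {h : H} (h1 : ψ h = 1) : h = 1 := by
  have h2 : h ∈ Subgroup.centralizer (L : Set H) := by
    rw [Subgroup.mem_centralizer_iff]
    intro l hl
    have h2 := congrArg (fun α : MulAut L => ((α ⟨l, hl⟩ : L) : H)) h1
    simp only [MulAut.conjNormal_apply, MulAut.one_apply] at h2
    exact (mul_inv_eq_iff_eq_mul.1 h2).symm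
  rwa [hC, Subgroup.mem_bot] at h2

theorem psi_inj (hC : Subgroup.centralizer (L : Set H) = ⊥) {h k : H} (h1 : ψ h = ψ k) : h = k := by
  have h2 : ψ (k⁻¹ * h) = 1 := by rw [map_mul, map_inv, h1, inv_mul_cancel]
  exact (inv_mul_eq_one.1 (psi_one hC h2)).symm

theorem psi_coe (l : L) : ψ (l : H) = MulAut.conj l := by
  ext x
  simp [MulAut.conjNormal_apply]

theorem card7 : Nat.card (ZMod 7) = 7 := by rw [Nat.card_eq_fintype_card, ZMod.card]

theorem exists_gl (h : H) : ∃ γ : GL (Fin 2) (ZMod 7), R.gl γ = ψ h := by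
  obtain ⟨γ, hγ⟩ := R.mem_PGL.1 (mem_PGL_of_prime R (by rw [card7]; norm_num) (ψ h))
  exact ⟨γ, hγ.symm⟩

theorem mem_of_sq (hC : Subgroup.centralizer (L : Set H) = ⊥) {h : H} {γ : GL (Fin 2) (ZMod 7)} (hγ : R.gl γ = ψ h)
    (hs : IsSquare γ.1.det) : h ∈ L := by
  obtain ⟨y, hy⟩ := R.gl_mem_inn.2 hs
  have h1 : h = y := by
    apply psi_inj hC
    rw [← hγ, ← hy, psi_coe]
  rw [h1]; exact y.2

/-- `H` induces `PGL₂(7)` -/
theorem surj (hC : Subgroup.centralizer (L : Set H) = ⊥) (htop : L ≠ ⊤) (g : GL (Fin 2) (ZMod 7)) :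
    ∃ h : H, ψ h = R.gl g := by
  by_cases hg : IsSquare g.1.det
  · obtain ⟨y, hy⟩ := R.gl_mem_inn.2 hg
    exact ⟨y, by rw [psi_coe]; exact hy⟩
  obtain ⟨h₀, hh₀⟩ : ∃ h₀ : H, h₀ ∉ L := by
    by_contra hcon
    push Not at hcon
    exact htop (eq_top_iff.2 fun x _ => hcon x)
  obtain ⟨γ, hγ⟩ := exists_gl R h₀
  have hγ' : ¬ IsSquare γ.1.det := fun hs => hh₀ (mem_of_sq R hC hγ hs)
  have h1 : IsSquare (γ⁻¹ * g).1.det := by
    have h2 := nonsq _ _ (det_ne γ) (det_ne g) hγ' hg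
    have h3 : (γ⁻¹ * g).1.det = γ.1.det⁻¹ * g.1.det := by
      have h4 : (γ⁻¹ * g).1 = (γ⁻¹).1 * g.1 := rfl
      rw [h4, Matrix.det_mul]
      congr 1
      have h5 : (γ⁻¹).1 * γ.1 = 1 := inv_val_mul_val γ
      have h6 := congrArg Matrix.det h5
      rw [Matrix.det_mul, Matrix.det_one] at h6
      exact eq_inv_of_mul_eq_one_left h6
    rw [h3]; exact h2
  obtain ⟨y, hy⟩ := R.gl_mem_inn.2 h1
  refine ⟨h₀ * y, ?_⟩
  rw [map_mul, psi_coe, hy, ← hγ, ← map_mul, mul_inv_cancel_left]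

theorem exists_notin2 {J : Type*} [Group J] [Finite J] (E : Subgroup J) (h : 3 ≤ Nat.card E) (a b : J) :
    ∃ e ∈ E, e ≠ a ∧ e ≠ b := by
  classical
  by_contra hc
  push Not at hc
  have h1 : (E : Set J) ⊆ (({a, b} : Finset J) : Set J) := by
    intro e he
    by_cases h1 : e = a
    · simp [h1]
    · simp [hc e he h1]
  have h2 := Set.ncard_le_ncard h1 (Finset.finite_toSet _)
  rw [Set.ncard_coe_finset] at h2
  have h3 : Nat.card E = (E : Set J).ncard := rfl
  have h4 : ({a, b} : Finset J).card ≤ 2 := Finset.card_le_two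
  omega

theorem card_ge (hV : ∀ v : V, v * v = 1) {s u : H} (hs : s * s = 1) (hu : orderOf u = 7) (h : s * u * s⁻¹ = u⁻¹)
    (hne : ∃ v, ρ u v ≠ v) : 64 ≤ (fx ρ u).index := by
  have hodd : Odd (orderOf u) := by rw [hu]; decide
  obtain ⟨d, hd, hd1, hd2⟩ := prim (ρ := ρ) hV (l := 7) (by norm_num) (by norm_num) hu hne
  obtain ⟨e, he⟩ := prim_even (ρ := ρ) hV hs hodd h
  have h7 : d = 2 * e := by
    rw [hd1, ← pow_mul] at he
    rw [Nat.pow_right_injective (le_refl 2) he, mul_comm]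
  have he3 : 3 ≤ e := by
    by_contra hcon
    have h8 : e = 0 ∨ e = 1 ∨ e = 2 := by omega
    rcases h8 with rfl | rfl | rfl
    · omega
    · rw [h7] at hd2; norm_num at hd2
    · rw [h7] at hd2; norm_num at hd2
  rw [he]
  calc 64 = (2 ^ 3) ^ 2 := by norm_num
    _ ≤ (2 ^ e) ^ 2 := Nat.pow_le_pow_left (Nat.pow_le_pow_right (by norm_num) he3) 2

include R in
theorem eight_le (hV : ∀ v : V, v * v = 1) (hC : Subgroup.centralizer (L : Set H) = ⊥) (htop : L ≠ ⊤)
    (hne : ∀ y ∈ L, y ≠ 1 → ∃ v, ρ y v ≠ v) (hA : ∀ a ∈ A, a * a = 1) (h4 : 4 ≤ Nat.card A) {C : Subgroup V}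
    (hCA : ∀ a ∈ A, ∀ v ∈ C, ρ a v = v) : 8 ≤ C.index := by
  by_cases hAL : A ≤ L
  · -- a four-group of `L`
    obtain ⟨a, ha, ha1, -⟩ := exists_notin2 A (by omega) 1 1
    obtain ⟨b, hb, hb1, hba⟩ := exists_notin2 A (by omega) 1 a
    let a' : L := ⟨a, hAL ha⟩
    let b' : L := ⟨b, hAL hb⟩
    have hF : Four a' b' := by
      refine ⟨Subtype.ext (hA a ha), Subtype.ext (hA b hb), fun h => ha1 (congrArg Subtype.val h),
        fun h => hb1 (congrArg Subtype.val h), fun h => hba (congrArg Subtype.val h).symm, Subtype.ext ?_⟩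
      have h1 := hA (a * b) (mul_mem ha hb)
      have h2 : a * b = (a * b)⁻¹ := eq_inv_of_mul_eq_one_left h1
      change a * b = b * a
      rw [h2, _root_.mul_inv_rev, ← eq_inv_of_mul_eq_one_left (hA a ha), ← eq_inv_of_mul_eq_one_left (hA b hb)]
    set D : Subgroup V := fx ρ a ⊓ fx ρ b with hD
    have hCD : C ≤ D := fun v hv => ⟨hCA a ha v hv, hCA b hb v hv⟩
    refine le_trans ?_ (index_le_of_le hCD)
    by_contra hcon
    push Not at hcon
    obtain ⟨f1, f2, f3, f4, f5, f6, f7⟩ := facts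
    have key : ∀ i j : Matrix.SpecialLinearGroup (Fin 2) (ZMod 7), i.1 * i.1 = -1 → j.1 * j.1 = -1 →
        i.1 * j.1 = -(j.1 * i.1) → ∃ E : Subgroup V, E.index = D.index ∧
          (∀ v ∈ E, ρ ((R.π i : L) : H) v = v) ∧ (∀ v ∈ E, ρ ((R.π j : L) : H) v = v) := by
      intro i j hi hj hij
      obtain ⟨g, hg1, hg2⟩ := R.four_conj hF (R.four_of_pair hi hj hij)
      obtain ⟨h, hh⟩ := surj R hC htop g
      rw [← hh] at hg1 hg2
      have e1 : h * ((R.π i : L) : H) * h⁻¹ = a := conj_of_psi hg1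
      have e2 : h * ((R.π j : L) : H) * h⁻¹ = b := conj_of_psi hg2
      have hfix : ∀ x c : H, h * x * h⁻¹ = c → ∀ v, ρ c (ρ h v) = ρ h v → ρ x v = v := by
        intro x c hx v hv
        apply (ρ h).injective
        rw [← MulAut.mul_apply, ← map_mul]
        rw [← MulAut.mul_apply, ← map_mul, ← hx, inv_mul_cancel_right] at hv
        exact hv
      refine ⟨D.comap (ρ h).toMonoidHom, ?_, ?_, ?_⟩
      · exact Subgroup.index_comap_of_surjective _ (ρ h).surjective
      · intro v hv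
        exact hfix _ _ e1 v hv.1
      · intro v hv
        exact hfix _ _ e2 v hv.2
    obtain ⟨E1, k1, k2, k3⟩ := key i1 j1 f1 f2 f3
    obtain ⟨E2, l1, l2, l3⟩ := key i2 j2 f4 f5 f6
    set u : H := ((R.π (up 1) : L) : H) with hu
    have huo : orderOf u = 7 := by
      have := orderOf_u (H := H) R (by rw [card7]; norm_num)
      rwa [card7] at this
    have hu1 : u ≠ 1 := by
      intro h
      rw [h, orderOf_one] at huo
      omega
    have hune := hne u (R.π (up 1)).2 hu1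
    have hle : E1 ⊓ E2 ≤ fx ρ u := by
      rintro v ⟨hv1, hv2⟩
      rw [mem_fx]
      change ρ u v = v
      have h1 : u = ((R.π i1 : L) : H) * ((R.π j2 : L) : H) * (((R.π i1 : L) : H) * ((R.π j1 : L) : H)) *
          ((R.π i2 : L) : H) := by
        have h2 : R.π (up 1) = R.π (i1 * j2 * (i1 * j1) * i2) := by
          rw [f7, R.π_eq_iff]
          exact Or.inr (neg_neg _).symm
        rw [hu, h2]
        simp only [map_mul, Subgroup.coe_mul]
      rw [h1]
      simp only [map_mul, MulAut.mul_apply]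
      rw [l2 v hv2, k3 v hv1, k2 v hv1, l3 v hv2, k2 v hv1]
    -- an involution inverting `u`
    have hodd : Odd (orderOf u) := by rw [huo]; decide
    let g : GL (Fin 2) (ZMod 7) := ⟨!![1, 0; 0, -1], !![1, 0; 0, -1], by decide, by decide⟩
    obtain ⟨h, hh⟩ := surj R hC htop g
    have hgg : g * g = 1 := by
      apply Units.ext
      decide
    have hhh : h * h = 1 := by
      apply psi_one hC
      rw [map_mul, hh, ← map_mul, hgg, map_one]
    have hinv : h * u * h⁻¹ = u⁻¹ := by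
      have h1 : R.gl g (R.π (up 1)) = (R.π (up 1))⁻¹ := by
        rw [R.gl_apply, ← map_inv]
        congr 1
        apply conjGL_eq_of
        decide
      rw [← hh] at h1
      exact conj_of_psi h1
    have h64 := card_ge hV hhh huo hinv hune
    have h1 : (fx ρ u).index ≤ (E1 ⊓ E2).index := index_le_of_le hle
    have h2 : (E1 ⊓ E2).index ≤ E1.index * E2.index := Subgroup.index_inf_le
    rw [k1, l1] at h2
    have h3 : D.index * D.index ≤ 7 * 7 := Nat.mul_le_mul (by omega) (by omega)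
    omega
  · obtain ⟨a, ha, haL⟩ : ∃ a ∈ A, a ∉ L := by
      by_contra hcon
      push Not at hcon
      exact hAL hcon
    obtain ⟨γ, hγ⟩ := exists_gl R a
    have ha1 : a ≠ 1 := by rintro rfl; exact haL (one_mem _)
    have hγ0 : γ.1.trace = 0 := by
      apply trace_of_sq R
      · rw [hγ]
        intro h1
        exact ha1 (psi_one hC h1)
      · rw [hγ, ← map_mul, hA a ha, map_one]
    have hγs : ¬ IsSquare γ.1.det := fun hs => haL (mem_of_sq R hC hγ hs)
    obtain ⟨s, hs⟩ := neg_sq _ hγs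
    obtain ⟨u, hu1, hup, hui⟩ := split_inv R hγ0 hs.symm
    have h1 := hup 7 (CharP.cast_eq_zero (ZMod 7) 7)
    have h2 : orderOf ((R.π u : L) : H) = 7 := by
      rw [Subgroup.orderOf_coe]
      exact orderOf_eq_prime (by rw [← map_pow, h1, map_one]) hu1
    rw [hγ] at hui
    have h3 := conj_of_psi hui
    have h5 : ((R.π u : L) : H) ≠ 1 := fun h => hu1 (Subtype.ext h)
    have h6 := card_ge hV (hA a ha) h2 h3 (hne _ (R.π u).2 h5)
    have hodd : Odd (orderOf ((R.π u : L) : H)) := by rw [h2]; decide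
    have h7 := half' ρ hodd h3
    have h8 : 8 ≤ (fx ρ a).index := by
      by_contra hcon
      push Not at hcon
      have : (fx ρ a).index ^ 2 ≤ 7 ^ 2 := Nat.pow_le_pow_left (by omega) 2
      omega
    exact h8.trans (index_le_of_le fun v hv => hCA a ha v hv)

end Cfsg.Agent.OddCyclic.Eq.PGLSeven
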