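import Cfsg.Agent.OddCyclic.Eq.Prim
import Cfsg.Agent.OddCyclic.T1MinParAbs
import Cfsg.Agent.OddCyclic.T1SzFacts

/-!
# S0342, (E_q): the structure of `H = P/K_P` ((2.1), (2.2), 2' of blueprints/S0342-A2-helper402.md)

`Dat Γ H0 T`: `H` finite, odd Sylow subgroups cyclic, simple nonabelian subgroups in the list `KZero`; `Γ` a group of
automorphisms of `H`, `H0` maximal among the `Γ`-invariant subgroups, core free, a `3'`-group containing the Sylow
2-subgroup `T` and its normaliser. For `Γ = 1`, `H0` is a maximal subgroup.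

`cases`: `OutR` (a characteristic subgroup of prime order, complemented by the cyclic group `H0`), `OutSl` (`SL₂(2^n)`, `n`
odd), `OutSz`, or `OutPsl` (`PSL₂(p)`, `p ≥ 7`).
-/

set_option autoImplicit false
set_option linter.unusedSectionVars false

namespace Cfsg.Agent.OddCyclic.Eq.Struct

open Subgroup
open Cfsg.Agent.OddCyclic.T1Defs (OddCyc)
open Cfsg.Agent.OddCyclic.PumpMain (KZero)
open Cfsg.Agent.LieExceptional.CITDefs (IsSyl2)
open Cfsg.Agent.OddCyclic.Eq.PrimR Cfsg.Agent.OddCyclic.Eq.Prim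
open Cfsg.Agent.SignalizersComponents.Components
open scoped Pointwise

universe u

variable {H : Type u} [Group H] [Finite H]

/-- `D` is invariant under the automorphisms in `Γ` -/
def Inv (Γ : Subgroup (MulAut H)) (D : Subgroup H) : Prop := ∀ γ ∈ Γ, ∀ x ∈ D, γ x ∈ D

structure Dat (Γ : Subgroup (MulAut H)) (H0 T : Subgroup H) : Prop where
  inv : Inv Γ H0
  ne : H0 ≠ ⊤
  max : ∀ Y : Subgroup H, Inv Γ Y → H0 ≤ Y → Y = H0 ∨ Y = ⊤
  core : ∀ N : Subgroup H, N.Normal → N ≤ H0 → N = ⊥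
  syl : ∃ P : Sylow 2 H, (P : Subgroup H) = T
  le : T ≤ H0
  nT : normalizer (T : Set H) ≤ H0
  three : ¬ 3 ∣ Nat.card H0
  cyc : OddCyc H
  ks : ∀ J : Subgroup H, IsSimpleGroup J → (∃ x y : J, x * y ≠ y * x) → KZero J

variable {Γ : Subgroup (MulAut H)} {H0 T : Subgroup H}

theorem Inv.sup {A B : Subgroup H} (hA : Inv Γ A) (hB : Inv Γ B) : Inv Γ (A ⊔ B) := by
  intro γ hγ x hx
  have h1 : A ⊔ B ≤ (A ⊔ B).comap (γ : H ≃* H).toMonoidHom := by
    refine sup_le ?_ ?_
    · intro y hy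
      exact mem_sup_left (hA γ hγ y hy)
    · intro y hy
      exact mem_sup_right (hB γ hγ y hy)
  exact h1 hx

theorem Inv.of_char {A : Subgroup H} (hA : ∀ γ : MulAut H, ∀ x ∈ A, γ x ∈ A) : Inv Γ A := fun γ _ x hx => hA γ x hx

theorem normal_of_char {A : Subgroup H} (hA : ∀ γ : MulAut H, ∀ x ∈ A, γ x ∈ A) : A.Normal :=
  ⟨fun n hn g => hA (MulAut.conj g) n hn⟩

/-- the centraliser of a characteristic subgroup is characteristic -/
theorem char_cent {A : Subgroup H} (hA : ∀ γ : MulAut H, ∀ x ∈ A, γ x ∈ A) (γ : MulAut H) :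
    ∀ x ∈ centralizer (A : Set H), γ x ∈ centralizer (A : Set H) := by
  intro x hx
  rw [mem_centralizer_iff] at hx ⊢
  intro y hy
  have h1 := hx _ (hA γ⁻¹ y hy)
  have h2 := congrArg γ h1
  rw [map_mul, map_mul, MulAut.apply_inv_self] at h2
  exact h2

theorem Dat.sup_top (h : Dat Γ H0 T) {N : Subgroup H} (hN : ∀ γ : MulAut H, ∀ x ∈ N, γ x ∈ N) (h1 : N ≠ ⊥) :
    H0 ⊔ N = ⊤ := by
  rcases h.max (H0 ⊔ N) (h.inv.sup (Inv.of_char hN)) le_sup_left with h2 | h2
  · exact absurd (h.core N (normal_of_char hN) (h2 ▸ le_sup_right)) h1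
  · exact h2

theorem Dat.odd (h : Dat Γ H0 T) : Odd H0.index := by
  have : Fact (Nat.Prime 2) := ⟨Nat.prime_two⟩
  obtain ⟨P, hP⟩ := h.syl
  rw [← Nat.not_even_iff_odd, even_iff_two_dvd]
  intro h2
  have h3 : (P : Subgroup H) ≤ H0 := by rw [hP]; exact h.le
  exact P.not_dvd_index (h2.trans (Subgroup.index_dvd_of_le h3))

theorem Dat.twoT (h : Dat Γ H0 T) : IsPGroup 2 T := by
  obtain ⟨P, rfl⟩ := h.syl
  exact P.isPGroup'

theorem Dat.o2 (h : Dat Γ H0 T) : pCore 2 H = ⊥ := pCore_eq_bot h.core h.odd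

/-- the normalisers of all Sylow 2-subgroups of `H` in `H0` are contained in `H0` -/
theorem Dat.nS (h : Dat Γ H0 T) : ∀ T' : Subgroup H, IsSyl2 ⊤ T' → T' ≤ H0 → normalizer (T' : Set H) ≤ H0 := by
  have : Fact (Nat.Prime 2) := ⟨Nat.prime_two⟩
  intro T' hT' hle
  obtain ⟨P, hP⟩ := h.syl
  -- `T'` is a Sylow subgroup of `H`
  obtain ⟨Q, hQ⟩ : ∃ Q : Sylow 2 H, (Q : Subgroup H) = T' := by
    obtain ⟨-, h1, h2⟩ := hT'
    obtain ⟨Q, hQ⟩ := h1.exists_le_sylow
    exact ⟨Q, h2 Q le_top Q.2 hQ⟩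
  have hPH : (P : Subgroup H) ≤ H0 := by rw [hP]; exact h.le
  have hQH : (Q : Subgroup H) ≤ H0 := by rw [hQ]; exact hle
  obtain ⟨g, hg⟩ := MulAction.exists_smul_eq H0 (P.subtype hPH) (Q.subtype hQH)
  have h1 : (g : H) • P = Q := by
    apply Sylow.ext
    ext x
    constructor
    · intro hx
      have h2 : (g : H)⁻¹ * x * g ∈ P := FFSz.mem_smul.1 hx
      have h3 : (g : H)⁻¹ * x * g ∈ H0 := hPH h2
      have hxH : x ∈ H0 := by
        have := mul_mem (mul_mem g.2 h3) (inv_mem g.2)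
        have e : (g : H) * ((g : H)⁻¹ * x * g) * (g : H)⁻¹ = x := by group
        rwa [e] at this
      have h4 : (⟨x, hxH⟩ : H0) ∈ g • P.subtype hPH := by
        rw [FFSz.mem_smul]
        exact h2
      rw [hg] at h4
      exact h4
    · intro hx
      have hxH : x ∈ H0 := hQH hx
      have h4 : (⟨x, hxH⟩ : H0) ∈ Q.subtype hQH := hx
      rw [← hg, FFSz.mem_smul] at h4
      exact FFSz.mem_smul.2 h4
  intro n hn
  have h2 : (g : H)⁻¹ * n * g ∈ normalizer (T : Set H) := by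
    rw [← hP]
    apply Sylow.smul_eq_iff_mem_normalizer.1
    have h3 : n • Q = Q := by
      rw [Sylow.smul_eq_iff_mem_normalizer]
      show n ∈ normalizer ((Q : Subgroup H) : Set H)
      rw [hQ]; exact hn
    have e : (g : H)⁻¹ * n * g = (g : H)⁻¹ * (n * g) := by group
    rw [e, mul_smul, mul_smul, h1, h3, ← h1, inv_smul_smul]
  have h3 := mul_mem (mul_mem g.2 (h.nT h2)) (inv_mem g.2)
  have e : (g : H) * ((g : H)⁻¹ * n * g) * (g : H)⁻¹ = n := by group
  rwa [e] at h3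


/-! ### characteristic subgroups -/

/-- `F(H) ≠ 1` gives a characteristic subgroup of prime order -/
theorem exists_char (hc : OddCyc H) (h2 : pCore 2 H = ⊥) (hF : fittingSubgroup H ≠ ⊥) :
    ∃ (r : ℕ) (y : H), r.Prime ∧ r ≠ 2 ∧ orderOf y = r ∧ ∀ γ : MulAut H, ∀ x ∈ zpowers y, γ x ∈ zpowers y := by
  have hcyc := FFStruct.isCyclic_fitting hc h2
  have hodd := FFStruct.odd_card_fitting h2
  obtain ⟨r, hr, hrd⟩ := Nat.exists_prime_and_dvd (fun h => hF (Subgroup.card_eq_one.1 h))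
  have : Fact r.Prime := ⟨hr⟩
  obtain ⟨y, hy⟩ := exists_prime_orderOf_dvd_card' (G := fittingSubgroup H) r hrd
  have hr2 : r ≠ 2 := by
    rintro rfl
    exact (Nat.not_even_iff_odd.mpr hodd) (even_iff_two_dvd.mpr hrd)
  have hch : (fittingSubgroup H).Characteristic := Cfsg.Agent.Lib.Cores.fittingSubgroup_characteristic
  refine ⟨r, y, hr, hr2, by rw [Subgroup.orderOf_coe, hy], ?_⟩
  have key : ∀ γ : MulAut H, γ (y : H) ∈ zpowers (y : H) := by
    intro γ
    have h1 : γ (y : H) ∈ fittingSubgroup H := (characteristic_iff_map_le.1 hch γ) ⟨y, y.2, rfl⟩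
    refine Cfsg.Agent.OddCyclic.T1SzComp.mem_zpowers_of_cyclic hcyc h1 y.2 ?_
    exact orderOf_injective (γ : H ≃* H).toMonoidHom (γ : H ≃* H).injective (y : H)
  rintro γ _ ⟨k, rfl⟩
  have h3 := zpow_mem (key γ) k
  rwa [← map_zpow] at h3

/-- components are characteristic -/
theorem component_char (hc : OddCyc H) (h2 : pCore 2 H = ⊥) {X : Subgroup H} (hX : IsComponent X) (γ : MulAut H) :
    ∀ x ∈ X, γ x ∈ X := by
  obtain ⟨p, hp, hp2, hpX⟩ := FFStruct.exists_odd_prime (quasisimple_not_isSolvable hX.2)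
  have h1 : IsComponent (X.map (γ : H ≃* H).toMonoidHom) := isComponent_map_equiv (γ : H ≃* H) hX
  have h3 : Nat.card (X.map (γ : H ≃* H).toMonoidHom) = Nat.card X :=
    Nat.card_congr (X.equivMapOfInjective _ (γ : H ≃* H).injective).symm.toEquiv
  have h4 := FFStruct.component_eq hc h2 hX h1 hp hp2 hpX (by rw [h3]; exact hpX)
  intro x hx
  rw [h4]
  exact ⟨x, hx, rfl⟩

/-- the centraliser of a component is trivial -/
theorem Dat.cent_bot (h : Dat Γ H0 T) {X : Subgroup H} (hX : ∀ γ : MulAut H, ∀ x ∈ X, γ x ∈ X)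
    (h2 : 2 ∣ Nat.card X) : centralizer (X : Set H) = ⊥ := by
  have : Fact (Nat.Prime 2) := ⟨Nat.prime_two⟩
  by_contra hne
  have hXn : X.Normal := normal_of_char hX
  have hX1 : X ≠ ⊥ := by
    rintro rfl
    rw [Subgroup.card_bot] at h2
    omega
  have hs := h.sup_top hX hX1
  have hs' := h.sup_top (char_cent hX) hne
  have h3 : (X ⊓ H0 : Subgroup H) = ⊥ := by
    refine h.core _ (normal_of hs' ?_ ?_) inf_le_right
    · intro g hh
      rw [mem_normalizer_iff]
      intro x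
      constructor
      · intro hx
        obtain ⟨h1, h2⟩ := mem_inf.1 hx
        exact mem_inf.2 ⟨hXn.conj_mem x h1 g, mul_mem (mul_mem hh h2) (inv_mem hh)⟩
      · intro hx
        obtain ⟨h1, h2⟩ := mem_inf.1 hx
        have h3 := mul_mem (mul_mem (inv_mem hh) h2) hh
        have h4 := hXn.conj_mem _ h1 g⁻¹
        have e1 : g⁻¹ * (g * x * g⁻¹) * g = x := by group
        have e2 : g⁻¹ * (g * x * g⁻¹) * g⁻¹⁻¹ = x := by group
        rw [e1] at h3
        rw [e2] at h4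
        exact mem_inf.2 ⟨h4, h3⟩
    · have h3 : centralizer (X : Set H) ≤ centralizer ((X ⊓ H0 : Subgroup H) : Set H) :=
        centralizer_le inf_le_left
      exact h3.trans (centralizer_le_normalizer _)
  have h4 := not_two_dvd hs h.odd
  have h5 : H0.subgroupOf X = ⊥ := by
    rw [← Subgroup.inf_subgroupOf_left, h3]; exact Subgroup.bot_subgroupOf X
  rw [h5, Subgroup.index_bot] at h4
  exact h4 h2

/-! ### the solvable case -/

/-- (a): a characteristic subgroup of prime order, complemented by the cyclic group `H0` -/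
def OutR (H0 : Subgroup H) : Prop :=
  ∃ (r : ℕ) (y : H), r.Prime ∧ r ≠ 2 ∧ orderOf y = r ∧ (∀ γ : MulAut H, ∀ x ∈ zpowers y, γ x ∈ zpowers y) ∧
    centralizer (zpowers y : Set H) = zpowers y ∧ H0 ⊔ zpowers y = ⊤ ∧ H0 ⊓ zpowers y = ⊥ ∧ IsCyclic H0

theorem Dat.outR (h : Dat Γ H0 T) {r : ℕ} (hr : r.Prime) (hr2 : r ≠ 2) {y : H} (hy : orderOf y = r)
    (hn : ∀ γ : MulAut H, ∀ x ∈ zpowers y, γ x ∈ zpowers y) : OutR H0 := by
  have hN : (zpowers y).Normal := normal_of_char hn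
  have hy1 : zpowers y ≠ ⊥ := by
    rw [Ne, zpowers_eq_bot]
    rintro rfl
    rw [orderOf_one] at hy
    exact hr.one_lt.ne hy
  have hs := h.sup_top hn hy1
  have hC : (H0 ⊓ centralizer (zpowers y : Set H) : Subgroup H) = ⊥ := by
    refine h.core _ (normal_of hs ?_ ?_) inf_le_left
    · intro h hh
      rw [mem_normalizer_iff]
      intro x
      have hcn : (centralizer (zpowers y : Set H)).Normal := inferInstance
      constructor
      · intro hx
        obtain ⟨h1, h2⟩ := mem_inf.1 hx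
        exact mem_inf.2 ⟨mul_mem (mul_mem hh h1) (inv_mem hh), hcn.conj_mem x h2 h⟩
      · intro hx
        obtain ⟨h1, h2⟩ := mem_inf.1 hx
        have h3 := mul_mem (mul_mem (inv_mem hh) h1) hh
        have h4 := hcn.conj_mem _ h2 h⁻¹
        have e1 : h⁻¹ * (h * x * h⁻¹) * h = x := by group
        have e2 : h⁻¹ * (h * x * h⁻¹) * h⁻¹⁻¹ = x := by group
        rw [e1] at h3
        rw [e2] at h4
        exact mem_inf.2 ⟨h3, h4⟩
    · have h3 : zpowers y ≤ centralizer ((H0 ⊓ centralizer (zpowers y : Set H) : Subgroup H) : Set H) := by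
        rw [le_centralizer_iff]
        exact inf_le_right
      exact h3.trans (centralizer_le_normalizer _)
  have hab : zpowers y ≤ centralizer (zpowers y : Set H) := by
    rintro _ ⟨k, rfl⟩
    rw [mem_centralizer_iff]
    rintro _ ⟨l, rfl⟩
    exact ((Commute.refl y).zpow_zpow l k).eq
  have hcent : centralizer (zpowers y : Set H) = zpowers y := by
    refine le_antisymm ?_ hab
    intro c hc
    have h1 : c ∈ H0 ⊔ zpowers y := by rw [hs]; trivial
    rw [← SetLike.mem_coe, mul_normal, Set.mem_mul] at h1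
    obtain ⟨a, ha, b, hb, rfl⟩ := h1
    have h2 : a ∈ H0 ⊓ centralizer (zpowers y : Set H) := by
      refine ⟨ha, ?_⟩
      have h3 := mul_mem hc (inv_mem (hab hb))
      rwa [mul_inv_cancel_right] at h3
    rw [hC, mem_bot] at h2
    rw [h2, one_mul]
    exact hb
  refine ⟨r, y, hr, hr2, hy, hn, hcent, hs, ?_, ?_⟩
  · rw [← hC, hcent]
  · have hR : IsCyclic (zpowers y) := inferInstance
    have hRp : IsPGroup r (zpowers y) := IsPGroup.of_card (n := 1) (by rw [Nat.card_zpowers, hy, pow_one])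
    have hAc := T1MinParAbs.isCyclic_mulAut hR hr hr2 hRp
    let φ : H0 →* MulAut (zpowers y) := (MulAut.conjNormal : H →* MulAut (zpowers y)).comp H0.subtype
    refine isCyclic_of_injective φ ?_
    rw [injective_iff_map_eq_one]
    rintro ⟨t, ht⟩ h1
    apply Subtype.ext
    have h2 : t ∈ H0 ⊓ centralizer (zpowers y : Set H) := by
      refine mem_inf.2 ⟨ht, ?_⟩
      rw [mem_centralizer_iff]
      intro x hx
      have h2 : ((MulAut.conjNormal t : MulAut (zpowers y)) ⟨x, hx⟩ : H) = x := by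
        have : (MulAut.conjNormal t : MulAut (zpowers y)) = 1 := h1
        rw [this]; rfl
      rw [MulAut.conjNormal_apply] at h2
      exact (mul_inv_eq_iff_eq_mul.1 h2).symm
    rw [hC, mem_bot] at h2
    exact h2

/-- in case (a) elementary abelian 2-subgroups have order at most 2 -/
theorem OutR.card_le (h : OutR H0) (hodd : Odd H0.index) (A : Subgroup H) (hA : ∀ a ∈ A, a * a = 1) :
    Nat.card A ≤ 2 := by
  obtain ⟨r, y, hr, hr2, hy, hn, hcent, hs, hi, hcy⟩ := h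
  obtain ⟨g, hg⟩ := exists_conj_le hodd A hA
  by_cases hA1 : A = ⊥
  · rw [hA1, Subgroup.card_bot]; norm_num
  obtain ⟨⟨a, ha⟩, ha1'⟩ := Subgroup.ne_bot_iff_exists_ne_one.1 hA1
  have ha1 : a ≠ 1 := fun h => ha1' (Subtype.ext h)
  refine FFPsl.card_le_two_of (a := a) fun b hb => ?_
  by_cases hb1 : b = 1
  · exact Or.inl hb1
  right
  have ho : ∀ x ∈ A, x ≠ 1 → orderOf (g * x * g⁻¹) = 2 := by
    intro x hx hx1
    have h1 : orderOf (g * x * g⁻¹) = orderOf x :=
      orderOf_injective (MulAut.conj g).toMonoidHom (MulAut.conj g).injective x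
    rw [h1]
    exact orderOf_eq_prime (by rw [pow_two]; exact hA x hx) hx1
  obtain ⟨k, hk⟩ := Cfsg.Agent.OddCyclic.T1SzComp.mem_zpowers_of_cyclic hcy (hg b hb) (hg a ha)
    ((ho b hb hb1).trans (ho a ha ha1).symm)
  have h1 : a ^ k = b := by
    have h2 : (g * a * g⁻¹) ^ k = g * b * g⁻¹ := hk
    rw [conj_zpow] at h2
    exact mul_left_cancel (mul_right_cancel h2)
  rcases Int.even_or_odd' k with ⟨l, rfl | rfl⟩
  · exfalso
    apply hb1
    rw [← h1, zpow_mul, zpow_ofNat, pow_two, hA a ha, one_zpow]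
  · rw [← h1, zpow_add, zpow_mul, zpow_ofNat, pow_two, hA a ha, one_zpow, one_mul, zpow_one]


/-! ### the simple case, rank one -/

theorem not_le (h : Dat Γ H0 T) {X : Subgroup H} [X.Normal] (h2 : 2 ∣ Nat.card X) : ¬ X ≤ H0 := by
  intro h'
  have h1 := h.core X inferInstance h'
  rw [h1, Subgroup.card_bot] at h2
  omega

/-- `H0` is the normaliser of a Sylow 2-subgroup of `X` -/
theorem norm_eq (h : Dat Γ H0 T) {X : Subgroup H} [X.Normal] [IsSimpleGroup X]
    (hX : ∀ γ : MulAut H, ∀ x ∈ X, γ x ∈ X) (hr : R1 X) (h2 : 2 ∣ Nat.card X) :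
    ∃ Q : Sylow 2 X, (∀ y ∈ Q, (y : H) ∈ H0) ∧ (∀ h : H, h ∈ H0 ↔ (MulAut.conjNormal h : MulAut X) • Q = Q) ∧
      ∀ R : Sylow 2 X, (∀ y ∈ R, (y : H) ∈ H0) → R = Q := by
  have : Fact (Nat.Prime 2) := ⟨Nat.prime_two⟩
  have hXH := not_le h h2
  have hXb : X ≠ ⊥ := by
    rintro rfl
    exact hXH bot_le
  have hs : H0 ⊔ X = ⊤ := h.sup_top hX hXb
  have hDne : H0.subgroupOf X ≠ ⊤ := fun h => hXH (Subgroup.subgroupOf_eq_top.1 h)
  obtain ⟨Q, -, hQ⟩ := exists_syl_mem hs h.odd (x := (1 : X)) H0.one_mem (one_mul 1)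
  have huniq : ∀ R : Sylow 2 X, (∀ y ∈ R, (y : H) ∈ H0) → R = Q := by
    intro R hR
    by_contra hne
    exact hDne (gen hr (D := H0.subgroupOf X) (fun y hy => mem_subgroupOf.2 (hR y hy))
      (fun y hy => mem_subgroupOf.2 (hQ y hy)) hne)
  -- automorphisms of `H` leaving `H0` invariant fix `Q`
  have hinvQ : ∀ γ : MulAut H, (∀ x ∈ H0, γ x ∈ H0) → (∀ x ∈ H0, γ⁻¹ x ∈ H0) → ∀ y ∈ Q,
      (⟨γ (y : H), hX γ y y.2⟩ : X) ∈ Q := by
    intro γ h1 h1' y hy
    let β : MulAut X :=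
      { toFun := fun x => ⟨γ (x : H), hX γ x x.2⟩
        invFun := fun x => ⟨γ⁻¹ (x : H), hX γ⁻¹ x x.2⟩
        left_inv := fun x => Subtype.ext (MulAut.inv_apply_self H γ x)
        right_inv := fun x => Subtype.ext (MulAut.apply_inv_self H γ x)
        map_mul' := fun x x' => Subtype.ext (map_mul γ (x : H) x') }
    have h2 : β • Q = Q := by
      apply huniq
      intro z hz
      rw [mem_aut_smul] at hz
      have h3 := hQ _ hz
      have h4 := h1 _ h3
      have h5 : γ ((β⁻¹ z : X) : H) = z := by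
        have : β (β⁻¹ z) = z := MulAut.apply_inv_self X β z
        exact congrArg Subtype.val this
      rwa [h5] at h4
    have h3 : β y ∈ β • Q := by
      rw [mem_aut_smul, MulAut.inv_apply_self]; exact hy
    rw [h2] at h3
    exact h3
  have hle : ∀ h ∈ H0, (MulAut.conjNormal h : MulAut X) • Q = Q := by
    intro h hh
    apply huniq
    intro y hy
    rw [mem_aut_smul] at hy
    have h3 := hQ _ hy
    have h4 : (((MulAut.conjNormal h)⁻¹ : MulAut X) y : H) = h⁻¹ * y * h := by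
      rw [← map_inv, MulAut.conjNormal_apply, inv_inv]
    rw [h4] at h3
    have h5 := mul_mem (mul_mem hh h3) (inv_mem hh)
    have : h * (h⁻¹ * (y : H) * h) * h⁻¹ = y := by group
    rwa [this] at h5
  refine ⟨Q, hQ, ?_, huniq⟩
  let N : Subgroup H := (MulAction.stabilizer (MulAut X) Q).comap MulAut.conjNormal
  have hmemN : ∀ n : H, n ∈ N ↔ ∀ y ∈ Q, (⟨n * y * n⁻¹, (inferInstance : X.Normal).conj_mem y y.2 n⟩ : X) ∈ Q := by
    intro n
    constructor
    · intro hn y hy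
      have h1 : (MulAut.conjNormal n : MulAut X) • Q = Q := hn
      have h3 : (MulAut.conjNormal n : MulAut X) y ∈ (MulAut.conjNormal n : MulAut X) • Q := by
        rw [mem_aut_smul, MulAut.inv_apply_self]; exact hy
      rw [h1] at h3
      have h4 : (MulAut.conjNormal n : MulAut X) y =
          ⟨n * y * n⁻¹, (inferInstance : X.Normal).conj_mem y y.2 n⟩ := Subtype.ext (MulAut.conjNormal_apply _ _)
      rw [← h4]; exact h3
    · intro hn
      show (MulAut.conjNormal n : MulAut X) • Q = Q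
      have hle' : (((MulAut.conjNormal n : MulAut X) • Q : Sylow 2 X) : Subgroup X) ≤ Q := by
        intro z hz
        have hz' : ((MulAut.conjNormal n : MulAut X))⁻¹ z ∈ Q := mem_aut_smul.1 hz
        have h3 := hn _ hz'
        have h4 : (⟨n * ((((MulAut.conjNormal n : MulAut X))⁻¹ z : X) : H) * n⁻¹,
            (inferInstance : X.Normal).conj_mem _ (((MulAut.conjNormal n : MulAut X))⁻¹ z : X).2 n⟩ : X) = z := by
          apply Subtype.ext
          show n * ((((MulAut.conjNormal n : MulAut X))⁻¹ z : X) : H) * n⁻¹ = z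
          rw [← MulAut.conjNormal_apply, MulAut.apply_inv_self]
        rw [h4] at h3
        exact h3
      apply Sylow.ext
      exact Subgroup.eq_of_le_of_card_ge hle' (le_of_eq (Nat.card_congr
        (Sylow.equiv Q ((MulAut.conjNormal n : MulAut X) • Q)).toEquiv))
  have hN : H0 ≤ N := fun h hh => hle h hh
  have hNinv : Inv Γ N := by
    intro γ hγ n hn
    rw [hmemN] at hn ⊢
    intro y hy
    have h1 := hinvQ γ⁻¹ (h.inv γ⁻¹ (inv_mem hγ)) (by rw [inv_inv]; exact h.inv γ hγ) y hy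
    have h2 := hn _ h1
    have h3 := hinvQ γ (h.inv γ hγ) (h.inv γ⁻¹ (inv_mem hγ)) _ h2
    have h4 : γ (n * γ⁻¹ (y : H) * n⁻¹) = γ n * y * (γ n)⁻¹ := by
      rw [map_mul, map_mul, map_inv, MulAut.apply_inv_self]
    have h5 : (⟨γ (n * γ⁻¹ (y : H) * n⁻¹), hX γ _ ((inferInstance : X.Normal).conj_mem _ (hX γ⁻¹ y y.2) n)⟩ : X) =
        ⟨γ n * y * (γ n)⁻¹, (inferInstance : X.Normal).conj_mem y y.2 (γ n)⟩ := Subtype.ext h4
    rw [← h5]
    exact h3
  have hN' : N = H0 := by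
    rcases h.max N hNinv hN with h' | h'
    · exact h'
    · exfalso
      have h3 : ((Q : Subgroup X).map X.subtype).Normal := by
        constructor
        rintro _ ⟨x, hx, rfl⟩ g
        have h4 : g ∈ N := by rw [h']; trivial
        exact ⟨_, (hmemN g).1 h4 x hx, rfl⟩
      have h4 := h.core _ h3 (by
        rintro _ ⟨x, hx, rfl⟩
        exact hQ x hx)
      rw [Subgroup.map_eq_bot_iff_of_injective _ X.subtype_injective] at h4
      have h5 := Q.not_dvd_index
      rw [h4, Subgroup.index_bot] at h5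
      exact h5 h2
  intro g
  rw [← hN']
  exact Iff.rfl

/-- an involution of `X` fixes exactly one coset of `H0` -/
theorem fix_one (h : Dat Γ H0 T) {X : Subgroup H} [X.Normal] [IsSimpleGroup X]
    (hX : ∀ γ : MulAut H, ∀ x ∈ X, γ x ∈ X) (hr : R1 X) (h2 : 2 ∣ Nat.card X)
    {a : H} (haX : a ∈ X) (haH : a ∈ H0) (ha : a * a = 1) (ha1 : a ≠ 1) {g : H} (hh : g * a * g⁻¹ ∈ H0) : g ∈ H0 := by
  obtain ⟨Q, -, hQ, huniq⟩ := norm_eq h hX hr h2
  have hXH := not_le h h2
  have hXb : X ≠ ⊥ := by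
    rintro rfl
    exact hXH bot_le
  have hs : H0 ⊔ X = ⊤ := h.sup_top hX hXb
  obtain ⟨-, -, -, hti⟩ := hr
  have hmem : ∀ x : X, (x : H) ∈ H0 → x * x = 1 → x ∈ Q := by
    intro x hx hx2
    obtain ⟨R, hxR, hR⟩ := exists_syl_mem hs h.odd hx hx2
    rw [← huniq R hR]; exact hxR
  have h3 : (⟨a, haX⟩ : X) ∈ Q := hmem _ haH (Subtype.ext ha)
  have hn : X.Normal := inferInstance
  have h4 : (⟨g * a * g⁻¹, hn.conj_mem a haX g⟩ : X) ∈ Q := hmem _ hh (Subtype.ext (by
    show g * a * g⁻¹ * (g * a * g⁻¹) = 1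
    have : g * a * g⁻¹ * (g * a * g⁻¹) = g * (a * a) * g⁻¹ := by group
    rw [this, ha]; group))
  have h5 : (⟨a, haX⟩ : X) ∈ (MulAut.conjNormal g⁻¹ : MulAut X) • Q := by
    rw [mem_aut_smul]
    have : ((MulAut.conjNormal g⁻¹)⁻¹ : MulAut X) ⟨a, haX⟩ = ⟨g * a * g⁻¹, hn.conj_mem a haX g⟩ := by
      rw [← map_inv, inv_inv]
      exact Subtype.ext (MulAut.conjNormal_apply _ _)
    rw [this]; exact h4
  have h6 := hti _ _ _ h5 h3 (fun h => ha1 (congrArg Subtype.val h))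
  have h7 := (hQ g⁻¹).2 h6
  exact inv_mem_iff.1 h7


theorem Dat.exists_conj (h : Dat Γ H0 T) (A : Subgroup H) (hA : IsPGroup 2 A) : ∃ g : H, ∀ a ∈ A, g * a * g⁻¹ ∈ T := by
  have : Fact (Nat.Prime 2) := ⟨Nat.prime_two⟩
  obtain ⟨P, hP⟩ := h.syl
  obtain ⟨Q, hQ⟩ := hA.exists_le_sylow
  obtain ⟨g, hg⟩ := MulAction.exists_smul_eq H Q P
  refine ⟨g, fun a ha => ?_⟩
  rw [← hP]
  show g * a * g⁻¹ ∈ P
  rw [← hg, FFSz.mem_smul]
  have : g⁻¹ * (g * a * g⁻¹) * g = a := by group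
  rw [this]; exact hQ ha

section inside

variable {X : Subgroup H}

/-- if `T ≤ X`, then `T` is semiregular on the cosets different from `H0`, and normal in `H0`. -/
theorem semireg (h : Dat Γ H0 T) [X.Normal] [IsSimpleGroup X] (hX : ∀ γ : MulAut H, ∀ x ∈ X, γ x ∈ X) (hr : R1 X)
    (h2 : 2 ∣ Nat.card X) (hT : T ≤ X) {t : H} (ht : t ∈ T) (ht1 : t ≠ 1) {g : H} (hg : g * t * g⁻¹ ∈ H0) :
    g ∈ H0 := by
  -- an involution among the powers of `t`
  obtain ⟨k, hk⟩ := h.twoT ⟨t, ht⟩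
  have hk' : t ^ 2 ^ k = 1 := congrArg Subtype.val hk
  have key : ∀ k : ℕ, ∀ t : H, t ∈ T → t ≠ 1 → g * t * g⁻¹ ∈ H0 → t ^ 2 ^ k = 1 → g ∈ H0 := by
    intro k
    induction k with
    | zero =>
      intro t _ ht1 _ h1
      rw [pow_zero, pow_one] at h1
      exact absurd h1 ht1
    | succ k ih =>
      intro t ht ht1 hg h1
      by_cases h3 : t * t = 1
      · exact fix_one h hX hr h2 (hT ht) (h.le ht) h3 ht1 hg
      · refine ih (t * t) (mul_mem ht ht) h3 ?_ ?_
        · have e : g * (t * t) * g⁻¹ = (g * t * g⁻¹) * (g * t * g⁻¹) := by group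
          rw [e]; exact mul_mem hg hg
        · rw [← pow_two, ← pow_mul, ← pow_succ']; exact h1
  exact key k t ht ht1 hg hk'

theorem normT (h : Dat Γ H0 T) [X.Normal] [IsSimpleGroup X] (hX : ∀ γ : MulAut H, ∀ x ∈ X, γ x ∈ X) (hr : R1 X)
    (h2 : 2 ∣ Nat.card X) (hT : T ≤ X) : normalizer (T : Set H) = H0 := by
  have : Fact (Nat.Prime 2) := ⟨Nat.prime_two⟩
  refine le_antisymm h.nT ?_
  obtain ⟨Q, -, hQ, huniq⟩ := norm_eq h hX hr h2
  obtain ⟨P, hP⟩ := h.syl
  have hPX : (P : Subgroup H) ≤ X := by rw [hP]; exact hT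
  have h1 : P.subtype hPX = Q := by
    apply huniq
    intro y hy
    have : (y : H) ∈ (P : Subgroup H) := hy
    rw [hP] at this
    exact h.le this
  have hmem : ∀ x : H, ∀ hx : x ∈ X, x ∈ T ↔ (⟨x, hx⟩ : X) ∈ Q := by
    intro x hx
    rw [← h1, ← hP]
    exact Iff.rfl
  intro g hg
  have h3 := (hQ g).1 hg
  rw [mem_normalizer_iff]
  intro x
  have hXn : X.Normal := inferInstance
  constructor
  · intro hx
    have hxX := hT hx
    rw [hmem _ (hXn.conj_mem x hxX g), ← h3, mem_aut_smul]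
    have : ((MulAut.conjNormal g)⁻¹ : MulAut X) ⟨g * x * g⁻¹, hXn.conj_mem x hxX g⟩ = ⟨x, hxX⟩ := by
      rw [← map_inv]
      apply Subtype.ext
      rw [MulAut.conjNormal_apply]
      show g⁻¹ * (g * x * g⁻¹) * g⁻¹⁻¹ = x
      group
    rw [this]
    exact (hmem x hxX).1 hx
  · intro hx
    have hxX' := hT hx
    have hxX : x ∈ X := by
      have := hXn.conj_mem _ hxX' g⁻¹
      have e : g⁻¹ * (g * x * g⁻¹) * g⁻¹⁻¹ = x := by group
      rwa [e] at this
    rw [hmem x hxX]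
    have h4 := (hmem _ hxX').1 hx
    rw [← h3, mem_aut_smul] at h4
    have : ((MulAut.conjNormal g)⁻¹ : MulAut X) ⟨g * x * g⁻¹, hxX'⟩ = ⟨x, hxX⟩ := by
      rw [← map_inv]
      apply Subtype.ext
      rw [MulAut.conjNormal_apply]
      show g⁻¹ * (g * x * g⁻¹) * g⁻¹⁻¹ = x
      group
    rw [this] at h4
    exact h4

end inside

section linear

open Cfsg.Agent.OddCyclic.T1Sl2 Cfsg.Agent.OddCyclic.FFSl2 Cfsg.Agent.Classification.QDW.TypeHom
  Cfsg.Agent.Lib.SL2Mat

variable {F : Type*} [Field F] [Fintype F] [CharP F 2] {X : Subgroup H}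

/-- `SL₂(2^n)`: `3` does not divide `2^n - 1` -/
theorem not_three_dvd (h : Dat Γ H0 T) [X.Normal] [IsSimpleGroup X] (hX : ∀ γ : MulAut H, ∀ x ∈ X, γ x ∈ X)
    (e : Matrix.SpecialLinearGroup (Fin 2) F ≃* X) (h2 : 2 ∣ Nat.card X) : ¬ 3 ∣ Nat.card Fˣ := by
  intro h6
  have : Fact (Nat.Prime 2) := ⟨Nat.prime_two⟩
  have : Fact (Nat.Prime 3) := ⟨Nat.prime_three⟩
  obtain ⟨s, hs⟩ := exists_prime_orderOf_dvd_card' (G := Fˣ) 3 h6
  have h7 : orderOf (T1Sl2.dgHom s) = 3 := by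
    rw [← hs]
    exact orderOf_injective (T1Sl2.dgHom (F := F)) T1Sl2.dgHom_injective s
  -- the Sylow 2-subgroup
  obtain ⟨Q, -, hQ, -⟩ := norm_eq h hX (PrimR.equiv e PrimR.sl) h2
  obtain ⟨g, hg⟩ := MulAction.exists_smul_eq X
    ((T1Sl2.SU F).mapSurjective (f := e.toMonoidHom) e.surjective : Sylow 2 X) Q
  have h8 : (T1Sl2.dgHom s) • T1Sl2.SU F = T1Sl2.SU F := by
    rw [smul_SU_eq]; rfl
  have h9 : e (T1Sl2.dgHom s) • ((T1Sl2.SU F).mapSurjective (f := e.toMonoidHom) e.surjective : Sylow 2 X) =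
      (T1Sl2.SU F).mapSurjective (f := e.toMonoidHom) e.surjective := by
    apply Sylow.ext
    ext y
    change y ∈ e (T1Sl2.dgHom s) • ((T1Sl2.SU F).mapSurjective (f := e.toMonoidHom) e.surjective : Sylow 2 X) ↔
      y ∈ ((T1Sl2.SU F).mapSurjective (f := e.toMonoidHom) e.surjective : Sylow 2 X)
    rw [FFSz.mem_smul, PrimR.mem_map, PrimR.mem_map, map_mul, map_mul, map_inv, e.symm_apply_apply,
      ← FFSz.mem_smul, h8]
  have h10 : ((g * e (T1Sl2.dgHom s) * g⁻¹ : X) : H) ∈ H0 := by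
    rw [hQ]
    have h11 : (MulAut.conjNormal ((g * e (T1Sl2.dgHom s) * g⁻¹ : X) : H) : MulAut X) =
        MulAut.conj (g * e (T1Sl2.dgHom s) * g⁻¹) := by
      ext x
      rw [MulAut.conjNormal_apply]; rfl
    rw [h11]
    change (g * e (T1Sl2.dgHom s) * g⁻¹) • Q = Q
    rw [← hg, smul_smul]
    have : g * e (T1Sl2.dgHom s) * g⁻¹ * g = g * e (T1Sl2.dgHom s) := by group
    rw [this, mul_smul, h9]
  apply h.three
  have h11 : orderOf ((g * e (T1Sl2.dgHom s) * g⁻¹ : X) : H) = 3 := by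
    rw [Subgroup.orderOf_coe, ← h7, ← MulEquiv.orderOf_eq e (T1Sl2.dgHom s)]
    exact orderOf_injective (MulAut.conj g).toMonoidHom (MulAut.conj g).injective _
  rw [← h11, ← Subgroup.orderOf_mk _ h10]
  exact orderOf_dvd_natCard _

/-- 2-elements of `H` are in `X` -/
theorem mem_of_sl (h : Dat Γ H0 T) [X.Normal] [IsSimpleGroup X] (hX : ∀ γ : MulAut H, ∀ x ∈ X, γ x ∈ X)
    (hC : centralizer (X : Set H) = ⊥) (e : Matrix.SpecialLinearGroup (Fin 2) F ≃* X) (h2 : 2 ∣ Nat.card X) {t : H}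
    {k : ℕ} (ht : t ^ 2 ^ k = 1) : t ∈ X := by
  have h3 := not_three_dvd h hX e h2
  suffices h4 : typ (FFOuter.ac e t) = 1 by
    obtain ⟨s, hs⟩ := (L2Model.inner_iff _).1 h4
    exact mem_of_inner hC (EO.DThree.psi_of_ac e hs)
  -- field automorphisms of 2-power order are trivial
  have key : ∀ k : ℕ, ∀ σ : F ≃+* F, σ ^ 2 ^ k = 1 → σ = 1 := by
    intro k
    induction k with
    | zero => intro σ h5; simpa using h5
    | succ k ih =>
      intro σ h5
      have h6 : (σ ^ 2 ^ k) = 1 := by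
        by_contra hne
        have h7 : (fieldAut (σ ^ 2 ^ k) : MulAut (Matrix.SpecialLinearGroup (Fin 2) F)) * fieldAut (σ ^ 2 ^ k) = 1 := by
          rw [← map_mul, ← pow_add, ← two_mul, ← pow_succ', h5, map_one]
        obtain ⟨q, hq, -⟩ := L2Model.card_fix h7 (by rw [typ_fieldAut]; exact hne)
        apply h3
        have h5 : ∃ n, Nat.card F = 2 ^ n := by
          obtain ⟨n, -, hn⟩ := FiniteField.card F 2
          exact ⟨n, by rw [Nat.card_eq_fintype_card]; exact hn⟩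
        obtain ⟨n, hn⟩ := h5
        have h7 : Nat.card Fˣ = Nat.card F - 1 := Nat.card_units F
        rw [h7, hq]
        have h8 : q % 3 ≠ 0 := by
          intro h9
          have h10 : 3 ∣ 2 ^ n := by
            rw [← hn, hq]
            exact Dvd.dvd.pow (Nat.dvd_of_mod_eq_zero h9) (by norm_num)
          have h11 := Nat.prime_three.dvd_of_dvd_pow h10
          omega
        have h9 : q ^ 2 % 3 = 1 := by
          have : q % 3 = 1 ∨ q % 3 = 2 := by omega
          rcases this with h | h <;> simp [Nat.pow_mod, h]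
        omega
      exact ih σ h6
  refine key k _ ?_
  rw [← map_pow, ← map_pow, ht, map_one, map_one]

end linear

theorem mem_of_sz {X : Subgroup H} [X.Normal] (hC : centralizer (X : Set H) = ⊥) (hs : Cfsg.Lie.IsoSuzuki X) {t : H}
    {k : ℕ} (ht : t ^ 2 ^ k = 1) : t ∈ X := by
  obtain ⟨F, iF, iF', m, hm, hF, ⟨R⟩⟩ := Cfsg.Agent.ThreePrime.SzRel.exists_rel hs
  obtain ⟨g, hg⟩ := R.inner hm hF (MulAut.conjNormal t) ⟨k, by rw [← map_pow, ht, map_one]⟩
  exact mem_of_inner hC hg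


/-! ### the list -/

/-- the common part of the cases `SL₂` and `Sz` -/
structure Rk (H0 T X : Subgroup H) : Prop where
  char : ∀ γ : MulAut H, ∀ x ∈ X, γ x ∈ X
  simple : IsSimpleGroup X
  cent : centralizer (X : Set H) = ⊥
  le : T ≤ X
  two : ∀ t : H, ∀ k : ℕ, t ^ 2 ^ k = 1 → t ∈ X
  nT : normalizer (T : Set H) = H0
  semi : ∀ g : H, ∀ t ∈ T, t ≠ 1 → g * t * g⁻¹ ∈ H0 → g ∈ H0

/-- (b), `K₀ = SL₂(2^n)`, `n` odd -/
def OutSl (H0 T : Subgroup H) : Prop :=
  ∃ X : Subgroup H, Rk H0 T X ∧ ∃ (F : Type) (_ : Field F) (_ : Fintype F) (_ : CharP F 2) (n : ℕ), Odd n ∧ 3 ≤ n ∧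
    Fintype.card F = 2 ^ n ∧ Nonempty (Matrix.SpecialLinearGroup (Fin 2) F ≃* X) ∧ (∀ t ∈ T, t * t = 1) ∧
    Nat.card T = 2 ^ n

/-- (b), `K₀ = Sz(2^n)` -/
def OutSz (H0 T : Subgroup H) : Prop :=
  ∃ X : Subgroup H, Rk H0 T X ∧ Cfsg.Lie.IsoSuzuki X ∧ ∃ n : ℕ, 3 ≤ n ∧ Nat.card T = 2 ^ (2 * n) ∧
    ∀ A : Subgroup H, A ≤ T → (∀ a ∈ A, a * a = 1) → Nat.card A ≤ 2 ^ n

/-- (b), `K₀ = PSL₂(p)`, `p ≥ 7` prime -/
def OutPsl (H : Type u) [Group H] : Prop :=
  ∃ X : Subgroup H, (∀ γ : MulAut H, ∀ x ∈ X, γ x ∈ X) ∧ IsSimpleGroup X ∧ centralizer (X : Set H) = ⊥ ∧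
    (∃ (F : Type) (_ : Field F) (_ : Fintype F), (Fintype.card F).Prime ∧ 7 ≤ Fintype.card F ∧
      Nonempty (X ≃* Matrix.ProjectiveSpecialLinearGroup (Fin 2) F)) ∧
    ∀ A : Subgroup H, (∀ a ∈ A, a * a = 1) → Nat.card A ≤ 4

theorem rk_of (h : Dat Γ H0 T) {X : Subgroup H} [X.Normal] (hX : ∀ γ : MulAut H, ∀ x ∈ X, γ x ∈ X)
    (hs : IsSimpleGroup X) (hC : centralizer (X : Set H) = ⊥) (hr : R1 X) (h2 : 2 ∣ Nat.card X)
    (htwo : ∀ t : H, ∀ k : ℕ, t ^ 2 ^ k = 1 → t ∈ X) : Rk H0 T X := by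
  have hT : T ≤ X := by
    intro t ht
    obtain ⟨k, hk⟩ := h.twoT ⟨t, ht⟩
    exact htwo t k (congrArg Subtype.val hk)
  exact ⟨hX, hs, hC, hT, htwo, normT h hX hr h2 hT, fun g t ht ht1 hg => semireg h hX hr h2 hT ht ht1 hg⟩

theorem sylX (h : Dat Γ H0 T) {X : Subgroup H} (hT : T ≤ X) : ∃ Q : Sylow 2 X, ∀ x : X, x ∈ Q ↔ (x : H) ∈ T := by
  obtain ⟨P, hP⟩ := h.syl
  have hPX : (P : Subgroup H) ≤ X := by rw [hP]; exact hT
  refine ⟨P.subtype hPX, fun x => ?_⟩
  rw [← hP]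
  exact Iff.rfl

theorem outSl (h : Dat Γ H0 T) {X : Subgroup H} [X.Normal] (hX : ∀ γ : MulAut H, ∀ x ∈ X, γ x ∈ X)
    (hs : IsSimpleGroup X) (hC : centralizer (X : Set H) = ⊥) (h2 : 2 ∣ Nat.card X)
    {F : Type} [Field F] [Fintype F] [CharP F 2] {n : ℕ} (hn : 2 ≤ n) (hF : Fintype.card F = 2 ^ n)
    (e : Matrix.SpecialLinearGroup (Fin 2) F ≃* X) : OutSl H0 T := by
  have : Fact (Nat.Prime 2) := ⟨Nat.prime_two⟩
  have hR := rk_of h hX hs hC (PrimR.equiv e PrimR.sl) h2 fun t k ht => mem_of_sl h hX hC e h2 ht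
  have h3 := not_three_dvd h hX e h2
  have h4 : Nat.card Fˣ = 2 ^ n - 1 := by rw [Nat.card_units, Nat.card_eq_fintype_card, hF]
  have hodd : Odd n := by
    rw [← Nat.not_even_iff_odd]
    rintro ⟨m, rfl⟩
    apply h3
    rw [h4, pow_add, ← mul_pow]
    have h5 : (2 * 2) ^ m % 3 = 1 := by
      have : (2 * 2) % 3 = 1 := by norm_num
      rw [Nat.pow_mod, this, one_pow]
      norm_num
    omega
  obtain ⟨Q, hQ⟩ := sylX h hR.le
  let S : Sylow 2 (Matrix.SpecialLinearGroup (Fin 2) F) := Q.mapSurjective (f := e.symm.toMonoidHom) e.symm.surjective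
  have hS : ∀ x : X, e.symm x ∈ S ↔ (x : H) ∈ T := by
    intro x
    rw [← hQ]
    have := PrimR.mem_map e.symm Q (e.symm x)
    rw [MulEquiv.symm_symm, e.apply_symm_apply] at this
    exact this
  refine ⟨X, hR, F, inferInstance, inferInstance, inferInstance, n, hodd, ?_, hF, ⟨e⟩, ?_, ?_⟩
  · rcases hodd with ⟨m, rfl⟩
    omega
  · intro t ht
    have h5 := T1Sl2.sylow_elem S _ ((hS ⟨t, hR.le ht⟩).2 ht)
    rw [← map_mul] at h5
    have h6 : (⟨t, hR.le ht⟩ : X) * ⟨t, hR.le ht⟩ = 1 := e.symm.injective (by rw [h5, map_one])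
    exact congrArg Subtype.val h6
  · have h5 := T1Sl2.card_sylow S
    rw [hF] at h5
    rw [← h5]
    refine Nat.card_congr
      { toFun := fun t => ⟨e.symm ⟨t, hR.le t.2⟩, (hS _).2 t.2⟩
        invFun := fun s => ⟨e s, (hS _).1 (by rw [e.symm_apply_apply]; exact s.2)⟩
        left_inv := fun t => Subtype.ext (by simp)
        right_inv := fun s => Subtype.ext (by simp) }

theorem outSz (h : Dat Γ H0 T) {X : Subgroup H} [X.Normal] (hX : ∀ γ : MulAut H, ∀ x ∈ X, γ x ∈ X)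
    (hs : IsSimpleGroup X) (hC : centralizer (X : Set H) = ⊥) (h2 : 2 ∣ Nat.card X) (hz : Cfsg.Lie.IsoSuzuki X) :
    OutSz H0 T := by
  have : Fact (Nat.Prime 2) := ⟨Nat.prime_two⟩
  have hR := rk_of h hX hs hC (PrimR.sz hz) h2 fun t k ht => mem_of_sz hC hz ht
  obtain ⟨Q, hQ⟩ := sylX h hR.le
  have hM := T1SzFacts.szMore hz Q
  have hcT : Nat.card T = Nat.card (Q : Subgroup X) := by
    refine Nat.card_congr
      { toFun := fun t => ⟨⟨t, hR.le t.2⟩, (hQ _).2 t.2⟩
        invFun := fun s => ⟨s, (hQ _).1 s.2⟩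
        left_inv := fun t => rfl
        right_inv := fun s => rfl }
  have hZ2 : IsPGroup 2 ((Q : Subgroup X) ⊓ Subgroup.centralizer ((Q : Subgroup X) : Set X) : Subgroup X) :=
    Q.2.to_le inf_le_left
  obtain ⟨n, hn⟩ := hZ2.exists_card_eq
  have h8 := hM.eight_le
  rw [hn] at h8
  have hn3 : 3 ≤ n := by
    by_contra hcon
    have : 2 ^ n ≤ 2 ^ 2 := Nat.pow_le_pow_right (by norm_num) (by omega)
    omega
  refine ⟨X, hR, hz, n, hn3, ?_, ?_⟩
  · rw [hcT, hM.card_eq, hn, ← pow_mul, mul_comm]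
  · intro A hA hsq
    have h5 : A.subgroupOf X ≤ (Q : Subgroup X) ⊓ Subgroup.centralizer ((Q : Subgroup X) : Set X) := by
      refine hM.elem_le ?_ ?_
      · intro a ha
        exact (hQ a).2 (hA (mem_subgroupOf.1 ha))
      · intro a ha
        exact Subtype.ext (hsq a (mem_subgroupOf.1 ha))
    have h6 : Nat.card (A.subgroupOf X) = Nat.card A :=
      Nat.card_congr (Subgroup.subgroupOfEquivOfLe (hA.trans hR.le)).toEquiv
    rw [← h6, ← hn]
    exact Nat.card_mono (Set.toFinite _) h5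

/-- **(2.2)** -/
theorem cases (h : Dat Γ H0 T) : OutR H0 ∨ OutSl H0 T ∨ OutSz H0 T ∨ OutPsl H := by
  have : Fact (Nat.Prime 2) := ⟨Nat.prime_two⟩
  have hO := h.o2
  by_cases hF : fittingSubgroup H = ⊥
  swap
  · left
    obtain ⟨r, y, hr, hr2, hy, hn⟩ := exists_char h.cyc hO hF
    exact h.outR hr hr2 hy hn
  right
  obtain ⟨X, hX⟩ : ∃ X : Subgroup H, IsComponent X := by
    by_contra hcon
    push Not at hcon
    have hl : layer H = ⊥ := by
      rw [eq_bot_iff, layer_le_iff]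
      intro E hE
      exact absurd hE (hcon E)
    have h1 := T1SzComp.centralizer_fitting_le hl
    rw [hF] at h1
    apply h.ne
    rw [eq_top_iff]
    intro x _
    have h2 : x ∈ centralizer ((⊥ : Subgroup H) : Set H) := by
      rw [mem_centralizer_iff]
      intro y hy
      rw [SetLike.mem_coe, mem_bot] at hy
      rw [hy, one_mul, mul_one]
    have h3 := h1 h2
    rw [mem_bot] at h3
    rw [h3]
    exact one_mem _
  have hch := component_char h.cyc hO hX
  have hXn := FFStruct.component_normal h.cyc hX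
  have hXs := FFStruct.simple_component h.cyc hO hX
  have hXk : KZero X := by
    refine h.ks X hXs ?_
    by_contra hcon
    push Not at hcon
    exact quasisimple_not_isMulCommutative hX.2 ⟨⟨hcon⟩⟩
  have hX2 : 2 ∣ Nat.card X := by
    by_contra hcon
    exact quasisimple_not_isSolvable hX.2
      (Cfsg.Agent.OddCyclic.Red.solvable_of_odd (CompBasic.oddCyc_subgroup h.cyc X) hcon)
  have hC := h.cent_bot hch hX2
  rcases hXk with ⟨F, _, _, hp, h5, ⟨e⟩⟩ | ⟨F, _, _, f, hf, hF, ⟨e⟩⟩ | hs | ⟨hJ, k, hk'⟩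
  · by_cases h5' : Fintype.card F = 5
    · obtain ⟨K, _, _, _, hK4, ⟨e'⟩⟩ := T1Socle.exists_four h5'
      exact Or.inl (outSl h hch hXs hC hX2 (n := 2) le_rfl (by rw [hK4]; norm_num) (e.trans e').symm)
    · right; right
      have hodd' : Odd (Fintype.card F) := hp.odd_of_ne_two (by omega)
      have h7 : 7 ≤ Fintype.card F := by
        have h6 : Fintype.card F ≠ 6 := by
          intro h6
          rw [h6] at hp
          revert hp
          norm_num
        omega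
      refine ⟨X, hch, hXs, hC, ⟨F, inferInstance, inferInstance, hp, h7, ⟨e⟩⟩, fun A hA => ?_⟩
      have R := Cfsg.Agent.GH.L2Aut.Rep.ofEquiv (Cfsg.Agent.GH.L2Aut.two_ne_zero_of_odd hodd') e
      have h6 := B2Pgl.card_elem R (P := A.map (MulAut.conjNormal : H →* MulAut X))
        (fun α _ => Cfsg.Agent.OddCyclic.PGLTorus.mem_PGL_of_prime R (by rw [Nat.card_eq_fintype_card]; exact hp) α) (by
        rintro _ ⟨x, hx, rfl⟩
        rw [← map_mul, hA x hx, map_one])
      refine le_trans (le_of_eq ?_) h6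
      have hinj : Function.Injective (MulAut.conjNormal : H →* MulAut X) := by
        rw [← MonoidHom.ker_eq_bot_iff, eq_bot_iff, ← hC]
        intro x hx
        rw [mem_centralizer_iff]
        intro y hy
        have h7 := congrArg (fun α : MulAut X => ((α ⟨y, hy⟩ : X) : H)) (MonoidHom.mem_ker.1 hx)
        have h8 : x * y * x⁻¹ = y := by simpa [MulAut.conjNormal_apply] using h7
        calc y * x = x * y * x⁻¹ * x := by rw [h8]
          _ = x * y := by group
      exact Nat.card_congr (A.equivMapOfInjective _ hinj).toEquiv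
  · left
    have hch2 : CharP F 2 := Cfsg.Agent.OddCyclic.PumpMain.charP_two hF
    obtain ⟨g⟩ := WeakTI.PslTwo.nonempty_equiv (F := F)
    exact outSl h hch hXs hC hX2 hf hF (g.trans e.symm)
  · exact Or.inr (Or.inl (outSz h hch hXs hC hX2 hs))
  · exact (not_janko (janko hC hJ hk') hJ hk' h.odd h.three h.nS).elim

end Cfsg.Agent.OddCyclic.Eq.Struct
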