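import Cfsg.Agent.OddCyclic.Eq.Crit

/-!
# (E_q) of `T_cyc`, `Z_J` TI: the critical pair of points

`Fr q U V P`: a "point" `U` of order `q`, a "line" `V ≥ U` of order `q²`, `C_M(U) ≤ P ≤ C_G(U)` with `M = N_G(V)`.
`W = ⟨V^P⟩` is elementary abelian; `K` = kernel of `P` on the lines `V^x`, `x ∈ P`.
`Fr.exists_off`: if no elementary abelian group containing `V` is normalised by `M` and `P`, then some elementary
abelian `A ≤ C(V)` acts quadratically on `W` and `|A : A ∩ K| ≥ q`.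
-/

set_option autoImplicit false

namespace Cfsg.Agent.OddCyclic.Eq.Line

open Subgroup Cfsg.Agent.OddCyclic.CompStandard Cfsg.Agent.OddCyclic.RedFiveThree

variable {G : Type*} [Group G]

/-- the subgroup generated by the conjugates of `V` under `P` -/
def Wc (P V : Subgroup G) : Subgroup G := closure {w | ∃ x ∈ P, w ∈ cj x V}

/-- the kernel of `P` on the conjugates of `V` under `P` -/
def Kc (P V : Subgroup G) : Subgroup G := P ⊓ ⨅ x : P, normalizer (cj (x : G) V : Set G)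

theorem cj_le_Wc {P V : Subgroup G} {x : G} (hx : x ∈ P) : cj x V ≤ Wc P V :=
  fun _ hw => subset_closure ⟨x, hx, hw⟩

theorem le_Wc (P V : Subgroup G) : V ≤ Wc P V := by
  have h := cj_le_Wc (V := V) P.one_mem
  rwa [cj_one] at h

theorem Wc_le {P V R : Subgroup G} (h : ∀ x ∈ P, cj x V ≤ R) : Wc P V ≤ R := by
  refine (closure_le _).mpr ?_
  rintro w ⟨x, hx, hw⟩
  exact h x hx hw

theorem cm_Wc {P V R : Subgroup G} (h : ∀ x ∈ P, Cm (cj x V) R) : Cm (Wc P V) R := by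
  rw [cm_iff]
  exact Wc_le fun x hx => cm_iff.mp (h x hx)

theorem exists_not_cm {P V R : Subgroup G} (h : ¬ Cm (Wc P V) R) : ∃ x ∈ P, ¬ Cm (cj x V) R := by
  by_contra hcon
  push Not at hcon
  exact h (cm_Wc hcon)

variable [Finite G]

theorem norm_Wc (P V : Subgroup G) : P ≤ normalizer (Wc P V : Set G) := by
  intro h hh
  rw [← cj_eq_iff]
  refine Subgroup.eq_of_le_of_card_ge ?_ (card_cj h _).ge
  show (Wc P V).map _ ≤ _
  rw [Subgroup.map_le_iff_le_comap]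
  refine Wc_le fun x hx => ?_
  rw [← Subgroup.map_le_iff_le_comap]
  have h1 : cj h (cj x V) ≤ Wc P V := by
    rw [← cj_mul]
    exact cj_le_Wc (P.mul_mem hh hx)
  exact h1

theorem mem_Kc {P V : Subgroup G} {k : G} : k ∈ Kc P V ↔ k ∈ P ∧ ∀ x ∈ P, cj k (cj x V) = cj x V := by
  rw [Kc, mem_inf, mem_iInf]
  refine and_congr_right fun _ => ⟨fun h x hx => cj_eq_iff.mpr (h ⟨x, hx⟩), fun h x => cj_eq_iff.mp (h x x.2)⟩

structure Fr (q : ℕ) (U V P : Subgroup G) : Prop where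
  UV : U ≤ V
  sq : ∀ v ∈ V, v * v = 1
  cardU : Nat.card U = q
  cardV : Nat.card V = q * q
  PU : P ≤ centralizer (U : Set G)
  CP : normalizer (V : Set G) ⊓ centralizer (U : Set G) ≤ P
  act : ∀ c ∈ normalizer (V : Set G), c ∈ centralizer (U : Set G) → ∀ v ∈ V, c * v * c⁻¹ * v⁻¹ ∈ U
  free : ∀ c ∈ normalizer (V : Set G), c ∈ centralizer (U : Set G) → ∀ v ∈ V, v ∉ U → c * v = v * c →
    c ∈ centralizer (V : Set G)
  ti : ∀ g : G, cj g U ≠ U → ∀ x ∈ U, x ∈ cj g U → x = 1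
  cov : ∀ v ∈ V, ∃ m ∈ normalizer (V : Set G), v ∈ cj m U
  ab : ∀ x ∈ centralizer (U : Set G), Cm V (cj x V)
  nU : ∀ g : G, cj g U = U → ∃ c ∈ centralizer (U : Set G), ∃ m ∈ normalizer (V : Set G), g = c * m

theorem cj_eq_of_cent {U : Subgroup G} {x : G} (hx : x ∈ centralizer (U : Set G)) : cj x U = U :=
  cj_eq_iff.mpr (centralizer_le_normalizer _ hx)

namespace Fr

variable {q : ℕ} {U V P : Subgroup G}

omit [Finite G] in
theorem ab' (h : Fr q U V P) {x y : G} (hx : x ∈ centralizer (U : Set G)) (hy : y ∈ centralizer (U : Set G)) :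
    Cm (cj x V) (cj y V) := by
  have h1 := (h.ab (x⁻¹ * y) (Subgroup.mul_mem _ (Subgroup.inv_mem _ hx) hy)).cj x
  rwa [← cj_mul, mul_inv_cancel_left] at h1

omit [Finite G] in
theorem cm_WW (h : Fr q U V P) : Cm (Wc P V) (Wc P V) :=
  cm_Wc fun _ hx => (cm_Wc fun _ hy => (h.ab' (h.PU hy) (h.PU hx))).symm

theorem W_sq (h : Fr q U V P) : ∀ w ∈ Wc P V, w * w = 1 := by
  intro w hw
  induction hw using Subgroup.closure_induction with
  | mem x hx =>
    obtain ⟨g, hg, x, hx, rfl⟩ := hx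
    show (g * x * g⁻¹) * (g * x * g⁻¹) = 1
    calc (g * x * g⁻¹) * (g * x * g⁻¹) = g * (x * x) * g⁻¹ := by group
      _ = 1 := by rw [h.sq x hx]; group
  | one => rw [mul_one]
  | mul x y hx' hy' hx hy =>
    calc x * y * (x * y) = x * (y * x) * y := by group
      _ = x * (x * y) * y := by rw [h.cm_WW y hy' x hx']
      _ = (x * x) * (y * y) := by group
      _ = 1 := by rw [hx, hy, mul_one]
  | inv x _ hx => rw [← mul_inv_rev, hx, inv_one]

/-- `cj x U = U ≤ cj x V` -/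
theorem U_le (h : Fr q U V P) {x : G} (hx : x ∈ centralizer (U : Set G)) : U ≤ cj x V := by
  have h1 := cj_mono (g := x) h.UV
  rwa [cj_eq_of_cent hx] at h1

/-- two distinct lines meet in `U` -/
theorem inter (h : Fr q U V P) {x y : G} (hx : x ∈ centralizer (U : Set G)) (hy : y ∈ centralizer (U : Set G))
    (hne : cj x V ≠ cj y V) {v : G} (hvx : v ∈ cj x V) (hvy : v ∈ cj y V) : v ∈ U := by
  by_contra hv
  apply hne
  have key : ∀ x : G, v ∈ cj x V → ∃ k, v ∈ cj k U ∧ cj k U ≤ cj x V := by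
    intro x hvx
    obtain ⟨m, hm, hvm⟩ := h.cov _ (mem_cj.mp hvx)
    refine ⟨x * m, ?_, ?_⟩
    · rw [cj_mul, mem_cj]; exact hvm
    · rw [cj_mul]
      refine cj_mono ?_
      have := cj_mono (g := m) h.UV
      rwa [cj_eq_iff.mpr hm] at this
  obtain ⟨k, hk, hkx⟩ := key x hvx
  obtain ⟨l, hl, hly⟩ := key y hvy
  have hv1 : v ≠ 1 := fun h' => hv (h' ▸ U.one_mem)
  have hkl : cj k U = cj l U := by
    by_contra hcon
    have h1 : cj (k⁻¹ * l) U ≠ U := by
      intro h2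
      apply hcon
      have := congrArg (cj k) h2
      rw [← cj_mul, mul_inv_cancel_left] at this
      exact this.symm
    have h2 : k⁻¹ * v * k ∈ U := mem_cj.mp hk
    have h3 : k⁻¹ * v * k ∈ cj (k⁻¹ * l) U := by
      rw [mem_cj]
      have : (k⁻¹ * l)⁻¹ * (k⁻¹ * v * k) * (k⁻¹ * l) = l⁻¹ * v * l := by group
      rw [this]
      exact mem_cj.mp hl
    have h4 := h.ti _ h1 _ h2 h3
    apply hv1
    calc v = k * (k⁻¹ * v * k) * k⁻¹ := by group
      _ = 1 := by rw [h4]; group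
  have hkU : cj k U ≠ U := fun h' => hv (h' ▸ hk)
  -- `cj k U * U = cj x V`
  have hmul : ∀ w ∈ cj x V, ∃ a ∈ cj k U, ∃ b ∈ U, w = a * b := by
    let f : (cj k U) × U → cj x V := fun p => ⟨p.1 * p.2, mul_mem (hkx p.1.2) (h.U_le hx p.2.2)⟩
    have hinj : Function.Injective f := by
      rintro ⟨a, b⟩ ⟨a', b'⟩ hab
      have h1 : (a : G) * b = a' * b' := congrArg Subtype.val hab
      have h2 : (a' : G)⁻¹ * a = b' * (b : G)⁻¹ := by
        calc (a' : G)⁻¹ * a = (a' : G)⁻¹ * (a * b) * (b : G)⁻¹ := by group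
          _ = b' * (b : G)⁻¹ := by rw [h1]; group
      have h3 : (a' : G)⁻¹ * a ∈ cj k U := mul_mem (inv_mem a'.2) a.2
      have h4 : (a' : G)⁻¹ * a ∈ U := by rw [h2]; exact mul_mem b'.2 (inv_mem b.2)
      have h5 := h.ti k hkU _ h4 h3
      have h6 : (a : G) = a' := by
        calc (a : G) = a' * ((a' : G)⁻¹ * a) := by group
          _ = a' := by rw [h5, mul_one]
      have h7 : (b : G) = b' := by
        rw [h6] at h1
        exact mul_left_cancel h1
      exact Prod.ext (Subtype.ext h6) (Subtype.ext h7)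
    have hcard : Nat.card (cj x V) ≤ Nat.card ((cj k U) × U) := by
      rw [Nat.card_prod, card_cj, card_cj, h.cardU, h.cardV]
    have hbij := (Nat.bijective_iff_injective_and_card f).mpr
      ⟨hinj, le_antisymm (Nat.card_le_card_of_injective f hinj) hcard⟩
    intro w hw
    obtain ⟨⟨a, b⟩, hab⟩ := hbij.2 ⟨w, hw⟩
    exact ⟨a, a.2, b, b.2, (congrArg Subtype.val hab).symm⟩
  refine Subgroup.eq_of_le_of_card_ge ?_ (by rw [card_cj, card_cj])
  intro w hw
  obtain ⟨a, ha, b, hb, rfl⟩ := hmul w hw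
  refine mul_mem (hly (hkl ▸ ha)) (h.U_le hy hb)

/-- `g` is critical -/
structure Cr (P V : Subgroup G) (g : G) : Prop where
  not : ¬ Cm (Wc P V) (cj g (Wc P V))
  left : Cm (Wc P V) (cj g V)
  right : Cm (cj g (Wc P V)) V

omit [Finite G] in
theorem Cr.inv {g : G} (c : Cr P V g) : Cr P V g⁻¹ where
  not := by
    intro h
    apply c.not
    have := h.cj g
    rw [cj_cj_inv] at this
    exact this.symm
  left := by
    have := c.right.cj g⁻¹
    rwa [cj_inv_cj] at this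
  right := by
    have := c.left.cj g⁻¹
    rwa [cj_inv_cj] at this

omit [Finite G] in
theorem cent_le (h : Fr q U V P) : centralizer (V : Set G) ≤ P :=
  (le_inf (centralizer_le_normalizer _) (centralizer_le h.UV)).trans h.CP

/-- `U^g ≠ U` -/
theorem cj_ne (h : Fr q U V P) {g : G} (c : Cr P V g) : cj g U ≠ U := by
  intro hg
  obtain ⟨k, hk, m, hm, rfl⟩ := h.nU g hg
  apply c.not
  have hmU : cj m U = U := by
    have h1 := congrArg (cj k⁻¹) hg
    rwa [← cj_mul, inv_mul_cancel_left, cj_eq_of_cent (Subgroup.inv_mem _ hk)] at h1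
  have h2 : ∀ y ∈ P, ∃ c ∈ centralizer (U : Set G), cj (k * m) (cj y V) = cj c V := by
    intro y hy
    refine ⟨k * (m * y * m⁻¹), Subgroup.mul_mem _ hk ?_, ?_⟩
    · have h3 := conj_mem_cj (g := m) (h.PU hy)
      rwa [cj_centralizer, hmU] at h3
    · rw [← cj_mul]
      have h3 : k * m * y = k * (m * y * m⁻¹) * m := by group
      rw [h3, cj_mul _ m, cj_eq_iff.mpr hm]
  refine cm_Wc fun x hx => ?_
  have h3 : Cm (Wc P V) (cj (k * m)⁻¹ (cj x V)) := by
    refine cm_Wc fun y hy => ?_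
    obtain ⟨c', hc', h4⟩ := h2 y hy
    have h5 := (h.ab' (h.PU hx) hc').symm
    rw [← h4] at h5
    have h6 := h5.cj (k * m)⁻¹
    rwa [cj_inv_cj] at h6
  have h4 := h3.cj (k * m)
  rw [cj_cj_inv] at h4
  exact h4.symm

/-- elements of the kernel centralise `V^x/U` -/
theorem act' (h : Fr q U V P) {a d x : G} (ha : a ∈ Kc P V) (hx : x ∈ P) (hd : d ∈ cj x V) :
    a * d * a⁻¹ * d⁻¹ ∈ U := by
  rw [mem_Kc] at ha
  have h1 : x⁻¹ * a * x ∈ normalizer (V : Set G) := by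
    rw [← cj_eq_iff, cj_mul, cj_mul, ha.2 x hx, cj_inv_cj]
  have h2 : x⁻¹ * a * x ∈ centralizer (U : Set G) :=
    Subgroup.mul_mem _ (Subgroup.mul_mem _ (Subgroup.inv_mem _ (h.PU hx)) (h.PU ha.1)) (h.PU hx)
  have h3 := h.act _ h1 h2 _ (mem_cj.mp hd)
  have h4 : a * d * a⁻¹ * d⁻¹ = x * (x⁻¹ * a * x * (x⁻¹ * d * x) * (x⁻¹ * a * x)⁻¹ * (x⁻¹ * d * x)⁻¹) * x⁻¹ := by
    group
  rw [h4]
  have h5 := conj_mem_cj (g := x) h3
  rwa [cj_eq_of_cent (h.PU hx)] at h5

/-- an element of the kernel centralising some `d ∈ V^x ∖ U` centralises `V^x` -/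
theorem free' (h : Fr q U V P) {a d x : G} (ha : a ∈ Kc P V) (hx : x ∈ P) (hd : d ∈ cj x V) (hdU : d ∉ U)
    (had : a * d = d * a) : Cm (zpowers a) (cj x V) := by
  rw [mem_Kc] at ha
  have h1 : x⁻¹ * a * x ∈ normalizer (V : Set G) := by
    rw [← cj_eq_iff, cj_mul, cj_mul, ha.2 x hx, cj_inv_cj]
  have h2 : x⁻¹ * a * x ∈ centralizer (U : Set G) :=
    Subgroup.mul_mem _ (Subgroup.mul_mem _ (Subgroup.inv_mem _ (h.PU hx)) (h.PU ha.1)) (h.PU hx)
  have hxU : cj x U = U := cj_eq_of_cent (h.PU hx)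
  have h3 := h.free _ h1 h2 (x⁻¹ * d * x) (mem_cj.mp hd) (by
    intro h4
    apply hdU
    rw [← hxU, mem_cj]
    exact h4) (by
      calc x⁻¹ * a * x * (x⁻¹ * d * x) = x⁻¹ * (a * d) * x := by group
        _ = x⁻¹ * d * x * (x⁻¹ * a * x) := by rw [had]; group)
  rw [cm_iff, zpowers_le]
  have h4 := conj_mem_cj (g := x) h3
  rw [cj_centralizer] at h4
  have h5 : x * (x⁻¹ * a * x) * x⁻¹ = a := by group
  rwa [h5] at h4

/-- if `V^x ∩ K'` is not contained in `U`, then `V^{gy} ∩ K` centralises `V^x` -/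
theorem cent (h : Fr q U V P) {g : G} (c : Cr P V g) {x y : G} (hx : x ∈ P) (hy : y ∈ P)
    (hD : ∃ d ∈ cj x V, d ∈ cj g (Kc P V) ∧ d ∉ U) : Cm (Kc P V ⊓ cj g (cj y V)) (cj x V) := by
  obtain ⟨d, hdV, hdK, hdU⟩ := hD
  intro a ha w hw
  have had : a * d = d * a := by
    have h1 : a * d * a⁻¹ * d⁻¹ ∈ U := h.act' ha.1 hx hdV
    have h2 : d * a * d⁻¹ * a⁻¹ ∈ cj g U := by
      have h3 := h.act' (mem_cj.mp hdK) hy (mem_cj.mp ha.2)
      rw [mem_cj]
      have h4 : g⁻¹ * (d * a * d⁻¹ * a⁻¹) * g =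
        g⁻¹ * d * g * (g⁻¹ * a * g) * (g⁻¹ * d * g)⁻¹ * (g⁻¹ * a * g)⁻¹ := by group
      rw [h4]
      exact h3
    have h3 : a * d * a⁻¹ * d⁻¹ ∈ cj g U := by
      have h4 : a * d * a⁻¹ * d⁻¹ = (d * a * d⁻¹ * a⁻¹)⁻¹ := by group
      rw [h4]
      exact Subgroup.inv_mem _ h2
    have h4 := h.ti g (h.cj_ne c) _ h1 h3
    calc a * d = (a * d * a⁻¹ * d⁻¹) * (d * a) := by group
      _ = d * a := by rw [h4, one_mul]
  exact h.free' ha.1 hx hdV hdU had a (mem_zpowers a) w hw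

omit [Finite G] in
theorem cr_le (h : Fr q U V P) {g : G} (c : Cr P V g) : cj g (Wc P V) ≤ P :=
  (cm_iff.mp c.right).trans h.cent_le

omit [Finite G] in
theorem card_inf_gt (_h : Fr q U V P) {K A : Subgroup G} (hA : Nat.card A = q * q) (hK : K.relIndex A < q) :
    q < Nat.card (K ⊓ A : Subgroup G) := by
  have h1 : (K ⊓ A).relIndex A * Nat.card (K ⊓ A : Subgroup G) = Nat.card A := by
    have h2 := Subgroup.relIndex_mul_relIndex ⊥ (K ⊓ A) A bot_le inf_le_right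
    rw [relIndex_bot_left, relIndex_bot_left] at h2
    rw [mul_comm]
    exact h2
  rw [inf_relIndex_right, hA] at h1
  by_contra hcon
  push Not at hcon
  have h2 : 0 < q := by omega
  have h3 : K.relIndex A * Nat.card (K ⊓ A : Subgroup G) ≤ K.relIndex A * q := Nat.mul_le_mul_left _ hcon
  have h4 : K.relIndex A * q < q * q := Nat.mul_lt_mul_of_pos_right hK h2
  omega

theorem exists_not_mem (h : Fr q U V P) {A : Subgroup G} (hA : q < Nat.card A) : ∃ a ∈ A, a ∉ U := by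
  by_contra hcon
  push Not at hcon
  have := Subgroup.card_le_of_le (H := A) (K := U) hcon
  rw [h.cardU] at this
  omega

theorem card_big (h : Fr q U V P) {g x : G} (hlt : (Kc P V).relIndex (cj g⁻¹ (cj x V)) < q) :
    q < Nat.card (cj g (Kc P V) ⊓ cj x V : Subgroup G) := by
  have h1 := h.card_inf_gt (by rw [card_cj, card_cj, h.cardV]) hlt
  have h2 : cj g (Kc P V ⊓ cj g⁻¹ (cj x V)) = cj g (Kc P V) ⊓ cj x V := by
    rw [cj_inf, cj_cj_inv]
  rw [← h2, card_cj]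
  exact h1

/-- **the points of a critical pair**: some line of one point is moved enough by the other -/
theorem exists_line (h : Fr q U V P) {g : G} (c : Cr P V g) :
    (∃ x ∈ P, q ≤ (Kc P V).relIndex (cj g (cj x V))) ∨ ∃ x ∈ P, q ≤ (Kc P V).relIndex (cj g⁻¹ (cj x V)) := by
  by_contra hcon
  push Not at hcon
  obtain ⟨hA, hD⟩ := hcon
  have hD' : ∀ x ∈ P, ∃ d ∈ cj x V, d ∈ cj g (Kc P V) ∧ d ∉ U := by
    intro x hx
    obtain ⟨d, hd, hdU⟩ := h.exists_not_mem (h.card_big (hD x hx))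
    exact ⟨d, hd.2, hd.1, hdU⟩
  have hA' : ∀ y ∈ P, ∃ d ∈ cj y V, d ∈ cj g⁻¹ (Kc P V) ∧ d ∉ U := by
    intro y hy
    have h1 := hA y hy
    rw [← inv_inv g] at h1
    obtain ⟨d, hd, hdU⟩ := h.exists_not_mem (h.card_big h1)
    exact ⟨d, hd.2, hd.1, hdU⟩
  have hc1 : ∀ x ∈ P, ∀ y ∈ P, Cm (Kc P V ⊓ cj g (cj y V)) (cj x V) :=
    fun x hx y hy => h.cent c hx hy (hD' x hx)
  have hc2 : ∀ x ∈ P, ∀ y ∈ P, Cm (cj g (Kc P V) ⊓ cj x V) (cj g (cj y V)) := by
    intro x hx y hy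
    have h1 := (h.cent c.inv hy hx (hA' y hy)).cj g
    rwa [cj_inf, cj_cj_inv] at h1
  -- a pair of lines which do not commute
  obtain ⟨x, hx, h1⟩ := exists_not_cm c.not
  have h2 : ¬ Cm (Wc P V) (cj g⁻¹ (cj x V)) := by
    intro h3
    have h4 := h3.cj g
    rw [cj_cj_inv] at h4
    exact h1 h4.symm
  obtain ⟨y, hy, h3⟩ := exists_not_cm h2
  have h4 : ¬ Cm (cj g (cj y V)) (cj x V) := by
    intro h5
    have h6 := h5.cj g⁻¹
    rw [cj_inv_cj] at h6
    exact h3 h6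
  have h5 : ¬ cj g (cj y V) ≤ Kc P V := by
    intro h6
    have h7 := hc1 x hx y hy
    rw [inf_eq_right.mpr h6] at h7
    exact h4 h7
  obtain ⟨a, ha, haK⟩ := SetLike.not_le_iff_exists.mp h5
  have haP : a ∈ P := h.cr_le c (cj_mono (cj_le_Wc hy) ha)
  rw [mem_Kc] at haK
  push Not at haK
  obtain ⟨x', hx', hne⟩ := haK haP
  obtain ⟨d, hd, hdK, hdU⟩ := hD' x' hx'
  have had : a * d = d * a := (hc2 x' hx' y hy d ⟨hdK, hd⟩ a ha).symm
  apply hdU
  have h6 : d ∈ cj (a * x') V := by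
    have h7 := conj_mem_cj (g := a) hd
    rw [had, mul_inv_cancel_right, ← cj_mul] at h7
    exact h7
  rw [← cj_mul] at hne
  exact h.inter (h.PU (P.mul_mem haP hx')) (h.PU hx') hne h6 hd

/-- **the offender**: an elementary abelian subgroup of `C(V)`, quadratic on `W`, of order `≥ q` modulo `K` -/
theorem exists_off (h : Fr q U V P)
    (hno : ∀ R : Subgroup G, V ≤ R → (∀ x ∈ R, x * x = 1) → normalizer (V : Set G) ≤ normalizer (R : Set G) →
      P ≤ normalizer (R : Set G) → False) :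
    ∃ A : Subgroup G, A ≤ centralizer (V : Set G) ∧ (∀ a ∈ A, a * a = 1) ∧
      (∀ a ∈ A, ∀ b ∈ A, ∀ w ∈ Wc P V, (a * w * a⁻¹ * w⁻¹) * b = b * (a * w * a⁻¹ * w⁻¹)) ∧
      q ≤ (Kc P V).relIndex A := by
  have key : ∀ g : G, Cr P V g → (∃ x ∈ P, q ≤ (Kc P V).relIndex (cj g (cj x V))) →
      ∃ A : Subgroup G, A ≤ centralizer (V : Set G) ∧ (∀ a ∈ A, a * a = 1) ∧
      (∀ a ∈ A, ∀ b ∈ A, ∀ w ∈ Wc P V, (a * w * a⁻¹ * w⁻¹) * b = b * (a * w * a⁻¹ * w⁻¹)) ∧
      q ≤ (Kc P V).relIndex A := by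
    rintro g c ⟨x, hx, hq⟩
    have hle : cj g (cj x V) ≤ cj g (Wc P V) := cj_mono (cj_le_Wc hx)
    refine ⟨cj g (cj x V), hle.trans (cm_iff.mp c.right), ?_, ?_, hq⟩
    · rintro _ ⟨_, ⟨v, hv, rfl⟩, rfl⟩
      show (g * (x * v * x⁻¹) * g⁻¹) * (g * (x * v * x⁻¹) * g⁻¹) = 1
      calc (g * (x * v * x⁻¹) * g⁻¹) * (g * (x * v * x⁻¹) * g⁻¹) = g * x * (v * v) * x⁻¹ * g⁻¹ := by group
        _ = 1 := by rw [h.sq v hv]; group
    · intro a ha b hb w hw
      -- `W` normalises `W'`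
      have h1 : Wc P V ≤ normalizer (cj g (Wc P V) : Set G) := by
        have h2 := h.cr_le c.inv
        have h3 := cj_mono (g := g) (h2.trans (norm_Wc P V))
        rwa [cj_cj_inv, cj_normalizer] at h3
      have h2 : a * w * a⁻¹ * w⁻¹ ∈ cj g (Wc P V) := by
        have h3 : a * w * a⁻¹ * w⁻¹ = a * (w * a⁻¹ * w⁻¹) := by group
        rw [h3]
        exact mul_mem (hle ha) (forall_of_mem_normalizer (h1 hw) _ (inv_mem (hle ha)))
      exact h.cm_WW.cj g _ h2 _ (hle hb)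
  obtain ⟨g, -, h1, h2, h3⟩ := Crit.exists_crit (M := normalizer (V : Set G)) (P := P) (V := V) (W := Wc P V)
    le_rfl (le_Wc P V) (norm_Wc P V) h.W_sq hno
  have c : Cr P V g := ⟨h1, h2, h3⟩
  rcases h.exists_line c with h4 | h4
  · exact key g c h4
  · exact key g⁻¹ c.inv h4

end Fr

end Cfsg.Agent.OddCyclic.Eq.Line
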