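import Cfsg.Agent.OddCyclic.Eq.PGLSeven
import Cfsg.Agent.OddCyclic.Eq.Line
import Cfsg.Agent.GTwoFour.OuterSyl
import Cfsg.Agent.SmallSimple.PSLTwoPart

/-!
# (E_q), (2.2): `PSL₂(7)` has no maximal subgroup of odd index and order prime to 3
-/

set_option autoImplicit false
set_option linter.unusedSectionVars false

namespace Cfsg.Agent.OddCyclic.Eq.TopSeven

open Subgroup Cfsg.Agent.GTwoFour.OuterSyl Cfsg.Agent.GH.L2Aut

theorem card_four {K : Type*} [Group K] {a b : K} (h : Four a b) :
    Nat.card (four a b h.aa h.bb h.comm) = 4 := by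
  classical
  have h1 : Nat.card (four a b h.aa h.bb h.comm) = Set.ncard ((four a b h.aa h.bb h.comm : Subgroup K) : Set K) := rfl
  have h2 : ((four a b h.aa h.bb h.comm : Subgroup K) : Set K) = (({1, a, b, a * b} : Finset K) : Set K) := by
    ext x
    simp only [SetLike.mem_coe, mem_four, Finset.coe_insert, Finset.coe_singleton, Set.mem_insert_iff,
      Set.mem_singleton_iff]
  rw [h1, h2, Set.ncard_coe_finset]
  have h3 := h.right
  have hb := h.symm.right
  rw [Finset.card_insert_of_notMem, Finset.card_insert_of_notMem, Finset.card_insert_of_notMem, Finset.card_singleton]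
  · simp only [Finset.mem_singleton]
    intro h4
    apply hb.ne
    rw [← h.comm, ← h4]
  · simp only [Finset.mem_insert, Finset.mem_singleton, not_or]
    exact ⟨h.ne, h3.ne⟩
  · simp only [Finset.mem_insert, Finset.mem_singleton, not_or]
    exact ⟨h.a1.symm, h.b1.symm, h3.b1.symm⟩

theorem false {H : Type*} [Group H] [Finite H] [IsSimpleGroup H] {F : Type*} [Field F] [Fintype F]
    (hF : Fintype.card F = 7) (e : H ≃* Matrix.ProjectiveSpecialLinearGroup (Fin 2) F) {H0 : Subgroup H}
    (hco : IsCoatom H0) (hodd : Odd H0.index) (h3 : ¬ 3 ∣ Nat.card H0) : False := by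
  classical
  have hodF : Odd (Fintype.card F) := by rw [hF]; decide
  have hcH : Nat.card H = 168 := by
    have h1 := Cfsg.Agent.SmallSimple.PSLTwoPart.card_psl_two_odd (F := F) hodF
    rw [hF, ← Nat.card_congr e.toEquiv] at h1
    omega
  have h2F : (2 : F) ≠ 0 := two_ne_zero_of_odd hodF
  have hmul := H0.card_mul_index
  rw [hcH] at hmul
  -- no subgroup of index 3
  have hidx : H0.index ≠ 3 := by
    intro hi
    have hker : H0.normalCore = ⊥ := by
      rcases IsSimpleGroup.eq_bot_or_eq_top_of_normal H0.normalCore inferInstance with h1 | h1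
      · exact h1
      · exact absurd (top_le_iff.1 (h1 ▸ H0.normalCore_le)) hco.1
    have hinj : Function.Injective (MulAction.toPermHom H (H ⧸ H0)) := by
      rw [← MonoidHom.ker_eq_bot_iff, ← normalCore_eq_ker, hker]
    have h1 := card_dvd_of_injective _ hinj
    rw [hcH, Nat.card_perm] at h1
    have h2 : Nat.card (H ⧸ H0) = 3 := hi
    rw [h2] at h1
    revert h1
    decide
  have h8 : Nat.card H0 = 8 := by
    have hle : H0.index ≤ 168 := Nat.le_of_dvd (by norm_num) ⟨_, by rw [mul_comm]; exact hmul.symm⟩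
    have hd : H0.index ∣ 168 := ⟨_, by rw [mul_comm]; exact hmul.symm⟩
    have hne1 : H0.index ≠ 1 := fun h => hco.1 (index_eq_one.1 h)
    have hodd' : ¬ 2 ∣ H0.index := fun h => (Nat.not_even_iff_odd.2 hodd) (even_iff_two_dvd.2 h)
    have hd21 : H0.index ∣ 21 := by
      have h4 : Nat.Coprime H0.index 8 := by
        rw [show 8 = 2 ^ 3 from rfl]
        exact Nat.Coprime.pow_right 3 ((Nat.Prime.coprime_iff_not_dvd Nat.prime_two).2 hodd').symm
      exact h4.dvd_of_dvd_mul_left (show H0.index ∣ 8 * 21 from hd)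
    have hc : Nat.card H0 = 168 / H0.index := by
      rw [← hmul, Nat.mul_div_cancel _ (Nat.pos_of_ne_zero (by rintro h; rw [h] at hd; simp at hd))]
    have hmem : H0.index ∈ Nat.divisors 21 := Nat.mem_divisors.2 ⟨hd21, by norm_num⟩
    have hdiv : Nat.divisors 21 = {1, 3, 7, 21} := by decide
    rw [hdiv] at hmem
    simp only [Finset.mem_insert, Finset.mem_singleton] at hmem
    rcases hmem with h4 | h4 | h4 | h4
    · exact absurd h4 hne1
    · exact absurd h4 hidx
    · rw [h4] at hc
      rw [hc] at h3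
      exact absurd (by norm_num : 3 ∣ 168 / 7) h3
    · rw [h4] at hc
      exact hc
  -- a four-group inside `H0`
  have R := Rep.ofEquiv h2F e
  obtain ⟨R'⟩ := PGLSeven.exists_rep R (by rw [Nat.card_eq_fintype_card, hF])
  have : Fact (Nat.Prime 2) := ⟨Nat.prime_two⟩
  have : Fact (Nat.Prime 7) := ⟨by norm_num⟩
  obtain ⟨f1, f2, f3, -⟩ := PGLSeven.facts
  have hF0 := R'.four_of_pair f1 f2 f3
  set a0 := R'.π PGLSeven.i1
  set b0 := R'.π PGLSeven.j1
  set E0 := four a0 b0 hF0.aa hF0.bb hF0.comm with hE0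
  have hE0p : IsPGroup 2 E0 := IsPGroup.of_card (n := 2) (by rw [hE0, card_four hF0]; norm_num)
  obtain ⟨Q, hQ⟩ := hE0p.exists_le_sylow
  have hH0p : IsPGroup 2 H0 := IsPGroup.of_card (n := 3) (by rw [h8]; norm_num)
  obtain ⟨Q', hQ'⟩ := hH0p.exists_le_sylow
  have hQcard : Nat.card Q' ≤ 8 := by
    obtain ⟨n, hn⟩ := (IsPGroup.iff_card (p := 2)).1 Q'.2
    have h1 : 2 ^ n ∣ 168 := by
      rw [← hn, ← hcH]
      exact Subgroup.card_subgroup_dvd_card _
    have hn3 : n ≤ 3 := by
      by_contra hcon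
      have h2 : 2 ^ 4 ∣ 168 := (pow_dvd_pow 2 (by omega)).trans h1
      revert h2
      norm_num
    have h2 : 2 ^ n ≤ 2 ^ 3 := Nat.pow_le_pow_right (by norm_num) hn3
    change Nat.card (Q' : Subgroup H) ≤ 8
    rw [hn]
    omega
  have hQ'eq : (Q' : Subgroup H) = H0 := (Subgroup.eq_of_le_of_card_ge hQ' (by rw [h8]; exact hQcard)).symm
  obtain ⟨g, hg⟩ := MulAction.exists_smul_eq H Q Q'
  have hmem : ∀ x ∈ E0, g * x * g⁻¹ ∈ H0 := by
    intro x hx
    rw [← hQ'eq, ← hg]
    exact Subgroup.smul_mem_pointwise_smul x (MulAut.conj g) (Q : Subgroup H) (hQ hx)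
  have hFour := hF0.map (MulAut.conj g)
  set a := MulAut.conj g a0 with ha
  set b := MulAut.conj g b0 with hb
  have haH : a ∈ H0 := hmem a0 (mem_four.2 (Or.inr (Or.inl rfl)))
  have hbH : b ∈ H0 := hmem b0 (mem_four.2 (Or.inr (Or.inr (Or.inl rfl))))
  set E := four a b hFour.aa hFour.bb hFour.comm with hE
  have hEH : E ≤ H0 := by
    rintro x (rfl | rfl | rfl | rfl)
    · exact one_mem _
    · exact haH
    · exact hbH
    · exact mul_mem haH hbH
  have hE4 : Nat.card E = 4 := card_four hFour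
  -- `E` is normal in `H0`
  have hEn : H0 ≤ normalizer (E : Set H) := by
    have h1 : (E.subgroupOf H0).index = 2 := by
      have h2 := (E.subgroupOf H0).card_mul_index
      rw [h8, Nat.card_congr (subgroupOfEquivOfLe hEH).toEquiv, hE4] at h2
      omega
    have h2 : (E.subgroupOf H0).Normal := normal_of_index_eq_two h1
    exact normal_subgroupOf_iff_le_normalizer hEH |>.1 h2
  obtain ⟨-, y, -, -, -, -, -, hy3, hy1, hya, hyb, -⟩ := R'.exists_frame hFour
  have hyn : y ∈ normalizer (E : Set H) := by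
    rw [← CompStandard.cj_eq_iff]
    refine Subgroup.eq_of_le_of_card_ge ?_ (CompStandard.card_cj y _).ge
    rintro _ ⟨x, hx, rfl⟩
    change y * x * y⁻¹ ∈ E
    have hab : y * (a * b) * y⁻¹ ∈ E := by
      have h1 : y * (a * b) * y⁻¹ = (y * a * y⁻¹) * (y * b * y⁻¹) := by group
      rw [h1, hya, hyb]
      exact mul_mem (mem_four.2 (Or.inr (Or.inr (Or.inl rfl)))) (mem_four.2 (Or.inr (Or.inr (Or.inr rfl))))
    rcases hx with rfl | rfl | rfl | rfl
    · rw [mul_one, mul_inv_cancel]; exact one_mem _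
    · rw [hya]; exact mem_four.2 (Or.inr (Or.inr (Or.inl rfl)))
    · rw [hyb]; exact mem_four.2 (Or.inr (Or.inr (Or.inr rfl)))
    · exact hab
  have hyH : y ∉ H0 := by
    intro hy
    have h1 : orderOf (⟨y, hy⟩ : H0) = 3 := by
      have : Fact (Nat.Prime 3) := ⟨Nat.prime_three⟩
      apply orderOf_eq_prime
      · apply Subtype.ext
        show y ^ 3 = 1
        rw [pow_succ, pow_two]
        exact hy3
      · intro h2
        exact hy1 (congrArg Subtype.val h2)
    have h2 := orderOf_dvd_natCard (⟨y, hy⟩ : H0)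
    rw [h1] at h2
    exact h3 h2
  have htop : normalizer (E : Set H) = ⊤ := hco.2 _ (lt_of_le_not_ge hEn fun h => hyH (h hyn))
  have hEN : E.Normal := normalizer_eq_top_iff.1 htop
  rcases IsSimpleGroup.eq_bot_or_eq_top_of_normal E hEN with h1 | h1
  · rw [h1, card_bot] at hE4
    omega
  · rw [h1, card_top, hcH] at hE4
    omega

end Cfsg.Agent.OddCyclic.Eq.TopSeven
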