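import Cfsg.Agent.OddCyclic.Eq.SecSeven
import Cfsg.Agent.OddCyclic.Eq.PGLSeven
import Cfsg.Agent.OddCyclic.Eq.Struct
import Cfsg.Agent.OddCyclic.Eq.Four
import Cfsg.Agent.OddCyclic.Eq.QAct
import Cfsg.Agent.OddCyclic.Eq.TopSeven

/-!
# (E_q), Part II, `q = 4`: pieces I and J = (4.5)-(4.7) of blueprints/S0342-A2-helper402.md assembled

`JIn Z J V P`: `P` minimal over `C₀ = N_P(V)`, `C₀` acts on `V` as `D₈`, and some elementary abelian `A ≤ P` with
`|A : A ∩ K| ≥ 4` satisfies `|W : C_W(A)| ≤ 8`, with equality only if `K` acts nontrivially on `V`.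
-/

set_option autoImplicit false

namespace Cfsg.Agent.OddCyclic.Eq.JGlue

open Subgroup Cfsg.Agent.OddCyclic.CompStandard Cfsg.Agent.OddCyclic.RedFiveThree Cfsg.Agent.OddCyclic.Eq.Line
  Cfsg.Agent.OddCyclic.Eq.Quot Cfsg.Agent.OddCyclic.Eq.Struct Cfsg.Agent.OddCyclic.FFBasic
  Cfsg.Agent.OddCyclic.T1Module Cfsg.Agent.OddCyclic.FFSl2

universe u

variable {G : Type u} [Group G] [Finite G]

structure JIn (Z J V P : Subgroup G) : Prop where
  ZJ : Z ≤ J
  JV : J ≤ V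
  VP : V ≤ P
  sq : ∀ v ∈ V, v * v = 1
  PZ : P ≤ centralizer (Z : Set G)
  lt : Co P V < P
  min : ∀ Q : Subgroup G, Co P V < Q → Q ≤ P → Q = P
  JZ : ∀ c ∈ Co P V, ∀ j ∈ J, c * j * c⁻¹ * j⁻¹ ∈ Z
  PJ : ¬ P ≤ normalizer (J : Set G)
  ab : ∀ x ∈ P, Cm V (cj x V)
  small : ∀ c ∈ Co P V, (∀ v ∈ V, c * v * c⁻¹ * v⁻¹ ∈ Z) → c ∈ centralizer (V : Set G)
  center : ∀ N : Subgroup G, N ≤ Co P V → Co P V ≤ normalizer (N : Set G) →
    ¬ N ≤ centralizer (V : Set G) → ∃ s ∈ N, (∀ c ∈ Co P V,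
      c * s * c⁻¹ * s⁻¹ ∈ centralizer (V : Set G)) ∧ (∀ j ∈ J, s * j * s⁻¹ * j⁻¹ = 1) ∧
      (∀ j ∈ J, ∃ v ∈ V, s * v * s⁻¹ * v⁻¹ = j) ∧ (∀ v ∈ V, s * v * s⁻¹ * v⁻¹ ∈ J)
  eight : (centralizer (V : Set G)).relIndex (Co P V) = 8
  nab : ∃ a ∈ Co P V, ∃ b ∈ Co P V, a * b * a⁻¹ * b⁻¹ ∉ centralizer (V : Set G)
  crit : ∃ A : Subgroup G, A ≤ P ∧ (∀ a ∈ A, a * a = 1) ∧ 4 ≤ (Kc P V).relIndex A ∧
    (centralizer (A : Set G)).relIndex (Wc P V) ≤ 8 ∧
    ((centralizer (A : Set G)).relIndex (Wc P V) = 8 → ¬ Kc P V ≤ centralizer (V : Set G))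

namespace JIn

variable {Z J V P : Subgroup G}

omit [Finite G] in
theorem cenZ' {P Z : Subgroup G} (h : P ≤ centralizer (Z : Set G)) {x z : G} (hx : x ∈ P) (hz : z ∈ Z) : x * z = z * x :=
  (mem_centralizer_iff.1 (h hx) z hz).symm

theorem ab' (h : JIn Z J V P) {x y : G} (hx : x ∈ P) (hy : y ∈ P) : Cm (cj x V) (cj y V) := by
  have h1 := (h.ab (x⁻¹ * y) (P.mul_mem (P.inv_mem hx) hy)).cj x
  rwa [← cj_mul, mul_inv_cancel_left] at h1

theorem cm_WW (h : JIn Z J V P) : Cm (Wc P V) (Wc P V) :=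
  cm_Wc fun _ hx => (cm_Wc fun _ hy => (h.ab' hy hx)).symm

theorem WJ_le (h : JIn Z J V P) : Wc P J ≤ Wc P V :=
  Wc_le fun _ hx => (cj_mono h.JV).trans (cj_le_Wc hx)

theorem W_le (h : JIn Z J V P) : Wc P V ≤ P := by
  refine Wc_le fun x hx w hw => ?_
  have h1 := P.mul_mem (P.mul_mem hx (h.VP (mem_cj.mp hw))) (P.inv_mem hx)
  have h2 : x * (x⁻¹ * w * x) * x⁻¹ = w := by group
  rwa [h2] at h1

theorem W_sq (h : JIn Z J V P) : ∀ w ∈ Wc P V, w * w = 1 := by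
  intro w hw
  induction hw using Subgroup.closure_induction with
  | mem x hx =>
    obtain ⟨g, hg, hx⟩ := hx
    have h1 := h.sq _ (mem_cj.mp hx)
    calc x * x = g * ((g⁻¹ * x * g) * (g⁻¹ * x * g)) * g⁻¹ := by group
      _ = 1 := by rw [h1]; group
  | one => rw [mul_one]
  | mul x y hx' hy' hx hy =>
    calc x * y * (x * y) = x * (y * x) * y := by group
      _ = x * (x * y) * y := by rw [h.cm_WW y hy' x hx']
      _ = (x * x) * (y * y) := by group
      _ = 1 := by rw [hx, hy, mul_one]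
  | inv x _ hx => rw [← mul_inv_rev, hx, inv_one]

/-- `K` acts trivially on `V_P / Z` -/
theorem comm_WJ (h : JIn Z J V P) {k u : G} (hk : k ∈ Kc P V) (hu : u ∈ Wc P J) : k * u * k⁻¹ * u⁻¹ ∈ Z := by
  have hc : ∀ u ∈ Wc P J, ∀ z ∈ Z, u * z = z * u := fun u hu z hz =>
    h.cm_WW u (h.WJ_le hu) z ((h.ZJ.trans (h.JV.trans (le_Wc P V))) hz)
  induction hu using Subgroup.closure_induction with
  | mem u hu =>
    obtain ⟨x, hx, hu⟩ := hu
    have h1 : x⁻¹ * k * x ∈ Kc P V := by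
      have := SecSeven.Kc_conj (P.inv_mem hx) hk
      rwa [inv_inv] at this
    have h2 := h.JZ _ (Quot.Kc_le _ _ h1) _ (mem_cj.mp hu)
    have h3 : k * u * k⁻¹ * u⁻¹ =
        x * (x⁻¹ * k * x * (x⁻¹ * u * x) * (x⁻¹ * k * x)⁻¹ * (x⁻¹ * u * x)⁻¹) * x⁻¹ := by group
    rw [h3, cenZ' h.PZ hx h2, mul_inv_cancel_right]
    exact h2
  | one => rw [mul_one, mul_inv_cancel, one_mul, inv_one]; exact one_mem _
  | mul u v hu' hv' hu hv =>
    have h3 : k * (u * v) * k⁻¹ * (u * v)⁻¹ = (k * u * k⁻¹ * u⁻¹) * (u * (k * v * k⁻¹ * v⁻¹) * u⁻¹) := by group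
    rw [h3, hc u hu' _ hv, mul_inv_cancel_right]
    exact mul_mem hu hv
  | inv u hu' hu =>
    have h3 : k * u⁻¹ * k⁻¹ * (u⁻¹)⁻¹ = (u⁻¹ * (k * u * k⁻¹ * u⁻¹) * u)⁻¹ := by group
    have h4 : u⁻¹ * (k * u * k⁻¹ * u⁻¹) * u = k * u * k⁻¹ * u⁻¹ := by
      rw [mul_assoc, ← hc u hu' _ hu, inv_mul_cancel_left]
    rw [h3, h4]
    exact inv_mem hu

/-- the action of `P / K` on `V_P / Z` -/
theorem exists_act (h : JIn Z J V P) :
    ∃ (N : Type u) (_ : CommGroup N) (_ : Finite N) (ρ : (P ⧸ Kp P V) →* MulAut N) (p : ↥(Wc P J) →* N),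
      Function.Surjective p ∧ (∀ w, p w = 1 ↔ (w : G) ∈ Z) ∧ (∀ n : N, n * n = 1) ∧
      ∀ (c : P) (w w' : Wc P J), (w' : G) = c * w * c⁻¹ → ρ (QuotientGroup.mk c) (p w) = p w' := by
  have hPZ : P ≤ normalizer (Z : Set G) := h.PZ.trans (centralizer_le_normalizer _)
  obtain ⟨N, iN, ρ₀, p, hps, hp1, hact⟩ := exists_qact (h.WJ_le.trans h.W_le) (norm_Wc P J) hPZ (fun x hx y hy => by
    rw [h.cm_WW x (h.WJ_le hx) y (h.WJ_le hy), mul_inv_cancel_right, mul_inv_cancel]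
    exact one_mem _)
  have hN : Finite N := Finite.of_surjective p hps
  have hker : ∀ k ∈ Kp P V, ρ₀ k = 1 := by
    intro k hk
    ext n
    obtain ⟨w, rfl⟩ := hps n
    have hk' : (k : G) ∈ Kc P V := hk
    have hw' : (k : G) * w * (k : G)⁻¹ ∈ Wc P J := by
      have h1 := norm_Wc P J k.2
      rw [← cj_eq_iff] at h1
      have h2 : (k : G) * w * (k : G)⁻¹ ∈ cj (k : G) (Wc P J) := cj_mem_cj w.2
      rwa [h1] at h2
    rw [hact k w ⟨_, hw'⟩ rfl, MulAut.one_apply, ← div_eq_one, ← map_div, hp1, div_eq_mul_inv]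
    exact h.comm_WJ hk' w.2
  refine ⟨N, iN, hN, QuotientGroup.lift (Kp P V) ρ₀ hker, p, hps, hp1, ?_, ?_⟩
  · intro n
    obtain ⟨w, rfl⟩ := hps n
    rw [← map_mul]
    have : w * w = 1 := Subtype.ext (h.W_sq w (h.WJ_le w.2))
    rw [this, map_one]
  · intro c w w' hw
    exact hact c w w' hw

/-- a normal subgroup of `P / K` contained in `H₀` is trivial; so a normal subgroup of `P` not contained in `K`
does not normalise `V` -/
theorem moves (h : JIn Z J V P) {L : Subgroup (P ⧸ Kp P V)} (hL : L.Normal) (hL1 : L ≠ ⊥) :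
    ∃ x : P, (x : P ⧸ Kp P V) ∈ L ∧ (x : G) ∉ normalizer (V : Set G) := by
  by_contra hcon
  push Not at hcon
  apply hL1
  refine Quot.core L hL fun y hy => ?_
  obtain ⟨x, rfl⟩ := QuotientGroup.mk_surjective y
  exact Quot.mem_Hz.2 (hcon x hy)

/-- maximality of `C₀` -/
theorem eq_P (h : JIn Z J V P) {Q : Subgroup G} (hQ : Co P V ≤ Q) (hQP : Q ≤ P) {x : G} (hx : x ∈ Q)
    (hxV : x ∉ normalizer (V : Set G)) : Q = P :=
  h.min Q (lt_of_le_not_ge hQ fun h1 => hxV (h1 hx).1) hQP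

/-- the Sylow 7 part: an element of 7-power order outside `N(V)` -/
theorem exists_seven (h : JIn Z J V P) {L : Subgroup (P ⧸ Kp P V)} (hL : L.Normal) (hs : IsSimpleGroup L)
    (h7 : 7 ∣ Nat.card L) : ∃ y ∈ P, y ∉ normalizer (V : Set G) ∧ ∃ n : ℕ, y ^ (7 ^ n) = 1 := by
  have hf : Fact (Nat.Prime 7) := ⟨by norm_num⟩
  -- an element of order 7 of `L` outside `H₀`
  obtain ⟨y, hy7, hyH⟩ : ∃ y : L, orderOf y = 7 ∧ (y : P ⧸ Kp P V) ∉ Hz P V := by
    by_contra hcon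
    push Not at hcon
    let E : Subgroup L := closure {y : L | orderOf y = 7}
    have hE : E.Normal := by
      refine ⟨fun n hn g => ?_⟩
      induction hn using Subgroup.closure_induction with
      | mem x hx =>
        apply Subgroup.subset_closure
        change orderOf (g * x * g⁻¹) = 7
        rw [← hx]
        exact orderOf_injective (MulAut.conj g).toMonoidHom (MulAut.conj g).injective x
      | one => rw [mul_one, mul_inv_cancel]; exact one_mem _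
      | mul x y _ _ hx hy =>
        have : g * (x * y) * g⁻¹ = (g * x * g⁻¹) * (g * y * g⁻¹) := by group
        rw [this]
        exact mul_mem hx hy
      | inv x _ hx =>
        have : g * x⁻¹ * g⁻¹ = (g * x * g⁻¹)⁻¹ := by group
        rw [this]
        exact inv_mem hx
    obtain ⟨y₀, hy₀⟩ := exists_prime_orderOf_dvd_card' 7 h7
    have hy₀E : y₀ ∈ E := Subgroup.subset_closure hy₀
    have hEtop : E = ⊤ := by
      rcases hs.eq_bot_or_eq_top_of_normal E hE with h1 | h1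
      · rw [h1, mem_bot] at hy₀E
        rw [hy₀E, orderOf_one] at hy₀
        omega
      · exact h1
    have hLle : L ≤ Hz P V := by
      intro x hx
      have h1 : (⟨x, hx⟩ : L) ∈ E := by rw [hEtop]; trivial
      have h2 : E ≤ (Hz P V).comap L.subtype := (closure_le _).2 fun y hy => hcon y hy
      exact h2 h1
    have h1 := Quot.core L hL hLle
    have h2 : Nat.card L = 1 := by rw [h1, card_bot]
    rw [h2] at h7
    omega
  obtain ⟨x, hx⟩ := QuotientGroup.mk_surjective (y : P ⧸ Kp P V)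
  -- the 7-part of `x`
  have hord : orderOf x ≠ 0 := (orderOf_pos x).ne'
  obtain ⟨n, b, hb, hab⟩ := Nat.exists_eq_pow_mul_and_not_dvd hord 7 (by norm_num)
  refine ⟨((x ^ b : P) : G), (x ^ b : P).2, ?_, n, ?_⟩
  · intro hxV
    apply hyH
    have h1 : ((x ^ b : P) : P ⧸ Kp P V) ∈ Hz P V := Quot.mem_Hz.2 hxV
    rw [QuotientGroup.mk_pow, hx] at h1
    have h2 : orderOf (y : P ⧸ Kp P V) = 7 := by rw [orderOf_coe]; exact hy7
    have h3 : (y : P ⧸ Kp P V) ∈ zpowers ((y : P ⧸ Kp P V) ^ b) := by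
      rw [mem_zpowers_pow_iff, h2]
      exact ((Nat.Prime.coprime_iff_not_dvd (by norm_num)).2 hb).symm
    exact (zpowers_le.2 h1) h3
  · rw [← Subgroup.coe_pow, ← pow_mul, mul_comm, ← hab, pow_orderOf_eq_one, Subgroup.coe_one]

/-- if `A` centralises `W` modulo `V_P` -/
theorem wv (h : JIn Z J V P) {A : Subgroup G} (hAP : A ≤ P) (hA4 : 4 ≤ (Kc P V).relIndex A)
    (hA : ∀ a ∈ A, ∀ w ∈ Wc P V, a * w * a⁻¹ * w⁻¹ ∈ Wc P J) : ∀ x ∈ P, cj x V ≤ V ⊔ Wc P J := by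
  have hnJ : ∀ x ∈ P, ∀ w ∈ Wc P J, x * w * x⁻¹ ∈ Wc P J := by
    intro x hx w hw
    have h1 := norm_Wc P J hx
    rw [← cj_eq_iff] at h1
    have h2 : x * w * x⁻¹ ∈ cj x (Wc P J) := cj_mem_cj hw
    rwa [h1] at h2
  have hnV : ∀ x ∈ P, ∀ w ∈ Wc P V, x * w * x⁻¹ ∈ Wc P V := by
    intro x hx w hw
    have h1 := norm_Wc P V hx
    rw [← cj_eq_iff] at h1
    have h2 : x * w * x⁻¹ ∈ cj x (Wc P V) := cj_mem_cj hw
    rwa [h1] at h2
  let Y : Subgroup P :=
    { carrier := {x | ∀ w ∈ Wc P V, (x : G) * w * (x : G)⁻¹ * w⁻¹ ∈ Wc P J}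
      one_mem' := fun w _ => by
        rw [Subgroup.coe_one, one_mul, inv_one, mul_one, mul_inv_cancel]; exact one_mem _
      mul_mem' := by
        intro x y hx hy w hw
        have h1 : ((x * y : P) : G) * w * ((x * y : P) : G)⁻¹ * w⁻¹ =
            (x * (y * w * (y : G)⁻¹) * (x : G)⁻¹ * (y * w * (y : G)⁻¹)⁻¹) * (y * w * (y : G)⁻¹ * w⁻¹) := by
          push_cast; group
        rw [h1]
        exact mul_mem (hx _ (hnV _ y.2 _ hw)) (hy _ hw)
      inv_mem' := by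
        intro x hx w hw
        have h1 : ((x⁻¹ : P) : G) * w * ((x⁻¹ : P) : G)⁻¹ * w⁻¹ =
            (x * ((x : G)⁻¹ * w * ((x : G)⁻¹)⁻¹) * (x : G)⁻¹ * ((x : G)⁻¹ * w * ((x : G)⁻¹)⁻¹)⁻¹)⁻¹ := by
          push_cast; group
        rw [h1]
        exact inv_mem (hx _ (hnV _ (inv_mem x.2) _ hw)) }
  have hY : Y.Normal := by
    refine ⟨fun n hn g w hw => ?_⟩
    have h1 : ((g * n * g⁻¹ : P) : G) * w * ((g * n * g⁻¹ : P) : G)⁻¹ * w⁻¹ =
        g * (n * ((g : G)⁻¹ * w * ((g : G)⁻¹)⁻¹) * (n : G)⁻¹ * ((g : G)⁻¹ * w * ((g : G)⁻¹)⁻¹)⁻¹) * (g : G)⁻¹ := by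
      push_cast; group
    rw [h1]
    exact hnJ _ g.2 _ (hn _ (hnV _ (inv_mem g.2) _ hw))
  have hYn : (Y.map (QuotientGroup.mk' (Kp P V))).Normal := hY.map _ (QuotientGroup.mk'_surjective _)
  have hY1 : Y.map (QuotientGroup.mk' (Kp P V)) ≠ ⊥ := by
    intro hbot
    have h1 : ∀ a ∈ A, a ∈ Kc P V := by
      intro a ha
      have h2 : (QuotientGroup.mk' (Kp P V)) ⟨a, hAP ha⟩ ∈ Y.map (QuotientGroup.mk' (Kp P V)) :=
        ⟨⟨a, hAP ha⟩, fun w hw => hA a ha w hw, rfl⟩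
      rw [hbot, mem_bot] at h2
      have h3 : ((⟨a, hAP ha⟩ : P) : P ⧸ Kp P V) = 1 := h2
      have h4 : (⟨a, hAP ha⟩ : P) ∈ Kp P V := (QuotientGroup.eq_one_iff _).1 h3
      exact h4
    have h3 : (Kc P V).relIndex A = 1 := relIndex_eq_one.2 h1
    omega
  obtain ⟨x, ⟨y, hy, hyx⟩, hxV⟩ := h.moves hYn hY1
  have hyV : (y : G) ∉ normalizer (V : Set G) := by
    intro h1
    apply hxV
    rw [← Quot.mem_Hz] at h1 ⊢
    rw [← hyx]
    exact h1
  set U : Subgroup G := V ⊔ Wc P J with hU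
  have hUn : normalizer (U : Set G) ⊓ P = P := by
    have hle : ∀ x ∈ P, cj x V ≤ U → x ∈ normalizer (U : Set G) := by
      intro x hx hxV
      rw [← cj_eq_iff]
      refine Subgroup.eq_of_le_of_card_ge ?_ (card_cj x _).ge
      rw [hU, cj_sup]
      refine sup_le hxV ?_
      rw [cj_eq_iff.2 (norm_Wc P J hx)]
      exact le_sup_right
    refine h.eq_P (x := y) (le_inf ?_ inf_le_right) inf_le_right ⟨hle y y.2 ?_, y.2⟩ hyV
    · intro c hc
      refine hle c hc.2 ?_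
      rw [cj_eq_iff.2 hc.1]
      exact le_sup_left
    · intro v hv
      have h1 : (y : G)⁻¹ * v * y ∈ V := mem_cj.1 hv
      have h2 := hy _ (le_Wc P V h1)
      have h3 : v = ((y : G) * ((y : G)⁻¹ * v * y) * (y : G)⁻¹ * ((y : G)⁻¹ * v * y)⁻¹) * ((y : G)⁻¹ * v * y) := by group
      rw [h3]
      exact mul_mem (mem_sup_right h2) (mem_sup_left h1)
  intro x hx
  have h1 : x ∈ normalizer (U : Set G) := by
    have : x ∈ normalizer (U : Set G) ⊓ P := by rw [hUn]; exact hx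
    exact this.1
  rw [← cj_eq_iff] at h1
  rw [← h1]
  exact cj_mono le_sup_left

theorem false (h : JIn Z J V P) (hpsl : OutPsl (P ⧸ Kp P V))
    (htop : ∀ L : Subgroup (P ⧸ Kp P V), (∃ (F : Type) (_ : Field F) (_ : Fintype F), Fintype.card F = 7 ∧
      Nonempty (L ≃* Matrix.ProjectiveSpecialLinearGroup (Fin 2) F)) → L ≠ ⊤) : False := by
  obtain ⟨L, hLc, hLs, hLC, ⟨F, iF, iF', hp, h7, ⟨e⟩⟩, -⟩ := hpsl
  have hLn : L.Normal := ⟨fun n hn g => hLc (MulAut.conj g) n hn⟩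
  obtain ⟨A, hAP, hA2, hA4, hA8, hAK⟩ := h.crit
  obtain ⟨N, iN, iN', ρ, p, hps, hp1, hN2, hact⟩ := h.exists_act
  have hL1 : L ≠ ⊥ := by
    rintro rfl
    exact (nontrivial_iff_ne_bot (⊥ : Subgroup (P ⧸ Kp P V))).1 hLs.toNontrivial rfl
  have hconjJ : ∀ x ∈ P, ∀ w ∈ Wc P J, x * w * x⁻¹ ∈ Wc P J := by
    intro x hx w hw
    have h1 := norm_Wc P J hx
    rw [← cj_eq_iff] at h1
    have h2 : x * w * x⁻¹ ∈ cj x (Wc P J) := cj_mem_cj hw
    rwa [h1] at h2
  -- `L` acts nontrivially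
  have hLne : ¬ ∀ g ∈ L, ∀ n : N, ρ g n = n := by
    intro hcon
    obtain ⟨x, hxL, hxV⟩ := h.moves hLn hL1
    apply h.PJ
    have hJn : normalizer (J : Set G) ⊓ P = P := by
      have hle : ∀ x ∈ P, (∀ j ∈ J, x * j * x⁻¹ * j⁻¹ ∈ Z) → x ∈ normalizer (J : Set G) := by
        intro x hx hj
        rw [← cj_eq_iff]
        refine Subgroup.eq_of_le_of_card_ge ?_ (card_cj x _).ge
        intro j hj'
        have h1 := hj _ (mem_cj.1 hj')
        have h2 : j = (x * (x⁻¹ * j * x) * x⁻¹ * (x⁻¹ * j * x)⁻¹) * (x⁻¹ * j * x) := by group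
        rw [h2]
        exact mul_mem (h.ZJ h1) (mem_cj.1 hj')
      refine h.eq_P (x := x) (le_inf (fun c hc => hle c hc.2 (h.JZ c hc)) inf_le_right) inf_le_right
        ⟨hle x x.2 ?_, x.2⟩ hxV
      intro j hj
      have hjW : j ∈ Wc P J := le_Wc P J hj
      have h1 := hact x ⟨j, hjW⟩ ⟨_, hconjJ _ x.2 _ hjW⟩ rfl
      rw [hcon _ hxL, eq_comm, ← div_eq_one, ← map_div, hp1, div_eq_mul_inv] at h1
      exact h1
    exact hJn ▸ inf_le_left
  have hne : ∀ y ∈ L, y ≠ 1 → ∃ v : N, ρ y v ≠ v := by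
    intro y hy hy1
    by_contra hcon
    push Not at hcon
    exact hLne fun g hg n => BTwoLin.SocleGen.fix_of_one (ρ := ρ) (J := L) hLs (W := ⊤) (fun _ _ _ _ => mem_top _) hy hy1
      (fun w _ => hcon w) g hg n (mem_top _)
  -- the image of `A`
  set Ab : Subgroup (P ⧸ Kp P V) := (A.subgroupOf P).map (QuotientGroup.mk' (Kp P V)) with hAb
  have hAb2 : ∀ a ∈ Ab, a * a = 1 := by
    rintro _ ⟨a, ha, rfl⟩
    rw [← map_mul]
    have : a * a = 1 := Subtype.ext (hA2 a ha)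
    rw [this, map_one]
  have hAb4 : 4 ≤ Nat.card Ab := by rw [hAb, card_image hAP]; exact hA4
  -- the index of the fixed points
  have hidx : (CS ρ Ab).index ≤ (centralizer (A : Set G)).relIndex (Wc P J) := by
    let D : Subgroup ↥(Wc P J) := (centralizer (A : Set G)).subgroupOf (Wc P J)
    have h1 : D.map p ≤ CS ρ Ab := by
      rintro _ ⟨w, hw, rfl⟩ _ ⟨a, ha, rfl⟩
      have hw' : (w : G) ∈ centralizer (A : Set G) := hw
      have ha' : (a : G) ∈ A := ha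
      have h2 : (w : G) = a * w * (a : G)⁻¹ := by
        rw [mem_centralizer_iff.1 hw' a ha', mul_inv_cancel_right]
      exact hact a w w h2
    have h2 : (D.map p).index ≤ D.index :=
      Nat.le_of_dvd (Nat.pos_of_ne_zero Subgroup.index_ne_zero_of_finite) (index_map_dvd (f := p) D hps)
    exact (index_le_of_le h1).trans h2
  have hWJ : (centralizer (A : Set G)).relIndex (Wc P J) ≤ (centralizer (A : Set G)).relIndex (Wc P V) :=
    relIndex_le_of_le_right h.WJ_le Subgroup.index_ne_zero_of_finite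
  have hodd : Odd (Fintype.card F) := hp.odd_of_ne_two (by omega)
  have h2F : (2 : F) ≠ 0 := Cfsg.Agent.GH.L2Aut.two_ne_zero_of_odd hodd
  have R := Cfsg.Agent.GH.L2Aut.Rep.ofEquiv h2F e
  have hFp : (Nat.card F).Prime := by rw [Nat.card_eq_fintype_card]; exact hp
  by_cases hF7 : Fintype.card F = 7
  · -- (4.6), (4.7)
    have hF7' : Nat.card F = 7 := by rw [Nat.card_eq_fintype_card, hF7]
    obtain ⟨R'⟩ := PGLSeven.exists_rep R hF7'
    have h8 := PGLSeven.eight_le (ρ := ρ) (A := Ab) R' hN2 hLC (htop L ⟨F, _, _, hF7, ⟨e⟩⟩) hne hAb2 hAb4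
      (C := CS ρ Ab) (fun a ha v hv => hv a ha)
    have e1 : (centralizer (A : Set G)).relIndex (Wc P V) = 8 := by omega
    have e2 : (centralizer (A : Set G)).relIndex (Wc P J) = 8 := by omega
    have hcov : ∀ w ∈ Wc P V, ∃ u ∈ Wc P J, u⁻¹ * w ∈ centralizer (A : Set G) := by
      intro w hw
      let E := quotientSubgroupOfEmbeddingOfLE (centralizer (A : Set G)) h.WJ_le
      have hle : Nat.card (↥(Wc P V) ⧸ (centralizer (A : Set G)).subgroupOf (Wc P V)) ≤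
          Nat.card (↥(Wc P J) ⧸ (centralizer (A : Set G)).subgroupOf (Wc P J)) := by
        have h3 : Nat.card (↥(Wc P V) ⧸ (centralizer (A : Set G)).subgroupOf (Wc P V)) = 8 := e1
        have h4 : Nat.card (↥(Wc P J) ⧸ (centralizer (A : Set G)).subgroupOf (Wc P J)) = 8 := e2
        rw [h3, h4]
      have hsurj := (E.injective.bijective_of_nat_card_le hle).2
      obtain ⟨u, hu⟩ := hsurj (QuotientGroup.mk ⟨w, hw⟩)
      obtain ⟨u, rfl⟩ := QuotientGroup.mk_surjective u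
      rw [quotientSubgroupOfEmbeddingOfLE_apply_mk] at hu
      have h3 := QuotientGroup.eq.1 hu
      rw [mem_subgroupOf] at h3
      exact ⟨u, u.2, h3⟩
    have hcomm : ∀ a ∈ A, ∀ w ∈ Wc P V, a * w * a⁻¹ * w⁻¹ ∈ Wc P J := by
      intro a ha w hw
      obtain ⟨u, hu, huw⟩ := hcov w hw
      have h3 := mem_centralizer_iff.1 huw a ha
      have h4 : a * w * a⁻¹ * w⁻¹ = (a * u * a⁻¹) * (a * (u⁻¹ * w) * a⁻¹ * (u⁻¹ * w)⁻¹) * u⁻¹ := by group
      rw [h4, h3, mul_inv_cancel_right, mul_inv_cancel, mul_one]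
      exact mul_mem (hconjJ a (hAP ha) u hu) (inv_mem hu)
    have hsev : 7 ∣ Nat.card L := by
      have h3 : orderOf ((R.π (Lib.SL2Mat.up 1) : L) : P ⧸ Kp P V) = 7 := by
        have := FFPsl.orderOf_u (H := P ⧸ Kp P V) R hFp
        rwa [hF7'] at this
      rw [orderOf_coe] at h3
      rw [← h3]
      exact orderOf_dvd_natCard _
    exact SecSeven.Sit.false
      { ZJ := h.ZJ
        JV := h.JV
        PZ := h.PZ
        max := fun N hN hNP => by
          by_cases hNV : N ≤ normalizer (V : Set G)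
          · exact Or.inl hNV
          · right
            obtain ⟨x, hx, hxV⟩ : ∃ x ∈ N, x ∉ normalizer (V : Set G) := by
              by_contra hcon
              push Not at hcon
              exact hNV hcon
            exact h.eq_P hN hNP hx hxV
        JZ := h.JZ
        PJ := h.PJ
        ab := h.ab
        small := h.small
        center := h.center
        eight := h.eight
        nab := h.nab
        seven := h.exists_seven hLn hLs hsev
        KV := hAK e1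
        WV := h.wv hAP hA4 hcomm }
  · -- (4.5)
    have h11 : 11 ≤ Nat.card F := by
      rw [Nat.card_eq_fintype_card]
      by_contra hcon
      have h3 : Fintype.card F = 8 ∨ Fintype.card F = 9 ∨ Fintype.card F = 10 := by omega
      rcases h3 with h3 | h3 | h3 <;> rw [h3] at hp <;> revert hp <;> norm_num
    -- an involution of `A` in `L`
    have hinner : ∀ a : P ⧸ Kp P V, MulAut.conjNormal (H := L) a ∈ (MulAut.conj : L →* MulAut L).range → a ∈ L := by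
      rintro a ⟨l, hl⟩
      have h3 : (l : P ⧸ Kp P V)⁻¹ * a ∈ centralizer (L : Set (P ⧸ Kp P V)) := by
        rw [mem_centralizer_iff]
        intro x hx
        have h4 := congrArg (fun α : MulAut L => ((α ⟨x, hx⟩ : L) : P ⧸ Kp P V)) hl
        simp only [MulAut.conjNormal_apply, MulAut.conj_apply, Subgroup.coe_mul, Subgroup.coe_inv] at h4
        have h5 : x = (l : P ⧸ Kp P V)⁻¹ * (a * x * a⁻¹) * l := by rw [← h4]; group
        calc x * ((l : P ⧸ Kp P V)⁻¹ * a) = ((l : P ⧸ Kp P V)⁻¹ * (a * x * a⁻¹) * l) * ((l : P ⧸ Kp P V)⁻¹ * a) := by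
              rw [← h5]
          _ = (l : P ⧸ Kp P V)⁻¹ * a * x := by group
      rw [hLC, mem_bot, inv_mul_eq_one] at h3
      rw [← h3]
      exact l.2
    obtain ⟨t₀, ht₀A, ht₀L, ht₀1⟩ : ∃ t ∈ Ab, t ∈ L ∧ t ≠ 1 := by
      obtain ⟨a, ha, ha1, -⟩ := PGLSeven.exists_notin2 Ab (by omega) 1 1
      obtain ⟨b, hb, hb1, hba⟩ := PGLSeven.exists_notin2 Ab (by omega) 1 a
      by_cases haL : a ∈ L
      · exact ⟨a, ha, haL, ha1⟩
      by_cases hbL : b ∈ L
      · exact ⟨b, hb, hbL, hb1⟩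
      refine ⟨a * b, mul_mem ha hb, hinner _ ?_, ?_⟩
      · rw [map_mul]
        exact PGLTorus.mul_mem_inn R (PGLTorus.mem_PGL_of_prime R hFp _) (PGLTorus.mem_PGL_of_prime R hFp _)
          (fun h3 => haL (hinner _ h3)) (fun h3 => hbL (hinner _ h3))
      · intro h3
        apply hba
        have h4 := hAb2 a ha
        exact mul_left_cancel (h3.trans h4.symm)
    have ht₀i : (fx ρ t₀).index ≤ 8 :=
      (index_le_of_le (CS_le_fx ht₀A)).trans (hidx.trans (hWJ.trans hA8))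
    refine ModP.false_of (ρ := ρ) (L := L) R hN2 hFp h11 hne fun t htL htt ht1 => ?_
    obtain ⟨g, hg⟩ := Lib.PSL2Torus.conj_inv h2F e (t := ⟨t₀, ht₀L⟩) (u := ⟨t, htL⟩)
      (fun h3 => ht₀1 (congrArg Subtype.val h3)) (Subtype.ext (hAb2 _ ht₀A))
      (fun h3 => ht1 (congrArg Subtype.val h3)) (Subtype.ext htt)
    have h3 : (g : P ⧸ Kp P V) * t₀ * (g : P ⧸ Kp P V)⁻¹ = t := congrArg Subtype.val hg
    rw [← h3, index_fx_conj]
    exact ht₀i

/-- **Part II, `q = 4`, `V ≤ O₂(C_G(Z))`: (4.5)-(4.7)** -/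
theorem false' (h : JIn Z J V P) (hodd : ¬ 2 ∣ (Co P V).relIndex P) (h3 : ¬ 3 ∣ Nat.card (Co P V))
    (hpsl : OutPsl (P ⧸ Kp P V)) : False := by
  refine h.false hpsl ?_
  rintro L ⟨F, iF, iF', hF7, ⟨e⟩⟩ rfl
  have hp : (Fintype.card F).Prime := by rw [hF7]; norm_num
  have e' : (P ⧸ Kp P V) ≃* Matrix.ProjectiveSpecialLinearGroup (Fin 2) F := (Subgroup.topEquiv (G := P ⧸ Kp P V)).symm.trans e
  have hsimp : IsSimpleGroup (P ⧸ Kp P V) := by
    have hs : IsSimpleGroup (Matrix.ProjectiveSpecialLinearGroup (Fin 2) F) :=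
      Cfsg.Agent.TwoFusion.SLTwoFacts.isSimpleGroup_psl (by omega)
    exact e'.isSimpleGroup
  refine TopSeven.false hF7 e' (H0 := Hz P V) (Quot.coatom h.lt h.min) ?_ (Quot.not_three h3)
  rw [← Nat.not_even_iff_odd, even_iff_two_dvd]
  intro h2
  apply hodd
  have h4 : (Hz P V).index = (Co P V).relIndex P := by
    rw [← index_comap_of_surjective (Hz P V) (QuotientGroup.mk'_surjective (Kp P V)), Quot.comap_Hz]
    rfl
  rwa [h4] at h2

end JIn

end Cfsg.Agent.OddCyclic.Eq.JGlue
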