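import Cfsg.Agent.OddCyclic.Eq.Line
import Cfsg.Agent.OddCyclic.Eq.Sum
import Cfsg.Agent.OddCyclic.Emp3.NooG

/-!
# (E_q) of `T_cyc`, (2.4): the module of a line

`V` elementary abelian, commuting with its conjugates under `P`; `Yc P V = ⋂ V^x`, `Kc P V` the kernel of `P` on the
conjugates of `V`.  `l ∈ V ∖ Yc P V` with `[P ∩ N(V), l] ≤ Yc P V`.  Then `Hq P V = P / Kc P V` acts on
`Nq = ⟨l^P⟩ Yc / Yc` (`rho`), the class `lam` of `l` is fixed by the image `H0 P V` of `P ∩ N(V)`, not by `Hq P V`, and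
its conjugates generate `Nq`.
-/

set_option autoImplicit false
set_option linter.unusedSectionVars false

namespace Cfsg.Agent.OddCyclic.Eq.LamMod

open Subgroup Cfsg.Agent.OddCyclic.CompStandard Cfsg.Agent.OddCyclic.RedFiveThree Cfsg.Agent.OddCyclic.Eq.Line
open Cfsg.Agent.OddCyclic.Emp3.NooG Cfsg.Agent.OddCyclic.T1Module

universe u

variable {G : Type u} [Group G] {P V : Subgroup G} {l : G}

/-- the intersection of the conjugates of `V` under `P` -/
def Yc (P V : Subgroup G) : Subgroup G := ⨅ x : P, cj (x : G) V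

theorem mem_Yc {y : G} : y ∈ Yc P V ↔ ∀ x ∈ P, y ∈ cj x V := by
  rw [Yc, mem_iInf]
  exact ⟨fun h x hx => h ⟨x, hx⟩, fun h x => h x x.2⟩

theorem Yc_le : Yc P V ≤ V := by
  intro y hy
  have h := mem_Yc.1 hy 1 P.one_mem
  rwa [cj_one] at h

theorem Yc_conj {x y : G} (hx : x ∈ P) (hy : y ∈ Yc P V) : x * y * x⁻¹ ∈ Yc P V := by
  rw [mem_Yc]
  intro z hz
  have h1 := mem_Yc.1 hy (x⁻¹ * z) (P.mul_mem (P.inv_mem hx) hz)
  have h2 := conj_mem_cj (g := x) h1
  rwa [← cj_mul, mul_inv_cancel_left] at h2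

theorem norm_Yc : P ≤ normalizer (Yc P V : Set G) := by
  intro x hx
  rw [mem_normalizer_iff]
  intro y
  refine ⟨fun h => Yc_conj hx h, fun h => ?_⟩
  have h1 := Yc_conj (P.inv_mem hx) h
  have e : x⁻¹ * (x * y * x⁻¹) * x⁻¹⁻¹ = y := by group
  rwa [e] at h1

/-- the subgroup generated by the conjugates of `l` and `Yc P V` -/
def Wl (P V : Subgroup G) (l : G) : Subgroup G := Yc P V ⊔ closure {w | ∃ x ∈ P, w = x * l * x⁻¹}

theorem conj_mem_Wl {x : G} (hx : x ∈ P) : x * l * x⁻¹ ∈ Wl P V l :=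
  mem_sup_right (subset_closure ⟨x, hx, rfl⟩)

theorem mem_Wl : l ∈ Wl P V l := by
  have h := conj_mem_Wl (V := V) (l := l) P.one_mem
  simpa using h

theorem Wl_le_iff {R : Subgroup G} : Wl P V l ≤ R ↔ Yc P V ≤ R ∧ ∀ x ∈ P, x * l * x⁻¹ ∈ R := by
  rw [Wl, sup_le_iff, closure_le]
  refine and_congr_right fun _ => ⟨fun h x hx => h ⟨x, hx, rfl⟩, ?_⟩
  rintro h _ ⟨x, hx, rfl⟩
  exact h x hx

/-- the data -/
structure Lm (P V : Subgroup G) (l : G) : Prop where
  sq : ∀ v ∈ V, v * v = 1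
  ab : ∀ x ∈ P, Cm V (cj x V)
  lV : l ∈ V
  lY : l ∉ Yc P V
  fix : ∀ c ∈ P, c ∈ normalizer (V : Set G) → c * l * c⁻¹ * l⁻¹ ∈ Yc P V

theorem cm_WW (h : ∀ x ∈ P, Cm V (cj x V)) : Cm (Wc P V) (Wc P V) := by
  refine cm_Wc fun x hx => (cm_Wc fun y hy => ?_).symm
  have h1 := (h (y⁻¹ * x) (P.mul_mem (P.inv_mem hy) hx)).cj y
  rwa [← cj_mul, mul_inv_cancel_left] at h1

theorem sq_W (hs : ∀ v ∈ V, v * v = 1) (h : ∀ x ∈ P, Cm V (cj x V)) : ∀ w ∈ Wc P V, w * w = 1 := by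
  intro w hw
  induction hw using Subgroup.closure_induction with
  | mem x hx =>
    obtain ⟨g, hg, x, hx, rfl⟩ := hx
    show (g * x * g⁻¹) * (g * x * g⁻¹) = 1
    calc (g * x * g⁻¹) * (g * x * g⁻¹) = g * (x * x) * g⁻¹ := by group
      _ = 1 := by rw [hs x hx]; group
  | one => rw [mul_one]
  | mul x y hx' hy' hx hy =>
    calc x * y * (x * y) = x * (y * x) * y := by group
      _ = x * (x * y) * y := by rw [cm_WW h y hy' x hx']
      _ = (x * x) * (y * y) := by group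
      _ = 1 := by rw [hx, hy, mul_one]
  | inv x _ hx => rw [← mul_inv_rev, hx, inv_one]

theorem Wl_le (hl : l ∈ V) : Wl P V l ≤ Wc P V := by
  rw [Wl_le_iff]
  exact ⟨Yc_le.trans (le_Wc P V), fun x hx => cj_le_Wc hx (conj_mem_cj hl)⟩

theorem norm_Wl : P ≤ normalizer (Wl P V l : Set G) := by
  have key : ∀ x ∈ P, ∀ w ∈ Wl P V l, x * w * x⁻¹ ∈ Wl P V l := by
    intro x hx
    have h1 : Wl P V l ≤ (Wl P V l).comap (MulAut.conj x).toMonoidHom := by
      rw [Wl_le_iff]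
      refine ⟨fun y hy => ?_, fun z hz => ?_⟩
      · rw [mem_comap]
        exact mem_sup_left (Yc_conj hx hy)
      · rw [mem_comap]
        have e : (MulAut.conj x).toMonoidHom (z * l * z⁻¹) = (x * z) * l * (x * z)⁻¹ := by
          show x * (z * l * z⁻¹) * x⁻¹ = _
          group
        rw [e]
        exact conj_mem_Wl (P.mul_mem hx hz)
    exact fun w hw => h1 hw
  intro x hx
  rw [mem_normalizer_iff]
  intro y
  refine ⟨fun h => key x hx y h, fun h => ?_⟩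
  have h1 := key x⁻¹ (P.inv_mem hx) _ h
  have e : x⁻¹ * (x * y * x⁻¹) * x⁻¹⁻¹ = y := by group
  rwa [e] at h1

theorem Lm.secA (h : Lm P V l) : SecA P (Wl P V l) (Yc P V) where
  YW := le_sup_left
  WY := by
    intro w hw
    refine centralizer_le_normalizer _ ?_
    rw [mem_centralizer_iff]
    intro y hy
    exact cm_WW h.ab _ (Yc_le.trans (le_Wc P V) hy) _ (Wl_le h.lV hw)
  sq := by
    intro w hw
    rw [sq_W h.sq h.ab w (Wl_le h.lV hw)]
    exact one_mem _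
  KW := norm_Wl
  KY := norm_Yc

/-- an element of `P` normalising `V` normalises nothing else than ... : membership in the kernel -/
theorem mem_Kc' [Finite G] {k : G} : k ∈ Kc P V ↔ k ∈ P ∧ ∀ x ∈ P, x⁻¹ * k * x ∈ normalizer (V : Set G) := by
  rw [mem_Kc]
  refine and_congr_right fun _ => forall_congr' fun x => forall_congr' fun _ => ?_
  rw [← cj_eq_iff, cj_mul, cj_mul]
  constructor
  · intro h
    rw [h, cj_inv_cj]
  · intro h
    have h1 := congrArg (cj x) h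
    rwa [cj_cj_inv] at h1

instance Kc_normal [Finite G] : ((Kc P V).subgroupOf P).Normal := by
  constructor
  intro k hk g
  rw [mem_subgroupOf, mem_Kc'] at hk ⊢
  refine ⟨(g * k * g⁻¹).2, fun x hx => ?_⟩
  have h1 := hk.2 ((g : G)⁻¹ * x) (P.mul_mem (P.inv_mem g.2) hx)
  have e : ((g : G)⁻¹ * x)⁻¹ * (k : G) * ((g : G)⁻¹ * x) = x⁻¹ * ((g * k * g⁻¹ : P) : G) * x := by
    push_cast
    group
  rwa [e] at h1

theorem Kc_le_norm [Finite G] : Kc P V ≤ normalizer (V : Set G) := by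
  intro k hk
  have h := (mem_Kc'.1 hk).2 1 P.one_mem
  simpa using h

theorem Kc_le : Kc P V ≤ P := inf_le_left

section

variable [Finite G]

/-- `P` modulo its kernel on the conjugates of `V` -/
abbrev Hq (P V : Subgroup G) : Type u := ↥P ⧸ (Kc P V).subgroupOf P

/-- the projection -/
def pr (P V : Subgroup G) : ↥P →* Hq P V := QuotientGroup.mk' _

theorem pr_surj : Function.Surjective (pr P V) := QuotientGroup.mk'_surjective _

theorem pr_eq_one {x : P} : pr P V x = 1 ↔ (x : G) ∈ Kc P V := by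
  rw [← MonoidHom.mem_ker]
  show x ∈ (QuotientGroup.mk' _).ker ↔ _
  rw [QuotientGroup.ker_mk', mem_subgroupOf]

/-- the stabiliser of the line `V` in `Hq P V` -/
def H0 (P V : Subgroup G) : Subgroup (Hq P V) := ((P ⊓ normalizer (V : Set G)).subgroupOf P).map (pr P V)

theorem pr_mem_H0 {x : P} : pr P V x ∈ H0 P V ↔ (x : G) ∈ normalizer (V : Set G) := by
  constructor
  · rintro ⟨y, hy, e⟩
    have h1 : pr P V (y⁻¹ * x) = 1 := by rw [map_mul, map_inv, e, inv_mul_cancel]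
    rw [pr_eq_one] at h1
    have h2 := Subgroup.mul_mem _ (mem_subgroupOf.1 hy).2 (Kc_le_norm h1)
    have e2 : (y : G) * ((y⁻¹ * x : P) : G) = x := by
      push_cast
      group
    rwa [e2] at h2
  · intro hx
    exact ⟨x, mem_subgroupOf.2 ⟨x.2, hx⟩, rfl⟩

theorem comap_H0 : (H0 P V).comap (pr P V) = (P ⊓ normalizer (V : Set G)).subgroupOf P := by
  ext x
  rw [mem_comap, pr_mem_H0, mem_subgroupOf, mem_inf]
  exact ⟨fun h => ⟨x.2, h⟩, fun h => h.2⟩

/-- `H0` is core-free -/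
theorem core_free {N : Subgroup (Hq P V)} (hN : N.Normal) (hle : N ≤ H0 P V) : N = ⊥ := by
  rw [eq_bot_iff]
  intro h hh
  obtain ⟨x, rfl⟩ := pr_surj h
  rw [mem_bot, pr_eq_one, mem_Kc']
  refine ⟨x.2, fun y hy => ?_⟩
  have h1 := hN.conj_mem _ hh (pr P V ⟨y⁻¹, P.inv_mem hy⟩)
  rw [← map_mul, ← map_inv, ← map_mul] at h1
  have h2 := pr_mem_H0.1 (hle h1)
  have e : ((⟨y⁻¹, P.inv_mem hy⟩ * x * (⟨y⁻¹, P.inv_mem hy⟩ : P)⁻¹ : P) : G) = y⁻¹ * x * y := by
    push_cast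
    group
  rwa [e] at h2

theorem H0_ne_top (h : ¬ P ≤ normalizer (V : Set G)) : H0 P V ≠ ⊤ := by
  intro h1
  apply h
  intro x hx
  have h2 : pr P V ⟨x, hx⟩ ∈ H0 P V := h1 ▸ mem_top _
  exact pr_mem_H0.1 h2

/-- `H0` is maximal if nothing lies strictly between `P ∩ N(V)` and `P` -/
theorem H0_coatom (h : ¬ P ≤ normalizer (V : Set G))
    (hmin : ∀ Q : Subgroup G, P ⊓ normalizer (V : Set G) ≤ Q → Q ≤ P → Q ≤ normalizer (V : Set G) ∨ Q = P) :
    IsCoatom (H0 P V) := by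
  refine ⟨H0_ne_top h, fun L hL => ?_⟩
  set Q : Subgroup G := (L.comap (pr P V)).map P.subtype with hQ
  have hmemQ : ∀ x : P, (x : G) ∈ Q ↔ pr P V x ∈ L := by
    intro x
    constructor
    · rintro ⟨y, hy, e⟩
      rw [← Subtype.ext (show (y : G) = x from e)]
      exact hy
    · intro hx
      exact ⟨x, hx, rfl⟩
  have hQP : Q ≤ P := by
    rintro _ ⟨y, -, rfl⟩
    exact y.2
  have hQ0 : P ⊓ normalizer (V : Set G) ≤ Q := fun x hx => (hmemQ ⟨x, hx.1⟩).2 (hL.le (pr_mem_H0.2 hx.2))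
  rcases hmin Q hQ0 hQP with h1 | h1
  · exfalso
    refine hL.not_ge fun y hy => ?_
    obtain ⟨x, rfl⟩ := pr_surj y
    exact pr_mem_H0.2 (h1 ((hmemQ x).2 hy))
  · rw [eq_top_iff]
    intro y _
    obtain ⟨x, rfl⟩ := pr_surj y
    rw [← hmemQ, h1]
    exact x.2

/-- `(Hq P V).card` -/
theorem card_Hq : Nat.card (Hq P V) = (Kc P V).relIndex P := rfl

/-- **the sum trick**: a quadratic four-group in `H₀` all of whose involutions fix only one coset of `H₀` -/
theorem sum_false {H N : Type*} [Group H] [Finite H] [CommGroup N] (rho : H →* MulAut N) {H₀ : Subgroup H} {lam : N}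
    (hfix : ∀ a ∈ H₀, rho a lam = lam) (hnf : ∃ a, rho a lam ≠ lam) {a b : H} (haH : a ∈ H₀) (hbH : b ∈ H₀)
    (ha : a * a = 1) (hb : b * b = 1) (hab : a * b = b * a) (ha1 : a ≠ 1) (hb1 : b ≠ 1) (hab1 : a * b ≠ 1)
    (hq : ∀ n : N, n * rho a n * rho b n * rho (a * b) n = 1)
    (halt : ∀ a ∈ H₀, a * a = 1 → a ≠ 1 → ∀ h : H, h * a * h⁻¹ ∈ H₀ → h ∈ H₀) : False := by
  set F : H ⧸ H₀ → N := fun ω => rho ω.out lam with hF
  have hFmk : ∀ x : H, F (x : H ⧸ H₀) = rho x lam := by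
    intro x
    obtain ⟨k, hk⟩ := QuotientGroup.mk_out_eq_mul H₀ x
    rw [hF]
    show rho (x : H ⧸ H₀).out lam = _
    rw [hk, map_mul, MulAut.mul_apply, hfix _ k.2]
  have hsm : ∀ (h : H) (x : H), h • (x : H ⧸ H₀) = ((h * x : H) : H ⧸ H₀) := fun _ _ => rfl
  have hfp : ∀ c : H, c ∈ H₀ → c • ((1 : H) : H ⧸ H₀) = ((1 : H) : H ⧸ H₀) := by
    intro c hc
    rw [hsm, QuotientGroup.eq, mul_one, mul_one]
    exact inv_mem hc
  have hun : ∀ c : H, c ∈ H₀ → c * c = 1 → c ≠ 1 → ∀ ω : H ⧸ H₀, c • ω = ω → ω = ((1 : H) : H ⧸ H₀) := by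
    intro c hc hc2 hc1 ω hω
    obtain ⟨x, rfl⟩ := QuotientGroup.mk_surjective ω
    rw [hsm, QuotientGroup.eq] at hω
    have h1 : x⁻¹ * c * x⁻¹⁻¹ ∈ H₀ := by
      have h2 := inv_mem hω
      have e : ((c * x)⁻¹ * x)⁻¹ = x⁻¹ * c * x⁻¹⁻¹ := by group
      rwa [e] at h2
    have h2 := halt c hc hc2 hc1 _ h1
    rw [QuotientGroup.eq, mul_one]
    exact h2
  have h1 := Sum.const (fun h : H => (rho h).toMonoidHom) (F := F) (by
      intro h ω
      obtain ⟨x, rfl⟩ := QuotientGroup.mk_surjective ω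
      rw [hsm, hFmk, hFmk, map_mul]
      rfl) (fun ω ω' => MulAction.exists_smul_eq H ω ω') ha hb hab (by
      intro ω
      obtain ⟨x, rfl⟩ := QuotientGroup.mk_surjective ω
      rw [hsm, hsm, hsm, hFmk, hFmk, hFmk, hFmk, map_mul, map_mul, map_mul rho (a * b)]
      exact hq _) (hfp a haH) (hfp b hbH) (hun a haH ha ha1) (hun b hbH hb hb1)
      (hun (a * b) (mul_mem haH hbH) (by
        calc a * b * (a * b) = a * (b * a) * b := by group
          _ = (a * a) * (b * b) := by rw [← hab]; group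
          _ = 1 := by rw [ha, hb, mul_one]) hab1)
  obtain ⟨c, hc⟩ := hnf
  apply hc
  have h2 := h1 (c : H ⧸ H₀) ((1 : H) : H ⧸ H₀)
  rw [hFmk, hFmk, map_one] at h2
  exact h2

namespace Lm

variable (h : Lm P V l)

/-- the module -/
abbrev Nq (h : Lm P V l) : Type u := UQ h.secA

/-- the kernel acts trivially -/
theorem act_Kc {k : P} (hk : (k : G) ∈ Kc P V) : act h.secA k = 1 := by
  have h1 : ∀ w ∈ Wl P V l, (k : G) * w * (k : G)⁻¹ * w⁻¹ ∈ Yc P V := by
    have hle : Wl P V l ≤ cw (Wl P V l) (Yc P V) (zpowers (k : G)) := by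
      rw [Wl_le_iff]
      have hWY := h.secA.WY
      refine ⟨fun y hy => ⟨mem_sup_left hy, le_normalizer hy, fun a ha => ?_⟩, fun x hx =>
        ⟨conj_mem_Wl hx, hWY (conj_mem_Wl hx), fun a ha => ?_⟩⟩
      · have ha' : a ∈ P := (zpowers_le.2 k.2) ha
        exact Subgroup.mul_mem _ (Yc_conj ha' hy) (Subgroup.inv_mem _ hy)
      · have ha' : a ∈ Kc P V := (zpowers_le.2 hk) ha
        rw [mem_Kc'] at ha'
        have h2 := h.fix (x⁻¹ * a * x) (P.mul_mem (P.mul_mem (P.inv_mem hx) ha'.1) hx) (ha'.2 x hx)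
        have h3 := Yc_conj hx h2
        have e : x * (x⁻¹ * a * x * l * (x⁻¹ * a * x)⁻¹ * l⁻¹) * x⁻¹ =
          a * (x * l * x⁻¹) * a⁻¹ * (x * l * x⁻¹)⁻¹ := by group
        rwa [e] at h3
    intro w hw
    exact (mem_cw.1 (hle hw)).2.2 _ (mem_zpowers _)
  ext x
  obtain ⟨w, rfl⟩ := mk_surj h.secA x
  exact (act_eq_iff h.secA k w).2 (h1 w w.2)

/-- the action of `Hq P V` on the module -/
noncomputable def rho : Hq P V →* MulAut h.Nq :=
  QuotientGroup.lift _ (act h.secA) (fun _ hk => h.act_Kc (mem_subgroupOf.1 hk))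

theorem rho_pr (x : P) : h.rho (pr P V x) = act h.secA x := rfl

theorem sqN (x : h.Nq) : x * x = 1 := uq_sq h.secA x

/-- the class of `l` -/
noncomputable def lam : h.Nq := Emp3.NooG.mk h.secA ⟨l, mem_Wl⟩

theorem lam_ne : h.lam ≠ 1 := by
  intro h1
  exact h.lY ((mk_eq_one h.secA).1 h1)

theorem rho_lam (x : P) : h.rho (pr P V x) h.lam = Emp3.NooG.mk h.secA ⟨x * l * (x : G)⁻¹, conj_mem_Wl x.2⟩ := by
  rw [rho_pr, lam, act_mk]
  rfl

theorem rho_lam_eq {x : P} : h.rho (pr P V x) h.lam = h.lam ↔ (x : G) * l * (x : G)⁻¹ * l⁻¹ ∈ Yc P V := by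
  rw [rho_pr, lam, act_eq_iff]

theorem fix_lam : ∀ a ∈ H0 P V, h.rho a h.lam = h.lam := by
  intro a ha
  obtain ⟨x, rfl⟩ := pr_surj a
  rw [rho_lam_eq]
  exact h.fix x x.2 (pr_mem_H0.1 ha)

theorem not_fix : ∃ a, h.rho a h.lam ≠ h.lam := by
  by_contra hcon
  push Not at hcon
  apply h.lY
  rw [mem_Yc]
  intro x hx
  have h1 := h.rho_lam_eq.1 (hcon (pr P V ⟨x, hx⟩))
  have h2 := mem_Yc.1 h1 x hx
  have h3 : x * l * x⁻¹ ∈ cj x V := conj_mem_cj h.lV
  have e : l = (x * l * x⁻¹ * l⁻¹)⁻¹ * (x * l * x⁻¹) := by group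
  rw [e]
  exact Subgroup.mul_mem _ (Subgroup.inv_mem _ h2) h3

theorem closure_lam : closure (Set.range fun a => h.rho a h.lam) = ⊤ := by
  have h1 : Wl P V l ≤ ((closure (Set.range fun a => h.rho a h.lam)).comap (Emp3.NooG.mk h.secA)).map (Wl P V l).subtype := by
    rw [Wl_le_iff]
    refine ⟨fun y hy => ⟨⟨y, mem_sup_left hy⟩, ?_, rfl⟩, fun x hx => ⟨⟨_, conj_mem_Wl hx⟩, ?_, rfl⟩⟩
    · rw [SetLike.mem_coe, mem_comap, (mk_eq_one h.secA).2 hy]
      exact one_mem _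
    · rw [SetLike.mem_coe, mem_comap, ← h.rho_lam ⟨x, hx⟩]
      exact subset_closure ⟨_, rfl⟩
  rw [eq_top_iff]
  intro x _
  obtain ⟨w, rfl⟩ := mk_surj h.secA x
  obtain ⟨v, hv, e⟩ := h1 w.2
  rw [← Subtype.ext (show (v : G) = w from e)]
  exact hv

/-- the upper bound -/
theorem index_le_Wl {A : Subgroup G} (hA : A ≤ P) : (CS h.rho ((A.subgroupOf P).map (pr P V))).index ≤
    (centralizer (A : Set G)).relIndex (Wl P V l) := by
  have h1 : CS h.rho ((A.subgroupOf P).map (pr P V)) = CS (act h.secA) (A.subgroupOf P) := by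
    ext x
    rw [mem_CS, mem_CS]
    constructor
    · intro h2 b hb
      exact h2 _ ⟨b, hb, rfl⟩
    · rintro h2 _ ⟨b, hb, rfl⟩
      exact h2 b hb
  rw [h1, index_CS h.secA hA]
  refine (relIndex_cw_le h.secA.WY).trans ?_
  rw [inf_comm, inf_relIndex_right]

/-- **the upper bound** -/
theorem index_le {A : Subgroup G} (hA : A ≤ P) : (CS h.rho ((A.subgroupOf P).map (pr P V))).index ≤
    (centralizer (A : Set G)).relIndex (Wc P V) := by
  refine (h.index_le_Wl hA).trans ?_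
  refine relIndex_le_of_le_right (Wl_le h.lV) ?_
  rw [Subgroup.relIndex]
  exact index_ne_zero_of_finite

/-- the image of a subgroup of `P` -/
theorem card_img {A : Subgroup G} (hA : A ≤ P) :
    Nat.card ((A.subgroupOf P).map (pr P V)) = (Kc P V).relIndex A := by
  rw [← relIndex_ker]
  show (QuotientGroup.mk' _).ker.relIndex (A.subgroupOf P) = _
  rw [QuotientGroup.ker_mk', ← relIndex_subgroupOf hA]

/-- more than two cosets: a four-group modulo `K` -/
theorem exists_four {H : Type*} [Group H] {A : Subgroup H} [Finite H] (hA : ∀ a ∈ A, a * a = 1)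
    (h : 4 ≤ Nat.card A) : ∃ a ∈ A, ∃ b ∈ A, a ≠ 1 ∧ b ≠ 1 ∧ a * b ≠ 1 := by
  have h1 : ∃ a ∈ A, a ≠ 1 := by
    by_contra hcon
    push Not at hcon
    have : A = ⊥ := by rw [eq_bot_iff]; exact fun a ha => mem_bot.2 (hcon a ha)
    rw [this, Subgroup.card_bot] at h
    omega
  obtain ⟨a, ha, ha1⟩ := h1
  by_contra hcon
  push Not at hcon
  have h2 : A ≤ zpowers a := by
    intro b hb
    by_cases hb1 : b = 1
    · rw [hb1]; exact one_mem _
    · have h3 := hcon a ha b hb ha1 hb1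
      have h4 : b = a⁻¹ := eq_inv_of_mul_eq_one_right h3
      rw [h4]
      exact inv_mem (mem_zpowers a)
  have h3 := Subgroup.card_le_of_le h2
  have h4 : Nat.card (zpowers a) = 2 := by
    rw [Nat.card_zpowers]
    exact orderOf_eq_prime (by rw [pow_two]; exact hA a ha) ha1
  omega

/-- the second alternative of `Eq.Prim.cases` is impossible if some `A ≤ P ⊓ N(V)` is quadratic on `W` -/
theorem false_of_alt (h : Lm P V l) {A : Subgroup G} (hAP : A ≤ P) (hAV : A ≤ normalizer (V : Set G)) (hA2 : ∀ a ∈ A, a * a = 1)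
    (hquad : ∀ a ∈ A, ∀ b ∈ A, ∀ w ∈ Wc P V, (a * w * a⁻¹ * w⁻¹) * b = b * (a * w * a⁻¹ * w⁻¹))
    (hA4 : 4 ≤ (Kc P V).relIndex A)
    (halt : ∀ a ∈ H0 P V, a * a = 1 → a ≠ 1 → ∀ h : Hq P V, h * a * h⁻¹ ∈ H0 P V → h ∈ H0 P V) : False := by
  rw [← card_img hAP] at hA4
  obtain ⟨a', ha', b', hb', h1, h2, h3⟩ := exists_four (A := (A.subgroupOf P).map (pr P V)) (by
    rintro _ ⟨x, hx, rfl⟩
    rw [← map_mul]
    have : x * x = 1 := Subtype.ext (hA2 x hx)
    rw [this, map_one]) hA4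
  obtain ⟨a, ha, rfl⟩ := ha'
  obtain ⟨b, hb, rfl⟩ := hb'
  have ha2 : a * a = 1 := Subtype.ext (hA2 a ha)
  have hb2 : b * b = 1 := Subtype.ext (hA2 b hb)
  have hab : a * b = b * a := Subtype.ext (comm_of_sq hA2 ha hb)
  refine sum_false h.rho h.fix_lam h.not_fix (pr_mem_H0.2 (hAV ha)) (pr_mem_H0.2 (hAV hb))
    (by rw [← map_mul, ha2, map_one]) (by rw [← map_mul, hb2, map_one]) (by rw [← map_mul, hab, map_mul])
    h1 h2 h3 ?_ halt
  intro n
  obtain ⟨w, rfl⟩ := mk_surj h.secA n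
  rw [← map_mul, rho_pr, rho_pr, rho_pr, act_mk, act_mk, act_mk, ← map_mul, ← map_mul, ← map_mul]
  have e : w * cjW h.secA a w * cjW h.secA b w * cjW h.secA (a * b) w = 1 := by
    apply Subtype.ext
    show (w : G) * ((a : G) * w * (a : G)⁻¹) * ((b : G) * w * (b : G)⁻¹) *
      (((a * b : P) : G) * w * ((a * b : P) : G)⁻¹) = 1
    have hwW : (w : G) ∈ Wc P V := Wl_le h.lV w.2
    set c : G := (a : G) * w * (a : G)⁻¹ * (w : G)⁻¹ with hc
    have haw : (a : G) * w * (a : G)⁻¹ ∈ Wc P V := forall_of_mem_normalizer (norm_Wc P V a.2) _ hwW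
    have hbw : (b : G) * w * (b : G)⁻¹ ∈ Wc P V := forall_of_mem_normalizer (norm_Wc P V b.2) _ hwW
    have hcW : c ∈ Wc P V := mul_mem haw (inv_mem hwW)
    have h4 : c * b = b * c := hquad a ha b hb w hwW
    have h5 : (a : G) * w * (a : G)⁻¹ = c * w := by rw [hc]; group
    have h6 : ((a * b : P) : G) * w * ((a * b : P) : G)⁻¹ = c * ((b : G) * w * (b : G)⁻¹) := by
      rw [hab]
      push_cast
      calc (b : G) * a * w * ((b : G) * a)⁻¹ = b * (a * w * (a : G)⁻¹) * (b : G)⁻¹ := by group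
        _ = b * (c * w) * (b : G)⁻¹ := by rw [h5]
        _ = (b * c) * w * (b : G)⁻¹ := by group
        _ = (c * b) * w * (b : G)⁻¹ := by rw [h4]
        _ = _ := by group
    have hsW := sq_W h.sq h.ab
    have hcm := cm_WW h.ab
    have h7 : (w : G) * c = c * w := hcm _ hwW _ hcW
    have h8 : (b : G) * w * (b : G)⁻¹ * c = c * ((b : G) * w * (b : G)⁻¹) := hcm _ hbw _ hcW
    rw [h5, h6]
    calc (w : G) * (c * w) * ((b : G) * w * (b : G)⁻¹) * (c * ((b : G) * w * (b : G)⁻¹)) =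
        (w * c) * w * (((b : G) * w * (b : G)⁻¹ * c) * ((b : G) * w * (b : G)⁻¹)) := by group
      _ = c * (w * w) * (c * (((b : G) * w * (b : G)⁻¹) * ((b : G) * w * (b : G)⁻¹))) := by rw [h7, h8]; group
      _ = 1 := by
        rw [hsW _ hwW, hsW _ hbw, mul_one]
        exact hsW _ hcW
  rw [e, map_one]

end Lm

/-- a suitable `l` exists -/
theorem exists_lam (hs : ∀ v ∈ V, v * v = 1) (hab : ∀ x ∈ P, Cm V (cj x V))
    (hne : ¬ P ≤ normalizer (V : Set G))
    (two : ∀ c ∈ P, c ∈ normalizer (V : Set G) → ∃ k : ℕ, c ^ 2 ^ k ∈ centralizer (V : Set G)) :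
    ∃ l, Lm P V l := by
  have hYV : Yc P V < V := by
    refine lt_of_le_not_ge Yc_le fun h1 => hne fun x hx => ?_
    have h2 : V ≤ cj x V := fun v hv => mem_Yc.1 (h1 hv) x hx
    rw [← cj_eq_iff]
    exact (Subgroup.eq_of_le_of_card_ge h2 (card_cj _ _).le).symm
  have s : SecA (P ⊓ normalizer (V : Set G)) V (Yc P V) := by
    refine ⟨Yc_le, ?_, fun w hw => by rw [hs w hw]; exact one_mem _, inf_le_right, inf_le_left.trans norm_Yc⟩
    intro w hw
    refine centralizer_le_normalizer _ ?_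
    rw [mem_centralizer_iff]
    intro y hy
    exact comm_of_sq hs (Yc_le hy) hw
  have hp : Fact (Nat.Prime 2) := ⟨Nat.prime_two⟩
  have hrange : IsPGroup 2 (act s).range := by
    rintro ⟨_, c, rfl⟩
    obtain ⟨k, hk⟩ := two c c.2.1 c.2.2
    refine ⟨k, Subtype.ext ?_⟩
    show (act s c) ^ 2 ^ k = 1
    rw [← map_pow]
    ext x
    obtain ⟨w, rfl⟩ := Emp3.NooG.mk_surj s x
    refine (act_eq_iff s _ w).2 ?_
    have h1 : ((c ^ 2 ^ k : (P ⊓ normalizer (V : Set G) : Subgroup G)) : G) ∈ centralizer (V : Set G) := by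
      push_cast
      exact hk
    have h2 := mem_centralizer_iff.1 h1 w w.2
    rw [← h2, mul_inv_cancel_right, mul_inv_cancel]
    exact one_mem _
  let _ : MulAction (act s).range (UQ s) := MulAction.compHom _ (act s).range.subtype
  have hcard : 2 ∣ Nat.card (UQ s) := by
    have h1 : IsPGroup 2 (UQ s) := fun x => ⟨1, by rw [pow_one, pow_two]; exact uq_sq s x⟩
    have h2 : Nontrivial (UQ s) := by
      obtain ⟨v, hv, hvY⟩ := SetLike.exists_of_lt hYV
      refine ⟨Emp3.NooG.mk s ⟨v, hv⟩, 1, fun h3 => hvY ?_⟩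
      exact (mk_eq_one s).1 h3
    obtain ⟨n, hn0, hn⟩ := h1.nontrivial_iff_card.mp h2
    rw [hn]
    exact dvd_pow_self 2 (by omega)
  obtain ⟨b, hb, hb1⟩ := hrange.exists_fixed_point_of_prime_dvd_card_of_fixed_point (UQ s) hcard (a := 1)
    (fun c => by
      show (c : MulAut (UQ s)) 1 = 1
      exact map_one _)
  obtain ⟨w, rfl⟩ := Emp3.NooG.mk_surj s b
  refine ⟨w, hs, hab, w.2, fun h1 => hb1 ((mk_eq_one s).2 h1).symm, fun c hc hcV => ?_⟩
  exact (act_eq_iff s ⟨c, hc, hcV⟩ w).1 (hb ⟨_, ⟨c, hc, hcV⟩, rfl⟩)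

end

end Cfsg.Agent.OddCyclic.Eq.LamMod
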