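import Cfsg.Agent.OddCyclic.Eq.Line

/-!
# (E_q) of `T_cyc`: the critical pair of points, conjugates of `U` meeting in at most `t` elements

`FrT q t U V P`: a "point" `U` of order `q`, a "line" `V ≥ U` of order `q²`, `C_M(U) ≤ P ≤ C_G(U)` with `M = N_G(V)`,
`|U ∩ U^g| ≤ t < q` for `U^g ≠ U`.

* `FrT.moved` : `a ∉ M` gives `q ≤ t |V : C_V(a)|`;
* `FrT.exists_line` : in a critical pair some line of one point has order `≥ q/t` modulo the kernel of the other;
* `FrT.exists_off` : the offender `A ≤ C(V)`, quadratic on `W = ⟨V^P⟩`, with `|W : C_W(A)| ≤ r q` if elementary abelian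
  subgroups of `P/K` have order at most `r`.
-/

set_option autoImplicit false
set_option linter.unusedSectionVars false

namespace Cfsg.Agent.OddCyclic.Eq.LineT

open Subgroup Cfsg.Agent.OddCyclic.CompStandard Cfsg.Agent.OddCyclic.RedFiveThree Cfsg.Agent.OddCyclic.Eq.Line

variable {G : Type*} [Group G] [Finite G]

/-- if `[b, w] ∈ R` for all `w ∈ A`, `A` abelian normalised modulo `C(A)`..., then `|A : C_A(b)| ≤ |R|` -/
theorem relIndex_le_of_comm {A D R : Subgroup G} {b : G} (hAD : A ≤ D) (_hD : ∀ x ∈ D, ∀ y ∈ D, x * y = y * x)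
    (_hb : ∀ x ∈ D, b * x * b⁻¹ ∈ D) (hR : ∀ w ∈ A, b * w * b⁻¹ * w⁻¹ ∈ R) :
    (centralizer ({b} : Set G)).relIndex A ≤ Nat.card R := by
  classical
  let f : A → R := fun w => ⟨b * w * (b : G)⁻¹ * (w : G)⁻¹, hR w w.2⟩
  have hf : ∀ v w : A, f v = f w → (v : G)⁻¹ * w ∈ centralizer ({b} : Set G) := by
    intro v w h
    have h1 : b * (v : G) * b⁻¹ * (v : G)⁻¹ = b * (w : G) * b⁻¹ * (w : G)⁻¹ := congrArg Subtype.val h
    have hvD := hAD v.2
    have hwD := hAD w.2
    rw [mem_centralizer_singleton_iff]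
    -- `b v⁻¹ w b⁻¹ = (b v⁻¹ b⁻¹) (b w b⁻¹) = v⁻¹ w`
    have h2 : b * (w : G) * b⁻¹ = b * (v : G) * b⁻¹ * (v : G)⁻¹ * w := by rw [h1]; group
    have h3 : (b * (v : G) * b⁻¹)⁻¹ * (b * (w : G) * b⁻¹) = (v : G)⁻¹ * w := by
      rw [h2]; group
    have h4 : b * ((v : G)⁻¹ * w) * b⁻¹ = (v : G)⁻¹ * w := by
      refine Eq.trans ?_ h3
      group
    calc (v : G)⁻¹ * w * b = b * ((v : G)⁻¹ * w) * b⁻¹ * b := by rw [h4]
      _ = b * ((v : G)⁻¹ * w) := by group
  have h1 : (centralizer ({b} : Set G)).relIndex A =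
      Nat.card (A ⧸ (centralizer ({b} : Set G)).subgroupOf A) := rfl
  rw [h1]
  refine Nat.card_le_card_of_injective
    (fun x : A ⧸ (centralizer ({b} : Set G)).subgroupOf A => f x.out) ?_
  intro x y hxy
  have h2 := hf _ _ hxy
  rw [← x.out_eq, ← y.out_eq]
  show ((x.out : A) : A ⧸ (centralizer ({b} : Set G)).subgroupOf A) = ((y.out : A) : _)
  rw [QuotientGroup.eq, mem_subgroupOf]
  exact h2

/-- the frame -/
structure FrT (q t : ℕ) (U V P : Subgroup G) : Prop where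
  UV : U ≤ V
  sq : ∀ v ∈ V, v * v = 1
  cardU : Nat.card U = q
  cardV : Nat.card V = q * q
  PU : P ≤ centralizer (U : Set G)
  CP : normalizer (V : Set G) ⊓ centralizer (U : Set G) ≤ P
  act : ∀ c ∈ normalizer (V : Set G), c ∈ centralizer (U : Set G) → ∀ v ∈ V, c * v * c⁻¹ * v⁻¹ ∈ U
  free : ∀ c ∈ normalizer (V : Set G), c ∈ centralizer (U : Set G) → ∀ v ∈ V, v ∉ U → c * v = v * c →
    c ∈ centralizer (V : Set G)
  ti : ∀ g : G, cj g U ≠ U → Nat.card (U ⊓ cj g U : Subgroup G) ≤ t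
  tq : t < q
  cov : ∀ v ∈ V, ∃ m ∈ normalizer (V : Set G), v ∈ cj m U
  ab : ∀ x ∈ centralizer (U : Set G), Cm V (cj x V)
  nU : ∀ g : G, cj g U = U → ∃ c ∈ centralizer (U : Set G), ∃ m ∈ normalizer (V : Set G), g = c * m
  qb : ∀ E : Subgroup G, E ≤ normalizer (V : Set G) → (∀ e ∈ E, e * e = 1) →
    (centralizer (V : Set G)).relIndex E ≤ q

namespace FrT

variable {q t : ℕ} {U V P : Subgroup G}

theorem V_comm (h : FrT q t U V P) {x y : G} (hx : x ∈ V) (hy : y ∈ V) : x * y = y * x :=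
  comm_of_sq h.sq hx hy

theorem ab' (h : FrT q t U V P) {x y : G} (hx : x ∈ centralizer (U : Set G)) (hy : y ∈ centralizer (U : Set G)) :
    Cm (cj x V) (cj y V) := by
  have h1 := (h.ab (x⁻¹ * y) (Subgroup.mul_mem _ (Subgroup.inv_mem _ hx) hy)).cj x
  rwa [← cj_mul, mul_inv_cancel_left] at h1

theorem cm_WW (h : FrT q t U V P) : Cm (Wc P V) (Wc P V) :=
  cm_Wc fun _ hx => (cm_Wc fun _ hy => (h.ab' (h.PU hy) (h.PU hx))).symm

theorem W_sq (h : FrT q t U V P) : ∀ w ∈ Wc P V, w * w = 1 := by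
  intro w hw
  induction hw using Subgroup.closure_induction with
  | mem x hx =>
    obtain ⟨g, hg, x, hx, rfl⟩ := hx
    show (g * x * g⁻¹) * (g * x * g⁻¹) = 1
    calc (g * x * g⁻¹) * (g * x * g⁻¹) = g * (x * x) * g⁻¹ := by group
      _ = 1 := by rw [h.sq x hx]; group
  | one => rw [mul_one]
  | mul x y hx' hy' hx hy =>
    calc x * y * (x * y) = x * (y * x) * y := by group
      _ = x * (x * y) * y := by rw [h.cm_WW y hy' x hx']
      _ = (x * x) * (y * y) := by group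
      _ = 1 := by rw [hx, hy, mul_one]
  | inv x _ hx => rw [← mul_inv_rev, hx, inv_one]

/-- `cj x U = U ≤ cj x V` -/
theorem U_le (h : FrT q t U V P) {x : G} (hx : x ∈ centralizer (U : Set G)) : U ≤ cj x V := by
  have h1 := cj_mono (g := x) h.UV
  rwa [cj_eq_of_cent hx] at h1

/-- (1.3) -/
theorem moved (h : FrT q t U V P) {a : G} (ha : a ∉ normalizer (V : Set G)) :
    q ≤ t * (centralizer ({a} : Set G)).relIndex V := by
  by_contra hcon
  push Not at hcon
  apply ha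
  have key : ∀ m ∈ normalizer (V : Set G), cj a (cj m U) = cj m U := by
    intro m hm
    by_contra hne
    have hmV : cj m U ≤ V := by
      have h1 := cj_mono (g := m) h.UV
      rwa [cj_eq_iff.mpr hm] at h1
    -- `C_{cj m U}(a) ≤ cj m U ⊓ cj a (cj m U)`
    have h1 : centralizer ({a} : Set G) ⊓ cj m U ≤ cj m U ⊓ cj a (cj m U) := by
      rintro x ⟨hx1, hx2⟩
      refine ⟨hx2, ?_⟩
      have h2 : a * x * a⁻¹ = x := by
        have hx3 := mem_centralizer_singleton_iff.mp (show x ∈ centralizer ({a} : Set G) from hx1)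
        rw [← hx3, mul_inv_cancel_right]
      rw [← h2]
      exact conj_mem_cj hx2
    have h2 : Nat.card (cj m U ⊓ cj a (cj m U) : Subgroup G) ≤ t := by
      have h3 : cj m U ⊓ cj a (cj m U) = cj m (U ⊓ cj (m⁻¹ * a * m) U) := by
        rw [cj_inf, ← cj_mul, ← cj_mul]
        congr 2
        group
      rw [h3, card_cj]
      refine h.ti _ fun h4 => hne ?_
      have h5 := congrArg (cj m) h4
      rw [← cj_mul] at h5
      have h6 : m * (m⁻¹ * a * m) = a * m := by group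
      rw [h6, cj_mul] at h5
      exact h5
    have h3 : Nat.card (centralizer ({a} : Set G) ⊓ cj m U : Subgroup G) ≤ t :=
      (Subgroup.card_le_of_le h1).trans h2
    have h4 : (centralizer ({a} : Set G)).relIndex (cj m U) *
        Nat.card (centralizer ({a} : Set G) ⊓ cj m U : Subgroup G) = q := by
      have h5 := Subgroup.relIndex_mul_relIndex ⊥ (centralizer ({a} : Set G) ⊓ cj m U) (cj m U) bot_le inf_le_right
      rw [relIndex_bot_left, relIndex_bot_left, inf_relIndex_right, card_cj, h.cardU, mul_comm] at h5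
      exact h5
    have h5 : (centralizer ({a} : Set G)).relIndex (cj m U) ≤ (centralizer ({a} : Set G)).relIndex V := by
      refine Subgroup.relIndex_le_of_le_right hmV ?_
      exact Subgroup.index_ne_zero_of_finite
    have h6 : q ≤ (centralizer ({a} : Set G)).relIndex V * t := by
      rw [← h4]
      exact Nat.mul_le_mul h5 h3
    rw [mul_comm] at h6
    omega
  refine mem_normalizer_of_forall fun v hv => ?_
  obtain ⟨m, hm, hvm⟩ := h.cov v hv
  have h1 := conj_mem_cj (g := a) hvm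
  rw [key m hm] at h1
  have h2 := cj_mono (g := m) h.UV
  rw [cj_eq_iff.mpr hm] at h2
  exact h2 h1

theorem cent_le (h : FrT q t U V P) : centralizer (V : Set G) ≤ P :=
  (le_inf (centralizer_le_normalizer _) (centralizer_le h.UV)).trans h.CP

/-- `U^g ≠ U` -/
theorem cj_ne (h : FrT q t U V P) {g : G} (c : Fr.Cr P V g) : cj g U ≠ U := by
  intro hg
  obtain ⟨k, hk, m, hm, rfl⟩ := h.nU g hg
  apply c.not
  have hmU : cj m U = U := by
    have h1 := congrArg (cj k⁻¹) hg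
    rwa [← cj_mul, inv_mul_cancel_left, cj_eq_of_cent (Subgroup.inv_mem _ hk)] at h1
  have h2 : ∀ y ∈ P, ∃ c ∈ centralizer (U : Set G), cj (k * m) (cj y V) = cj c V := by
    intro y hy
    refine ⟨k * (m * y * m⁻¹), Subgroup.mul_mem _ hk ?_, ?_⟩
    · have h3 := conj_mem_cj (g := m) (h.PU hy)
      rwa [cj_centralizer, hmU] at h3
    · rw [← cj_mul]
      have h3 : k * m * y = k * (m * y * m⁻¹) * m := by group
      rw [h3, cj_mul _ m, cj_eq_iff.mpr hm]
  refine cm_Wc fun x hx => ?_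
  have h3 : Cm (Wc P V) (cj (k * m)⁻¹ (cj x V)) := by
    refine cm_Wc fun y hy => ?_
    obtain ⟨c', hc', h4⟩ := h2 y hy
    have h5 := (h.ab' (h.PU hx) hc').symm
    rw [← h4] at h5
    have h6 := h5.cj (k * m)⁻¹
    rwa [cj_inv_cj] at h6
  have h4 := h3.cj (k * m)
  rw [cj_cj_inv] at h4
  exact h4.symm

/-- elements of the kernel centralise `V^x/U` -/
theorem act' (h : FrT q t U V P) {a d x : G} (ha : a ∈ Kc P V) (hx : x ∈ P) (hd : d ∈ cj x V) :
    a * d * a⁻¹ * d⁻¹ ∈ U := by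
  rw [mem_Kc] at ha
  have h1 : x⁻¹ * a * x ∈ normalizer (V : Set G) := by
    rw [← cj_eq_iff, cj_mul, cj_mul, ha.2 x hx, cj_inv_cj]
  have h2 : x⁻¹ * a * x ∈ centralizer (U : Set G) :=
    Subgroup.mul_mem _ (Subgroup.mul_mem _ (Subgroup.inv_mem _ (h.PU hx)) (h.PU ha.1)) (h.PU hx)
  have h3 := h.act _ h1 h2 _ (mem_cj.mp hd)
  have h4 : a * d * a⁻¹ * d⁻¹ = x * (x⁻¹ * a * x * (x⁻¹ * d * x) * (x⁻¹ * a * x)⁻¹ * (x⁻¹ * d * x)⁻¹) * x⁻¹ := by
    group
  rw [h4]
  have h5 := conj_mem_cj (g := x) h3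
  rwa [cj_eq_of_cent (h.PU hx)] at h5

/-- an element of the kernel centralising some `d ∈ V^x ∖ U` centralises `V^x` -/
theorem free' (h : FrT q t U V P) {a d x : G} (ha : a ∈ Kc P V) (hx : x ∈ P) (hd : d ∈ cj x V) (hdU : d ∉ U)
    (had : a * d = d * a) : Cm (zpowers a) (cj x V) := by
  rw [mem_Kc] at ha
  have h1 : x⁻¹ * a * x ∈ normalizer (V : Set G) := by
    rw [← cj_eq_iff, cj_mul, cj_mul, ha.2 x hx, cj_inv_cj]
  have h2 : x⁻¹ * a * x ∈ centralizer (U : Set G) :=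
    Subgroup.mul_mem _ (Subgroup.mul_mem _ (Subgroup.inv_mem _ (h.PU hx)) (h.PU ha.1)) (h.PU hx)
  have hxU : cj x U = U := cj_eq_of_cent (h.PU hx)
  have h3 := h.free _ h1 h2 (x⁻¹ * d * x) (mem_cj.mp hd) (by
    intro h4
    apply hdU
    rw [← hxU, mem_cj]
    exact h4) (by
      calc x⁻¹ * a * x * (x⁻¹ * d * x) = x⁻¹ * (a * d) * x := by group
        _ = x⁻¹ * d * x * (x⁻¹ * a * x) := by rw [had]; group)
  rw [cm_iff, zpowers_le]
  have h4 := conj_mem_cj (g := x) h3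
  rw [cj_centralizer] at h4
  have h5 : x * (x⁻¹ * a * x) * x⁻¹ = a := by group
  rwa [h5] at h4

theorem cr_le (h : FrT q t U V P) {g : G} (c : Fr.Cr P V g) : cj g (Wc P V) ≤ P :=
  (cm_iff.mp c.right).trans h.cent_le

/-- commutators of elements of the two kernels: `[V^x ∩ K', V^{gy} ∩ K] ≤ U ∩ U^g` -/
theorem comm_mem (h : FrT q t U V P) {g : G} {x y a d : G} (hx : x ∈ P) (hy : y ∈ P)
    (hd : d ∈ cj x V) (hdK : d ∈ cj g (Kc P V)) (ha : a ∈ cj g (cj y V)) (haK : a ∈ Kc P V) :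
    a * d * a⁻¹ * d⁻¹ ∈ U ⊓ cj g U := by
  refine ⟨h.act' haK hx hd, ?_⟩
  have h2 : d * a * d⁻¹ * a⁻¹ ∈ cj g U := by
    have h3 := h.act' (mem_cj.mp hdK) hy (mem_cj.mp ha)
    rw [mem_cj]
    have h4 : g⁻¹ * (d * a * d⁻¹ * a⁻¹) * g =
      g⁻¹ * d * g * (g⁻¹ * a * g) * (g⁻¹ * d * g)⁻¹ * (g⁻¹ * a * g)⁻¹ := by group
    rw [h4]
    exact h3
  have h4 : a * d * a⁻¹ * d⁻¹ = (d * a * d⁻¹ * a⁻¹)⁻¹ := by group
  rw [h4]
  exact Subgroup.inv_mem _ h2

theorem cj_sq (h : FrT q t U V P) (x : G) : ∀ v ∈ cj x V, v * v = 1 := by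
  rintro _ ⟨v, hv, rfl⟩
  show (x * v * x⁻¹) * (x * v * x⁻¹) = 1
  calc (x * v * x⁻¹) * (x * v * x⁻¹) = x * (v * v) * x⁻¹ := by group
    _ = 1 := by rw [h.sq v hv]; group

theorem cj_comm (h : FrT q t U V P) (x : G) : ∀ v ∈ cj x V, ∀ w ∈ cj x V, v * w = w * v :=
  fun _ hv _ hw => comm_of_sq (h.cj_sq x) hv hw

omit [Finite G] in
theorem card_mul_relIndex (K A : Subgroup G) :
    Nat.card (K ⊓ A : Subgroup G) * K.relIndex A = Nat.card A := by
  have h2 := Subgroup.relIndex_mul_relIndex ⊥ (K ⊓ A) A bot_le inf_le_right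
  rw [relIndex_bot_left, relIndex_bot_left, inf_relIndex_right] at h2
  exact h2

theorem qpos (h : FrT q t U V P) : 0 < q := by
  rw [← h.cardU]; exact Nat.card_pos

/-- an element of the kernel not centralising `V^x`: `C_{V^x}(a) ≤ U`, so `|V^x : C| ≥ q` -/
theorem cent_le_U (h : FrT q t U V P) {a x : G} (ha : a ∈ Kc P V) (hx : x ∈ P) (hne : ¬ Cm (zpowers a) (cj x V)) :
    centralizer ({a} : Set G) ⊓ cj x V ≤ U := by
  rintro d ⟨hd1, hd2⟩
  by_contra hdU
  exact hne (h.free' ha hx hd2 hdU (mem_centralizer_singleton_iff.mp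
    (show d ∈ centralizer ({a} : Set G) from hd1)).symm)

theorem le_relIndex (h : FrT q t U V P) {a x : G} (ha : a ∈ Kc P V) (hx : x ∈ P) (hne : ¬ Cm (zpowers a) (cj x V)) :
    q ≤ (centralizer ({a} : Set G)).relIndex (cj x V) := by
  have h1 := card_mul_relIndex (centralizer ({a} : Set G)) (cj x V)
  have h2 := Subgroup.card_le_of_le (h.cent_le_U ha hx hne)
  rw [h.cardU] at h2
  rw [card_cj, h.cardV] at h1
  by_contra hcon
  push Not at hcon
  have h3 : Nat.card (centralizer ({a} : Set G) ⊓ cj x V : Subgroup G) *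
      (centralizer ({a} : Set G)).relIndex (cj x V) ≤ q * (centralizer ({a} : Set G)).relIndex (cj x V) :=
    Nat.mul_le_mul_right _ h2
  have h4 := Nat.mul_lt_mul_of_pos_left hcon h.qpos
  omega

/-- (3.2)(i): noncommuting lines are not both in the kernels -/
theorem not_both (h : FrT q t U V P) {g : G} (c : Fr.Cr P V g) {x y : G} (hx : x ∈ P) (hy : y ∈ P)
    (hne : ¬ Cm (cj x V) (cj g (cj y V))) (hx' : cj x V ≤ cj g (Kc P V)) (hy' : cj g (cj y V) ≤ Kc P V) : False := by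
  obtain ⟨a, ha, hna⟩ : ∃ a ∈ cj g (cj y V), ¬ Cm (zpowers a) (cj x V) := by
    by_contra hcon
    push Not at hcon
    apply hne
    intro v hv a ha
    exact (hcon a ha a (mem_zpowers a) v hv).symm
  have haK := hy' ha
  have h1 := h.le_relIndex haK hx hna
  have h2 : (centralizer ({a} : Set G)).relIndex (cj x V) ≤ Nat.card (U ⊓ cj g U : Subgroup G) := by
    refine relIndex_le_of_comm le_rfl (h.cj_comm x) ?_ fun w hw => h.comm_mem hx hy hw (hx' hw) ha haK
    intro w hw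
    have h3 : a ∈ normalizer (cj x V : Set G) := by
      rw [← cj_eq_iff]
      exact (mem_Kc.mp haK).2 x hx
    exact forall_of_mem_normalizer h3 _ hw
  have h3 := h.ti g (h.cj_ne c)
  have h4 := h.tq
  omega

/-- (3.2)(ii) -/
theorem exists_line_aux (h : FrT q t U V P) {g : G} (c : Fr.Cr P V g) {x : G} (hx : x ∈ P)
    (hne : ¬ cj g (cj x V) ≤ Kc P V) : (∃ x ∈ P, q ≤ t * (Kc P V).relIndex (cj g (cj x V))) ∨
      ∃ x ∈ P, q ≤ t * (Kc P V).relIndex (cj g⁻¹ (cj x V)) := by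
  obtain ⟨a, ha, haK⟩ := SetLike.not_le_iff_exists.mp hne
  have haP : a ∈ P := h.cr_le c (cj_mono (cj_le_Wc hx) ha)
  rw [mem_Kc] at haK
  push Not at haK
  obtain ⟨y, hy, hne'⟩ := haK haP
  -- `a` moves the line `V^y`
  have h1 : q ≤ t * (centralizer ({a} : Set G)).relIndex (cj y V) := by
    have h2 : y⁻¹ * a * y ∉ normalizer (V : Set G) := by
      intro h3
      apply hne'
      rw [← cj_eq_iff] at h3
      have h4 := congrArg (cj y) h3
      rw [← cj_mul] at h4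
      have h5 : y * (y⁻¹ * a * y) = a * y := by group
      rw [h5, cj_mul] at h4
      exact h4
    have h3 := h.moved h2
    have h4 : (centralizer ({y⁻¹ * a * y} : Set G)).relIndex V = (centralizer ({a} : Set G)).relIndex (cj y V) := by
      have h5 : centralizer ({a} : Set G) = cj y (centralizer ({y⁻¹ * a * y} : Set G)) := by
        rw [cj_centralizer_singleton]
        congr 2
        group
      rw [h5]
      exact (Subgroup.relIndex_map_map_of_injective _ _ (MulAut.conj y).injective).symm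
    rw [h4] at h3
    exact h3
  by_cases hD : Cm (cj g (Kc P V) ⊓ cj y V) (cj g (cj x V))
  · -- `D = V^y ∩ K'` centralises `a`
    right
    refine ⟨y, hy, h1.trans (Nat.mul_le_mul_left _ ?_)⟩
    have h2 : (Kc P V).relIndex (cj g⁻¹ (cj y V)) = (cj g (Kc P V)).relIndex (cj y V) := by
      have h3 : cj y V = cj g (cj g⁻¹ (cj y V)) := by rw [cj_cj_inv]
      conv_rhs => rw [h3]
      exact (Subgroup.relIndex_map_map_of_injective _ _ (MulAut.conj g).injective).symm
    rw [h2]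
    refine Nat.le_of_dvd (Nat.pos_of_ne_zero Subgroup.index_ne_zero_of_finite) ?_
    rw [← inf_relIndex_right (cj g (Kc P V))]
    refine Subgroup.relIndex_dvd_of_le_left _ ?_
    intro d hd
    rw [mem_centralizer_singleton_iff]
    exact hD d hd a ha
  · left
    refine ⟨x, hx, ?_⟩
    unfold Cm at hD
    push Not at hD
    obtain ⟨b, ⟨hbK, hbV⟩, a', ha', hab⟩ := hD
    -- `C_{V^{gx}}(b) ≤ U^g`
    have hbK' : g⁻¹ * b * g ∈ Kc P V := mem_cj.mp hbK
    have hne2 : ¬ Cm (zpowers (g⁻¹ * b * g)) (cj x V) := by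
      intro h2
      apply hab
      have h3 := h2 _ (mem_zpowers _) _ (mem_cj.mp ha')
      calc b * a' = g * (g⁻¹ * b * g * (g⁻¹ * a' * g)) * g⁻¹ := by group
        _ = g * (g⁻¹ * a' * g * (g⁻¹ * b * g)) * g⁻¹ := by rw [h3]
        _ = a' * b := by group
    have h2 := cj_mono (g := g) (h.cent_le_U hbK' hx hne2)
    have h2' : centralizer ({b} : Set G) ⊓ cj g (cj x V) ≤ cj g U := by
      refine le_trans ?_ h2
      rw [cj_inf, cj_centralizer_singleton]
      have h3 : g * (g⁻¹ * b * g) * g⁻¹ = b := by group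
      rw [h3]
    -- `A₀ = V^{gx} ∩ K`
    have h3 : (centralizer ({b} : Set G)).relIndex (Kc P V ⊓ cj g (cj x V)) ≤ t := by
      refine (relIndex_le_of_comm (R := U ⊓ cj g U) inf_le_right (D := cj g (cj x V)) ?_ ?_ ?_).trans
        (h.ti g (h.cj_ne c))
      · rw [← cj_mul]; exact h.cj_comm _
      · intro w hw
        have h4 : b ∈ normalizer (cj g (cj x V) : Set G) := by
          rw [← cj_normalizer]
          rw [mem_cj, ← cj_eq_iff]
          exact (mem_Kc.mp hbK').2 x hx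
        exact forall_of_mem_normalizer h4 _ hw
      · rintro w ⟨hwK, hwV⟩
        have h5 := h.comm_mem hy hx hbV hbK hwV hwK
        have h6 : b * w * b⁻¹ * w⁻¹ = (w * b * w⁻¹ * b⁻¹)⁻¹ := by group
        rw [h6]
        exact Subgroup.inv_mem _ h5
    have h4 := card_mul_relIndex (centralizer ({b} : Set G)) (Kc P V ⊓ cj g (cj x V))
    have h5 : Nat.card (centralizer ({b} : Set G) ⊓ (Kc P V ⊓ cj g (cj x V)) : Subgroup G) ≤ q := by
      rw [← h.cardU, ← card_cj g U]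
      exact Subgroup.card_le_of_le ((inf_le_inf_left _ inf_le_right).trans h2')
    have h6 := card_mul_relIndex (Kc P V) (cj g (cj x V))
    rw [card_cj, card_cj, h.cardV] at h6
    have h7 : Nat.card (Kc P V ⊓ cj g (cj x V) : Subgroup G) ≤ q * t := by
      rw [← h4]
      exact Nat.mul_le_mul h5 h3
    have h8 : q * q ≤ q * (t * (Kc P V).relIndex (cj g (cj x V))) := by
      rw [← h6, ← mul_assoc]
      exact Nat.mul_le_mul_right _ h7
    exact Nat.le_of_mul_le_mul_left h8 h.qpos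

/-- **the points of a critical pair** -/
theorem exists_line (h : FrT q t U V P) {g : G} (c : Fr.Cr P V g) :
    (∃ x ∈ P, q ≤ t * (Kc P V).relIndex (cj g (cj x V))) ∨
      ∃ x ∈ P, q ≤ t * (Kc P V).relIndex (cj g⁻¹ (cj x V)) := by
  -- a pair of lines which do not commute
  obtain ⟨x, hx, h1⟩ := exists_not_cm c.not
  have h2 : ¬ Cm (Wc P V) (cj g⁻¹ (cj x V)) := by
    intro h3
    have h4 := h3.cj g
    rw [cj_cj_inv] at h4
    exact h1 h4.symm
  obtain ⟨y, hy, h3⟩ := exists_not_cm h2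
  have h4 : ¬ Cm (cj x V) (cj g (cj y V)) := by
    intro h5
    have h6 := h5.symm.cj g⁻¹
    rw [cj_inv_cj] at h6
    exact h3 h6
  by_cases h5 : cj g (cj y V) ≤ Kc P V
  · have h6 : ¬ cj g⁻¹ (cj x V) ≤ Kc P V := by
      intro h7
      refine h.not_both c hx hy h4 ?_ h5
      have h8 := cj_mono (g := g) h7
      rwa [cj_cj_inv] at h8
    have h7 := h.exists_line_aux c.inv hx h6
    rw [inv_inv] at h7
    exact h7.symm
  · exact h.exists_line_aux c hy h5

/-- both normalise the other's `W` -/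
theorem W_norm (h : FrT q t U V P) {g : G} (c : Fr.Cr P V g) :
    Wc P V ≤ normalizer (cj g (Wc P V) : Set G) := by
  have h2 := h.cr_le c.inv
  have h3 := cj_mono (g := g) (h2.trans (norm_Wc P V))
  rwa [cj_cj_inv, cj_normalizer] at h3

theorem W_le (h : FrT q t U V P) {g : G} (c : Fr.Cr P V g) : Wc P V ≤ cj g P := by
  have h2 := cj_mono (g := g) (h.cr_le c.inv)
  rwa [cj_cj_inv] at h2

/-- the upper bound (2.5) -/
theorem relIndex_W_le' (h : FrT q t U V P) {g : G} (c : Fr.Cr P V g) {x : G} (hx : x ∈ P) :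
    (centralizer (cj g (cj x V) : Set G)).relIndex (Wc P V) ≤ (Kc P V).relIndex (cj g⁻¹ (Wc P V)) * q := by
  set D := cj g (Kc P V) ⊓ Wc P V with hD
  have h1 : (cj g (Kc P V)).relIndex (Wc P V) = (Kc P V).relIndex (cj g⁻¹ (Wc P V)) := by
    have h4 : Wc P V = cj g (cj g⁻¹ (Wc P V)) := by rw [cj_cj_inv]
    conv_lhs => rw [h4]
    exact Subgroup.relIndex_map_map_of_injective _ _ (MulAut.conj g).injective
  have h2 : (centralizer (cj g (cj x V) : Set G)).relIndex D ≤ q := by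
    have h3 := h.qb (cj (g * x)⁻¹ D) (by
      have h4 : D ≤ cj (g * x) (normalizer (V : Set G)) := by
        rintro d ⟨hd, -⟩
        rw [mem_cj]
        have h5 := (mem_Kc.mp (mem_cj.mp (show d ∈ cj g (Kc P V) from hd))).2 x hx
        rw [← cj_eq_iff]
        have h6 : (g * x)⁻¹ * d * (g * x) = x⁻¹ * (g⁻¹ * d * g) * x := by group
        rw [h6, cj_mul, cj_mul, h5, cj_inv_cj]
      have h5 := cj_mono (g := (g * x)⁻¹) h4
      rwa [cj_inv_cj] at h5) (by
        rintro _ ⟨v, hv, rfl⟩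
        show ((g * x)⁻¹ * v * (g * x)⁻¹⁻¹) * ((g * x)⁻¹ * v * (g * x)⁻¹⁻¹) = 1
        calc ((g * x)⁻¹ * v * (g * x)⁻¹⁻¹) * ((g * x)⁻¹ * v * (g * x)⁻¹⁻¹) =
            (g * x)⁻¹ * (v * v) * (g * x)⁻¹⁻¹ := by group
          _ = 1 := by rw [h.W_sq v hv.2]; group)
    have h4 : (centralizer (V : Set G)).relIndex (cj (g * x)⁻¹ D) =
        (centralizer (cj g (cj x V) : Set G)).relIndex D := by
      have h5 : D = cj (g * x) (cj (g * x)⁻¹ D) := by rw [cj_cj_inv]
      have h6 : centralizer (cj g (cj x V) : Set G) = cj (g * x) (centralizer (V : Set G)) := by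
        rw [cj_centralizer, cj_mul]
      rw [h6]
      conv_rhs => rw [h5]
      exact (Subgroup.relIndex_map_map_of_injective _ _ (MulAut.conj (g * x)).injective).symm
    rwa [h4] at h3
  have h3 : (centralizer (cj g (cj x V) : Set G) ⊓ D).relIndex (Wc P V) =
      (centralizer (cj g (cj x V) : Set G)).relIndex D * (cj g (Kc P V)).relIndex (Wc P V) := by
    have h4 := Subgroup.relIndex_mul_relIndex (centralizer (cj g (cj x V) : Set G) ⊓ D) D (Wc P V) inf_le_right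
      inf_le_right
    rw [inf_relIndex_right] at h4
    rw [← h4]
    congr 1
    rw [hD, inf_relIndex_right]
  have h4 : (centralizer (cj g (cj x V) : Set G)).relIndex (Wc P V) ≤
      (centralizer (cj g (cj x V) : Set G) ⊓ D).relIndex (Wc P V) := by
    refine Nat.le_of_dvd (Nat.pos_of_ne_zero Subgroup.index_ne_zero_of_finite) ?_
    exact Subgroup.relIndex_dvd_of_le_left _ inf_le_left
  rw [h3] at h4
  refine h4.trans ?_
  rw [mul_comm, h1]
  exact Nat.mul_le_mul_left _ h2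

theorem W_inv_le (h : FrT q t U V P) {g : G} (c : Fr.Cr P V g) : cj g⁻¹ (Wc P V) ≤ P := h.cr_le c.inv

theorem cjW_sq (h : FrT q t U V P) (g : G) : ∀ w ∈ cj g (Wc P V), w * w = 1 := by
  rintro _ ⟨v, hv, rfl⟩
  show (g * v * g⁻¹) * (g * v * g⁻¹) = 1
  calc (g * v * g⁻¹) * (g * v * g⁻¹) = g * (v * v) * g⁻¹ := by group
    _ = 1 := by rw [h.W_sq v hv]; group

theorem relIndex_W_le (h : FrT q t U V P) {g : G} (c : Fr.Cr P V g) {x : G} (hx : x ∈ P) {r : ℕ}
    (hr : ∀ E ≤ P, (∀ e ∈ E, e * e = 1) → (Kc P V).relIndex E ≤ r) :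
    (centralizer (cj g (cj x V) : Set G)).relIndex (Wc P V) ≤ r * q :=
  (h.relIndex_W_le' c hx).trans (Nat.mul_le_mul_right _ (hr _ (h.W_inv_le c) (h.cjW_sq _)))

/-- the critical pair with a large line -/
theorem exists_big (h : FrT q t U V P) {g₀ : G} (c₀ : Fr.Cr P V g₀) :
    ∃ g x : G, Fr.Cr P V g ∧ x ∈ P ∧ q ≤ t * (Kc P V).relIndex (cj g (cj x V)) := by
  rcases h.exists_line c₀ with ⟨x, hx, h1⟩ | ⟨x, hx, h1⟩
  · exact ⟨g₀, x, c₀, hx, h1⟩
  · exact ⟨g₀⁻¹, x, c₀.inv, hx, h1⟩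

/-- `V^{gx}` acts quadratically on `W` -/
theorem quad (h : FrT q t U V P) {g : G} (c : Fr.Cr P V g) {x : G} (hx : x ∈ P) :
    ∀ a ∈ cj g (cj x V), ∀ b ∈ cj g (cj x V), ∀ w ∈ Wc P V,
      (a * w * a⁻¹ * w⁻¹) * b = b * (a * w * a⁻¹ * w⁻¹) := by
  have hle : cj g (cj x V) ≤ cj g (Wc P V) := cj_mono (cj_le_Wc hx)
  intro a ha b hb w hw
  have h2 : a * w * a⁻¹ * w⁻¹ ∈ cj g (Wc P V) := by
    have h3 : a * w * a⁻¹ * w⁻¹ = a * (w * a⁻¹ * w⁻¹) := by group
    rw [h3]
    exact mul_mem (hle ha) (forall_of_mem_normalizer (h.W_norm c hw) _ (inv_mem (hle ha)))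
  exact h.cm_WW.cj g _ h2 _ (hle hb)

/-- the existence of a critical pair -/
theorem exists_cr (h : FrT q t U V P)
    (hno : ∀ R : Subgroup G, V ≤ R → (∀ x ∈ R, x * x = 1) → normalizer (V : Set G) ≤ normalizer (R : Set G) →
      P ≤ normalizer (R : Set G) → False) : ∃ g : G, Fr.Cr P V g := by
  obtain ⟨g, -, h1, h2, h3⟩ := Crit.exists_crit (M := normalizer (V : Set G)) (P := P) (V := V) (W := Wc P V)
    le_rfl (le_Wc P V) (norm_Wc P V) h.W_sq hno
  exact ⟨g, h1, h2, h3⟩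

/-- **the offender**: an elementary abelian subgroup of `C(V)`, quadratic on `W`, of order `≥ q/t` modulo `K` -/
theorem exists_off (h : FrT q t U V P)
    (hno : ∀ R : Subgroup G, V ≤ R → (∀ x ∈ R, x * x = 1) → normalizer (V : Set G) ≤ normalizer (R : Set G) →
      P ≤ normalizer (R : Set G) → False) :
    ∃ A : Subgroup G, A ≤ centralizer (V : Set G) ∧ (∀ a ∈ A, a * a = 1) ∧
      (∀ a ∈ A, ∀ b ∈ A, ∀ w ∈ Wc P V, (a * w * a⁻¹ * w⁻¹) * b = b * (a * w * a⁻¹ * w⁻¹)) ∧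
      q ≤ t * (Kc P V).relIndex A ∧
      ∀ r : ℕ, (∀ E ≤ P, (∀ e ∈ E, e * e = 1) → (Kc P V).relIndex E ≤ r) →
        (centralizer (A : Set G)).relIndex (Wc P V) ≤ r * q := by
  have key : ∀ g : G, Fr.Cr P V g → (∃ x ∈ P, q ≤ t * (Kc P V).relIndex (cj g (cj x V))) →
      ∃ A : Subgroup G, A ≤ centralizer (V : Set G) ∧ (∀ a ∈ A, a * a = 1) ∧
      (∀ a ∈ A, ∀ b ∈ A, ∀ w ∈ Wc P V, (a * w * a⁻¹ * w⁻¹) * b = b * (a * w * a⁻¹ * w⁻¹)) ∧
      q ≤ t * (Kc P V).relIndex A ∧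
      ∀ r : ℕ, (∀ E ≤ P, (∀ e ∈ E, e * e = 1) → (Kc P V).relIndex E ≤ r) →
        (centralizer (A : Set G)).relIndex (Wc P V) ≤ r * q := by
    rintro g c ⟨x, hx, hq⟩
    have hle : cj g (cj x V) ≤ cj g (Wc P V) := cj_mono (cj_le_Wc hx)
    refine ⟨cj g (cj x V), hle.trans (cm_iff.mp c.right), ?_, h.quad c hx, hq, fun r hr => h.relIndex_W_le c hx hr⟩
    rw [← cj_mul]
    exact h.cj_sq _
  obtain ⟨g, c⟩ := h.exists_cr hno
  rcases h.exists_line c with h4 | h4
  · exact key g c h4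
  · exact key g⁻¹ c.inv h4

end FrT

end Cfsg.Agent.OddCyclic.Eq.LineT
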