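import Cfsg.Agent.OddCyclic.Eq.HypSix

/-!
# (E_q) of `T_cyc`, Part II, `V ≰ O₂(C_G(Ω₁Z(S)))`: the contract
-/

set_option autoImplicit false

namespace Cfsg.Agent.OddCyclic.Eq

open Subgroup Cfsg Cfsg.Agent.ZN
open Cfsg.Agent.OddCyclic.RedU (EqOne)

universe u

variable {G : Type u} [Group G] [Finite G] {S : Sylow 2 G} {L V : Subgroup G} {q : ℕ}

/-- **(E_q), Part II, `V ≰ O₂(C_G(Ω₁Z(S)))` is impossible** -/
theorem partTwoB (h : EqOne S L V q)
    (hJ : centralizer (zc (bau (S : Subgroup G)) : Set G) ≤ normalizer (V : Set G))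
    (hV : ¬ V ≤ o2 (centralizer (zc (S : Subgroup G) : Set G))) : False :=
  HypSix.partTwoB h hJ hV

end Cfsg.Agent.OddCyclic.Eq
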