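import Cfsg.Agent.OddCyclic.Eq.JGlue

/-!
# (E_q): `P/K` is of type `PSL₂(p)` if some elementary abelian group of order at least 4 acts quadratically on `W`

`dat`: `Struct.Dat ⊥` for `P/K`; `outPsl`: `Struct.cases` + helper405's sum trick.
-/

set_option autoImplicit false

namespace Cfsg.Agent.OddCyclic.Eq.PslOf

open Subgroup Cfsg.Agent.OddCyclic.CompStandard Cfsg.Agent.OddCyclic.RedFiveThree Cfsg.Agent.OddCyclic.Eq.Line
  Cfsg.Agent.OddCyclic.Eq.Quot Cfsg.Agent.OddCyclic.Eq.Struct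
open Cfsg.Agent.OddCyclic.T1Defs (OddCyc)
open Cfsg.Agent.LieExceptional.CITDefs (IsSyl2)

universe u

variable {G : Type u} [Group G] [Finite G] {X V T P : Subgroup G}

/-- `P/K` satisfies the hypotheses of `Struct.cases` with `Γ = 1` -/
theorem dat (h : Pd X V T) (hc : OddCyc G) (hs : CompStart.SecZero G) (hX : X ≠ ⊤) (hP : P ≤ X)
    (hlt : normalizer (V : Set G) ⊓ X < P)
    (hmin : ∀ Q : Subgroup G, normalizer (V : Set G) ⊓ X < Q → Q ≤ P → Q = P) :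
    Dat (⊥ : Subgroup (MulAut (P ⧸ Kp P V))) (Hz P V) (Tz P V T) := by
  have h0 : Co P V = normalizer (V : Set G) ⊓ X := Pd.co_eq hP hlt.le
  have hTP : T ≤ P := (le_inf h.TV h.syl.le).trans hlt.le
  have hT : IsSyl2 P T := isSyl2_of_le h.syl hTP hP
  have hPt : P ≠ ⊤ := fun h1 => hX (top_le_iff.mp (h1 ▸ hP))
  have hco : IsCoatom (Hz P V) := coatom (by rw [h0]; exact hlt) (by rw [h0]; exact hmin)
  have hle : Tz P V T ≤ Hz P V := map_mono fun t ht => ⟨h.TV ht, hTP ht⟩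
  refine ⟨?_, hco.1, ?_, core, ⟨toSyl (syl_Tz hT), rfl⟩, hle, ?_, not_three (by rw [h0]; exact h.three), oddCyc hc P V,
    kzero hs hPt V⟩
  · intro γ hγ x hx
    rw [mem_bot] at hγ
    rw [hγ]
    exact hx
  · intro Y _ hY
    rcases hY.lt_or_eq with h1 | h1
    · exact Or.inr (hco.2 Y h1)
    · exact Or.inl h1.symm
  · exact norm_syl hT h.TV (fun x hx => h.NT x (hP hx)) _ (syl_Tz hT) hle

/-- the involutions of `H₀` are in `T`, if `T` is normal in `H₀` -/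
theorem semi_of_rk {H : Type u} [Group H] [Finite H] {Γ : Subgroup (MulAut H)} {H0 T K : Subgroup H} (d : Dat Γ H0 T)
    (r : Rk H0 T K) : ∀ a ∈ H0, a * a = 1 → a ≠ 1 → ∀ h : H, h * a * h⁻¹ ∈ H0 → h ∈ H0 := by
  intro a ha ha2 ha1 h hh
  refine r.semi h a ?_ ha1 hh
  -- `a` normalises the Sylow 2-subgroup `T`
  have hf : Fact (Nat.Prime 2) := ⟨Nat.prime_two⟩
  obtain ⟨Q, hQ⟩ := d.syl
  have haT : a ∈ normalizer (T : Set H) := by rw [r.nT]; exact ha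
  have h1 : IsPGroup 2 (zpowers a) := by
    refine IsPGroup.of_card (n := 1) ?_
    rw [Nat.card_zpowers, pow_one]
    exact orderOf_eq_prime (by rw [pow_two]; exact ha2) ha1
  have h2 : zpowers a ≤ normalizer (T : Set H) := by rwa [zpowers_le]
  have h3 : IsPGroup 2 (T ⊔ zpowers a : Subgroup H) := by
    rw [sup_comm]
    exact h1.to_sup_of_normal_right' (by rw [← hQ]; exact Q.2) h2
  have h4 : (Q : Subgroup H) ≤ T ⊔ zpowers a := by rw [hQ]; exact le_sup_left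
  have h5 := Q.is_maximal' h3 h4
  have h6 : a ∈ T ⊔ zpowers a := mem_sup_right (mem_zpowers a)
  rw [h5] at h6
  rw [← hQ]
  exact h6

theorem outPsl (h : Pd X V T) (hc : OddCyc G) (hs : CompStart.SecZero G) (hX : X ≠ ⊤) (hP : P ≤ X)
    (hlt : normalizer (V : Set G) ⊓ X < P)
    (hmin : ∀ Q : Subgroup G, normalizer (V : Set G) ⊓ X < Q → Q ≤ P → Q = P)
    (hWc : Cm (Wc P V) (Wc P V)) (hW2 : ∀ w ∈ Wc P V, w * w = 1)
    {v : G} (hv : v ∈ V) (hvU : v ∉ Uo P V)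
    (hvC : ∀ c ∈ P, c ∈ normalizer (V : Set G) → c * v * c⁻¹ * v⁻¹ ∈ Uo P V)
    {A : Subgroup G} (hAP : A ≤ P) (hAV : A ≤ normalizer (V : Set G)) (hA2 : ∀ a ∈ A, a * a = 1)
    (hAq : ∀ a ∈ A, ∀ b ∈ A, ∀ w ∈ Wc P V, (a * w * a⁻¹ * w⁻¹) * b = b * (a * w * a⁻¹ * w⁻¹))
    (hA4 : 4 ≤ (Kc P V).relIndex A) : OutPsl (P ⧸ Kp P V) := by
  have d := dat h hc hs hX hP hlt hmin
  have key : ∀ a ∈ (A.subgroupOf P).map (QuotientGroup.mk' (Kp P V)), a * a = 1 := by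
    rintro _ ⟨a, ha, rfl⟩
    rw [← map_mul]
    have : a * a = 1 := Subtype.ext (hA2 a ha)
    rw [this, map_one]
  have hsum : (∀ a ∈ Hz P V, a * a = 1 → a ≠ 1 → ∀ h : P ⧸ Kp P V, h * a * h⁻¹ ∈ Hz P V → h ∈ Hz P V) → False := by
    intro h1
    obtain ⟨a, ha, b, hb, haK, hbK, habK⟩ := exists_four hA4
    obtain ⟨x, hx, hxv⟩ := exists_moved hv hvU
    apply hxv
    refine SumG.fix hWc hW2 (Uo_le P V) (norm_Uo P V) hv hvC (hAP ha) (hAP hb) (hA2 a ha) (hA2 b hb)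
      (comm_of_sq hA2 ha hb) (cj_eq_iff.mpr (hAV ha)) (cj_eq_iff.mpr (hAV hb)) (fun w hw => hAq a ha b hb w hw)
      (fun y hy hy' => fixes h1 (hAP ha) (hAV ha) (hA2 a ha) haK hy hy')
      (fun y hy hy' => fixes h1 (hAP hb) (hAV hb) (hA2 b hb) hbK hy hy')
      (fun y hy hy' => fixes h1 (hAP (mul_mem ha hb)) (hAV (mul_mem ha hb)) (hA2 _ (mul_mem ha hb)) habK hy hy') hx
  rcases cases d with h1 | ⟨K, hr, -⟩ | ⟨K, hr, -⟩ | h1
  · have h2 := h1.card_le d.odd _ key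
    rw [card_image hAP] at h2
    omega
  · exact (hsum (semi_of_rk d hr)).elim
  · exact (hsum (semi_of_rk d hr)).elim
  · exact h1

end Cfsg.Agent.OddCyclic.Eq.PslOf
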