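import Cfsg.Agent.OddCyclic.Eq.SecFour
import Cfsg.Agent.OddCyclic.Eq.LamMod
import Cfsg.Agent.OddCyclic.Eq.PslOf

/-!
# (E_q) of `T_cyc`, Part II, `V ≤ O₂(C_G(Z))`: the end

`SecFourEnd.false`: `SecFour.Sit`, `Quot.Pd (C_G(Z)) V S`, `C_G(Z) ≰ N_G(V)`, `N_G(V)` maximal among the normalisers of
elementary abelian groups containing `V`, `N_G(V) ∩ C_G(Z)` a 2-group on `V`, and for `q = 4` the action of
`N_G(V) ∩ C_G(Z)` on `V` as `D₈` (`Ex4`) are contradictory.
-/

set_option autoImplicit false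
set_option linter.unusedSectionVars false

namespace Cfsg.Agent.OddCyclic.Eq.SecFourEnd

open Subgroup Cfsg.Agent.OddCyclic.CompStandard Cfsg.Agent.OddCyclic.RedFiveThree Cfsg.Agent.OddCyclic.Eq.Line
  Cfsg.Agent.OddCyclic.Eq.Quot Cfsg.Agent.OddCyclic.Eq.SecFour
open Cfsg.Agent.OddCyclic.T1Defs (OddCyc)
open Cfsg.Agent.LieExceptional.CITDefs (IsSyl2)

universe u

variable {G : Type u} [Group G]

/-- `C₀ = N_G(V) ∩ C_G(Z)` acts on `V` (`|V| = 16`) as `D₈` -/
structure Ex4 (Z J V : Subgroup G) : Prop where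
  JZ : ∀ c ∈ normalizer (V : Set G) ⊓ centralizer (Z : Set G), ∀ j ∈ J, c * j * c⁻¹ * j⁻¹ ∈ Z
  small : ∀ c ∈ normalizer (V : Set G) ⊓ centralizer (Z : Set G), (∀ v ∈ V, c * v * c⁻¹ * v⁻¹ ∈ Z) →
    c ∈ centralizer (V : Set G)
  center : ∀ N : Subgroup G, N ≤ normalizer (V : Set G) ⊓ centralizer (Z : Set G) →
    normalizer (V : Set G) ⊓ centralizer (Z : Set G) ≤ normalizer (N : Set G) →
    ¬ N ≤ centralizer (V : Set G) → ∃ s ∈ N, (∀ c ∈ normalizer (V : Set G) ⊓ centralizer (Z : Set G),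
      c * s * c⁻¹ * s⁻¹ ∈ centralizer (V : Set G)) ∧ (∀ j ∈ J, s * j * s⁻¹ * j⁻¹ = 1) ∧
      (∀ j ∈ J, ∃ v ∈ V, s * v * s⁻¹ * v⁻¹ = j) ∧ (∀ v ∈ V, s * v * s⁻¹ * v⁻¹ ∈ J)
  eight : (centralizer (V : Set G)).relIndex (normalizer (V : Set G) ⊓ centralizer (Z : Set G)) = 8
  nab : ∃ a ∈ normalizer (V : Set G) ⊓ centralizer (Z : Set G),
    ∃ b ∈ normalizer (V : Set G) ⊓ centralizer (Z : Set G), a * b * a⁻¹ * b⁻¹ ∉ centralizer (V : Set G)

variable [Finite G] {q : ℕ} {Z J V D S : Subgroup G}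

/-- **Part II, `V ≤ O₂(C_G(Z))`, is impossible** -/
theorem false (hc : OddCyc G) (hs : CompStart.SecZero G) (h : Sit q Z J V D)
    (pd : Pd (centralizer (Z : Set G)) V S) (hX : centralizer (Z : Set G) ≠ ⊤)
    (nle : ¬ centralizer (Z : Set G) ≤ normalizer (V : Set G))
    (mx : ∀ R : Subgroup G, V ≤ R → (∀ x ∈ R, x * x = 1) → normalizer (V : Set G) ≤ normalizer (R : Set G) →
      normalizer (R : Set G) ≤ normalizer (V : Set G))
    (two : ∀ c ∈ normalizer (V : Set G) ⊓ centralizer (Z : Set G), ∃ k : ℕ, c ^ 2 ^ k ∈ centralizer (V : Set G))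
    (ex : q = 4 → Ex4 Z J V) : False := by
  obtain ⟨P, hP, hlt, hmin⟩ := Pd.exists_min nle
  have p : Sit.Pp Z V P := ⟨hlt.le, hP⟩
  have hPV : ¬ P ≤ normalizer (V : Set G) := fun h1 => hlt.not_ge (le_inf h1 hP)
  have hco : Co P V = normalizer (V : Set G) ⊓ centralizer (Z : Set G) := Pd.co_eq hP hlt.le
  have hab : ∀ x ∈ P, Cm V (cj x V) := by
    intro x hx
    have h1 := h.cmP p P.one_mem hx
    rwa [cj_one] at h1
  -- the offender
  obtain ⟨g, c, x, hx, hq⟩ := h.exists_cr p fun R hVR hR2 h1 h2 => hPV (h2.trans (mx R hVR hR2 h1))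
  set A := cj g (cj x V) with hA
  have hAV : A ≤ centralizer (V : Set G) := h.line_le c hx
  have hAP : A ≤ P := hAV.trans (h.cent_le p)
  have hA2 : ∀ a ∈ A, a * a = 1 := by
    intro a ha
    rw [hA, ← cj_mul] at ha
    exact h.sq_cj ha
  have hA4 : 4 ≤ (Kc P V).relIndex A := h.q4.trans hq
  -- the module
  obtain ⟨l, hl⟩ := LamMod.exists_lam h.sq hab hPV fun c hc hcV => two c ⟨hcV, hP hc⟩
  have hthree := pd.three_dvd hc hs hX hP hlt hmin (h.cm_WW p) (h.W_sq p) hl.lV hl.lY hl.fix hAP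
    (hAV.trans (centralizer_le_normalizer _)) hA2 (h.line_quad p c hx) hA4
  have hpsl := PslOf.outPsl pd hc hs hX hP hlt hmin (h.cm_WW p) (h.W_sq p) hl.lV hl.lY hl.fix hAP
    (hAV.trans (centralizer_le_normalizer _)) hA2 (h.line_quad p c hx) hA4
  -- `q = 4`
  have hq4 : q = 4 := le_antisymm (hq.trans (hthree.2 A hAP hA2)) h.q4
  subst hq4
  have e := ex rfl
  have hle := h.relIndex_le p c hx hthree.2
  have hT : IsSyl2 P S := isSyl2_of_le pd.syl ((le_inf pd.TV pd.syl.le).trans hlt.le) hP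
  have hJ : JGlue.JIn Z J V P := by
    refine
      { ZJ := h.ZJ
        JV := h.JV
        VP := ?_
        sq := h.sq
        PZ := hP
        lt := by rw [hco]; exact hlt
        min := by rw [hco]; exact hmin
        JZ := by rw [hco]; exact e.JZ
        PJ := fun h1 => hPV (h1.trans h.nJ)
        ab := hab
        small := by rw [hco]; exact e.small
        center := by rw [hco]; exact e.center
        eight := by rw [hco]; exact e.eight
        nab := by rw [hco]; exact e.nab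
        crit := ⟨A, hAP, hA2, hA4, hle.1, hle.2⟩ }
    intro v hv
    refine h.cent_le p ?_
    rw [mem_centralizer_iff]
    intro w hw
    exact comm_of_sq h.sq hw hv
  refine hJ.false' ?_ (by rw [hco]; exact pd.three) hpsl
  have h1 := odd_index (V := V) hT pd.TV
  have h2 : (Hz P V).index = (Co P V).relIndex P := by
    rw [← index_comap_of_surjective _ (QuotientGroup.mk'_surjective (Kp P V)), comap_Hz]
    rfl
  rw [h2] at h1
  intro h3
  exact (Nat.not_even_iff_odd.2 h1) (even_iff_two_dvd.2 h3)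

end Cfsg.Agent.OddCyclic.Eq.SecFourEnd
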