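import Cfsg.Agent.OddCyclic.Eq.CrdTwo
import Cfsg.Agent.OddCyclic.Eq.LemU
import Cfsg.Agent.OddCyclic.Eq.Fld
import Cfsg.Agent.OddCyclic.Eq.SecFourEnd
import Cfsg.Agent.OddCyclic.Eq.AbJ

/-!
# (E_q) of `T_cyc`, Part II: the producer of `SecFour.Sit` and `SecFourEnd.Ex4`

`h : EqOne S L V q`, `hJ : C_G(Z_J) ≤ N_G(V)`.
* `mu` (1.6): `V`, `V^g` mutually normalising commute;
* `nJ`: `N_G(Z_J) ≤ N_G(V)`;
* `three`: `3 ∣ q - 1`;
* `sit`: `SecFour.Sit q (zc S) (zc (bau S)) V (o2 (centralizer (zc S)))`;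
* `ex4`: `SecFourEnd.Ex4 (zc S) (zc (bau S)) V` if `q = 4`.
-/

set_option autoImplicit false
set_option linter.unusedSectionVars false

namespace Cfsg.Agent.OddCyclic.Eq.SitII

open Subgroup Cfsg Cfsg.Agent.ZN Cfsg.Agent.OddCyclic.CompStandard Cfsg.Agent.OddCyclic.RedFiveThree
open Cfsg.Agent.OddCyclic.Eq.Crd Cfsg.Agent.OddCyclic.Eq.Base
open Cfsg.Agent.OddCyclic.RedU (EqOne)
open Matrix (SpecialLinearGroup)

universe u

variable {G : Type u} [Group G]

/-! ### (1.6) -/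

section mu

variable [Finite G] {F : Type} [Field F] [Finite F] [CharP F 2] {V J : Subgroup G} {e : F → F → G}

/-- **(1.6)** -/
theorem mu (h : Sys V J e) (hsq : ∀ v ∈ V, v * v = 1) (h4 : 4 ≤ Nat.card F)
    (hnJ : normalizer (J : Set G) ≤ normalizer (V : Set G)) (g : G) (hVg : V ≤ normalizer (cj g V : Set G))
    (hgV : cj g V ≤ normalizer (V : Set G)) : Cm V (cj g V) := by
  by_contra hcon
  have hc : ¬ cj g V ≤ centralizer (V : Set G) := fun h1 => hcon (cm_iff.2 h1).symm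
  have hgV' : cj g⁻¹ V ≤ normalizer (V : Set G) := by
    have h1 := cj_mono (g := g⁻¹) hVg
    rwa [cj_normalizer, cj_inv_cj] at h1
  have hVg' : V ≤ normalizer (cj g⁻¹ V : Set G) := by
    have h1 := cj_mono (g := g⁻¹) hgV
    rwa [cj_normalizer, cj_inv_cj] at h1
  have hsqc : ∀ k : G, ∀ a ∈ cj k V, a * a = 1 := by
    intro k a ha
    have h1 := hsq _ (mem_cj.1 ha)
    calc a * a = k * ((k⁻¹ * a * k) * (k⁻¹ * a * k)) * k⁻¹ := by group
      _ = 1 := by rw [h1]; group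
  have hquad : ∀ k : G, V ≤ normalizer (cj k V : Set G) → ∀ a ∈ cj k V, ∀ b ∈ cj k V, ∀ v ∈ V,
      (a * v * a⁻¹ * v⁻¹) * b = b * (a * v * a⁻¹ * v⁻¹) := by
    intro k hk a ha b hb v hv
    refine comm_of_sq (hsqc k) ?_ hb
    have h1 : v * a⁻¹ * v⁻¹ ∈ cj k V := (mem_normalizer_iff.1 (hk hv) _).1 (inv_mem ha)
    have h2 : a * v * a⁻¹ * v⁻¹ = a * (v * a⁻¹ * v⁻¹) := by group
    rw [h2]
    exact mul_mem ha h1
  have hcV := h.cardV
  -- the index of `C_{V^g}(V)`
  have hn : ∀ k : G, cj k V ≤ normalizer (V : Set G) → ¬ cj k V ≤ centralizer (V : Set G) →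
      Nat.card F ≤ (centralizer (V : Set G)).relIndex (cj k⁻¹ V) := by
    intro k hk1 hk2
    obtain ⟨a, ha, haV⟩ := SetLike.not_le_iff_exists.1 hk2
    have h1 := h.idx (hk1 ha) haV
    have h2 : (centralizer (V : Set G)).relIndex (cj k⁻¹ V) = (centralizer (cj k V : Set G)).relIndex V := by
      have h3 : (cj k (centralizer (V : Set G))).relIndex (cj k (cj k⁻¹ V)) =
          (centralizer (V : Set G)).relIndex (cj k⁻¹ V) :=
        relIndex_map_map_of_injective _ _ (MulAut.conj k).injective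
      rw [cj_cj_inv, cj_centralizer] at h3
      exact h3.symm
    have h3 : Nat.card (V ⊓ centralizer (cj k V : Set G) : Subgroup G) ≤ Nat.card F := by
      refine le_trans (Nat.card_le_card_of_injective _ (Subgroup.inclusion_injective (inf_le_inf_left V ?_))) h1
      exact centralizer_le (Set.singleton_subset_iff.2 ha)
    have h5 := SecFour.relIndex_mul_card (K := centralizer (cj k V : Set G)) (A := V)
    rw [hcV] at h5
    rw [h2]
    have h6 : 0 < Nat.card (V ⊓ centralizer (cj k V : Set G) : Subgroup G) := Nat.card_pos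
    by_contra hlt
    push Not at hlt
    have : (centralizer (cj k V : Set G)).relIndex V * Nat.card (V ⊓ centralizer (cj k V : Set G) : Subgroup G) <
        Nat.card F * Nat.card F := Nat.mul_lt_mul_of_lt_of_le hlt h3 (by omega)
    omega
  have hn1 := hn g hgV hc
  have hc' : ¬ cj g⁻¹ V ≤ centralizer (V : Set G) := by
    intro h1
    rw [relIndex_eq_one.2 h1] at hn1
    omega
  have hn2 := hn g⁻¹ hgV' hc'
  rw [inv_inv] at hn2
  rcases h.quad hgV (hsqc g) (hquad g hVg) with h1 | ⟨-, m, hm, ⟨a, ha, hax⟩, -⟩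
  · omega
  rcases h.quad hgV' (hsqc g⁻¹) (hquad g⁻¹ hVg') with h1 | ⟨-, m', hm', -, hall⟩
  · omega
  have hJ : cj m J ≤ cj (g * m') J := by
    intro y hy
    obtain ⟨v, hv, he⟩ := hax _ (mem_cj.1 hy)
    have he' : m * (m⁻¹ * y * m) * m⁻¹ = y := by group
    rw [he'] at he
    -- `a = g a' g⁻¹`, `v = g v' g⁻¹`
    have hv' : g⁻¹ * v * g ∈ cj g⁻¹ V := by
      rw [mem_cj]
      have : g⁻¹⁻¹ * (g⁻¹ * v * g) * g⁻¹ = v := by group
      rwa [this]
    obtain ⟨x, hx, hxe⟩ := hall _ hv' _ (mem_cj.1 ha)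
    rw [mem_cj]
    have h5 : (g * m')⁻¹ * y * (g * m') = x⁻¹ := by
      have h6 : x = m'⁻¹ * (g⁻¹ * v * g * (g⁻¹ * a * g) * (g⁻¹ * v * g)⁻¹ * (g⁻¹ * a * g)⁻¹) * m' := by
        rw [hxe]; group
      rw [h6, ← he]
      group
    rw [h5]
    exact inv_mem hx
  have hJ' : cj m J = cj (g * m') J := eq_of_le_of_card_ge hJ (by rw [card_cj, card_cj])
  have h5 : m⁻¹ * (g * m') ∈ normalizer (J : Set G) := by
    rw [← cj_eq_iff, cj_mul, ← hJ', cj_inv_cj]
  have h6 : g ∈ normalizer (V : Set G) := by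
    have h7 := mul_mem (mul_mem hm (hnJ h5)) (inv_mem hm')
    have h8 : m * (m⁻¹ * (g * m')) * m'⁻¹ = g := by group
    rwa [h8] at h7
  apply hcon
  rw [cj_eq_iff.2 h6]
  intro x hx y hy
  exact comm_of_sq hsq hx hy

end mu

/-! ### from `EqOne` -/

variable [Finite G] {S : Sylow 2 G} {L V : Subgroup G} {q : ℕ}

theorem sys (h : EqOne S L V q) {F : Type} [Field F] [Fintype F] [CharP F 2] {e : F → F → G}
    {φ : L →* SpecialLinearGroup (Fin 2) F} (c : Co (bau (S : Subgroup G)) L V e φ) :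
    Sys V (zc (bau (S : Subgroup G))) e where
  add := c.add
  inj := c.inj
  mem := c.mem
  memJ _ := mem_zc h c
  semi m hm := semi h c hm
  sl a b c' d hd := by
    have hdet : (!![a, b; c', d] : Matrix (Fin 2) (Fin 2) F).det = 1 := by
      rw [Matrix.det_fin_two_of]
      have two : (2 : F) = 0 := CharTwo.two_eq_zero
      linear_combination hd - b * c' * two
    obtain ⟨l, hl⟩ := c.surj ⟨_, hdet⟩
    refine ⟨l, L_V c l.2, fun x y => ?_⟩
    rw [c.act, hl]
    rfl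

/-- `S` does not centralise `Z_J` -/
theorem S_not_le (h : EqOne S L V q) (hJ : centralizer (zc (bau (S : Subgroup G)) : Set G) ≤ normalizer (V : Set G)) :
    ¬ (S : Subgroup G) ≤ centralizer (zc (bau (S : Subgroup G)) : Set G) := by
  intro h1
  apply h.notle
  have h2 : zc (bau (S : Subgroup G)) ≤ zc (S : Subgroup G) := by
    intro x hx
    rw [ChoiceBase.mem_zc] at hx ⊢
    refine ⟨ChoiceBase.bau_le _ hx.1, hx.2.1, fun s hs => ?_⟩
    exact (mem_centralizer_iff.1 (h1 hs) x (ChoiceBase.mem_zc.2 hx)).symm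
  exact (centralizer_le h2).trans hJ

/-- `3 ∣ q - 1` -/
theorem three (h : EqOne S L V q) (hJ : centralizer (zc (bau (S : Subgroup G)) : Set G) ≤ normalizer (V : Set G)) :
    3 ∣ q - 1 := by
  obtain ⟨r, hr⟩ := fld h (S_not_le h hJ)
  obtain ⟨n, hn, hq⟩ := LemU.odd_q h
  have h1 : r ∣ 2 ^ n := by rw [← hq, hr.rr]; exact dvd_mul_left _ _
  have h3 : ¬ 3 ∣ r := by
    intro h2
    have h5 := Nat.prime_three.dvd_of_dvd_pow (h2.trans h1)
    omega
  have h5 : r % 3 = 1 ∨ r % 3 = 2 := by omega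
  have h6 : q % 3 = 1 := by
    rw [hr.rr, Nat.mul_mod]
    rcases h5 with h5 | h5 <;> rw [h5]
  have h7 := h.blk.four
  omega

/-- `N_G(Z_J) ≤ N_G(V)` -/
theorem nJ (h : EqOne S L V q) (hJ : centralizer (zc (bau (S : Subgroup G)) : Set G) ≤ normalizer (V : Set G)) :
    normalizer (zc (bau (S : Subgroup G)) : Set G) ≤ normalizer (V : Set G) := by
  intro g hg
  rw [ChoiceBase.zc_bau] at hg hJ
  have h1 : zj (S : Subgroup G) ≤ ChoiceBase.cj g (zj (S : Subgroup G)) := (cj_eq_iff.2 hg).ge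
  obtain ⟨c, hc, h2, -⟩ := LemU.orbit S le_rfl h1
  have h3 : c⁻¹ * g ∈ normalizer (jj (S : Subgroup G) : Set G) := by
    rw [← cj_eq_iff, cj_mul]
    exact (congrArg (cj c⁻¹) h2).symm.trans (cj_inv_cj c _)
  have h5 := sup_le hJ h.nb_V (RedE.nJ_le S h3)
  have h6 := mul_mem (hJ hc) h5
  rwa [mul_inv_cancel_left] at h6

/-- the coordinates of Part II -/
theorem zsys (h : EqOne S L V q) {F : Type} [Field F] [Fintype F] [CharP F 2] {e : F → F → G}
    {φ : L →* SpecialLinearGroup (Fin 2) F} (c : Co (bau (S : Subgroup G)) L V e φ) (hq : Fintype.card F = q)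
    (h1 : e 1 0 ∈ zc (S : Subgroup G)) :
    ZSys (S : Subgroup G) (zc (S : Subgroup G)) V (zc (bau (S : Subgroup G))) e where
  toSys := sys h c
  one := h1
  ZJ := zcS_le h
  SN := h.S_V
  SZ s hs := mem_centralizer_iff.2 fun z hz => ((ChoiceBase.mem_zc.1 hz).2.2 s hs).symm
  memZ g hg hs := ChoiceBase.mem_zc.2 ⟨ChoiceBase.bau_le _ (ChoiceBase.mem_zc.1 hg).1, (ChoiceBase.mem_zc.1 hg).2.1, hs⟩
  up t := by
    obtain ⟨b, hb, hbt⟩ := c.exists_up t
    refine ⟨b, ChoiceBase.bau_le _ hb, fun x y => ?_⟩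
    rw [hbt]
    simp only [RingEquiv.refl_apply, one_mul, zero_mul, zero_add]
  root m hm hmc := by
    obtain ⟨t, ht⟩ := root h c hq hm hmc
    refine ⟨t, fun x y => ?_⟩
    rw [ht]
    simp only [RingEquiv.refl_apply, one_mul, zero_mul, zero_add]
  cent m hm hmc := by
    obtain ⟨s, hs, k, hk, rfl⟩ := cent_zc h c hq hm hmc
    exact ⟨s, hs, by rwa [inv_mul_cancel_left]⟩

/-- the D₈-fields for `q = 4` -/
theorem ex4 (h : EqOne S L V q) (hJ : centralizer (zc (bau (S : Subgroup G)) : Set G) ≤ normalizer (V : Set G))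
    (hq4 : q = 4) : SecFourEnd.Ex4 (zc (S : Subgroup G)) (zc (bau (S : Subgroup G))) V := by
  obtain ⟨z, hz, hz1⟩ := exists_ne_zcS h
  obtain ⟨F, _, _, _, e, φ, hq, c, he⟩ := exists_norm h hz hz1
  have hs := zsys h c hq (by rw [he]; exact hz)
  have h4 : Nat.card F = 4 := by rw [Nat.card_eq_fintype_card, hq, hq4]
  have hSJ := S_not_le h hJ
  exact ⟨hs.JZ h4, hs.small h4 hSJ, hs.center h4 hSJ, hs.eight h4 hSJ, hs.nab h4 hSJ⟩

/-- `|Ω₁Z(S)| = 2` for `q = 4` -/
theorem card_zc (h : EqOne S L V q) (hJ : centralizer (zc (bau (S : Subgroup G)) : Set G) ≤ normalizer (V : Set G))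
    (hq4 : q = 4) : Nat.card (zc (S : Subgroup G)) = 2 := by
  obtain ⟨z, hz, hz1⟩ := exists_ne_zcS h
  obtain ⟨F, _, _, _, e, φ, hq, c, he⟩ := exists_norm h hz hz1
  have hs := zsys h c hq (by rw [he]; exact hz)
  have h4 : Nat.card F = 4 := by rw [Nat.card_eq_fintype_card, hq, hq4]
  exact hs.cardZ h4 (S_not_le h hJ)

/-- the subgroups of `V` above `Ω₁Z(S)` normalised by `C₀`, for `q = 4` -/
theorem four (h : EqOne S L V q) (hJ : centralizer (zc (bau (S : Subgroup G)) : Set G) ≤ normalizer (V : Set G))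
    (hq4 : q = 4) (U : Subgroup G) (hUV : U ≤ V) (hZU : zc (S : Subgroup G) ≤ U)
    (hn : normalizer (V : Set G) ⊓ centralizer (zc (S : Subgroup G) : Set G) ≤ normalizer (U : Set G)) :
    U = zc (S : Subgroup G) ∨ U = zc (bau (S : Subgroup G)) ∨ U = V ∨
      (zc (bau (S : Subgroup G)) ≤ U ∧ Nat.card U = 8) := by
  obtain ⟨z, hz, hz1⟩ := exists_ne_zcS h
  obtain ⟨F, _, _, _, e, φ, hq, c, he⟩ := exists_norm h hz hz1
  have hs := zsys h c hq (by rw [he]; exact hz)
  have h4 : Nat.card F = 4 := by rw [Nat.card_eq_fintype_card, hq, hq4]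
  exact hs.four h4 (S_not_le h hJ) U hUV hZU hn

/-- `N(V) ∩ C(Ω₁Z(S))` normalises `Z_J` -/
theorem CJ (h : EqOne S L V q) : normalizer (V : Set G) ⊓ centralizer (zc (S : Subgroup G) : Set G) ≤
    normalizer (zc (bau (S : Subgroup G)) : Set G) := by
  obtain ⟨z, hz, hz1⟩ := exists_ne_zcS h
  obtain ⟨F, _, _, _, e, φ, hq, c, he⟩ := exists_norm h hz hz1
  exact (zsys h c hq (by rw [he]; exact hz)).CJ

/-- **the data of Part II, `V ≤ O₂(C_G(Z))`** -/
theorem sit_of (h : EqOne S L V q) (hJ : centralizer (zc (bau (S : Subgroup G)) : Set G) ≤ normalizer (V : Set G))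
    (hab : ∀ z ∈ zc (S : Subgroup G), z ≠ 1 → LemU.AbJ S z)
    (hV : V ≤ o2 (centralizer (zc (S : Subgroup G) : Set G))) :
    SecFour.Sit q (zc (S : Subgroup G)) (zc (bau (S : Subgroup G))) V (o2 (centralizer (zc (S : Subgroup G) : Set G))) := by
  obtain ⟨z, hz, hz1⟩ := exists_ne_zcS h
  obtain ⟨F, _, _, _, e, φ, hq, c, he⟩ := exists_norm h hz hz1
  have hs := zsys h c hq (by rw [he]; exact hz)
  have hFq : Nat.card F = q := by rw [Nat.card_eq_fintype_card, hq]
  have hf := three h hJ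
  have hSZ : (S : Subgroup G) ≤ centralizer (zc (S : Subgroup G) : Set G) := hs.SZ
  refine
  { ZJ := zcS_le h
    JV := h.zc_le
    sq := h.sq
    cardJ := h.card_zc
    cardV := by rw [h.card, pow_two]
    q4 := h.blk.four
    tr := ?_
    fus := ?_
    nz := ?_
    nJ := nJ h hJ
    VD := hV
    DM := ?_
    Dn := ?_
    mu := fun g hg1 hg2 => mu hs.toSys h.sq (by rw [hFq]; exact h.blk.four) (nJ h hJ) g hg1 hg2
    u4 := ?_
    idx := ?_
    quad := ?_ }
  · intro v hv hv1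
    obtain ⟨x, y, rfl⟩ := (hs.mem v).1 hv
    obtain ⟨p, r, hpr⟩ : ∃ p r : F, x * r + p * y = 1 := by
      by_cases h4 : x = 0
      · have h5 : y ≠ 0 := by
          rintro rfl
          apply hv1
          rw [h4, hs.zero]
        exact ⟨y⁻¹, 0, by rw [inv_mul_cancel₀ h5, mul_zero, zero_add]⟩
      · exact ⟨0, x⁻¹, by rw [mul_inv_cancel₀ h4, zero_mul, add_zero]⟩
    obtain ⟨n, hn, hsn⟩ := hs.sl x p y r hpr
    refine ⟨n⁻¹, inv_mem hn, ?_⟩
    have h5 : n * e 1 0 * n⁻¹ = e x y := by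
      rw [hsn]; simp
    have h6 : n⁻¹ * e x y * n⁻¹⁻¹ = e 1 0 := by
      rw [← h5]; group
    rw [h6]
    exact hs.one
  · intro u hu hu1 g hg
    have hu' : zpowers u ≤ zj (S : Subgroup G) := by
      rw [zpowers_le, ← ChoiceBase.zc_bau]
      exact zcS_le h hu
    obtain ⟨k, hk, -, h2⟩ := LemU.orbit S (R := zpowers u) (g := g) hu' (by
      rw [zpowers_le]
      have : u ∈ cj g (zj (S : Subgroup G)) := by rw [← ChoiceBase.zc_bau]; exact hg
      exact this)
    refine ⟨k, ?_, ?_⟩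
    · rw [mem_centralizer_singleton_iff]
      exact (mem_centralizer_iff.1 hk u (mem_zpowers u)).symm
    · rw [ChoiceBase.zc_bau]
      exact h2.symm
  · intro u hu hu1
    have huj : u ∈ zj (S : Subgroup G) := by rw [← ChoiceBase.zc_bau]; exact zcS_le h hu
    have hSX : (S : Subgroup G) ≤ centralizer ({u} : Set G) := hSZ.trans (centralizer_le (Set.singleton_subset_iff.2 hu))
    have hzp : centralizer ((zpowers u : Subgroup G) : Set G) = centralizer ({u} : Set G) := by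
      rw [zpowers_eq_closure, centralizer_closure]
    have h2 := (LemU.char2_cent h (U := zpowers u) (by rw [zpowers_le]; exact huj) (by
      rw [Ne, zpowers_eq_bot]; exact hu1)).1
    rw [hzp] at h2
    exact (LemU.le_normalizer_zc h (Or.inr hf) huj hu1 (hab u hu hu1) le_rfl hSX h2).2
  · -- `O₂(C_G(Z)) ≤ S`
    refine le_trans ?_ h.S_V
    exact MinSimple.VModule.o2_le_of_sylow S.isPGroup' (MinSimple.Basic.not_dvd_relIndex S hSZ)
  · exact (MinSimple.DBlkReduce.nc _).trans (ZN.normalizer_le_normalizer_o2 _)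
  · intro a ha
    rw [← hFq]
    refine hs.u4 ?_ ha
    intro R hR hR1 hRn
    rw [ChoiceBase.zc_bau] at hR
    obtain ⟨-, s, hs1, hs2, hs3, hs4⟩ := LemU.lemU' h (Or.inr hf) (N := normalizer (V : Set G)) (by
      rw [← ChoiceBase.zc_bau]; exact nJ h hJ) hR hR1 hRn
    rw [← ChoiceBase.zc_bau] at hs3
    refine ⟨s, h.nb_V hs2, hs1, hs3, ?_⟩
    have := LemU.bau_cent hs4
    rwa [← ChoiceBase.zc_bau] at this
  · intro a ha haV _
    rw [← hFq]
    exact hs.toSys.idx ha haV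
  · intro A hA hA2 hquad
    rw [← hFq]
    rcases hs.toSys.quad hA hA2 hquad with h1 | ⟨h1, m, hm, ⟨a, ha, hax⟩, -⟩
    · exact Or.inl h1
    · refine Or.inr ⟨h1, m, hm, a, ha, fun x hx => ?_⟩
      obtain ⟨v, hv, h2⟩ := hax _ (mem_cj.1 hx)
      refine ⟨v, hv, h2.trans ?_⟩
      group

/-- the stabiliser of a point of `Z_J` is abelian on `Z_J` -/
theorem abJ' (h : EqOne S L V q) {z : G} (hz : z ∈ zc (bau (S : Subgroup G))) (hz1 : z ≠ 1) : LemU.AbJ S z := by
  intro a ha b hb haz hbz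
  have h1 := abJ h hz hz1 (h.nb_V ha) (h.nb_V hb) haz hbz
  rwa [ChoiceBase.zc_bau] at h1

/-- **the data of Part II, `V ≤ O₂(C_G(Z))`** -/
theorem sit (h : EqOne S L V q) (hJ : centralizer (zc (bau (S : Subgroup G)) : Set G) ≤ normalizer (V : Set G))
    (hV : V ≤ o2 (centralizer (zc (S : Subgroup G) : Set G))) :
    SecFour.Sit q (zc (S : Subgroup G)) (zc (bau (S : Subgroup G))) V (o2 (centralizer (zc (S : Subgroup G) : Set G))) :=
  sit_of h hJ (fun _ hz hz1 => abJ' h (zcS_le h hz) hz1) hV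

end Cfsg.Agent.OddCyclic.Eq.SitII
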