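import Cfsg.Agent.OddCyclic.Eq.PartTwoBase
import Cfsg.Agent.OddCyclic.Eq.SitII

/-!
# (E_q) of `T_cyc`, Part II, `V ≤ O₂(C_G(Ω₁Z(S)))`
-/

set_option autoImplicit false

namespace Cfsg.Agent.OddCyclic.Eq

open Subgroup Cfsg Cfsg.Agent.ZN
open Cfsg.Agent.OddCyclic.RedU (EqOne)

universe u

/-- **Part II, `V ≤ O₂(C_G(Z))`** -/
theorem partTwoA {G : Type u} [Group G] [Finite G] {S : Sylow 2 G} {L V : Subgroup G} {q : ℕ} (h : EqOne S L V q)
    (hJ : centralizer (zc (bau (S : Subgroup G)) : Set G) ≤ normalizer (V : Set G))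
    (hV : V ≤ o2 (centralizer (zc (S : Subgroup G) : Set G))) : False :=
  PartTwoBase.of_sit h (SitII.sit h hJ hV) (SitII.ex4 h hJ)

end Cfsg.Agent.OddCyclic.Eq
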