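import Cfsg.Agent.OddCyclic.Eq.PartOneEnd
import Cfsg.Agent.OddCyclic.Eq.PartTwoEnd
import Cfsg.Agent.OddCyclic.Eq.PartThreeEnd

/-!
# (E_q) of `T_cyc` is impossible
-/

set_option autoImplicit false

namespace Cfsg.Agent.OddCyclic.Eq.Main

open Subgroup Cfsg Cfsg.Agent.ZN
open Cfsg.Agent.OddCyclic.RedU (EqOne)

universe u

/-- **(E_q)** -/
theorem false_of {G : Type u} [Group G] [Finite G] {S : Sylow 2 G} {L V : Subgroup G} {q : ℕ} (h : EqOne S L V q) :
    False := by
  by_cases hJ : centralizer (zc (bau (S : Subgroup G)) : Set G) ≤ normalizer (V : Set G)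
  · by_cases hV : V ≤ o2 (centralizer (zc (S : Subgroup G) : Set G))
    · exact Eq.partTwoA h hJ hV
    · exact Eq.partTwoB h hJ hV
  · exact Eq.partOne h hJ

end Cfsg.Agent.OddCyclic.Eq.Main
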