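import Cfsg.Agent.OddCyclic.Eq.Struct
import Cfsg.Agent.OddCyclic.Eq.Free

/-!
# S0342, (E_q): THEOREM P ((2.6) of blueprints/S0342-A2-helper402.md)

`H` as in `Struct.Dat` acts on the elementary abelian 2-group `N`, `lam` a vector fixed by `H0` and not by `H`, `A`, `B`
elementary abelian 2-subgroups of `H` with `|N : C_N(A)| ≤ |B| q`.

* `main`: `4 ≤ |A|`, `q ≤ |A|²`, (`3 ∣ |H|` ⇒ `q ≤ |A|`): `H` is an extension of `PSL₂(p)`, `p ≥ 7`, and `|A| = 4`;
* `outR`: `3 ∤ |H|`, `A ≠ 1`, `q ≤ 4` or `q ≤ |A|²`: case (a), `OutR`.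
-/

set_option autoImplicit false
set_option linter.unusedSectionVars false

namespace Cfsg.Agent.OddCyclic.Eq.ThmP

open Subgroup
open Cfsg.Agent.OddCyclic.Eq.Struct Cfsg.Agent.OddCyclic.T1Module

universe u

variable {H : Type u} [Group H] [Finite H] {Γ : Subgroup (MulAut H)} {H0 T : Subgroup H}

section cs

variable {N : Type*} [CommGroup N] [Finite N] (ρ : H →* MulAut N)

theorem card_CS_conj_le (A : Subgroup H) (g : H) :
    Nat.card (CS ρ A) ≤ Nat.card (CS ρ (A.map (MulAut.conj g).toMonoidHom)) := by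
  refine Nat.card_le_card_of_injective (fun v => ⟨ρ g v, ?_⟩) ?_
  · rintro _ ⟨a, ha, rfl⟩
    show ρ (g * a * g⁻¹) (ρ g v) = ρ g v
    rw [← MulAut.mul_apply, ← map_mul, inv_mul_cancel_right, map_mul, MulAut.mul_apply]
    have h : ρ a (v : N) = v := v.2 a ha
    rw [h]
  · intro v w h
    exact Subtype.ext ((ρ g).injective (congrArg Subtype.val h))

theorem index_CS_conj (A : Subgroup H) (g : H) :
    (CS ρ (A.map (MulAut.conj g).toMonoidHom)).index ≤ (CS ρ A).index := by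
  have h1 := card_CS_conj_le ρ A g
  have h2 := (CS ρ A).card_mul_index
  have h3 := (CS ρ (A.map (MulAut.conj g).toMonoidHom)).card_mul_index
  by_contra hcon
  push Not at hcon
  have h4 : Nat.card (CS ρ A) * (CS ρ A).index <
      Nat.card (CS ρ (A.map (MulAut.conj g).toMonoidHom)) * (CS ρ (A.map (MulAut.conj g).toMonoidHom)).index := by
    have h5 : 0 < Nat.card (CS ρ A) := Nat.card_pos
    nlinarith
  rw [h2, h3] at h4
  exact lt_irrefl _ h4

end cs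

/-! ### divisibility by 3 -/

theorem three_dvd_of_equiv {X : Subgroup H} {K : Type*} [Group K] (e : K ≃* X) (h : 3 ∣ Nat.card K) :
    3 ∣ Nat.card H := by
  rw [Nat.card_congr e.toEquiv] at h
  exact h.trans (Subgroup.card_subgroup_dvd_card X)

theorem three_sl (h : OutSl H0 T) : 3 ∣ Nat.card H := by
  obtain ⟨X, -, F, _, _, _, n, -, -, -, ⟨e⟩, -⟩ := h
  obtain ⟨g⟩ := WeakTI.PslTwo.nonempty_equiv (F := F)
  exact three_dvd_of_equiv (g.symm.trans e) (Cfsg.Agent.ThreePrime.OrderThree.three_dvd_card_psl _)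

theorem three_psl (h : OutPsl H) : 3 ∣ Nat.card H := by
  obtain ⟨X, -, -, -, ⟨F, _, _, -, -, ⟨e⟩⟩, -⟩ := h
  exact three_dvd_of_equiv e.symm (Cfsg.Agent.ThreePrime.OrderThree.three_dvd_card_psl _)

section main

variable {N : Type*} [CommGroup N] [Finite N] {ρ : H →* MulAut N}

theorem exists_two_pow {A : Subgroup H} (hA : ∀ a ∈ A, a * a = 1) : ∃ a : ℕ, Nat.card A = 2 ^ a := by
  have : Fact (Nat.Prime 2) := ⟨Nat.prime_two⟩
  have h2 : IsPGroup 2 A := fun a => ⟨1, Subtype.ext (by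
    show (a : H) ^ 2 ^ 1 = 1
    rw [pow_one, pow_two]; exact hA a a.2)⟩
  exact h2.exists_card_eq

theorem two_of_sq {A : Subgroup H} (hA : ∀ a ∈ A, a * a = 1) : IsPGroup 2 A := fun a => ⟨1, Subtype.ext (by
    show (a : H) ^ 2 ^ 1 = 1
    rw [pow_one, pow_two]; exact hA a a.2)⟩

theorem card_conj (A : Subgroup H) (g : H) : Nat.card (A.map (MulAut.conj g).toMonoidHom) = Nat.card A :=
  Nat.card_congr (A.equivMapOfInjective _ (MulAut.conj g).injective).symm.toEquiv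

/-- the lower bound in the cases `SL₂` and `Sz` -/
theorem lower (h : Dat Γ H0 T) (hN : ∀ v : N, v * v = 1) {lam : N} (hfix : ∀ g ∈ H0, ρ g lam = lam)
    (hmov : ∃ g : H, ρ g lam ≠ lam) {X : Subgroup H} (hR : Rk H0 T X) {A : Subgroup H} (hA : ∀ a ∈ A, a * a = 1) :
    Nat.card A ≤ Nat.card T ∧ 2 ^ (Nat.card T - Nat.card T / Nat.card A) ≤ (CS ρ A).index := by
  obtain ⟨g, hg⟩ := h.exists_conj A (two_of_sq hA)
  have h1 : A.map (MulAut.conj g).toMonoidHom ≤ T := by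
    rintro _ ⟨a, ha, rfl⟩
    exact hg a ha
  have h2 := Free.free_index ρ hN h.twoT h.le (fun x hx t ht hxt => by
    by_contra ht1
    have h3 := hR.semi x⁻¹ t ht ht1 (by rw [inv_inv]; exact hxt)
    exact hx (inv_mem_iff.1 h3)) hfix hmov h1
  rw [card_conj] at h2
  refine ⟨?_, h2.trans (index_CS_conj ρ A g)⟩
  rw [← card_conj A g]
  exact Nat.card_mono (Set.toFinite _) h1

theorem kill_sl (h : Dat Γ H0 T) (hN : ∀ v : N, v * v = 1) {lam : N} (hfix : ∀ g ∈ H0, ρ g lam = lam)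
    (hmov : ∃ g : H, ρ g lam ≠ lam) (hR : OutSl H0 T) {A B : Subgroup H} (hA : ∀ a ∈ A, a * a = 1)
    (hB : ∀ b ∈ B, b * b = 1) {q : ℕ} (hi : (CS ρ A).index ≤ Nat.card B * q) (h4 : 4 ≤ Nat.card A)
    (hq : q ≤ Nat.card A) : False := by
  obtain ⟨X, hR, F, _, _, _, e, -, he, -, -, -, hT⟩ := hR
  obtain ⟨h1, h2⟩ := lower h hN hfix hmov hR hA
  obtain ⟨h3, -⟩ := lower h hN hfix hmov hR hB
  obtain ⟨a, ha⟩ := exists_two_pow hA
  have ha2 : 2 ≤ a := by
    by_contra hcon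
    have : 2 ^ a ≤ 2 ^ 1 := Nat.pow_le_pow_right (by norm_num) (by omega)
    omega
  rw [hT] at h1 h2 h3
  rw [ha] at h1 h2 hq
  have hae : a ≤ e := (Nat.pow_le_pow_iff_right (by norm_num)).1 h1
  have h5 : 2 ^ (2 ^ e - 2 ^ (e - a)) ≤ 2 ^ (e + a) := by
    rw [Nat.pow_div hae (by norm_num)] at h2
    refine h2.trans (hi.trans ?_)
    rw [pow_add]
    exact Nat.mul_le_mul h3 hq
  exact Free.num_sl he ha2 hae le_rfl ((Nat.pow_le_pow_iff_right (by norm_num)).1 h5)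

theorem kill_sz (h : Dat Γ H0 T) (hN : ∀ v : N, v * v = 1) {lam : N} (hfix : ∀ g ∈ H0, ρ g lam = lam)
    (hmov : ∃ g : H, ρ g lam ≠ lam) (hR : OutSz H0 T) {A B : Subgroup H} (hA : ∀ a ∈ A, a * a = 1)
    (hB : ∀ b ∈ B, b * b = 1) {q : ℕ} (hi : (CS ρ A).index ≤ Nat.card B * q) (hA1 : A ≠ ⊥)
    (hq : q ≤ 4 ∨ q ≤ Nat.card A ^ 2) : False := by
  obtain ⟨X, hR, -, e, he, hT, hmax⟩ := hR
  obtain ⟨h1, h2⟩ := lower h hN hfix hmov hR hA
  obtain ⟨a, ha⟩ := exists_two_pow hA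
  have hle : ∀ C : Subgroup H, (∀ c ∈ C, c * c = 1) → Nat.card C ≤ 2 ^ e := by
    intro C hC
    obtain ⟨g, hg⟩ := h.exists_conj C (two_of_sq hC)
    rw [← card_conj C g]
    refine hmax _ ?_ ?_
    · rintro _ ⟨c, hc, rfl⟩
      exact hg c hc
    · rintro _ ⟨c, hc, rfl⟩
      show g * c * g⁻¹ * (g * c * g⁻¹) = 1
      have : g * c * g⁻¹ * (g * c * g⁻¹) = g * (c * c) * g⁻¹ := by group
      rw [this, hC c hc]; group
  have ha1 : 1 ≤ a := by
    by_contra hcon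
    have h0 : a = 0 := by omega
    rw [h0, pow_zero] at ha
    exact hA1 (Subgroup.card_eq_one.1 ha)
  have hae : a ≤ e := by
    have := hle A hA
    rw [ha] at this
    exact (Nat.pow_le_pow_iff_right (by norm_num)).1 this
  rw [hT, ha] at h2
  rw [Nat.pow_div (by omega) (by norm_num)] at h2
  rw [ha] at hq
  rcases hq with hq | hq
  · refine Free.num_sz he ha1 hae (f := 2) (Or.inr le_rfl) ((Nat.pow_le_pow_iff_right (by norm_num)).1
      (h2.trans (hi.trans ?_)) : 2 ^ (2 * e) - 2 ^ (2 * e - a) ≤ e + 2)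
    rw [pow_add]
    exact Nat.mul_le_mul (hle B hB) (by norm_num; exact hq)
  · refine Free.num_sz he ha1 hae (f := 2 * a) (Or.inl le_rfl) ((Nat.pow_le_pow_iff_right (by norm_num)).1
      (h2.trans (hi.trans ?_)) : 2 ^ (2 * e) - 2 ^ (2 * e - a) ≤ e + 2 * a)
    rw [pow_add]
    refine Nat.mul_le_mul (hle B hB) (hq.trans (le_of_eq ?_))
    rw [← pow_mul, mul_comm]

/-- **THEOREM P** -/
theorem main (h : Dat Γ H0 T) (hN : ∀ v : N, v * v = 1) {lam : N} (hfix : ∀ g ∈ H0, ρ g lam = lam)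
    (hmov : ∃ g : H, ρ g lam ≠ lam) {A B : Subgroup H} (hA : ∀ a ∈ A, a * a = 1)
    (hB : ∀ b ∈ B, b * b = 1) {q : ℕ} (hi : (CS ρ A).index ≤ Nat.card B * q) (h4 : 4 ≤ Nat.card A)
    (hq : q ≤ Nat.card A ^ 2) (hq3 : 3 ∣ Nat.card H → q ≤ Nat.card A) : OutPsl H ∧ Nat.card A = 4 := by
  rcases cases h with h1 | h1 | h1 | h1
  · have := h1.card_le h.odd A hA
    omega
  · exact (kill_sl h hN hfix hmov h1 hA hB hi h4 (hq3 (three_sl h1))).elim
  · refine (kill_sz h hN hfix hmov h1 hA hB hi ?_ (Or.inr hq)).elim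
    rintro rfl
    rw [Subgroup.card_bot] at h4
    omega
  · refine ⟨h1, le_antisymm ?_ h4⟩
    obtain ⟨X, -, -, -, -, h5⟩ := h1
    exact h5 A hA

/-- **THEOREM P** for `3'`-groups -/
theorem outR (h : Dat Γ H0 T) (hN : ∀ v : N, v * v = 1) {lam : N} (hfix : ∀ g ∈ H0, ρ g lam = lam)
    (hmov : ∃ g : H, ρ g lam ≠ lam) {A B : Subgroup H} (hA : ∀ a ∈ A, a * a = 1)
    (hB : ∀ b ∈ B, b * b = 1) {q : ℕ} (hi : (CS ρ A).index ≤ Nat.card B * q) (hA1 : A ≠ ⊥)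
    (hq : q ≤ 4 ∨ q ≤ Nat.card A ^ 2) (h3 : ¬ 3 ∣ Nat.card H) : OutR H0 := by
  rcases cases h with h1 | h1 | h1 | h1
  · exact h1
  · exact absurd (three_sl h1) h3
  · exact (kill_sz h hN hfix hmov h1 hA hB hi hA1 hq).elim
  · exact absurd (three_psl h1) h3

end main

end Cfsg.Agent.OddCyclic.Eq.ThmP
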