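import Cfsg.Agent.OddCyclic.Eq.LineT
import Cfsg.Agent.OddCyclic.Eq.SecQ
import Cfsg.Agent.OddCyclic.Eq.ThmP
import Cfsg.Agent.OddCyclic.CaseABase
import Cfsg.Agent.OddCyclic.FFSec

/-!
# (E_q) of `T_cyc`, Part I, `S > B`: `C_G(U)` is a `3'`-group, `|U ∩ U^g| ≤ t`, `t² ≤ q`

`PtT q t U V B`: the data.  `Mn U V P`: `P` minimal among the `M_p`-invariant subgroups with `C₀ < P ≤ C_G(U)`.

* `outR` : `P/K` has a characteristic subgroup of prime order with cyclic complement `C₀/K`;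
* `PtT.false` : contradiction if `4 t ≤ q`.
-/

set_option autoImplicit false
set_option linter.unusedSectionVars false

namespace Cfsg.Agent.OddCyclic.Eq.PartI

open Subgroup Cfsg.Agent.OddCyclic.CompStandard Cfsg.Agent.OddCyclic.RedFiveThree Cfsg.Agent.OddCyclic.CaseABase
open Cfsg.Agent.OddCyclic.Eq.Line Cfsg.Agent.OddCyclic.Eq.LineT Cfsg.Agent.OddCyclic.Eq.SecQ
open Cfsg.Agent.OddCyclic.Eq.Struct Cfsg.Agent.OddCyclic.T1Module
open Cfsg.Agent.LieExceptional.CITDefs (IsSyl2)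
open Cfsg.Agent.OddCyclic.T1Defs (OddCyc)

universe u

variable {G : Type u} [Group G]

/-- `C₀ = N(V) ⊓ C(U)` -/
abbrev Co (U V : Subgroup G) : Subgroup G := normalizer (V : Set G) ⊓ centralizer (U : Set G)

/-- `M_p = N(V) ⊓ N(U)` -/
abbrev Mp (U V : Subgroup G) : Subgroup G := normalizer (V : Set G) ⊓ normalizer (U : Set G)

/-- the data of Part I, `S > B` -/
structure PtT (q t : ℕ) (U V B : Subgroup G) : Prop where
  q4 : 4 ≤ q
  tt : t * t ≤ q
  tq : t < q
  UV : U ≤ V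
  sq : ∀ v ∈ V, v * v = 1
  cardU : Nat.card U = q
  cardV : Nat.card V = q * q
  act : ∀ c ∈ normalizer (V : Set G), c ∈ centralizer (U : Set G) → ∀ v ∈ V, c * v * c⁻¹ * v⁻¹ ∈ U
  free : ∀ c ∈ normalizer (V : Set G), c ∈ centralizer (U : Set G) → ∀ v ∈ V, v ∉ U → c * v = v * c →
    c ∈ centralizer (V : Set G)
  ti : ∀ g : G, cj g U ≠ U → Nat.card (U ⊓ cj g U : Subgroup G) ≤ t
  cov : ∀ v ∈ V, ∃ m ∈ normalizer (V : Set G), v ∈ cj m U
  ab : ∀ x ∈ centralizer (U : Set G), Cm V (cj x V)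
  qb : ∀ E : Subgroup G, E ≤ normalizer (V : Set G) → (∀ e ∈ E, e * e = 1) →
    (centralizer (V : Set G)).relIndex E ≤ q
  BV : B ≤ normalizer (V : Set G)
  syl : IsSyl2 (centralizer (U : Set G)) B
  NB : normalizer (B : Set G) ≤ normalizer (V : Set G)
  three : ¬ 3 ∣ Nat.card (centralizer (U : Set G))
  nle : ¬ centralizer (U : Set G) ≤ normalizer (V : Set G)
  mx : ∀ R : Subgroup G, V ≤ R → (∀ x ∈ R, x * x = 1) → normalizer (V : Set G) ≤ normalizer (R : Set G) →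
    normalizer (R : Set G) ≤ normalizer (V : Set G)

/-- `P` is minimal -/
structure Mn (U V P : Subgroup G) : Prop where
  PU : P ≤ centralizer (U : Set G)
  lt : Co U V < P
  MP : Mp U V ≤ normalizer (P : Set G)
  min : ∀ Q : Subgroup G, Co U V < Q → Q ≤ P → Mp U V ≤ normalizer (Q : Set G) → Q = P

variable [Finite G] {q t : ℕ} {U V B P : Subgroup G}

theorem Co_le_Mp : Co U V ≤ Mp U V := inf_le_inf_left _ (centralizer_le_normalizer _)

theorem norm_cent : normalizer (U : Set G) ≤ normalizer (centralizer (U : Set G) : Set G) := by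
  intro x hx
  rw [← cj_eq_iff, cj_centralizer, cj_eq_iff.mpr hx]

/-- `M_p` normalises `C₀` -/
theorem norm_Co : Mp U V ≤ normalizer (Co U V : Set G) := by
  intro x hx
  rw [← cj_eq_iff, cj_inf, cj_centralizer, cj_eq_iff.mpr hx.2, cj_normalizer, cj_eq_iff.mpr hx.1]

theorem norm_Kc (P V : Subgroup G) : P ≤ normalizer (Kc P V : Set G) := by
  refine le_normalizer_iff.2 ?_
  intro g hg k hk
  rw [mem_Kc] at hk ⊢
  refine ⟨mul_mem (mul_mem hg hk.1) (inv_mem hg), fun x hx => ?_⟩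
  have h1 := hk.2 (g⁻¹ * x) (mul_mem (inv_mem hg) hx)
  rw [cj_mul, cj_mul, ← cj_mul g⁻¹ x, h1, ← cj_mul, mul_inv_cancel_left]

theorem norm_Kc' (hMP : Mp U V ≤ normalizer (P : Set G)) : Mp U V ≤ normalizer (Kc P V : Set G) := by
  refine le_normalizer_iff.2 ?_
  intro m hm k hk
  rw [mem_Kc] at hk ⊢
  refine ⟨forall_of_mem_normalizer (hMP hm) _ hk.1, fun x hx => ?_⟩
  have h1 : m⁻¹ * x * m ∈ P := by
    have := forall_of_mem_normalizer (hMP (inv_mem hm)) _ hx
    rwa [inv_inv] at this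
  have h2 := hk.2 _ h1
  have h3 : cj m V = V := cj_eq_iff.mpr hm.1
  have h4 : cj (m * k * m⁻¹) (cj x V) = cj m (cj k (cj (m⁻¹ * x * m) V)) := by
    have h5 : cj (m⁻¹ * x * m) V = cj (m⁻¹ * x) V := by rw [cj_mul _ m, h3]
    rw [h5, ← cj_mul, ← cj_mul, ← cj_mul]
    congr 1
    group
  rw [h4, h2, ← cj_mul]
  have h5 : m * (m⁻¹ * x * m) = x * m := by group
  rw [h5, cj_mul, h3]

/-- the big group acting on `P/K` -/
abbrev NP (P V : Subgroup G) : Subgroup G := normalizer (P : Set G) ⊓ normalizer (Kc P V : Set G)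

theorem secP (P V : Subgroup G) : Sec (NP P V) P (Kc P V) where
  YW := inf_le_left
  WY := norm_Kc P V
  KW := inf_le_left
  KY := inf_le_right

/-- `H = P/K` -/
abbrev HP (P V : Subgroup G) : Type u := UQ (secP P V)

/-- `H₀ = C₀/K` -/
abbrev H0 (P U V : Subgroup G) : Subgroup (HP P V) := ((Co U V).subgroupOf P).map (mk (secP P V))

/-- the image of a subgroup of `P` -/
abbrev im (P V A : Subgroup G) : Subgroup (HP P V) := (A.subgroupOf P).map (mk (secP P V))

/-- the automorphisms induced by `M_p` -/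
noncomputable abbrev Gm (P U V : Subgroup G) : Subgroup (MulAut (HP P V)) :=
  ((Mp U V).subgroupOf (NP P V)).map (act (secP P V))

theorem Mp_le (hMP : Mp U V ≤ normalizer (P : Set G)) : Mp U V ≤ NP P V := le_inf hMP (norm_Kc' hMP)

theorem Kc_le (hP : P ≤ centralizer (U : Set G)) : Kc P V ≤ Co U V := by
  intro k hk
  rw [mem_Kc] at hk
  refine ⟨?_, hP hk.1⟩
  have := hk.2 1 P.one_mem
  rw [cj_one] at this
  exact cj_eq_iff.mp this

theorem mem_im {A : Subgroup G} (hKA : Kc P V ≤ A) {x : P} : mk (secP P V) x ∈ im P V A ↔ (x : G) ∈ A := by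
  constructor
  · rintro ⟨y, hy, hyx⟩
    have h1 := (mk_eq (secP P V)).mp hyx
    have h2 := mul_mem (inv_mem (hKA h1)) (show (y : G) ∈ A from hy)
    have h3 : ((y : G) * (x : G)⁻¹)⁻¹ * y = x := by group
    rwa [h3] at h2
  · intro hx
    exact ⟨x, hx, rfl⟩

theorem mem_H0 (hP : P ≤ centralizer (U : Set G)) {x : P} :
    mk (secP P V) x ∈ H0 P U V ↔ (x : G) ∈ Co U V := mem_im (Kc_le hP)

theorem card_im {A : Subgroup G} (hA : A ≤ P) : Nat.card (im P V A) = (Kc P V).relIndex A := by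
  rw [← relIndex_ker, mk_ker]
  show ((Kc P V).subgroupOf P).relIndex (A.subgroupOf P) = _
  rw [← relIndex_subgroupOf hA]

theorem im_sq {A : Subgroup G} (hA : ∀ a ∈ A, a * a = 1) : ∀ a ∈ im P V A, a * a = 1 := by
  rintro _ ⟨a, ha, rfl⟩
  rw [← map_mul]
  have : a * a = 1 := Subtype.ext (hA a ha)
  rw [this, map_one]

theorem inv_H0 (m : Mn U V P) : Inv (Gm P U V) (H0 P U V) := by
  rintro _ ⟨c, hc, rfl⟩ _ ⟨x, hx, rfl⟩
  rw [act_mk, mem_H0 m.PU]
  rw [cjW_coe]
  exact forall_of_mem_normalizer (norm_Co (show (c : G) ∈ Mp U V from hc)) _ hx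

theorem ne_H0 (m : Mn U V P) : H0 P U V ≠ ⊤ := by
  intro h1
  apply m.lt.not_ge
  intro x hx
  have : mk (secP P V) ⟨x, hx⟩ ∈ H0 P U V := by rw [h1]; exact mem_top _
  exact (mem_H0 m.PU).mp this

theorem max_H0 (m : Mn U V P) (N : Subgroup (HP P V)) (hN : Inv (Gm P U V) N) (hle : H0 P U V ≤ N) :
    N = H0 P U V ∨ N = ⊤ := by
  set Q : Subgroup G := (N.comap (mk (secP P V))).map P.subtype with hQ
  have hQP : Q ≤ P := map_subtype_le _
  have hQm : ∀ x : P, (x : G) ∈ Q ↔ mk (secP P V) x ∈ N := by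
    intro x
    constructor
    · rintro ⟨y, hy, hyx⟩
      have h1 : y = x := Subtype.ext hyx
      rw [← h1]
      exact hy
    · intro hx
      exact ⟨x, hx, rfl⟩
  have hCQ : Co U V ≤ Q := by
    intro x hx
    rw [hQm ⟨x, m.lt.le hx⟩]
    exact hle ((mem_H0 m.PU).mpr hx)
  by_cases hlt : Q ≤ Co U V
  · left
    refine le_antisymm ?_ hle
    intro y hy
    obtain ⟨x, rfl⟩ := mk_surj (secP P V) y
    exact (mem_H0 m.PU).mpr (hlt ((hQm x).mpr hy))
  · right
    have h2 := m.min Q (lt_of_le_not_ge hCQ hlt) hQP (by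
      refine le_normalizer_iff.2 ?_
      intro c hc x hx
      have hxP := hQP hx
      have hcP : c * x * c⁻¹ ∈ P := forall_of_mem_normalizer (m.MP hc) _ hxP
      rw [hQm ⟨c * x * c⁻¹, hcP⟩]
      have h3 := hN (act (secP P V) ⟨c, Mp_le m.MP hc⟩) ⟨⟨c, Mp_le m.MP hc⟩, hc, rfl⟩ _
        ((hQm ⟨x, hxP⟩).mp hx)
      rw [act_mk] at h3
      exact h3)
    rw [eq_top_iff]
    intro y _
    obtain ⟨x, rfl⟩ := mk_surj (secP P V) y
    rw [← hQm, h2]
    exact x.2

theorem core_H0 (m : Mn U V P) (N : Subgroup (HP P V)) (hN : N.Normal) (hle : N ≤ H0 P U V) : N = ⊥ := by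
  rw [eq_bot_iff]
  intro y hy
  obtain ⟨k, rfl⟩ := mk_surj (secP P V) y
  rw [mem_bot, SecQ.mk_eq_one, mem_Kc]
  refine ⟨k.2, fun x hx => ?_⟩
  have h1 : mk (secP P V) ((⟨x, hx⟩ : P)⁻¹ * k * ⟨x, hx⟩) ∈ N := by
    have := hN.conj_mem _ hy (mk (secP P V) (⟨x, hx⟩ : P)⁻¹)
    simpa using this
  have h2 := ((mem_H0 m.PU).mp (hle h1)).1
  have h3 : cj (x⁻¹ * k * x) V = V := cj_eq_iff.mpr h2
  have h4 := congrArg (cj x) h3
  rwa [← cj_mul, mul_assoc, mul_inv_cancel_left, cj_mul] at h4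

/-- `IsSyl2` and `Sylow 2` -/
def toSyl {H : Type*} [Group H] {S : Subgroup H} (hS : IsSyl2 (⊤ : Subgroup H) S) : Sylow 2 H where
  toSubgroup := S
  isPGroup' := hS.two
  is_maximal' := fun hQ hle => hS.max _ le_top hQ hle

theorem cj_top {H : Type*} [Group H] (g : H) : cj g (⊤ : Subgroup H) = ⊤ :=
  Subgroup.map_top_of_surjective _ (MulAut.conj g).surjective

theorem isSyl2_top {H : Type*} [Group H] [Finite H] (S : Sylow 2 H) : IsSyl2 (⊤ : Subgroup H) S where
  le := le_top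
  two := S.isPGroup'
  max := fun _ _ h2 hle => S.is_maximal' h2 hle

theorem syl_of_le {M P S : Subgroup G} (hS : IsSyl2 M S) (hSP : S ≤ P) (hPM : P ≤ M) : IsSyl2 ⊤ (S.subgroupOf P) := by
  refine ⟨le_top, ?_, ?_⟩
  · have h1 := hS.two
    exact h1.comap_of_injective P.subtype P.subtype_injective
  · intro Y _ hY hle
    have h1 : S ≤ Y.map P.subtype := by
      intro x hx
      exact ⟨⟨x, hSP hx⟩, hle hx, rfl⟩
    have h2 : Y.map P.subtype ≤ M := (map_subtype_le _).trans hPM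
    have h3 := hS.max (Y.map P.subtype) h2 (hY.map _) h1
    ext y
    constructor
    · intro hy
      rw [mem_subgroupOf, ← h3]
      exact ⟨y, hy, rfl⟩
    · intro hy
      exact hle hy

theorem B_le (h : PtT q t U V B) : B ≤ Co U V := le_inf h.BV h.syl.le

theorem syl_B (h : PtT q t U V B) (m : Mn U V P) :
    ∃ T : Sylow 2 (HP P V), (T : Subgroup (HP P V)) = im P V B := by
  have hpf : Fact (Nat.Prime 2) := ⟨Nat.prime_two⟩
  exact ⟨(toSyl (syl_of_le h.syl ((B_le h).trans m.lt.le) m.PU)).mapSurjective (mk_surj (secP P V)), rfl⟩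

theorem norm_im (h : PtT q t U V B) (m : Mn U V P) : normalizer (im P V B : Set (HP P V)) ≤ H0 P U V := by
  have hBC := B_le h
  have hBP : B ≤ P := hBC.trans m.lt.le
  have hsB := syl_of_le h.syl hBP m.PU
  intro n hn
  obtain ⟨p, rfl⟩ := mk_surj (secP P V) n
  rw [mem_H0 m.PU]
  set R : Subgroup P := (im P V B).comap (mk (secP P V)) with hR
  have hBR : B.subgroupOf P ≤ R := le_comap_map _ _
  have hRC : ∀ r ∈ R, (r : G) ∈ Co U V := by
    rintro r ⟨b, hb, hbr⟩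
    rw [← mem_H0 m.PU]
    exact ⟨b, hBC hb, hbr⟩
  have hS : IsSyl2 R (B.subgroupOf P) :=
    ⟨hBR, hsB.two, fun Y _ hY hle => hsB.max Y le_top hY hle⟩
  have hT : IsSyl2 R (cj p (B.subgroupOf P)) := by
    have h1 := isSyl2_cj p hS
    refine ⟨?_, h1.two, fun Y _ hY hle => ?_⟩
    · rintro _ ⟨b, hb, rfl⟩
      show mk (secP P V) (p * b * p⁻¹) ∈ im P V B
      rw [map_mul, map_mul, map_inv]
      exact forall_of_mem_normalizer hn _ ⟨b, hb, rfl⟩
    · have h2 := isSyl2_cj p hsB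
      rw [cj_top] at h2
      exact h2.max Y le_top hY hle
  obtain ⟨r, hr, hrp⟩ := isSyl2_conj hT hS
  have h1 : cj ((r * p : P) : G) B = B := by
    rw [← cj_mul] at hrp
    have h2 := congrArg (Subgroup.map P.subtype) hrp
    rw [subgroupOf_map_subtype, inf_eq_left.mpr hBP] at h2
    have h3 : (cj (r * p) (B.subgroupOf P)).map P.subtype = cj ((r * p : P) : G) B := by
      ext x
      constructor
      · rintro ⟨_, ⟨b, hb, rfl⟩, rfl⟩
        exact ⟨b, hb, rfl⟩
      · rintro ⟨b, hb, rfl⟩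
        exact ⟨(r * p) * ⟨b, hBP hb⟩ * (r * p)⁻¹, ⟨⟨b, hBP hb⟩, hb, rfl⟩, rfl⟩
    rw [h3] at h2
    exact h2.symm
  have h2 : ((r * p : P) : G) ∈ Co U V := ⟨h.NB (cj_eq_iff.mp h1), m.PU (r * p).2⟩
  have h3 : (p : G) = (r : G)⁻¹ * ((r * p : P) : G) := by
    rw [Subgroup.coe_mul, inv_mul_cancel_left]
  rw [h3]
  exact mul_mem (inv_mem (hRC r hr)) h2

theorem three_H0 (h : PtT q t U V B) (m : Mn U V P) : ¬ 3 ∣ Nat.card (HP P V) := by
  intro h1
  apply h.three
  have h2 : Nat.card (HP P V) ∣ Nat.card P := Subgroup.card_dvd_of_surjective _ (mk_surj (secP P V))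
  exact h1.trans (h2.trans (card_dvd_of_le m.PU))

theorem dat (hc : OddCyc G) (hs : CompStart.SecZero G) (h : PtT q t U V B) (m : Mn U V P) :
    Dat (Gm P U V) (H0 P U V) (im P V B) where
  inv := inv_H0 m
  ne := ne_H0 m
  max := max_H0 m
  core := core_H0 m
  syl := syl_B h m
  le := map_mono fun _ hb => B_le h hb
  nT := norm_im h m
  three := fun h1 => three_H0 h m (h1.trans (Subgroup.card_subgroup_dvd_card _))
  cyc := T1Structure.oddCyc_of_surjective (T1Structure.oddCyc_of_injective hc P.subtype P.subtype_injective)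
      (mk (secP P V)) (mk_surj _)
  ks := FFSec.kzero_of_image hs (fun h1 => by
    -- `P ≠ ⊤`: otherwise `U` is central and `V` is normalised by `C(U)`
    apply h.nle
    have h2 : centralizer (U : Set G) = ⊤ := top_le_iff.mp (h1 ▸ m.PU)
    have h3 : normalizer (V : Set G) = ⊤ := by
      -- all of `V` is covered by the conjugates of `U`
      rw [eq_top_iff]
      intro x _
      refine mem_normalizer_of_forall fun v hv => ?_
      obtain ⟨c, hc, hvc⟩ := h.cov v hv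
      have h4 : cj c U = U := cj_eq_of_cent (by rw [h2]; exact mem_top _)
      rw [h4] at hvc
      have h5 : x ∈ centralizer (U : Set G) := by rw [h2]; exact mem_top _
      have h6 := mem_centralizer_iff.1 h5 v hvc
      rw [← h6, mul_inv_cancel_right]
      exact hv
    rw [h3]
    exact le_top) (mk (secP P V)) (mk_surj _)

theorem exists_min (h : PtT q t U V B) : ∃ P : Subgroup G, Mn U V P := by
  have hne : {P : Subgroup G | P ≤ centralizer (U : Set G) ∧ Co U V < P ∧ Mp U V ≤ normalizer (P : Set G)}.Nonempty :=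
    ⟨centralizer (U : Set G), le_rfl, lt_of_le_not_ge inf_le_right fun h1 => h.nle (h1.trans inf_le_left),
      inf_le_right.trans norm_cent⟩
  obtain ⟨P, hP⟩ := Set.Finite.exists_minimal (Set.toFinite _) hne
  refine ⟨P, hP.1.1, hP.1.2.1, hP.1.2.2, fun Q hQ hQP hMQ => ?_⟩
  exact le_antisymm hQP (hP.2 ⟨hQP.trans hP.1.1, hQ, hMQ⟩ hQP)

theorem nU (h : PtT q t U V B) {g : G} (hg : cj g U = U) :
    ∃ c ∈ centralizer (U : Set G), ∃ m ∈ normalizer (V : Set G), g = c * m := by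
  have h2 : IsSyl2 (centralizer (U : Set G)) (cj g B) := by
    have := isSyl2_cj g h.syl
    rwa [cj_centralizer, hg] at this
  obtain ⟨c, hc, h3⟩ := isSyl2_conj h2 h.syl
  refine ⟨c⁻¹, Subgroup.inv_mem _ hc, c * g, h.NB ?_, by group⟩
  rw [← cj_eq_iff, cj_mul]
  exact h3.symm

theorem fr (h : PtT q t U V B) (m : Mn U V P) : FrT q t U V P where
  UV := h.UV
  sq := h.sq
  cardU := h.cardU
  cardV := h.cardV
  PU := m.PU
  CP := m.lt.le
  act := h.act
  free := h.free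
  ti := h.ti
  tq := h.tq
  cov := h.cov
  ab := h.ab
  nU := fun _ hg => nU h hg
  qb := h.qb

theorem exists_cr (h : PtT q t U V B) (m : Mn U V P) : ∃ g : G, Fr.Cr P V g := by
  refine (fr h m).exists_cr ?_
  intro R hVR hR2 h1 h2
  exact m.lt.not_ge (le_inf (h2.trans (h.mx R hVR hR2 h1)) m.PU)

/-! ### the module `W/U` -/

/-- the group acting on `W/U` -/
abbrev NW (P U V : Subgroup G) : Subgroup G := normalizer (Wc P V : Set G) ⊓ normalizer (U : Set G)

theorem U_le_W (h : PtT q t U V B) : U ≤ Wc P V := h.UV.trans (le_Wc P V)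

theorem secW (h : PtT q t U V B) (m : Mn U V P) : SecM (NW P U V) (Wc P V) U where
  YW := U_le_W h
  WY := by
    intro w hw
    refine mem_normalizer_of_forall fun v hv => ?_
    rw [(fr h m).cm_WW w hw v (U_le_W h hv), mul_inv_cancel_right]
    exact hv
  KW := inf_le_left
  KY := inf_le_right
  sq := fun w hw => by rw [(fr h m).W_sq w hw]; exact one_mem _

theorem P_le_NW (m : Mn U V P) : P ≤ NW P U V :=
  le_inf (norm_Wc P V) (m.PU.trans (centralizer_le_normalizer _))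

/-- `M_p` normalises `W` -/
theorem Mp_norm_W (m : Mn U V P) : Mp U V ≤ NW P U V := by
  refine le_inf ?_ inf_le_right
  intro c hc
  rw [← cj_eq_iff]
  refine Subgroup.eq_of_le_of_card_ge ?_ (card_cj c _).ge
  show (Wc P V).map _ ≤ _
  rw [Subgroup.map_le_iff_le_comap]
  refine Wc_le fun x hx => ?_
  rw [← Subgroup.map_le_iff_le_comap]
  have h1 : cj c (cj x V) ≤ Wc P V := by
    have h2 : cj c (cj x V) = cj (c * x * c⁻¹) V := by
      rw [← cj_mul, cj_mul (c * x) c⁻¹, cj_eq_iff.mpr (inv_mem hc.1)]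
    rw [h2]
    exact cj_le_Wc (forall_of_mem_normalizer (m.MP hc) _ hx)
  exact h1

/-- `K` acts trivially on `W/U` -/
theorem Kc_triv (h : PtT q t U V B) (m : Mn U V P) {k : G} (hk : k ∈ Kc P V) :
    ∀ w ∈ Wc P V, k * w * k⁻¹ * w⁻¹ ∈ U := by
  have hkP : k ∈ P := (mem_Kc.mp hk).1
  intro w hw
  induction hw using Subgroup.closure_induction with
  | mem w hw =>
    obtain ⟨x, hx, hwx⟩ := hw
    exact (fr h m).act' hk hx hwx
  | one =>
    have : k * 1 * k⁻¹ * 1⁻¹ = (1 : G) := by group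
    rw [this]
    exact one_mem _
  | mul x y hx' hy' hx hy =>
    have h1 : k * (x * y) * k⁻¹ * (x * y)⁻¹ = (k * x * k⁻¹ * x⁻¹) * (x * (k * y * k⁻¹ * y⁻¹) * x⁻¹) := by group
    rw [h1]
    refine mul_mem hx ?_
    rw [(fr h m).cm_WW x hx' _ (U_le_W h hy), mul_inv_cancel_right]
    exact hy
  | inv x hx' hx =>
    have h1 : k * x⁻¹ * k⁻¹ * x⁻¹⁻¹ = x⁻¹ * (x * (k * x⁻¹ * k⁻¹)) * x⁻¹⁻¹ := by group
    have h2 : x * (k * x⁻¹ * k⁻¹) = (k * x * k⁻¹ * x⁻¹)⁻¹ := by group
    have h3 : (k * x * k⁻¹ * x⁻¹)⁻¹ ∈ U := inv_mem hx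
    rw [h1, h2, (fr h m).cm_WW x⁻¹ (inv_mem hx') _ (U_le_W h h3), mul_inv_cancel_right]
    exact h3

/-- the action of `P` on `W/U` -/
noncomputable def rP (h : PtT q t U V B) (m : Mn U V P) : P →* MulAut (VQ (secW h m)) :=
  (actM (secW h m)).comp (Subgroup.inclusion (P_le_NW m))

/-- the action of `P/K` on `W/U` -/
noncomputable def rH (h : PtT q t U V B) (m : Mn U V P) : HP P V →* MulAut (VQ (secW h m)) :=
  (mk (secP P V)).liftOfSurjective (mk_surj _) ⟨rP h m, by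
    intro k hk
    rw [MonoidHom.mem_ker, SecQ.mk_eq_one] at hk
    rw [MonoidHom.mem_ker]
    exact (actM_eq_one (secW h m) _).2 (Kc_triv h m hk)⟩

theorem rH_mk (h : PtT q t U V B) (m : Mn U V P) (p : P) :
    rH h m (mk (secP P V) p) = actM (secW h m) ⟨p, P_le_NW m p.2⟩ :=
  MonoidHom.liftOfRightInverse_comp_apply _ _ _ _ _

theorem exists_lam (h : PtT q t U V B) (m : Mn U V P) : ∃ lam : VQ (secW h m),
    (∀ g ∈ H0 P U V, rH h m g lam = lam) ∧ ∃ g, rH h m g lam ≠ lam := by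
  obtain ⟨x, hx, hxV⟩ : ∃ x ∈ P, cj x V ≠ V := by
    by_contra hcon
    push Not at hcon
    exact m.lt.not_ge fun x hx => ⟨cj_eq_iff.mp (hcon x hx), m.PU hx⟩
  have h1 : ∃ v ∈ V, x * v * x⁻¹ ∉ V := by
    by_contra hcon
    push Not at hcon
    exact hxV (cj_eq_iff.mpr (mem_normalizer_of_forall hcon))
  obtain ⟨v, hv, hvx⟩ := h1
  refine ⟨mkM (secW h m) ⟨v, le_Wc P V hv⟩, ?_, mk (secP P V) ⟨x, hx⟩, ?_⟩
  · intro g hg
    obtain ⟨p, rfl⟩ := mk_surj (secP P V) g
    have hp := (mem_H0 m.PU).mp hg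
    rw [rH_mk, actM_eq_iff]
    exact h.act p hp.1 hp.2 v hv
  · rw [rH_mk, Ne, actM_eq_iff]
    intro h2
    apply hvx
    have h3 := mul_mem (h.UV h2) hv
    have h4 : x * v * x⁻¹ * v⁻¹ * v = x * v * x⁻¹ := by group
    rw [← h4]
    exact h3

/-- the consequence of Theorem P -/
theorem outR (hc : OddCyc G) (hs : CompStart.SecZero G) (h : PtT q t U V B) (m : Mn U V P) :
    OutR (H0 P U V) ∧ ∃ A : Subgroup (HP P V), (∀ a ∈ A, a * a = 1) ∧ q ≤ t * Nat.card A := by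
  obtain ⟨g₀, c₀⟩ := exists_cr h m
  obtain ⟨g, x, c, hx, hq⟩ := (fr h m).exists_big c₀
  have hAP : cj g (cj x V) ≤ P := (cj_mono (cj_le_Wc hx)).trans ((fr h m).cr_le c)
  have hA2 : ∀ a ∈ cj g (cj x V), a * a = 1 := by
    rw [← cj_mul]
    exact (fr h m).cj_sq _
  obtain ⟨lam, hfix, hmov⟩ := exists_lam h m
  have hcA : Nat.card (im P V (cj g (cj x V))) = (Kc P V).relIndex (cj g (cj x V)) := card_im hAP
  have ht : t ≤ Nat.card (im P V (cj g (cj x V))) := by
    have h1 := h.tt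
    rw [← hcA] at hq
    by_contra hcon
    push Not at hcon
    have h2 : t * Nat.card (im P V (cj g (cj x V))) < t * t := Nat.mul_lt_mul_of_pos_left hcon (by omega)
    omega
  refine ⟨ThmP.outR (ρ := rH h m) (dat hc hs h m) (vq_sq _) hfix hmov (im_sq hA2)
    (im_sq (P := P) (V := V) ((fr h m).cjW_sq g⁻¹)) (q := q) ?_ ?_ ?_ (three_H0 h m),
    im P V (cj g (cj x V)), im_sq hA2, by rw [hcA]; exact hq⟩
  · rw [card_im ((fr h m).W_inv_le c)]
    refine le_trans ?_ ((fr h m).relIndex_W_le' c hx)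
    refine index_CS_le (secW h m) (rH h m) _ ?_
    rintro _ ⟨a, ha, rfl⟩
    exact ⟨⟨a, P_le_NW m a.2⟩, ha, rH_mk h m a⟩
  · intro h1
    rw [← hcA, h1, Subgroup.card_bot, mul_one] at hq
    have := h.tq
    omega
  · right
    rw [← hcA] at hq
    refine hq.trans ?_
    rw [pow_two]
    exact Nat.mul_le_mul_right _ ht

/-- **Part I, `S > B`, `4 t ≤ q`** -/
theorem PtT.false (hc : OddCyc G) (hs : CompStart.SecZero G) (h : PtT q t U V B) (h4 : 4 * t ≤ q) : False := by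
  obtain ⟨P, m⟩ := exists_min h
  obtain ⟨h1, A, hA2, hA⟩ := outR hc hs h m
  have h2 := h1.card_le (dat hc hs h m).odd A hA2
  have h3 : 0 < t := by
    rcases Nat.eq_zero_or_pos t with h0 | h0
    · rw [h0, zero_mul] at hA
      have := h.q4
      omega
    · exact h0
  nlinarith

end Cfsg.Agent.OddCyclic.Eq.PartI
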