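import Cfsg.Agent.OddCyclic.Eq.Four

/-!
# (E_q) of `T_cyc`, `Z_J` TI: the theorem

`Pt q U V B`: `U ≤ V`, `|U| = q ≥ 4`, `|V| = q²`, `U` a TI-subgroup, `B` a Sylow 2-subgroup of `G` in `C_G(U) ∩ N_G(V)`.
`Pt.false`: this is impossible.
-/

set_option autoImplicit false

namespace Cfsg.Agent.OddCyclic.Eq

open Subgroup Cfsg.Agent.OddCyclic.CompStandard Cfsg.Agent.OddCyclic.RedFiveThree Cfsg.Agent.OddCyclic.CaseABase
open Cfsg.Agent.LieExceptional.CITDefs (IsSyl2)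
open Cfsg.Agent.OddCyclic.T1Defs (OddCyc)
open Cfsg.Agent.OddCyclic.Eq.Quot Cfsg.Agent.OddCyclic.Eq.Line

universe u

variable {G : Type u} [Group G]

/-- the data (TI case) -/
structure Pt (q : ℕ) (U V B : Subgroup G) : Prop where
  q4 : 4 ≤ q
  UV : U ≤ V
  sq : ∀ v ∈ V, v * v = 1
  cardU : Nat.card U = q
  cardV : Nat.card V = q * q
  act : ∀ c ∈ normalizer (V : Set G), c ∈ centralizer (U : Set G) → ∀ v ∈ V, c * v * c⁻¹ * v⁻¹ ∈ U
  free : ∀ c ∈ normalizer (V : Set G), c ∈ centralizer (U : Set G) → ∀ v ∈ V, v ∉ U → c * v = v * c →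
    c ∈ centralizer (V : Set G)
  ti : ∀ g : G, cj g U ≠ U → ∀ x ∈ U, x ∈ cj g U → x = 1
  cov : ∀ v ∈ V, ∃ m ∈ normalizer (V : Set G), v ∈ cj m U
  ab : ∀ x ∈ centralizer (U : Set G), Cm V (cj x V)
  BV : B ≤ normalizer (V : Set G)
  BU : B ≤ centralizer (U : Set G)
  syl : IsSyl2 ⊤ B
  NB : normalizer (B : Set G) ≤ normalizer (V : Set G)
  three : ¬ 3 ∣ Nat.card (normalizer (V : Set G) ⊓ centralizer (U : Set G) : Subgroup G)
  four : q = 4 → ¬ 3 ∣ Nat.card (centralizer (U : Set G))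
  nle : ¬ centralizer (U : Set G) ≤ normalizer (V : Set G)
  mx : ∀ R : Subgroup G, V ≤ R → (∀ x ∈ R, x * x = 1) → normalizer (V : Set G) ≤ normalizer (R : Set G) →
    normalizer (R : Set G) ≤ normalizer (V : Set G)

namespace Pt

variable [Finite G] {q : ℕ} {U V B P : Subgroup G}

omit [Finite G] in
theorem sylU (h : Pt q U V B) : IsSyl2 (centralizer (U : Set G)) B :=
  isSyl2_of_le h.syl h.BU le_top

theorem nU (h : Pt q U V B) {g : G} (hg : cj g U = U) :
    ∃ c ∈ centralizer (U : Set G), ∃ m ∈ normalizer (V : Set G), g = c * m := by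
  have h2 : IsSyl2 (centralizer (U : Set G)) (cj g B) := by
    have := isSyl2_cj g h.sylU
    rwa [cj_centralizer, hg] at this
  obtain ⟨c, hc, h3⟩ := isSyl2_conj h2 h.sylU
  refine ⟨c⁻¹, Subgroup.inv_mem _ hc, c * g, h.NB ?_, by group⟩
  rw [← cj_eq_iff, cj_mul]
  exact h3.symm

theorem fr (h : Pt q U V B) (hP : P ≤ centralizer (U : Set G))
    (hCP : normalizer (V : Set G) ⊓ centralizer (U : Set G) ≤ P) : Line.Fr q U V P where
  UV := h.UV
  sq := h.sq
  cardU := h.cardU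
  cardV := h.cardV
  PU := hP
  CP := hCP
  act := h.act
  free := h.free
  ti := h.ti
  cov := h.cov
  ab := h.ab
  nU := fun _ hg => h.nU hg

omit [Finite G] in
theorem pd (h : Pt q U V B) : Pd (centralizer (U : Set G)) V B where
  TV := h.BV
  syl := h.sylU
  NT := fun _ _ hx => h.NB hx
  three := h.three

/-- **(E_q), the TI case** -/
theorem false (hc : OddCyc G) (hs : CompStart.SecZero G) (hUt : centralizer (U : Set G) ≠ ⊤) (h : Pt q U V B) :
    False := by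
  obtain ⟨P, hP, hlt, hmin⟩ := Pd.exists_min h.nle
  have fr := h.fr hP hlt.le
  -- the offender
  obtain ⟨A, hAV, hA2, hAq, hAK⟩ := fr.exists_off (by
    intro R hVR hR2 h1 h2
    have h3 := h.mx R hVR hR2 h1
    exact hlt.not_ge (le_inf (h2.trans h3) hP))
  have hAP : A ≤ P := hAV.trans fr.cent_le
  have hq4 := h.q4
  obtain ⟨v, hv, hvU⟩ := fr.exists_not_mem (A := V) (by rw [h.cardV]; nlinarith)
  have hne : ∃ x ∈ P, cj x V ≠ V := by
    by_contra hcon
    push Not at hcon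
    exact hlt.not_ge fun x hx => ⟨cj_eq_iff.mp (hcon x hx), hP hx⟩
  have hUo : U ≤ Uo P V := fun u hu => mem_Uo.mpr fun x hx => fr.U_le (hP hx) hu
  have hUo' : Uo P V ≤ U := by
    obtain ⟨x, hx, hxV⟩ := hne
    intro w hw
    have h1 := mem_Uo.mp hw
    exact fr.inter (hP hx) (Subgroup.one_mem _) (by rw [cj_one]; exact hxV) (h1 x hx) (h1 1 P.one_mem)
  obtain ⟨h1, h2⟩ := h.pd.three_dvd hc hs hUt hP hlt hmin fr.cm_WW fr.W_sq hv (fun h' => hvU (hUo' h'))
    (fun c hcP hcV => hUo (h.act c hcV (hP hcP) v hv)) hAP (hAV.trans (centralizer_le_normalizer _)) hA2 hAq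
    (hq4.trans hAK)
  have h3 := h2 A hAP hA2
  have h4 : q = 4 := by omega
  apply h.four h4
  have h5 : Nat.card (P ⧸ Kp P V) ∣ Nat.card P := card_quotient_dvd_card _
  exact h1.trans (h5.trans (card_dvd_of_le hP))

end Pt

end Cfsg.Agent.OddCyclic.Eq
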