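import Cfsg.Agent.OddCyclic.Eq.PtTOf
import Cfsg.Agent.OddCyclic.Eq.TI

/-!
# (E_q), Part I, `S = B`: the data `Eq.Pt` and the contradiction
-/

set_option autoImplicit false
set_option linter.unusedSectionVars false

namespace Cfsg.Agent.OddCyclic.Eq.PtOf

open Subgroup Cfsg Cfsg.Agent.ZN Cfsg.Agent.ZN.ChoiceBase
open Cfsg.Agent.OddCyclic.RedU (EqOne)
open Cfsg.Agent.OddCyclic.Eq.Base Cfsg.Agent.OddCyclic.Eq.Ab
open Cfsg.Agent.LieExceptional.CITDefs (IsSyl2)
open Matrix (SpecialLinearGroup)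

universe u

variable {G : Type u} [Group G] [Finite G] {S : Sylow 2 G} {L V : Subgroup G} {q : ℕ}

/-- `Z_J` is a TI-subgroup -/
theorem ti (h : EqOne S L V q) (hSB : bau (S : Subgroup G) = S) (g : G)
    (hg : CompStandard.cj g (ZJ S) ≠ ZJ S) : ∀ x ∈ ZJ S, x ∈ CompStandard.cj g (ZJ S) → x = 1 := by
  have h1 := (LemU.inter h (Or.inl hSB.symm) (r := q) (by have := h.blk.four; omega)
    (fun s _ _ _ => by
      have h2 : Nat.card (zj (S : Subgroup G) ⊓ centralizer ({s} : Set G) : Subgroup G) ≤ Nat.card (zj (S : Subgroup G)) :=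
        Subgroup.card_le_of_le inf_le_left
      rwa [LemU.card_zj h] at h2) (g := g) (by
      intro h2
      apply hg
      rw [← LemU.zj_eq_zc] at h2
      exact mem_normalizer_iff_cj.1 h2)).2 hSB.symm
  rw [← LemU.zj_eq_zc] at h1
  intro x hx hx'
  have h2 : x ∈ (⊥ : Subgroup G) := h1 ▸ mem_inf.2 ⟨hx, hx'⟩
  exact mem_bot.1 h2

/-- **the data `Pt`** -/
theorem pt (h : EqOne S L V q) (hSB : bau (S : Subgroup G) = S)
    (hn : ¬ centralizer (ZJ S : Set G) ≤ normalizer (V : Set G)) : Pt q (ZJ S) V (bau (S : Subgroup G)) := by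
  obtain ⟨F, _, _, _, e, φ, hq, c⟩ := exists_co_of h
  refine
    { q4 := h.blk.four
      UV := h.zc_le
      sq := h.sq
      cardU := h.card_zc
      cardV := by rw [h.card, pow_two]
      act := ?_
      free := ?_
      ti := ti h hSB
      cov := PtTOf.cov h
      ab := fun x hx => ab h hx
      BV := (ChoiceBase.bau_le _).trans h.S_V
      BU := (PtTOf.syl S).le
      syl := ⟨le_top, S.isPGroup'.to_le (ChoiceBase.bau_le _), fun Y _ hY hB => by
        rw [hSB] at hB ⊢
        exact S.is_maximal' hY hB⟩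
      NB := h.nb_V
      three := not_three_C0 h c hq
      four := fun h4 => not_dvd_ZJ h Nat.prime_three (by rw [h4])
      nle := hn
      mx := PtTOf.mx h }
  · intro m hm hmc v hv
    obtain ⟨t, ht⟩ := root h c hq hm hmc
    obtain ⟨x, y, rfl⟩ := (c.mem v).1 hv
    rw [ht]
    have h1 : e (x + t * y) y = e (t * y) 0 * e x y := by rw [← c.add, zero_add, add_comm]
    rw [h1, mul_inv_cancel_right]
    exact (mem_zc h c).2 ⟨_, rfl⟩
  · intro m hm hmc v hv hvU hmv
    obtain ⟨t, ht⟩ := root h c hq hm hmc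
    obtain ⟨x, y, rfl⟩ := (c.mem v).1 hv
    have hy : y ≠ 0 := by
      rintro rfl
      exact hvU ((mem_zc h c).2 ⟨_, rfl⟩)
    have h1 := ht x y
    rw [hmv, mul_inv_cancel_right] at h1
    have h2 := (c.ext h1).1
    have h3 : t * y = 0 := by
      have : x + 0 = x + t * y := by rw [add_zero]; exact h2
      exact (add_left_cancel this).symm
    have h4 : t = 0 := (mul_eq_zero.1 h3).resolve_right hy
    rw [c.mem_cent]
    intro x y
    rw [ht, h4, zero_mul, add_zero]

/-- **Part I, `S = B`** -/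
theorem false_of (h : EqOne S L V q) (hSB : bau (S : Subgroup G) = S)
    (hn : ¬ centralizer (zc (bau (S : Subgroup G)) : Set G) ≤ normalizer (V : Set G)) : False := by
  refine Pt.false h.cx.cyc h.cx.sec ?_ (pt h hSB hn)
  intro h0
  apply h.cx.toCtx.ne_top (ZJ_pgroup S) (ZJ_ne h)
  rw [← top_le_iff, ← h0]
  exact centralizer_le_normalizer _

end Cfsg.Agent.OddCyclic.Eq.PtOf
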