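import Cfsg.Agent.OddCyclic.Eq.PartOneT
import Cfsg.Agent.OddCyclic.Eq.PtOf

/-!
# (E_q) of `T_cyc`, Part I: `C_G(Z_J) ≤ N_G(V)`
-/

set_option autoImplicit false

namespace Cfsg.Agent.OddCyclic.Eq

open Subgroup Cfsg Cfsg.Agent.ZN
open Cfsg.Agent.OddCyclic.RedU (EqOne)

universe u

/-- **Part I** -/
theorem partOne {G : Type u} [Group G] [Finite G] {S : Sylow 2 G} {L V : Subgroup G} {q : ℕ} (h : EqOne S L V q)
    (hn : ¬ centralizer (zc (bau (S : Subgroup G)) : Set G) ≤ normalizer (V : Set G)) : False := by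
  by_cases hSB : bau (S : Subgroup G) = S
  · exact PtOf.false_of h hSB hn
  · exact PartOneT.false_of h hSB hn

end Cfsg.Agent.OddCyclic.Eq
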