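import Cfsg.Agent.OddCyclic.Eq.PtTOf
import Cfsg.Agent.OddCyclic.Eq.ExFour

/-!
# (E_q), Part I, `S > B`: the contradiction
-/

set_option autoImplicit false

namespace Cfsg.Agent.OddCyclic.Eq.PartOneT

open Subgroup Cfsg Cfsg.Agent.ZN
open Cfsg.Agent.OddCyclic.RedU (EqOne)

universe u

variable {G : Type u} [Group G] [Finite G] {S : Sylow 2 G} {L V : Subgroup G} {q : ℕ}

/-- **Part I, `S > B`** -/
theorem false_of (h : EqOne S L V q) (hSB : bau (S : Subgroup G) ≠ S)
    (hn : ¬ centralizer (zc (bau (S : Subgroup G)) : Set G) ≤ normalizer (V : Set G)) : False := by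
  obtain ⟨r, hr, hr2⟩ := PtTOf.exists_r h hSB
  have p := PtTOf.ptT h hn hr hr2
  by_cases h4 : 4 * r ≤ q
  · exact p.false h.cx.cyc h.cx.sec h4
  · push Not at h4
    have h5 : r < 4 := by
      by_contra hcon
      push Not at hcon
      rw [hr] at h4
      nlinarith
    have h6 : r = 2 := by
      obtain ⟨n, hn', hq⟩ := LemU.odd_q h
      have h7 : r = 2 ∨ r = 3 := by omega
      rcases h7 with h7 | h7
      · exact h7
      · exfalso
        have h8 : 2 ∣ q := LemU.two_dvd_q h
        rw [hr, h7] at h8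
        omega
    subst h6
    have h7 : q = 4 := hr
    subst h7
    exact PartIFour.false h.cx.cyc h.cx.sec p (ExFour.ex h hSB)

end Cfsg.Agent.OddCyclic.Eq.PartOneT
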