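import Cfsg.Agent.OddCyclic.Eq.BaseTwo
import Cfsg.Agent.OddCyclic.Eq.SecFourEnd

/-!
# (E_q) of `T_cyc`, Part II, `V ≤ O₂(C_G(Z))`: the fields of `SecFourEnd.false` which follow from `EqOne` alone

* `le_cent`, `pd`, `cent_ne_top`, `mx`, `two`;
* `PartTwoEnd.of_sit`: `SecFour.Sit` and (for `q = 4`) `SecFourEnd.Ex4` are contradictory.
-/

set_option autoImplicit false

namespace Cfsg.Agent.OddCyclic.Eq.PartTwoBase

open Subgroup Cfsg Cfsg.Agent.ZN Cfsg.Agent.OddCyclic.COneBlk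
open Cfsg.Agent.OddCyclic.RedU (EqOne)
open Cfsg.Agent.OddCyclic.Eq.Base
open Cfsg.Agent.LieExceptional.CITDefs (IsSyl2)

universe u

variable {G : Type u} [Group G] [Finite G] {S : Sylow 2 G} {L V : Subgroup G} {q : ℕ}

omit [Finite G] in
theorem le_cent (S : Subgroup G) : S ≤ centralizer (zc S : Set G) := by
  intro s hs
  rw [mem_centralizer_iff]
  intro z hz
  exact ((ChoiceBase.mem_zc.mp hz).2.2 s hs).symm

omit [Finite G] in
theorem bau_ne_bot (h : EqOne S L V q) : bau (S : Subgroup G) ≠ ⊥ := by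
  intro h1
  have h2 := h.card_zc
  have h3 : zc (bau (S : Subgroup G)) ≤ bau (S : Subgroup G) := fun x hx => (ChoiceBase.mem_zc.mp hx).1
  rw [h1, le_bot_iff] at h3
  rw [h1, h3, card_bot] at h2
  have := h.blk.four
  omega

omit [Finite G] in
theorem S_ne_bot (h : EqOne S L V q) : (S : Subgroup G) ≠ ⊥ := by
  intro h1
  apply bau_ne_bot h
  have h2 := ChoiceBase.bau_le (S : Subgroup G)
  rw [h1, le_bot_iff] at h2
  rw [h1]; exact h2

theorem zc_ne_bot (h : EqOne S L V q) : zc (S : Subgroup G) ≠ ⊥ :=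
  ChoiceSit.zc_ne_bot S.isPGroup' (S_ne_bot h)

theorem zc_two (S : Sylow 2 G) : IsPGroup 2 (zc (S : Subgroup G)) :=
  S.isPGroup'.to_le fun _ hx => (ChoiceBase.mem_zc.mp hx).1

/-- `Ω₁Z(S)` is normalised by its centraliser -/
theorem cent_le_local (h : EqOne S L V q) :
    centralizer (zc (S : Subgroup G) : Set G) ≤ normalizer (zc (S : Subgroup G) : Set G) :=
  centralizer_le_normalizer _

/-- `C_G(Ω₁Z(S)) ≠ G` -/
theorem cent_ne_top (h : EqOne S L V q) : centralizer (zc (S : Subgroup G) : Set G) ≠ ⊤ := by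
  intro h1
  apply h.cx.toCtx.ne_top (zc_two S) (zc_ne_bot h)
  exact top_le_iff.mp (h1 ▸ cent_le_local h)

/-- `S` is a Sylow 2-subgroup of `C_G(Ω₁Z(S))` -/
theorem isSyl2 (S : Sylow 2 G) : IsSyl2 (centralizer (zc (S : Subgroup G) : Set G)) S :=
  ⟨le_cent _, S.isPGroup', fun _ _ h2 hle => S.is_maximal' h2 hle⟩

/-- the point `C_G(Ω₁Z(S))` with the line `V` -/
theorem pd (h : EqOne S L V q) :
    Quot.Pd (centralizer (zc (S : Subgroup G) : Set G)) V (S : Subgroup G) := by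
  obtain ⟨F, _, _, _, e, φ, hF, c⟩ := exists_co_of h
  exact
    { TV := h.S_V
      syl := isSyl2 S
      NT := fun x _ hx => h.nb_V (normalizer_le_normalizer_bau _ hx)
      three := not_three_C1 h c hF }

/-- `N_G(V)` is a maximal 2-local among the normalisers of the elementary abelian groups containing `V` -/
theorem mx (h : EqOne S L V q) (R : Subgroup G) (hVR : V ≤ R) (hR : ∀ x ∈ R, x * x = 1)
    (hN : normalizer (V : Set G) ≤ normalizer (R : Set G)) : normalizer (R : Set G) ≤ normalizer (V : Set G) := by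
  obtain ⟨F, _, _, _, e, φ, hF, c⟩ := exists_co_of h
  refine h.le_NV _ ⟨R, ?_, ?_, rfl⟩ L q h.blk ((L_V c).trans hN)
  · rintro ⟨x, hx⟩
    refine ⟨1, Subtype.ext ?_⟩
    rw [pow_one]
    change x ^ 2 = 1
    rw [pow_two]
    exact hR x hx
  · intro h1
    have h2 : V = ⊥ := le_bot_iff.mp (h1 ▸ hVR)
    have h3 := h.card
    rw [h2, card_bot] at h3
    have := h.blk.four
    nlinarith

/-- `N_G(V) ∩ C_G(Ω₁Z(S))` is a 2-group on `V` -/
theorem two (h : EqOne S L V q) : ∀ c ∈ normalizer (V : Set G) ⊓ centralizer (zc (S : Subgroup G) : Set G),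
    ∃ k : ℕ, c ^ 2 ^ k ∈ centralizer (V : Set G) := by
  obtain ⟨F, _, _, _, e, φ, hF, c⟩ := exists_co_of h
  exact fun m hm => two_zc h c hF hm.1 hm.2

/-- **Part II, `V ≤ O₂(C_G(Z))`, from `SecFour.Sit` and `Ex4`** -/
theorem of_sit {q' : ℕ} {J D : Subgroup G} (h : EqOne S L V q)
    (hs : SecFour.Sit q' (zc (S : Subgroup G)) J V D)
    (ex : q' = 4 → SecFourEnd.Ex4 (zc (S : Subgroup G)) J V) : False :=
  SecFourEnd.false h.cx.cyc h.cx.sec hs (pd h) (cent_ne_top h) h.notle (mx h) (two h) ex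

end Cfsg.Agent.OddCyclic.Eq.PartTwoBase
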