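import Cfsg.Agent.OddCyclic.Eq.Ab
import Cfsg.Agent.OddCyclic.Eq.Fld
import Cfsg.Agent.OddCyclic.Eq.LemU
import Cfsg.Agent.OddCyclic.Eq.PartI
import Cfsg.Agent.OddCyclic.Eq.Crd

/-!
# (E_q), Part I, `S > B`: the data `PartI.PtT`
-/

set_option autoImplicit false
set_option linter.unusedSectionVars false

namespace Cfsg.Agent.OddCyclic.Eq.PtTOf

open Subgroup Cfsg Cfsg.Agent.ZN Cfsg.Agent.ZN.ChoiceBase
open Cfsg.Agent.MinSimple
open Cfsg.Agent.OddCyclic.RedU (EqOne)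
open Cfsg.Agent.OddCyclic.Eq.Base Cfsg.Agent.OddCyclic.Eq.Ab
open Cfsg.Agent.OddCyclic.T1Sl2 (up dg ww)
open Cfsg.Agent.LieExceptional.CITDefs (IsSyl2)
open Matrix (SpecialLinearGroup)

universe u

variable {G : Type u} [Group G] [Finite G] {S : Sylow 2 G} {L V : Subgroup G} {q : ℕ}

section

variable {F : Type} [Field F] [Fintype F] [CharP F 2] {e : F → F → G} {φ : L →* SpecialLinearGroup (Fin 2) F}

theorem not_le (hSB : bau (S : Subgroup G) ≠ S) :
    ¬ (S : Subgroup G) ≤ centralizer (zc (bau (S : Subgroup G)) : Set G) := by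
  intro h
  apply hSB
  exact le_antisymm (ChoiceBase.bau_le _) fun s hs => mem_bau_iff.2 ⟨hs, h hs⟩

theorem exists_r (h : EqOne S L V q) (hSB : bau (S : Subgroup G) ≠ S) : ∃ r, q = r * r ∧ 2 ≤ r := by
  obtain ⟨r, hr⟩ := fld h (not_le hSB)
  refine ⟨r, hr.rr, ?_⟩
  have h1 := hr.rr
  have h2 := h.blk.four
  by_contra hcon
  push Not at hcon
  interval_cases r <;> omega

theorem three_dvd_pred (h : EqOne S L V q) {r : ℕ} (hr : q = r * r) : 3 ∣ q - 1 := by
  obtain ⟨n, -, hn⟩ := LemU.odd_q h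
  have h1 : r ∣ 2 ^ n := by rw [← hn, hr]; exact dvd_mul_right _ _
  obtain ⟨m, -, hm⟩ := (Nat.dvd_prime_pow Nat.prime_two).1 h1
  have h2 : q = 4 ^ m := by
    rw [hr, hm, ← pow_add, ← two_mul, pow_mul]
    norm_num
  rw [h2]
  have h3 : 4 ^ m ≡ 1 ^ m [MOD 3] := Nat.ModEq.pow m (by decide)
  rw [one_pow] at h3
  exact (Nat.modEq_iff_dvd' (Nat.one_le_pow _ _ (by norm_num))).mp h3.symm

/-- `|C_{Z_J}(s)| ≤ r` -/
theorem card_field (h : EqOne S L V q) {r : ℕ} (hr : q = r * r) (hr2 : 2 ≤ r) {s : G}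
    (hs : s ∈ normalizer (bau (S : Subgroup G) : Set G))
    (hsc : s ∉ centralizer (zj (S : Subgroup G) : Set G)) (hss : s * s ∈ bau (S : Subgroup G)) :
    Nat.card (zj (S : Subgroup G) ⊓ centralizer ({s} : Set G) : Subgroup G) ≤ r := by
  by_cases h0 : (zj (S : Subgroup G) ⊓ centralizer ({s} : Set G) : Subgroup G) = ⊥
  · rw [h0, card_bot]; omega
  obtain ⟨⟨w, hw⟩, hw1⟩ := Subgroup.ne_bot_iff_exists_ne_one.mp h0
  have hw1' : w ≠ 1 := fun h0 => hw1 (Subtype.ext h0)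
  rw [← LemU.zj_eq_zc] at hw hsc ⊢
  obtain ⟨F, _, _, _, e, φ, hq, c⟩ := exists_co_of h
  obtain ⟨z₀, rfl⟩ := (mem_zc h c).mp hw.1
  have hz0 : z₀ ≠ 0 := by
    rintro rfl
    exact hw1' c.zero
  have c' := c.scale hz0
  have hs1 : s * (fun x y => e (z₀ * x) (z₀ * y)) 1 0 = (fun x y => e (z₀ * x) (z₀ * y)) 1 0 * s := by
    show s * e (z₀ * 1) (z₀ * 0) = e (z₀ * 1) (z₀ * 0) * s
    rw [mul_one, mul_zero]
    exact (mem_centralizer_singleton_iff.1 hw.2).symm
  obtain ⟨σ, b, d, hd, hse⟩ := exists_sig h c' (h.nb_V hs) hs1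
  have hσ : σ ≠ 1 := fun h0 => hsc ((sig_iff h c' hse).2 h0)
  have hσ2 : ∀ x, σ (σ x) = x := by
    intro x
    have h1 := sig_sq hse x 0
    have h2 : s * s ∈ centralizer (zc (bau (S : Subgroup G)) : Set G) := (mem_bau_iff.1 hss).2
    rw [(mem_cent_zc h c').1 h2 x] at h1
    have h3 := (c'.ext h1).1
    rw [map_zero, map_zero, mul_zero, add_zero] at h3
    exact h3.symm
  rw [field_J h c' hse]
  have h1 := card_fix hσ hσ2
  rw [hq, hr] at h1
  exact (Nat.mul_self_inj.1 h1.symm).le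

/-- `Z_J` meets its conjugates in order at most `r` -/
theorem ti (h : EqOne S L V q) {r : ℕ} (hr : q = r * r) (hr2 : 2 ≤ r) (g : G)
    (hg : CompStandard.cj g (ZJ S) ≠ ZJ S) : Nat.card (ZJ S ⊓ CompStandard.cj g (ZJ S) : Subgroup G) ≤ r := by
  have h1 := (LemU.inter h (Or.inr (three_dvd_pred h hr)) (r := r) (by omega)
    (fun s hs hsc hss => card_field h hr hr2 hs hsc hss) (g := g) (by
      intro h2
      apply hg
      rw [← LemU.zj_eq_zc] at h2
      exact mem_normalizer_iff_cj.1 h2)).1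
  rw [← LemU.zj_eq_zc] at h1
  exact h1

/-- `L` is transitive on `V#` -/
theorem cov (h : EqOne S L V q) : ∀ v ∈ V, ∃ m ∈ normalizer (V : Set G), v ∈ CompStandard.cj m (ZJ S) := by
  intro v hv
  obtain ⟨F, _, _, _, e, φ, hq, c⟩ := exists_co_of h
  obtain ⟨x, y, rfl⟩ := (c.mem v).1 hv
  by_cases h0 : ((x, y) : F × F) = 0
  · have h1 : x = 0 := congrArg Prod.fst h0
    have h2 : y = 0 := congrArg Prod.snd h0
    rw [h1, h2, c.zero]
    exact ⟨1, one_mem _, one_mem _⟩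
  · obtain ⟨g, hg⟩ := Semi.exists_act h0
    obtain ⟨l, rfl⟩ := c.surj g
    refine ⟨l, L_V c l.2, e 1 0, (mem_zc h c).2 ⟨1, rfl⟩, ?_⟩
    show (l : G) * e 1 0 * (l : G)⁻¹ = e x y
    rw [c.act]
    have h1 := congrArg Prod.fst hg
    have h2 := congrArg Prod.snd hg
    have h1' : φ l 0 0 * 1 + φ l 0 1 * 0 = x := h1
    have h2' : φ l 1 0 * 1 + φ l 1 1 * 0 = y := h2
    rw [h1', h2']

/-- `B` is Sylow in `C(Z_J)` -/
theorem syl (S : Sylow 2 G) : IsSyl2 (centralizer (ZJ S : Set G)) (bau (S : Subgroup G)) where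
  le := fun b hb => (mem_bau_iff.1 hb).2
  two := S.isPGroup'.to_le (ChoiceBase.bau_le _)
  max := by
    intro Y hY hY2 hB
    have h1 : bau Y = bau (S : Subgroup G) := SamePt.bau_eq S hY2 hB
    refine le_antisymm (fun y hy => ?_) hB
    rw [← h1]
    refine mem_inf.2 ⟨hy, ?_⟩
    have h2 := hY hy
    rwa [ZJ, ChoiceBase.zc_bau, ← SamePt.zj_eq S hY2 hB] at h2

/-- `N(V)` is maximal -/
theorem mx (h : EqOne S L V q) : ∀ R : Subgroup G, V ≤ R → (∀ x ∈ R, x * x = 1) →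
    normalizer (V : Set G) ≤ normalizer (R : Set G) → normalizer (R : Set G) ≤ normalizer (V : Set G) := by
  intro R hVR hR hN
  refine h.le_NV _ ⟨R, ?_, ?_, rfl⟩ L q h.blk ((LemU.L_le h).trans hN)
  · rintro ⟨x, hx⟩
    refine ⟨1, Subtype.ext ?_⟩
    rw [pow_one]
    change x ^ 2 = 1
    rw [pow_two]
    exact hR x hx
  · rintro rfl
    exact LemU.V_ne_bot h (le_bot_iff.1 hVR)

/-- the coordinates in the form of `Eq/Crd` -/
theorem sys_of (h : EqOne S L V q) (c : Co (bau (S : Subgroup G)) L V e φ) : Crd.Sys V (ZJ S) e where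
  add := c.add
  inj := c.inj
  mem := c.mem
  memJ := fun g => mem_zc h c
  semi := fun m hm => semi h c hm
  sl := by
    intro p q r s hd
    have hd' : p * s - q * r = 1 := by rw [sub_eq_add_neg, CharTwo.neg_eq]; exact hd
    obtain ⟨l, hl⟩ := c.surj (T1Sl2.mk p q r s hd')
    refine ⟨l, L_V c l.2, fun x y => ?_⟩
    rw [c.act, hl, T1Sl2.mk00, T1Sl2.mk01, T1Sl2.mk10, T1Sl2.mk11]
    rfl

/-- elementary abelian subgroups of `N(V)/C(V)` -/
theorem qb (h : EqOne S L V q) : ∀ E : Subgroup G, E ≤ normalizer (V : Set G) → (∀ e ∈ E, e * e = 1) →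
    (centralizer (V : Set G)).relIndex E ≤ q := by
  intro E hE hE2
  obtain ⟨F, _, _, _, e, φ, hq, c⟩ := exists_co_of h
  have h1 := (sys_of h c).qb hE hE2
  rwa [Nat.card_eq_fintype_card, hq] at h1

/-- **the data `PtT`** -/
theorem ptT (h : EqOne S L V q) (hn : ¬ centralizer (ZJ S : Set G) ≤ normalizer (V : Set G)) {r : ℕ} (hr : q = r * r)
    (hr2 : 2 ≤ r) : PartI.PtT q r (ZJ S) V (bau (S : Subgroup G)) := by
  obtain ⟨F, _, _, _, e, φ, hq, c⟩ := exists_co_of h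
  refine
    { q4 := h.blk.four
      tt := hr.ge
      tq := by rw [hr]; nlinarith
      UV := h.zc_le
      sq := h.sq
      cardU := h.card_zc
      cardV := by rw [h.card, pow_two]
      act := ?_
      free := ?_
      ti := ti h hr hr2
      cov := cov h
      ab := fun x hx => ab h hx
      qb := qb h
      BV := (ChoiceBase.bau_le _).trans h.S_V
      syl := syl S
      NB := h.nb_V
      three := not_dvd_ZJ h Nat.prime_three (three_dvd_pred h hr)
      nle := hn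
      mx := mx h }
  · intro m hm hmc v hv
    obtain ⟨t, ht⟩ := root h c hq hm hmc
    obtain ⟨x, y, rfl⟩ := (c.mem v).1 hv
    rw [ht]
    have h1 : e (x + t * y) y = e (t * y) 0 * e x y := by rw [← c.add, zero_add, add_comm]
    rw [h1, mul_inv_cancel_right]
    exact (mem_zc h c).2 ⟨_, rfl⟩
  · intro m hm hmc v hv hvU hmv
    obtain ⟨t, ht⟩ := root h c hq hm hmc
    obtain ⟨x, y, rfl⟩ := (c.mem v).1 hv
    have hy : y ≠ 0 := by
      rintro rfl
      exact hvU ((mem_zc h c).2 ⟨_, rfl⟩)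
    have h1 := ht x y
    rw [hmv, mul_inv_cancel_right] at h1
    have h2 := (c.ext h1).1
    have h3 : t * y = 0 := by
      have : x + 0 = x + t * y := by rw [add_zero]; exact h2
      exact (add_left_cancel this).symm
    have h4 : t = 0 := (mul_eq_zero.1 h3).resolve_right hy
    rw [c.mem_cent]
    intro x y
    rw [ht, h4, zero_mul, add_zero]

end

end Cfsg.Agent.OddCyclic.Eq.PtTOf
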