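import Cfsg.Agent.OddCyclic.Eq.Line
import Cfsg.Agent.OddCyclic.CaseABase
import Cfsg.Agent.OddCyclic.FFSec
import Cfsg.Agent.OddCyclic.Eq.Prim

/-!
# (E_q) of `T_cyc`: the group `P/K_P`

`Pd X V T`: `X` the stabiliser of a point, `T` a Sylow 2-subgroup of `X` contained in `C₀ = N_X(V)`, `N_X(T) ≤ N(V)`,
`C₀` is a `3'`-group. `P` minimal with `C₀ < P ≤ X`, `K = Kc P V` the kernel of `P` on the conjugates of `V`:
`Pd.cases`: the trichotomy of `Prim.cases` for `P/K`.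
-/

set_option autoImplicit false

namespace Cfsg.Agent.OddCyclic.Eq.Quot

open Subgroup Cfsg.Agent.OddCyclic.CompStandard Cfsg.Agent.OddCyclic.RedFiveThree Cfsg.Agent.OddCyclic.CaseABase
open Cfsg.Agent.LieExceptional.CITDefs (IsSyl2)
open Cfsg.Agent.OddCyclic.T1Defs (OddCyc)
open Cfsg.Agent.OddCyclic.PumpMain (KZero)
open Cfsg.Agent.OddCyclic.Eq.Line

universe u

variable {G : Type u} [Group G]

/-- a point: `X` its stabiliser, `V` a line on it, `T` a Sylow 2-subgroup of `X` -/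
structure Pd (X V T : Subgroup G) : Prop where
  TV : T ≤ normalizer (V : Set G)
  syl : IsSyl2 X T
  NT : ∀ x ∈ X, x ∈ normalizer (T : Set G) → x ∈ normalizer (V : Set G)
  three : ¬ 3 ∣ Nat.card (normalizer (V : Set G) ⊓ X : Subgroup G)

theorem cj_top {H : Type*} [Group H] (g : H) : cj g (⊤ : Subgroup H) = ⊤ :=
  Subgroup.map_top_of_surjective _ (MulAut.conj g).surjective

/-- `IsSyl2 ⊤` and `Sylow 2` -/
def toSyl {H : Type*} [Group H] {S : Subgroup H} (hS : IsSyl2 (⊤ : Subgroup H) S) : Sylow 2 H where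
  toSubgroup := S
  isPGroup' := hS.two
  is_maximal' := fun hQ hle => hS.max _ le_top hQ hle

theorem isSyl2_top {H : Type*} [Group H] (S : Sylow 2 H) : IsSyl2 (⊤ : Subgroup H) S where
  le := le_top
  two := S.isPGroup'
  max := fun _ _ h2 hle => S.is_maximal' h2 hle

/-- a Sylow 2-subgroup of `X` is one of every intermediate group -/
theorem isSyl2_of_le {X P T : Subgroup G} (h : IsSyl2 X T) (h1 : T ≤ P) (h2 : P ≤ X) : IsSyl2 P T :=
  ⟨h1, h.two, fun Y hY hY2 hle => h.max Y (hY.trans h2) hY2 hle⟩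

theorem isSyl2_subgroupOf {P T : Subgroup G} (h : IsSyl2 P T) : IsSyl2 (⊤ : Subgroup P) (T.subgroupOf P) := by
  refine ⟨le_top, h.two.comap_of_injective _ P.subtype_injective, fun Y _ hY hle => ?_⟩
  have h1 : IsPGroup 2 (Y.map P.subtype) := hY.map _
  have h2 : T ≤ Y.map P.subtype := by
    intro t ht
    exact ⟨⟨t, h.le ht⟩, hle ht, rfl⟩
  have h3 := h.max _ (map_subtype_le _) h1 h2
  ext y
  rw [mem_subgroupOf, ← h3]
  constructor
  · intro hy; exact ⟨y, hy, rfl⟩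
  · rintro ⟨z, hz, hzy⟩
    have : z = y := Subtype.ext hzy
    rwa [← this]

variable [Finite G]

/-- the kernel as a subgroup of `P` -/
abbrev Kp (P V : Subgroup G) : Subgroup P := (Kc P V).subgroupOf P

instance Kp_normal (P V : Subgroup G) : (Kp P V).Normal := by
  constructor
  rintro ⟨k, hkP⟩ hk ⟨g, hg⟩
  have hk' : k ∈ Kc P V := hk
  show g * k * g⁻¹ ∈ Kc P V
  rw [mem_Kc] at hk' ⊢
  refine ⟨mul_mem (mul_mem hg hkP) (inv_mem hg), fun x hx => ?_⟩
  have h1 := hk'.2 (g⁻¹ * x) (mul_mem (inv_mem hg) hx)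
  rw [cj_mul, cj_mul, ← cj_mul g⁻¹ x, h1, ← cj_mul, mul_inv_cancel_left]

/-- `C₀ = N_P(V)` -/
abbrev Co (P V : Subgroup G) : Subgroup G := normalizer (V : Set G) ⊓ P

theorem Kc_le (P V : Subgroup G) : Kc P V ≤ Co P V := by
  intro k hk
  rw [mem_Kc] at hk
  refine ⟨?_, hk.1⟩
  have := hk.2 1 P.one_mem
  rw [cj_one] at this
  exact cj_eq_iff.mp this

/-- the image of `C₀` in `P/K` -/
abbrev Hz (P V : Subgroup G) : Subgroup (P ⧸ Kp P V) :=
  ((Co P V).subgroupOf P).map (QuotientGroup.mk' (Kp P V))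

theorem mem_Hz {P V : Subgroup G} {x : P} : (x : P ⧸ Kp P V) ∈ Hz P V ↔ (x : G) ∈ normalizer (V : Set G) := by
  constructor
  · rintro ⟨y, hy, hyx⟩
    have h1 : y⁻¹ * x ∈ Kp P V := QuotientGroup.eq.mp hyx
    have h2 : (y : G)⁻¹ * x ∈ Co P V := Kc_le P V h1
    have h3 := mul_mem (show (y : G) ∈ Co P V from hy) h2
    rw [mul_inv_cancel_left] at h3
    exact h3.1
  · intro hx
    exact ⟨x, ⟨hx, x.2⟩, rfl⟩

theorem comap_Hz (P V : Subgroup G) :
    (Hz P V).comap (QuotientGroup.mk' (Kp P V)) = (Co P V).subgroupOf P := by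
  ext x
  exact mem_Hz.trans ⟨fun h => ⟨h, x.2⟩, fun h => h.1⟩

/-- `C₀` maximal in `P` -/
theorem coatom {P V : Subgroup G} (hlt : Co P V < P) (hmin : ∀ Q : Subgroup G, Co P V < Q → Q ≤ P → Q = P) :
    IsCoatom (Hz P V) := by
  constructor
  · intro h1
    apply hlt.not_ge
    intro x hx
    have : ((⟨x, hx⟩ : P) : P ⧸ Kp P V) ∈ Hz P V := by rw [h1]; exact mem_top _
    exact ⟨mem_Hz.mp this, hx⟩
  · intro N hN
    set Q : Subgroup G := (N.comap (QuotientGroup.mk' (Kp P V))).map P.subtype with hQ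
    have hQP : Q ≤ P := map_subtype_le _
    have hQm : ∀ x : P, (x : G) ∈ Q ↔ (x : P ⧸ Kp P V) ∈ N := by
      intro x
      constructor
      · rintro ⟨y, hy, hyx⟩
        have h1 : y = x := Subtype.ext hyx
        rw [← h1]
        exact hy
      · intro hx
        exact ⟨x, hx, rfl⟩
    have hCQ : Co P V < Q := by
      refine lt_of_le_not_ge ?_ ?_
      · intro x hx
        rw [hQm ⟨x, hlt.le hx⟩]
        exact hN.le (mem_Hz.mpr hx.1)
      · intro h1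
        apply hN.not_ge
        intro y hy
        obtain ⟨x, rfl⟩ := QuotientGroup.mk_surjective y
        exact mem_Hz.mpr (h1 ((hQm x).mpr hy)).1
    have h2 := hmin Q hCQ hQP
    rw [eq_top_iff]
    intro y _
    obtain ⟨x, rfl⟩ := QuotientGroup.mk_surjective y
    rw [← hQm, h2]
    exact x.2

/-- `H₀` is core-free -/
theorem core {P V : Subgroup G} (N : Subgroup (P ⧸ Kp P V)) (hN : N.Normal) (hle : N ≤ Hz P V) : N = ⊥ := by
  rw [eq_bot_iff]
  intro y hy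
  obtain ⟨k, rfl⟩ := QuotientGroup.mk_surjective y
  rw [mem_bot, QuotientGroup.eq_one_iff]
  show (k : G) ∈ Kc P V
  rw [mem_Kc]
  refine ⟨k.2, fun x hx => ?_⟩
  have h1 : (((⟨x, hx⟩ : P)⁻¹ * k * ⟨x, hx⟩ : P) : P ⧸ Kp P V) ∈ N := by
    have := hN.conj_mem _ hy (((⟨x, hx⟩ : P)⁻¹ : P) : P ⧸ Kp P V)
    simpa using this
  have h2 := mem_Hz.mp (hle h1)
  have h3 : cj (x⁻¹ * k * x) V = V := cj_eq_iff.mpr h2
  have h4 := congrArg (cj x) h3
  rwa [← cj_mul, mul_assoc, mul_inv_cancel_left, cj_mul] at h4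

/-- the image of `T` in `P/K` -/
abbrev Tz (P V T : Subgroup G) : Subgroup (P ⧸ Kp P V) := (T.subgroupOf P).map (QuotientGroup.mk' (Kp P V))

theorem syl_Tz {P V T : Subgroup G} (h : IsSyl2 P T) : IsSyl2 ⊤ (Tz P V T) := by
  have hpf : Fact (Nat.Prime 2) := ⟨Nat.prime_two⟩
  exact isSyl2_top ((toSyl (isSyl2_subgroupOf h)).mapSurjective (QuotientGroup.mk'_surjective (Kp P V)))

theorem odd_index {P V T : Subgroup G} (h : IsSyl2 P T) (hTV : T ≤ normalizer (V : Set G)) :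
    Odd (Hz P V).index := by
  have hpf : Fact (Nat.Prime 2) := ⟨Nat.prime_two⟩
  have h1 : Tz P V T ≤ Hz P V := map_mono fun t ht => ⟨hTV ht, h.le ht⟩
  have h2 := (toSyl (syl_Tz (V := V) h)).not_dvd_index
  have h3 : (Hz P V).index ∣ (Tz P V T).index := index_dvd_of_le h1
  exact Odd.of_dvd_nat (Nat.not_even_iff_odd.mp fun h7 => h2 h7.two_dvd) h3

theorem not_three {P V : Subgroup G} (h : ¬ 3 ∣ Nat.card (Co P V)) : ¬ 3 ∣ Nat.card (Hz P V) := by
  intro h1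
  apply h
  have h2 : Nat.card (Hz P V) ∣ Nat.card ((Co P V).subgroupOf P) := card_map_dvd _ _
  have h3 : Nat.card ((Co P V).subgroupOf P) ∣ Nat.card (Co P V) := by
    have h4 : Nat.card (((Co P V).subgroupOf P).map P.subtype) = Nat.card ((Co P V).subgroupOf P) :=
      card_map_of_injective P.subtype_injective
    rw [← h4]
    apply card_dvd_of_le
    rw [subgroupOf_map_subtype]
    exact inf_le_left
  exact h1.trans (h2.trans h3)

theorem norm_Tz {P V T : Subgroup G} (h : IsSyl2 P T) (hTV : T ≤ normalizer (V : Set G))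
    (hNT : ∀ x ∈ P, x ∈ normalizer (T : Set G) → x ∈ normalizer (V : Set G)) :
    normalizer (Tz P V T : Set (P ⧸ Kp P V)) ≤ Hz P V := by
  have hBP : T ≤ P := h.le
  intro n hn
  obtain ⟨p, rfl⟩ := QuotientGroup.mk_surjective n
  rw [mem_Hz]
  set R : Subgroup P := (Tz P V T).comap (QuotientGroup.mk' (Kp P V)) with hR
  have hs := isSyl2_subgroupOf h
  have hBR : T.subgroupOf P ≤ R := le_comap_map _ _
  have hRC : ∀ r ∈ R, (r : G) ∈ normalizer (V : Set G) := by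
    rintro r ⟨b, hb, hbr⟩
    rw [← mem_Hz]
    exact ⟨b, ⟨hTV hb, b.2⟩, hbr⟩
  have hS : IsSyl2 R (T.subgroupOf P) := isSyl2_of_le hs hBR le_top
  have hT : IsSyl2 R (cj p (T.subgroupOf P)) := by
    have h2 := isSyl2_cj p hs
    rw [cj_top] at h2
    refine isSyl2_of_le h2 ?_ le_top
    rintro _ ⟨b, hb, rfl⟩
    show ((p * b * p⁻¹ : P) : P ⧸ Kp P V) ∈ Tz P V T
    exact forall_of_mem_normalizer hn _ ⟨b, hb, rfl⟩
  obtain ⟨r, hr, hrp⟩ := isSyl2_conj hT hS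
  have h1 : cj ((r * p : P) : G) T = T := by
    rw [← cj_mul] at hrp
    have h2 := congrArg (Subgroup.map P.subtype) hrp
    rw [subgroupOf_map_subtype, inf_eq_left.mpr hBP] at h2
    have h3 : (cj (r * p) (T.subgroupOf P)).map P.subtype = cj ((r * p : P) : G) T := by
      ext x
      constructor
      · rintro ⟨_, ⟨b, hb, rfl⟩, rfl⟩
        exact ⟨b, hb, rfl⟩
      · rintro ⟨b, hb, rfl⟩
        exact ⟨(r * p) * ⟨b, hBP hb⟩ * (r * p)⁻¹, ⟨⟨b, hBP hb⟩, hb, rfl⟩, rfl⟩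
    rw [h3] at h2
    exact h2.symm
  have h2 : ((r * p : P) : G) ∈ normalizer (V : Set G) := hNT _ (r * p).2 (cj_eq_iff.mp h1)
  have h3 : (p : G) = (r : G)⁻¹ * ((r * p : P) : G) := by
    rw [Subgroup.coe_mul, inv_mul_cancel_left]
  rw [h3]
  exact mul_mem (inv_mem (hRC r hr)) h2

theorem norm_syl {P V T : Subgroup G} (h : IsSyl2 P T) (hTV : T ≤ normalizer (V : Set G))
    (hNT : ∀ x ∈ P, x ∈ normalizer (T : Set G) → x ∈ normalizer (V : Set G))
    (T' : Subgroup (P ⧸ Kp P V)) (hT : IsSyl2 ⊤ T') (hTH : T' ≤ Hz P V) :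
    normalizer (T' : Set (P ⧸ Kp P V)) ≤ Hz P V := by
  have hB := syl_Tz (V := V) h
  have hT' : IsSyl2 (Hz P V) T' := isSyl2_of_le hT hTH le_top
  have hB' : IsSyl2 (Hz P V) (Tz P V T) := isSyl2_of_le hB (map_mono fun t ht => ⟨hTV ht, h.le ht⟩) le_top
  obtain ⟨m, hm, rfl⟩ := isSyl2_conj hB' hT'
  rw [← cj_normalizer]
  rintro _ ⟨x, hx, rfl⟩
  exact mul_mem (mul_mem hm (norm_Tz h hTV hNT hx)) (inv_mem hm)

/-- sections of proper subgroups -/
theorem oddCyc (hc : OddCyc G) (P V : Subgroup G) : OddCyc (P ⧸ Kp P V) :=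
  T1Structure.oddCyc_of_surjective (T1Structure.oddCyc_of_injective hc P.subtype P.subtype_injective)
    (QuotientGroup.mk' (Kp P V)) (QuotientGroup.mk'_surjective _)

theorem kzero (hs : CompStart.SecZero G) {P : Subgroup G} (hP : P ≠ ⊤) (V : Subgroup G) :
    ∀ J : Subgroup (P ⧸ Kp P V), IsSimpleGroup J → (∃ x y : J, x * y ≠ y * x) → KZero J :=
  FFSec.kzero_of_image hs hP (QuotientGroup.mk' (Kp P V)) (QuotientGroup.mk'_surjective _)

namespace Pd

variable {X V T P : Subgroup G}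

/-- a minimal overgroup of `C₀` in `X` -/
theorem exists_min (hX : ¬ X ≤ normalizer (V : Set G)) : ∃ P : Subgroup G, P ≤ X ∧
    normalizer (V : Set G) ⊓ X < P ∧
    ∀ Q : Subgroup G, normalizer (V : Set G) ⊓ X < Q → Q ≤ P → Q = P := by
  have hne : {P : Subgroup G | P ≤ X ∧ normalizer (V : Set G) ⊓ X < P}.Nonempty :=
    ⟨X, le_rfl, lt_of_le_not_ge inf_le_right fun h1 => hX (h1.trans inf_le_left)⟩
  obtain ⟨P, hP⟩ := Set.Finite.exists_minimal (Set.toFinite _) hne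
  refine ⟨P, hP.1.1, hP.1.2, fun Q hQ hQP => ?_⟩
  exact le_antisymm hQP (hP.2 ⟨hQP.trans hP.1.1, hQ⟩ hQP)

omit [Finite G] in
theorem co_eq (hP : P ≤ X) (hCP : normalizer (V : Set G) ⊓ X ≤ P) : Co P V = normalizer (V : Set G) ⊓ X :=
  le_antisymm (inf_le_inf_left _ hP) (le_inf inf_le_left hCP)

/-- **the trichotomy for `P/K`** -/
theorem cases (h : Pd X V T) (hc : OddCyc G) (hs : CompStart.SecZero G) (hX : X ≠ ⊤) (hP : P ≤ X)
    (hlt : normalizer (V : Set G) ⊓ X < P)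
    (hmin : ∀ Q : Subgroup G, normalizer (V : Set G) ⊓ X < Q → Q ≤ P → Q = P) :
    (∀ A : Subgroup (P ⧸ Kp P V), (∀ a ∈ A, a * a = 1) → Nat.card A ≤ 2) ∨
    (∀ a ∈ Hz P V, a * a = 1 → a ≠ 1 → ∀ h : P ⧸ Kp P V, h * a * h⁻¹ ∈ Hz P V → h ∈ Hz P V) ∨
    (3 ∣ Nat.card (P ⧸ Kp P V) ∧ ∀ A : Subgroup (P ⧸ Kp P V), (∀ a ∈ A, a * a = 1) → Nat.card A ≤ 4) := by
  have h0 : Co P V = normalizer (V : Set G) ⊓ X := co_eq hP hlt.le
  have hT : IsSyl2 P T := isSyl2_of_le h.syl ((le_inf h.TV h.syl.le).trans hlt.le) hP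
  have hPt : P ≠ ⊤ := fun h1 => hX (top_le_iff.mp (h1 ▸ hP))
  exact Prim.cases (oddCyc hc P V) (kzero hs hPt V) (coatom (by rw [h0]; exact hlt) (by rw [h0]; exact hmin)) core
    (odd_index hT h.TV) (not_three (by rw [h0]; exact h.three)) (norm_syl hT h.TV fun x hx => h.NT x (hP hx))

end Pd

end Cfsg.Agent.OddCyclic.Eq.Quot
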