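import Cfsg.Agent.OddCyclic.Eq.Line

/-!
# (E_q) of `T_cyc`, Part II, `V ≤ O₂(C_G(Z))`: (4.1), (4.2), (4.4) of blueprints/S0342-A2-helper402.md

`Sit q Z J V D`: `Z ≤ J ≤ V`, `|J| = q`, `|V| = q²`, `D = O₂(C_G(Z))`.

* `Sit.cmN` (4.1): the conjugates of `V` under `N_G(Z)` commute;
* `Sit.meet` (4.1): `V ∩ V^g ≠ 1` gives `[V, V^g] = 1`;
* `Sit.exists_line` (4.2): in a critical pair some line of one point has order `≥ q` modulo the kernel of the other;
* `Sit.exists_off`: the offender `A = V^{gx} ≤ C(V)`, quadratic on `W = ⟨V^P⟩`;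
* `Sit.relIndex_le` (4.4): `|W : C_W(A)| ≤ 8`, with equality only if `K` does not centralise `V`.
-/

set_option autoImplicit false
set_option linter.unusedSectionVars false

namespace Cfsg.Agent.OddCyclic.Eq.SecFour

open Subgroup Cfsg.Agent.OddCyclic.CompStandard Cfsg.Agent.OddCyclic.RedFiveThree Cfsg.Agent.OddCyclic.Eq.Line

variable {G : Type*} [Group G]

/-- Part II, the data. -/
structure Sit (q : ℕ) (Z J V D : Subgroup G) : Prop where
  ZJ : Z ≤ J
  JV : J ≤ V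
  sq : ∀ v ∈ V, v * v = 1
  cardJ : Nat.card J = q
  cardV : Nat.card V = q * q
  q4 : 4 ≤ q
  tr : ∀ v ∈ V, v ≠ 1 → ∃ m ∈ normalizer (V : Set G), m * v * m⁻¹ ∈ Z
  fus : ∀ z ∈ Z, z ≠ 1 → ∀ g : G, z ∈ cj g J → ∃ c ∈ centralizer ({z} : Set G), cj g J = cj c J
  nz : ∀ z ∈ Z, z ≠ 1 → centralizer ({z} : Set G) ≤ normalizer (Z : Set G)
  nJ : normalizer (J : Set G) ≤ normalizer (V : Set G)
  VD : V ≤ D
  DM : D ≤ normalizer (V : Set G)
  Dn : normalizer (Z : Set G) ≤ normalizer (D : Set G)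
  mu : ∀ g : G, V ≤ normalizer (cj g V : Set G) → cj g V ≤ normalizer (V : Set G) → Cm V (cj g V)
  u4 : ∀ a : G, a ∉ normalizer (V : Set G) → Nat.card (V ⊓ centralizer ({a} : Set G) : Subgroup G) ≤ q
  idx : ∀ a ∈ normalizer (V : Set G), a ∉ centralizer (V : Set G) → (∀ v ∈ V, (a * a) * v = v * (a * a)) →
    Nat.card (V ⊓ centralizer ({a} : Set G) : Subgroup G) ≤ q
  quad : ∀ A : Subgroup G, A ≤ normalizer (V : Set G) → (∀ a ∈ A, a * a = 1) →
    (∀ a ∈ A, ∀ b ∈ A, ∀ v ∈ V, (a * v * a⁻¹ * v⁻¹) * b = b * (a * v * a⁻¹ * v⁻¹)) →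
    (centralizer (V : Set G)).relIndex A ≤ 2 ∨ ((centralizer (V : Set G)).relIndex A ≤ q ∧
      ∃ m ∈ normalizer (V : Set G), ∃ a ∈ A, ∀ x ∈ cj m J, ∃ v ∈ V, a * v * a⁻¹ * v⁻¹ = x)

theorem conj_mem_cj_iff {g x : G} {H : Subgroup G} : g * x * g⁻¹ ∈ cj g H ↔ x ∈ H := by
  rw [mem_cj]
  have e : g⁻¹ * (g * x * g⁻¹) * g = x := by group
  rw [e]

theorem Cm.of_cj {A B : Subgroup G} {g : G} (h : Cm (cj g A) (cj g B)) : Cm A B := by
  have h1 := h.cj g⁻¹
  rwa [cj_inv_cj, cj_inv_cj] at h1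

variable [Finite G]

theorem mem_norm_cj {k a : G} {V : Subgroup G} :
    a ∈ normalizer (cj k V : Set G) ↔ k⁻¹ * a * k ∈ normalizer (V : Set G) := by
  rw [← cj_normalizer, mem_cj]

omit [Finite G] in
theorem mem_cent_cj {k a : G} {V : Subgroup G} :
    a ∈ centralizer (cj k V : Set G) ↔ k⁻¹ * a * k ∈ centralizer (V : Set G) := by
  rw [← cj_centralizer, mem_cj]

omit [Finite G] in
/-- `C_{V^k}(a) = C_V(a^{k⁻¹})^k` -/
theorem card_cj_cent (k a : G) (V : Subgroup G) :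
    Nat.card (cj k V ⊓ centralizer ({a} : Set G) : Subgroup G) =
      Nat.card (V ⊓ centralizer ({k⁻¹ * a * k} : Set G) : Subgroup G) := by
  have h1 : cj k (V ⊓ centralizer ({k⁻¹ * a * k} : Set G)) = cj k V ⊓ centralizer ({a} : Set G) := by
    rw [cj_inf, cj_centralizer_singleton]
    have e : k * (k⁻¹ * a * k) * k⁻¹ = a := by group
    rw [e]
  rw [← h1, card_cj]

omit [Finite G] in
/-- index of an intersection -/
theorem relIndex_mul_card {K A : Subgroup G} :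
    K.relIndex A * Nat.card (A ⊓ K : Subgroup G) = Nat.card A := by
  have h2 := Subgroup.relIndex_mul_relIndex ⊥ (K ⊓ A) A bot_le inf_le_right
  rw [relIndex_bot_left, relIndex_bot_left, inf_relIndex_right] at h2
  rw [inf_comm, mul_comm]
  exact h2

namespace Sit

variable {q : ℕ} {Z J V D P : Subgroup G}

theorem u4' (h : Sit q Z J V D) {k a : G} (ha : a ∉ normalizer (cj k V : Set G)) :
    Nat.card (cj k V ⊓ centralizer ({a} : Set G) : Subgroup G) ≤ q := by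
  rw [card_cj_cent]
  exact h.u4 _ fun h1 => ha (mem_norm_cj.2 h1)

theorem idx' (h : Sit q Z J V D) {k a : G} (ha : a ∈ normalizer (cj k V : Set G))
    (hac : a ∉ centralizer (cj k V : Set G)) (ha2 : a * a = 1) :
    Nat.card (cj k V ⊓ centralizer ({a} : Set G) : Subgroup G) ≤ q := by
  rw [card_cj_cent]
  refine h.idx _ (mem_norm_cj.1 ha) (fun h1 => hac (mem_cent_cj.2 h1)) fun v _ => ?_
  have e : k⁻¹ * a * k * (k⁻¹ * a * k) = 1 := by
    calc k⁻¹ * a * k * (k⁻¹ * a * k) = k⁻¹ * (a * a) * k := by group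
      _ = 1 := by rw [ha2]; group
  rw [e, one_mul, mul_one]

theorem quad' (h : Sit q Z J V D) {k : G} {A : Subgroup G} (hA : A ≤ normalizer (cj k V : Set G))
    (hA2 : ∀ a ∈ A, a * a = 1)
    (hq : ∀ a ∈ A, ∀ b ∈ A, ∀ v ∈ cj k V, (a * v * a⁻¹ * v⁻¹) * b = b * (a * v * a⁻¹ * v⁻¹)) :
    (centralizer (cj k V : Set G)).relIndex A ≤ 2 ∨ ((centralizer (cj k V : Set G)).relIndex A ≤ q ∧
      ∃ m : G, cj m V = cj k V ∧ ∃ a ∈ A, ∀ x ∈ cj m J, ∃ v ∈ cj k V, a * v * a⁻¹ * v⁻¹ = x) := by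
  have h1 : (centralizer (cj k V : Set G)).relIndex A = (centralizer (V : Set G)).relIndex (cj k⁻¹ A) := by
    have h2 : cj k (centralizer (V : Set G)) = centralizer (cj k V : Set G) := cj_centralizer k V
    have h3 : A = cj k (cj k⁻¹ A) := (cj_cj_inv k A).symm
    rw [← h2]
    conv_lhs => rw [h3]
    exact relIndex_map_map_of_injective _ _ (MulAut.conj k).injective
  rw [h1]
  have h4 : ∀ a : G, a ∈ cj k⁻¹ A ↔ k * a * k⁻¹ ∈ A := by
    intro a
    rw [mem_cj, inv_inv]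
  have g1 : cj k⁻¹ A ≤ normalizer (V : Set G) := by
    intro a ha
    have h5 := mem_norm_cj.1 (hA ((h4 a).1 ha))
    have e : k⁻¹ * (k * a * k⁻¹) * k = a := by group
    rwa [e] at h5
  have g2 : ∀ a ∈ cj k⁻¹ A, a * a = 1 := by
    intro a ha
    have h5 := hA2 _ ((h4 a).1 ha)
    calc a * a = k⁻¹ * (k * a * k⁻¹ * (k * a * k⁻¹)) * k := by group
      _ = 1 := by rw [h5]; group
  have g3 : ∀ a ∈ cj k⁻¹ A, ∀ b ∈ cj k⁻¹ A, ∀ v ∈ V, (a * v * a⁻¹ * v⁻¹) * b = b * (a * v * a⁻¹ * v⁻¹) := by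
    intro a ha b hb v hv
    have h5 := hq _ ((h4 a).1 ha) _ ((h4 b).1 hb) _ (cj_mem_cj (g := k) hv)
    calc a * v * a⁻¹ * v⁻¹ * b =
        k⁻¹ * (k * a * k⁻¹ * (k * v * k⁻¹) * (k * a * k⁻¹)⁻¹ * (k * v * k⁻¹)⁻¹ * (k * b * k⁻¹)) * k := by group
      _ = b * (a * v * a⁻¹ * v⁻¹) := by rw [h5]; group
  rcases h.quad _ g1 g2 g3 with h2 | ⟨h2, m, hm, a, ha, h3⟩
  · exact Or.inl h2
  · refine Or.inr ⟨h2, k * m, ?_, k * a * k⁻¹, (h4 a).1 ha, fun x hx => ?_⟩
    · rw [cj_mul, cj_eq_iff.2 hm]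
    · rw [cj_mul] at hx
      obtain ⟨v, hv, e⟩ := h3 (k⁻¹ * x * k) (mem_cj.1 hx)
      refine ⟨k * v * k⁻¹, cj_mem_cj hv, ?_⟩
      calc k * a * k⁻¹ * (k * v * k⁻¹) * (k * a * k⁻¹)⁻¹ * (k * v * k⁻¹)⁻¹ =
          k * (a * v * a⁻¹ * v⁻¹) * k⁻¹ := by group
        _ = x := by rw [e]; group

/-- (4.1), first part -/
theorem cmN (h : Sit q Z J V D) {x y : G} (hx : x ∈ normalizer (Z : Set G)) (hy : y ∈ normalizer (Z : Set G)) :
    Cm (cj x V) (cj y V) := by
  have key : ∀ x ∈ normalizer (Z : Set G), Cm V (cj x V) := by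
    intro x hx
    have h1 : cj x D = D := cj_eq_iff.2 (h.Dn hx)
    refine h.mu x ?_ ?_
    · have h2 := cj_mono (g := x) h.DM
      rw [h1, cj_normalizer] at h2
      exact h.VD.trans h2
    · have h2 := cj_mono (g := x) h.VD
      rw [h1] at h2
      exact h2.trans h.DM
  have h1 := (key (x⁻¹ * y) (Subgroup.mul_mem _ (Subgroup.inv_mem _ hx) hy)).cj x
  rwa [← cj_mul, mul_inv_cancel_left] at h1

/-- (4.1), second part -/
theorem meet (h : Sit q Z J V D) {g v : G} (hv : v ∈ V) (hv1 : v ≠ 1) (hvg : v ∈ cj g V) : Cm V (cj g V) := by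
  obtain ⟨m, hm, hmz⟩ := h.tr v hv hv1
  set z : G := m * v * m⁻¹ with hz
  have hz1 : z ≠ 1 := by
    intro h1
    apply hv1
    calc v = m⁻¹ * z * m := by rw [hz]; group
      _ = 1 := by rw [h1]; group
  have hzg : z ∈ cj (m * g) V := by rw [cj_mul]; exact cj_mem_cj hvg
  have hu := mem_cj.1 hzg
  set u : G := (m * g)⁻¹ * z * (m * g) with hu'
  have hu1 : u ≠ 1 := by
    intro h1
    apply hz1
    calc z = (m * g) * u * (m * g)⁻¹ := by rw [hu']; group
      _ = 1 := by rw [h1]; group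
  obtain ⟨m', hm', hmu⟩ := h.tr u hu hu1
  have hzJ : z ∈ cj (m * g * m'⁻¹) J := by
    rw [mem_cj]
    have e : (m * g * m'⁻¹)⁻¹ * z * (m * g * m'⁻¹) = m' * u * m'⁻¹ := by rw [hu']; group
    rw [e]
    exact h.ZJ hmu
  obtain ⟨c, hc, hcJ⟩ := h.fus z hmz hz1 _ hzJ
  have hcN := h.nz z hmz hz1 hc
  have hn : c⁻¹ * (m * g * m'⁻¹) ∈ normalizer (V : Set G) := by
    apply h.nJ
    rw [← cj_eq_iff, cj_mul, hcJ, cj_inv_cj]
  have h1 : cj (m * g) V = cj c V := by
    have e : m * g = c * (c⁻¹ * (m * g * m'⁻¹)) * m' := by group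
    rw [e, cj_mul _ m', cj_eq_iff.2 hm', cj_mul, cj_eq_iff.2 hn]
  have h2 := h.cmN (Subgroup.one_mem _) hcN
  rw [cj_one, ← h1] at h2
  have h3 := h2.cj m⁻¹
  rw [← cj_mul m⁻¹ (m * g), inv_mul_cancel_left, cj_eq_iff.2 (inv_mem hm)] at h3
  exact h3

theorem meet' (h : Sit q Z J V D) {x g v : G} (hv : v ∈ cj x V) (hv1 : v ≠ 1) (hvg : v ∈ cj g V) :
    Cm (cj x V) (cj g V) := by
  have h1 : x⁻¹ * v * x ∈ cj (x⁻¹ * g) V := by
    rw [mem_cj]
    have e : (x⁻¹ * g)⁻¹ * (x⁻¹ * v * x) * (x⁻¹ * g) = g⁻¹ * v * g := by group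
    rw [e]
    exact mem_cj.1 hvg
  have h2 := h.meet (mem_cj.1 hv) (fun h3 => hv1 (by
    calc v = x * (x⁻¹ * v * x) * x⁻¹ := by group
      _ = 1 := by rw [h3]; group)) h1
  have h3 := h2.cj x
  rwa [← cj_mul, mul_inv_cancel_left] at h3

/-- `P` between `C₀` and `C_G(Z)` -/
structure Pp (Z V P : Subgroup G) : Prop where
  CP : normalizer (V : Set G) ⊓ centralizer (Z : Set G) ≤ P
  PZ : P ≤ centralizer (Z : Set G)

theorem cmP (h : Sit q Z J V D) (p : Pp Z V P) {x y : G} (hx : x ∈ P) (hy : y ∈ P) : Cm (cj x V) (cj y V) :=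
  h.cmN (centralizer_le_normalizer _ (p.PZ hx)) (centralizer_le_normalizer _ (p.PZ hy))

theorem cm_WW (h : Sit q Z J V D) (p : Pp Z V P) : Cm (Wc P V) (Wc P V) :=
  cm_Wc fun _ hx => (cm_Wc fun _ hy => (h.cmP p hy hx)).symm

theorem W_sq (h : Sit q Z J V D) (p : Pp Z V P) : ∀ w ∈ Wc P V, w * w = 1 := by
  intro w hw
  induction hw using Subgroup.closure_induction with
  | mem x hx =>
    obtain ⟨g, hg, x, hx, rfl⟩ := hx
    show (g * x * g⁻¹) * (g * x * g⁻¹) = 1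
    calc (g * x * g⁻¹) * (g * x * g⁻¹) = g * (x * x) * g⁻¹ := by group
      _ = 1 := by rw [h.sq x hx]; group
  | one => rw [mul_one]
  | mul x y hx' hy' hx hy =>
    calc x * y * (x * y) = x * (y * x) * y := by group
      _ = x * (x * y) * y := by rw [h.cm_WW p y hy' x hx']
      _ = (x * x) * (y * y) := by group
      _ = 1 := by rw [hx, hy, mul_one]
  | inv x _ hx => rw [← mul_inv_rev, hx, inv_one]

theorem cent_le (h : Sit q Z J V D) (p : Pp Z V P) : centralizer (V : Set G) ≤ P :=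
  (le_inf (centralizer_le_normalizer _) (centralizer_le (h.ZJ.trans h.JV))).trans p.CP

theorem cr_le (h : Sit q Z J V D) (p : Pp Z V P) {g : G} (c : Fr.Cr P V g) : cj g (Wc P V) ≤ P :=
  (cm_iff.mp c.right).trans (h.cent_le p)

/-- `W ≤ P^g` -/
theorem cr_le' (h : Sit q Z J V D) (p : Pp Z V P) {g : G} (c : Fr.Cr P V g) : Wc P V ≤ cj g P := by
  have h1 := cj_mono (g := g) (h.cr_le p c.inv)
  rwa [cj_cj_inv] at h1

theorem sq_cj (h : Sit q Z J V D) {k v : G} (hv : v ∈ cj k V) : v * v = 1 := by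
  have h1 := h.sq _ (mem_cj.1 hv)
  calc v * v = k * ((k⁻¹ * v * k) * (k⁻¹ * v * k)) * k⁻¹ := by group
    _ = 1 := by rw [h1]; group

/-- the kernel normalises the lines -/
theorem Kc_norm {x k : G} (hx : x ∈ P) (hk : k ∈ Kc P V) : k ∈ normalizer (cj x V : Set G) := by
  rw [← cj_eq_iff]
  exact (mem_Kc.1 hk).2 x hx

theorem Kc_norm' {g x k : G} (hx : x ∈ P) (hk : k ∈ cj g (Kc P V)) : k ∈ normalizer (cj g (cj x V) : Set G) := by
  rw [mem_norm_cj]
  exact Kc_norm hx (mem_cj.1 hk)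

/-- `[V^x ∩ K', V^{gy} ∩ K] = 1` if the two lines do not commute -/
theorem comm_inf (h : Sit q Z J V D) {g x y : G} (hx : x ∈ P) (hy : y ∈ P)
    (hn : ¬ Cm (cj x V) (cj g (cj y V))) {a b : G} (ha : a ∈ cj x V) (haK : a ∈ cj g (Kc P V))
    (hb : b ∈ cj g (cj y V)) (hbK : b ∈ Kc P V) : a * b = b * a := by
  by_contra hne
  apply hn
  have h1 : a * b * a⁻¹ * b⁻¹ ∈ cj x V := by
    have h2 := (mem_normalizer_iff.1 (Kc_norm hx hbK) _).1 (inv_mem ha)
    have e : a * b * a⁻¹ * b⁻¹ = a * (b * a⁻¹ * b⁻¹) := by group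
    rw [e]
    exact mul_mem ha h2
  have h2 : a * b * a⁻¹ * b⁻¹ ∈ cj g (cj y V) := by
    have h3 := (mem_normalizer_iff.1 (Kc_norm' hy haK) _).1 hb
    exact mul_mem h3 (inv_mem hb)
  rw [← cj_mul] at h2 ⊢
  refine h.meet' h1 (fun h3 => hne ?_) h2
  calc a * b = (a * b * a⁻¹ * b⁻¹) * (b * a) := by group
    _ = b * a := by rw [h3, one_mul]

/-- the count of (4.2) -/
theorem le_of_card {K A : Subgroup G} (hA : Nat.card A = q * q) (h4 : 4 ≤ q)
    (hc : Nat.card (A ⊓ K : Subgroup G) ≤ q) : q ≤ K.relIndex A := by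
  have h1 := relIndex_mul_card (K := K) (A := A)
  rw [hA] at h1
  by_contra hcon
  push Not at hcon
  have h2 : K.relIndex A * Nat.card (A ⊓ K : Subgroup G) ≤ K.relIndex A * q := Nat.mul_le_mul_left _ hc
  have h3 : K.relIndex A * q < q * q := Nat.mul_lt_mul_of_pos_right hcon (by omega)
  omega

theorem relIndex_cj (g : G) (K A : Subgroup G) : (cj g K).relIndex A = K.relIndex (cj g⁻¹ A) := by
  have h3 : A = cj g (cj g⁻¹ A) := (cj_cj_inv g A).symm
  conv_lhs => rw [h3]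
  exact relIndex_map_map_of_injective _ _ (MulAut.conj g).injective

/-- (4.2), one half -/
theorem exists_line_aux (h : Sit q Z J V D) (p : Pp Z V P) {g : G} (c : Fr.Cr P V g) {x : G} (hx : x ∈ P)
    (hxK : ¬ cj x V ≤ cj g (Kc P V)) :
    (∃ x ∈ P, q ≤ (Kc P V).relIndex (cj g (cj x V))) ∨ ∃ x ∈ P, q ≤ (Kc P V).relIndex (cj g⁻¹ (cj x V)) := by
  obtain ⟨a, ha, haK⟩ := SetLike.not_le_iff_exists.mp hxK
  have haP : g⁻¹ * a * g ∈ P := mem_cj.1 (h.cr_le' p c (cj_le_Wc hx ha))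
  have haK' : g⁻¹ * a * g ∉ Kc P V := fun h1 => haK (mem_cj.2 h1)
  rw [mem_Kc] at haK'
  push Not at haK'
  obtain ⟨y, hy, hne⟩ := haK' haP
  have han : a ∉ normalizer (cj g (cj y V) : Set G) := by
    intro h1
    apply hne
    rw [cj_eq_iff]
    exact mem_norm_cj.1 h1
  have hcard : ∀ k : G, Nat.card (cj k V) = q * q := fun k => by rw [card_cj, h.cardV]
  have hc1 : Nat.card (cj g (cj y V) ⊓ centralizer ({a} : Set G) : Subgroup G) ≤ q := by
    rw [← cj_mul] at han ⊢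
    exact h.u4' han
  by_cases hD : Cm (cj g (cj y V) ⊓ Kc P V) (cj x V)
  · left
    refine ⟨y, hy, le_of_card (by rw [← cj_mul]; exact hcard _) h.q4 ?_⟩
    refine (Subgroup.card_le_of_le ?_).trans hc1
    refine le_inf inf_le_left fun b hb => ?_
    rw [mem_centralizer_singleton_iff]
    exact hD b hb a ha
  · right
    refine ⟨x, hx, ?_⟩
    rw [← relIndex_cj]
    refine le_of_card (hcard x) h.q4 ?_
    have hn : ¬ Cm (cj x V) (cj g (cj y V)) := fun h1 => hD (h1.symm.mono inf_le_left le_rfl)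
    rw [Cm] at hD
    push Not at hD
    obtain ⟨b, hb, w, hw, hbw⟩ := hD
    have hc2 : Nat.card (cj x V ⊓ centralizer ({b} : Set G) : Subgroup G) ≤ q := by
      refine h.idx' (Kc_norm hx hb.2) (fun h1 => hbw ?_) ?_
      · exact (mem_centralizer_iff.1 h1 w hw).symm
      · have h1 := hb.1
        rw [← cj_mul] at h1
        exact h.sq_cj h1
    refine (Subgroup.card_le_of_le ?_).trans hc2
    intro v hv
    refine ⟨hv.1, ?_⟩
    show v ∈ centralizer ({b} : Set G)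
    rw [mem_centralizer_singleton_iff]
    exact h.comm_inf hx hy hn hv.1 hv.2 hb.1 hb.2

/-- **(4.2)** -/
theorem exists_line (h : Sit q Z J V D) (p : Pp Z V P) {g : G} (c : Fr.Cr P V g) :
    (∃ x ∈ P, q ≤ (Kc P V).relIndex (cj g (cj x V))) ∨ ∃ x ∈ P, q ≤ (Kc P V).relIndex (cj g⁻¹ (cj x V)) := by
  obtain ⟨x, hx, h1⟩ := exists_not_cm c.not
  have h2 : ¬ Cm (Wc P V) (cj g⁻¹ (cj x V)) := by
    intro h3
    have h4 := h3.cj g
    rw [cj_cj_inv] at h4
    exact h1 h4.symm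
  obtain ⟨y, hy, h3⟩ := exists_not_cm h2
  have h4 : ¬ Cm (cj x V) (cj g (cj y V)) := by
    intro h5
    have h6 := h5.cj g⁻¹
    rw [cj_inv_cj] at h6
    exact h3 h6.symm
  by_cases h5 : cj x V ≤ cj g (Kc P V)
  · by_cases h6 : cj g (cj y V) ≤ Kc P V
    · exact absurd (fun a ha b hb => h.comm_inf hx hy h4 ha (h5 ha) hb (h6 hb)) h4
    · have h7 : ¬ cj y V ≤ cj g⁻¹ (Kc P V) := by
        intro h8
        apply h6
        have h9 := cj_mono (g := g) h8
        rwa [cj_cj_inv] at h9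
      have h8 := h.exists_line_aux p c.inv hy h7
      rw [inv_inv] at h8
      exact h8.symm
  · exact h.exists_line_aux p c hx h5

/-- a critical element with a big line -/
theorem exists_cr (h : Sit q Z J V D) (p : Pp Z V P)
    (hno : ∀ R : Subgroup G, V ≤ R → (∀ x ∈ R, x * x = 1) → normalizer (V : Set G) ≤ normalizer (R : Set G) →
      P ≤ normalizer (R : Set G) → False) :
    ∃ g, Fr.Cr P V g ∧ ∃ x ∈ P, q ≤ (Kc P V).relIndex (cj g (cj x V)) := by
  obtain ⟨g, -, h1, h2, h3⟩ := Crit.exists_crit (M := normalizer (V : Set G)) (P := P) (V := V) (W := Wc P V)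
    le_rfl (le_Wc P V) (norm_Wc P V) (h.W_sq p) hno
  have c : Fr.Cr P V g := ⟨h1, h2, h3⟩
  rcases h.exists_line p c with h4 | h4
  · exact ⟨g, c, h4⟩
  · exact ⟨g⁻¹, c.inv, h4⟩

/-- the line is in `C(V)` -/
theorem line_le (_h : Sit q Z J V D) {g x : G} (c : Fr.Cr P V g) (hx : x ∈ P) :
    cj g (cj x V) ≤ centralizer (V : Set G) :=
  (cj_mono (cj_le_Wc hx)).trans (cm_iff.mp c.right)

/-- the line is quadratic on `W` -/
theorem line_quad (h : Sit q Z J V D) (p : Pp Z V P) {g x : G} (c : Fr.Cr P V g) (hx : x ∈ P) :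
    ∀ a ∈ cj g (cj x V), ∀ b ∈ cj g (cj x V), ∀ w ∈ Wc P V, (a * w * a⁻¹ * w⁻¹) * b = b * (a * w * a⁻¹ * w⁻¹) := by
  intro a ha b hb w hw
  have hle : cj g (cj x V) ≤ cj g (Wc P V) := cj_mono (cj_le_Wc hx)
  have h1 : Wc P V ≤ normalizer (cj g (Wc P V) : Set G) := by
    have h3 := (h.cr_le' p c).trans (cj_mono (g := g) (norm_Wc P V))
    rwa [cj_normalizer] at h3
  have h2 : a * w * a⁻¹ * w⁻¹ ∈ cj g (Wc P V) := by
    have h3 : a * w * a⁻¹ * w⁻¹ = a * (w * a⁻¹ * w⁻¹) := by group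
    rw [h3]
    exact mul_mem (hle ha) (forall_of_mem_normalizer (h1 hw) _ (inv_mem (hle ha)))
  exact (h.cm_WW p).cj g _ h2 _ (hle hb)

/-- `|W : W ∩ N(A)| ≤ r` -/
theorem norm_relIndex_le (h : Sit q Z J V D) (p : Pp Z V P) {g x : G} (c : Fr.Cr P V g) (hx : x ∈ P) {r : ℕ}
    (hr : ∀ E : Subgroup G, E ≤ P → (∀ e ∈ E, e * e = 1) → (Kc P V).relIndex E ≤ r) :
    (normalizer (cj g (cj x V) : Set G)).relIndex (Wc P V) ≤ (cj g (Kc P V)).relIndex (Wc P V) ∧
      (cj g (Kc P V)).relIndex (Wc P V) ≤ r := by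
  constructor
  · refine relIndex_le_of_le_left (fun k hk => Kc_norm' hx hk) ?_
    rw [Subgroup.relIndex]
    exact index_ne_zero_of_finite
  · rw [relIndex_cj]
    refine hr _ (h.cr_le p c.inv) ?_
    intro e he
    have h1 := h.W_sq p _ (mem_cj.1 he)
    calc e * e = g⁻¹ * ((g⁻¹⁻¹ * e * g⁻¹) * (g⁻¹⁻¹ * e * g⁻¹)) * g := by group
      _ = 1 := by rw [h1]; group

/-- **(4.4)** -/
theorem relIndex_le (h : Sit 4 Z J V D) (p : Pp Z V P) {g x : G} (c : Fr.Cr P V g) (hx : x ∈ P)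
    (hr : ∀ E : Subgroup G, E ≤ P → (∀ e ∈ E, e * e = 1) → (Kc P V).relIndex E ≤ 4) :
    (centralizer (cj g (cj x V) : Set G)).relIndex (Wc P V) ≤ 8 ∧
      ((centralizer (cj g (cj x V) : Set G)).relIndex (Wc P V) = 8 → ¬ Kc P V ≤ centralizer (V : Set G)) := by
  set A := cj g (cj x V) with hA
  obtain ⟨hn1, hn2⟩ := h.norm_relIndex_le p c hx hr
  rw [← hA] at hn1
  have hAP : A ≤ P := (h.line_le c hx).trans (h.cent_le p)
  have hAk : A = cj (g * x) V := by rw [cj_mul]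
  set E : Subgroup G := normalizer (A : Set G) ⊓ Wc P V with hE
  have hprod : (centralizer (A : Set G)).relIndex E * (normalizer (A : Set G)).relIndex (Wc P V) =
      (centralizer (A : Set G)).relIndex (Wc P V) := by
    have h1 := relIndex_mul_relIndex (centralizer (A : Set G) ⊓ Wc P V) E (Wc P V)
      (inf_le_inf_right _ (centralizer_le_normalizer _)) inf_le_right
    have h3 : (centralizer (A : Set G) ⊓ Wc P V).relIndex (Wc P V) = (centralizer (A : Set G)).relIndex (Wc P V) :=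
      inf_relIndex_right _ _
    have h4 : E.relIndex (Wc P V) = (normalizer (A : Set G)).relIndex (Wc P V) := inf_relIndex_right _ _
    have h2 : centralizer (A : Set G) ⊓ Wc P V = centralizer (A : Set G) ⊓ E := by
      rw [hE, ← inf_assoc, inf_eq_left.2 (centralizer_le_normalizer (A : Set G))]
    have h5 : (centralizer (A : Set G) ⊓ Wc P V).relIndex E = (centralizer (A : Set G)).relIndex E := by
      rw [h2]
      exact inf_relIndex_right _ _
    rw [h3, h4, h5] at h1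
    exact h1
  have hquad := h.quad' (k := g * x) (A := E) (by rw [← hAk]; exact inf_le_left)
    (fun e he => h.W_sq p e he.2) (by
      intro a ha b hb v hv
      rw [← hAk] at hv
      have hvP := hAP hv
      have h1 : a * v * a⁻¹ * v⁻¹ ∈ Wc P V := by
        have h2 : a * v * a⁻¹ * v⁻¹ = a * (v * a⁻¹ * v⁻¹) := by group
        rw [h2]
        exact mul_mem ha.2 (forall_of_mem_normalizer (norm_Wc P V hvP) _ (inv_mem ha.2))
      exact h.cm_WW p _ h1 _ hb.2)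
  rw [← hAk] at hquad
  by_cases hWA : Wc P V ≤ normalizer (A : Set G)
  · -- `W` normalises `A`
    have h1 : (normalizer (A : Set G)).relIndex (Wc P V) = 1 := relIndex_eq_one.2 hWA
    rw [h1, mul_one] at hprod
    have h2 : (centralizer (A : Set G)).relIndex E ≤ 4 := by
      rcases hquad with h3 | ⟨h3, -⟩
      · exact h3.trans (by norm_num)
      · exact h3
    rw [← hprod]
    exact ⟨h2.trans (by norm_num), fun h3 => by omega⟩
  · obtain ⟨w, hw, hwA⟩ := SetLike.not_le_iff_exists.mp hWA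
    have h2 : (centralizer (A : Set G)).relIndex E ≤ 2 := by
      rcases hquad with h3 | ⟨-, m, hm, a, ha, h3⟩
      · exact h3
      · exfalso
        apply hwA
        rw [← hm, mem_norm_cj]
        apply h.nJ
        apply centralizer_le_normalizer
        rw [← mem_cent_cj, mem_centralizer_iff]
        intro j hj
        obtain ⟨v, hv, rfl⟩ := h3 j hj
        have hvP := hAP hv
        have h4 : a * v * a⁻¹ * v⁻¹ ∈ Wc P V := by
          have h5 : a * v * a⁻¹ * v⁻¹ = a * (v * a⁻¹ * v⁻¹) := by group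
          rw [h5]
          exact mul_mem ha.2 (forall_of_mem_normalizer (norm_Wc P V hvP) _ (inv_mem ha.2))
        exact h.cm_WW p _ h4 _ hw
    have h3 : (centralizer (A : Set G)).relIndex E * (normalizer (A : Set G)).relIndex (Wc P V) ≤ 2 * 4 :=
      Nat.mul_le_mul h2 (hn1.trans hn2)
    rw [← hprod]
    refine ⟨h3, fun h4 hK => ?_⟩
    have h5 : (normalizer (A : Set G)).relIndex (Wc P V) = 4 := by
      have h6 := hn1.trans hn2
      nlinarith
    have h6 : (centralizer (A : Set G)).relIndex E = 2 := by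
      rw [h5] at h4
      omega
    -- `W ∩ N(A) = W ∩ K'`
    have h7 : cj g (Kc P V) ⊓ Wc P V = E := by
      have h8 : cj g (Kc P V) ⊓ Wc P V ≤ E := inf_le_inf_right _ (fun k hk => Kc_norm' hx hk)
      have h9 : (cj g (Kc P V)).relIndex (Wc P V) = 4 := le_antisymm hn2 (h5 ▸ hn1)
      refine Subgroup.eq_of_le_of_card_ge h8 ?_
      have h10 := relIndex_mul_card (K := cj g (Kc P V)) (A := Wc P V)
      have h11 := relIndex_mul_card (K := normalizer (A : Set G)) (A := Wc P V)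
      rw [h9] at h10
      rw [h5] at h11
      rw [hE, inf_comm, inf_comm (cj g (Kc P V))]
      omega
    have h8 : E ≤ centralizer (A : Set G) := by
      rw [← h7]
      intro k hk
      have h9 := mem_cj.1 hk.1
      rw [hA, mem_cent_cj, mem_cent_cj]
      apply hK
      rw [mem_Kc] at h9 ⊢
      refine ⟨P.mul_mem (P.mul_mem (P.inv_mem hx) h9.1) hx, fun y hy => ?_⟩
      have h10 := h9.2 (x * y) (P.mul_mem hx hy)
      have h11 := congrArg (cj x⁻¹) h10
      rw [cj_mul x y, cj_inv_cj] at h11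
      rw [cj_mul, cj_mul]
      exact h11
    rw [relIndex_eq_one.2 h8] at h6
    omega

end Sit

end Cfsg.Agent.OddCyclic.Eq.SecFour
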