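import Cfsg.Agent.OddCyclic.Eq.Line

/-!
# (E_q), piece J = (4.7) of blueprints/S0342-A2-helper402.md

`W = V V_P` is impossible: `C₀ = N_P(V)` acts on `V` as `D₈`, `K = Kc P V` acts nontrivially on `V`, `P` contains an
element of 7-power order outside `C₀`, `C₀` is maximal in `P`.
-/

set_option autoImplicit false

namespace Cfsg.Agent.OddCyclic.Eq.SecSeven

open Subgroup Cfsg.Agent.OddCyclic.CompStandard Cfsg.Agent.OddCyclic.RedFiveThree Cfsg.Agent.OddCyclic.Eq.Line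

variable {G : Type*} [Group G]

structure Sit (Z J V P : Subgroup G) : Prop where
  ZJ : Z ≤ J
  JV : J ≤ V
  PZ : P ≤ centralizer (Z : Set G)
  max : ∀ N : Subgroup G, normalizer (V : Set G) ⊓ P ≤ N → N ≤ P → N ≤ normalizer (V : Set G) ∨ N = P
  JZ : ∀ c ∈ normalizer (V : Set G) ⊓ P, ∀ j ∈ J, c * j * c⁻¹ * j⁻¹ ∈ Z
  PJ : ¬ P ≤ normalizer (J : Set G)
  ab : ∀ x ∈ P, Cm V (cj x V)
  small : ∀ c ∈ normalizer (V : Set G) ⊓ P, (∀ v ∈ V, c * v * c⁻¹ * v⁻¹ ∈ Z) → c ∈ centralizer (V : Set G)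
  center : ∀ N : Subgroup G, N ≤ normalizer (V : Set G) ⊓ P → normalizer (V : Set G) ⊓ P ≤ normalizer (N : Set G) →
    ¬ N ≤ centralizer (V : Set G) → ∃ s ∈ N, (∀ c ∈ normalizer (V : Set G) ⊓ P,
      c * s * c⁻¹ * s⁻¹ ∈ centralizer (V : Set G)) ∧ (∀ j ∈ J, s * j * s⁻¹ * j⁻¹ = 1) ∧
      (∀ j ∈ J, ∃ v ∈ V, s * v * s⁻¹ * v⁻¹ = j) ∧ (∀ v ∈ V, s * v * s⁻¹ * v⁻¹ ∈ J)
  eight : (centralizer (V : Set G)).relIndex (normalizer (V : Set G) ⊓ P) = 8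
  nab : ∃ a ∈ normalizer (V : Set G) ⊓ P, ∃ b ∈ normalizer (V : Set G) ⊓ P,
    a * b * a⁻¹ * b⁻¹ ∉ centralizer (V : Set G)
  seven : ∃ y ∈ P, y ∉ normalizer (V : Set G) ∧ ∃ n : ℕ, y ^ (7 ^ n) = 1
  KV : ¬ Kc P V ≤ centralizer (V : Set G)
  WV : ∀ x ∈ P, cj x V ≤ V ⊔ Wc P J

theorem mem_cen {V : Subgroup G} {k : G} : k ∈ centralizer (V : Set G) ↔ ∀ v ∈ V, k * v * k⁻¹ * v⁻¹ = 1 := by
  rw [mem_centralizer_iff]
  refine forall₂_congr fun v _ => ?_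
  rw [mul_inv_eq_one, mul_inv_eq_iff_eq_mul]
  exact eq_comm

theorem mem_sup_of_cm {A B : Subgroup G} (h : Cm A B) {x : G} (hx : x ∈ A ⊔ B) : ∃ a ∈ A, ∃ b ∈ B, x = a * b := by
  let S : Subgroup G :=
    { carrier := {x | ∃ a ∈ A, ∃ b ∈ B, x = a * b}
      one_mem' := ⟨1, one_mem _, 1, one_mem _, (mul_one _).symm⟩
      mul_mem' := by
        rintro _ _ ⟨a, ha, b, hb, rfl⟩ ⟨a', ha', b', hb', rfl⟩
        refine ⟨a * a', mul_mem ha ha', b * b', mul_mem hb hb', ?_⟩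
        rw [mul_assoc, ← mul_assoc b, ← h a' ha' b hb, mul_assoc a' b, ← mul_assoc]
      inv_mem' := by
        rintro _ ⟨a, ha, b, hb, rfl⟩
        refine ⟨a⁻¹, inv_mem ha, b⁻¹, inv_mem hb, ?_⟩
        rw [_root_.mul_inv_rev, h a⁻¹ (inv_mem ha) b⁻¹ (inv_mem hb)] }
  have hS : A ⊔ B ≤ S := sup_le (fun a ha => ⟨a, ha, 1, one_mem _, (mul_one _).symm⟩)
    (fun b hb => ⟨1, one_mem _, b, hb, (one_mul _).symm⟩)
  exact hS hx

variable [Finite G]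

theorem Kc_le (P V : Subgroup G) : Kc P V ≤ normalizer (V : Set G) ⊓ P := by
  intro k hk
  rw [mem_Kc] at hk
  refine ⟨?_, hk.1⟩
  have h := hk.2 1 P.one_mem
  rw [cj_one] at h
  exact cj_eq_iff.mp h

theorem Kc_conj {P V : Subgroup G} {x k : G} (hx : x ∈ P) (hk : k ∈ Kc P V) : x * k * x⁻¹ ∈ Kc P V := by
  rw [mem_Kc] at hk ⊢
  refine ⟨P.mul_mem (P.mul_mem hx hk.1) (P.inv_mem hx), fun y hy => ?_⟩
  have h1 := hk.2 (x⁻¹ * y) (P.mul_mem (P.inv_mem hx) hy)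
  rw [← cj_mul, show x * k * x⁻¹ * y = x * (k * (x⁻¹ * y)) by group, cj_mul, cj_mul, h1, ← cj_mul,
    mul_inv_cancel_left]

namespace Sit

variable {Z J V P : Subgroup G}

theorem cenZ (h : Sit Z J V P) {x z : G} (hx : x ∈ P) (hz : z ∈ Z) : x * z = z * x :=
  (mem_centralizer_iff.1 (h.PZ hx) z hz).symm

theorem ab' (h : Sit Z J V P) {x y : G} (hx : x ∈ P) (hy : y ∈ P) : Cm (cj x V) (cj y V) := by
  have h1 := (h.ab (x⁻¹ * y) (P.mul_mem (P.inv_mem hx) hy)).cj x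
  rwa [← cj_mul, mul_inv_cancel_left] at h1

theorem cm_WW (h : Sit Z J V P) : Cm (Wc P V) (Wc P V) :=
  cm_Wc fun _ hx => (cm_Wc fun _ hy => (h.ab' hy hx)).symm

theorem WJ_le (h : Sit Z J V P) : Wc P J ≤ Wc P V :=
  Wc_le fun _ hx => (cj_mono h.JV).trans (cj_le_Wc hx)

/-- `K` acts trivially on `V_P / Z` -/
theorem comm_WJ (h : Sit Z J V P) {k u : G} (hk : k ∈ Kc P V) (hu : u ∈ Wc P J) : k * u * k⁻¹ * u⁻¹ ∈ Z := by
  induction hu using Subgroup.closure_induction with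
  | mem u hu =>
    obtain ⟨x, hx, hu⟩ := hu
    have h1 : x⁻¹ * k * x ∈ Kc P V := by
      have := Kc_conj (P.inv_mem hx) hk
      rwa [inv_inv] at this
    have h2 := h.JZ _ (Kc_le _ _ h1) _ (mem_cj.mp hu)
    have h3 : k * u * k⁻¹ * u⁻¹ =
        x * (x⁻¹ * k * x * (x⁻¹ * u * x) * (x⁻¹ * k * x)⁻¹ * (x⁻¹ * u * x)⁻¹) * x⁻¹ := by group
    rw [h3, h.cenZ hx h2, mul_inv_cancel_right]
    exact h2
  | one => rw [mul_one, mul_inv_cancel, one_mul, inv_one]; exact one_mem _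
  | mul u v hu' hv' hu hv =>
    have hkP : k ∈ P := (mem_Kc.1 hk).1
    have huP : ∀ z ∈ Z, u * z = z * u := fun z hz =>
      h.cm_WW u (h.WJ_le hu') z ((h.ZJ.trans (h.JV.trans (le_Wc P V))) hz)
    have h3 : k * (u * v) * k⁻¹ * (u * v)⁻¹ = (k * u * k⁻¹ * u⁻¹) * (u * (k * v * k⁻¹ * v⁻¹) * u⁻¹) := by group
    rw [h3, huP _ hv, mul_inv_cancel_right]
    exact mul_mem hu hv
  | inv u hu' hu =>
    have huP : ∀ z ∈ Z, u * z = z * u := fun z hz =>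
      h.cm_WW u (h.WJ_le hu') z ((h.ZJ.trans (h.JV.trans (le_Wc P V))) hz)
    have h3 : k * u⁻¹ * k⁻¹ * (u⁻¹)⁻¹ = (u⁻¹ * (k * u * k⁻¹ * u⁻¹) * u)⁻¹ := by group
    have h4 : u⁻¹ * (k * u * k⁻¹ * u⁻¹) * u = k * u * k⁻¹ * u⁻¹ := by
      rw [mul_assoc, ← huP _ hu, inv_mul_cancel_left]
    rw [h3, h4]
    exact inv_mem hu

/-- `C_K(V) = C_K(W)` -/
theorem cen_cj (h : Sit Z J V P) {k x : G} (hk : k ∈ Kc P V) (hkV : k ∈ centralizer (V : Set G)) (hx : x ∈ P) :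
    x⁻¹ * k * x ∈ centralizer (V : Set G) := by
  have h1 : x⁻¹ * k * x ∈ Kc P V := by
    have := Kc_conj (P.inv_mem hx) hk
    rwa [inv_inv] at this
  refine h.small _ (Kc_le _ _ h1) fun v hv => ?_
  have h2 : x * v * x⁻¹ ∈ V ⊔ Wc P J := h.WV x hx (cj_mem_cj hv)
  have h3 : x⁻¹ * k * x * v * (x⁻¹ * k * x)⁻¹ * v⁻¹ = x⁻¹ * (k * (x * v * x⁻¹) * k⁻¹ * (x * v * x⁻¹)⁻¹) * x := by
    group
  have hcm : Cm V (Wc P J) := fun v hv w hw => h.cm_WW v (le_Wc P V hv) w (h.WJ_le hw)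
  have h4 : ∀ w ∈ V ⊔ Wc P J, k * w * k⁻¹ * w⁻¹ ∈ Z := by
    intro w hw
    rw [sup_comm] at hw
    obtain ⟨u, hu, v, hv, rfl⟩ := mem_sup_of_cm hcm.symm hw
    have h5 : k * (u * v) * k⁻¹ * (u * v)⁻¹ = (k * u * k⁻¹ * u⁻¹) * (u * (k * v * k⁻¹ * v⁻¹) * u⁻¹) := by group
    rw [h5, mem_cen.1 hkV v hv, mul_one, mul_inv_cancel, mul_one]
    exact h.comm_WJ hk hu
  rw [h3]
  have h5 := h4 _ h2
  have h6 : x⁻¹ * (k * (x * v * x⁻¹) * k⁻¹ * (x * v * x⁻¹)⁻¹) = (k * (x * v * x⁻¹) * k⁻¹ * (x * v * x⁻¹)⁻¹) * x⁻¹ :=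
    h.cenZ (P.inv_mem hx) h5
  rw [h6, inv_mul_cancel_right]
  exact h5

/-- the elements of `P` centralising `s` modulo `C_K(V)` -/
def NN (h : Sit Z J V P) (s : G) (hs : s ∈ Kc P V) : Subgroup G where
  carrier := {x | x ∈ P ∧ x * s * x⁻¹ * s⁻¹ ∈ centralizer (V : Set G)}
  one_mem' := ⟨P.one_mem, by rw [one_mul, inv_one, mul_one, mul_inv_cancel]; exact one_mem _⟩
  mul_mem' := by
    rintro x y ⟨hx, hx'⟩ ⟨hy, hy'⟩
    refine ⟨P.mul_mem hx hy, ?_⟩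
    have h1 : x * y * s * (x * y)⁻¹ * s⁻¹ = (x⁻¹)⁻¹ * (y * s * y⁻¹ * s⁻¹) * x⁻¹ * (x * s * x⁻¹ * s⁻¹) := by group
    rw [h1]
    exact mul_mem (h.cen_cj (mul_mem (Kc_conj hy hs) (inv_mem hs)) hy' (P.inv_mem hx)) hx'
  inv_mem' := by
    rintro x ⟨hx, hx'⟩
    refine ⟨P.inv_mem hx, ?_⟩
    have h1 : x⁻¹ * s * (x⁻¹)⁻¹ * s⁻¹ = x⁻¹ * (s * x * s⁻¹ * x⁻¹) * x := by group
    have h2 : s * x * s⁻¹ * x⁻¹ = (x * s * x⁻¹ * s⁻¹)⁻¹ := by group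
    have h3 : s * x * s⁻¹ * x⁻¹ ∈ Kc P V := by
      rw [h2]; exact inv_mem (mul_mem (Kc_conj hx hs) (inv_mem hs))
    rw [h1]
    refine h.cen_cj h3 ?_ hx
    rw [h2]
    exact inv_mem hx'

theorem mem_NN (h : Sit Z J V P) {s : G} (hs : s ∈ Kc P V) {x : G} :
    x ∈ h.NN s hs ↔ x ∈ P ∧ x * s * x⁻¹ * s⁻¹ ∈ centralizer (V : Set G) := Iff.rfl

/-- `s` is `P`-invariant modulo `C_K(V)` -/
theorem inv (h : Sit Z J V P) {s : G} (hs : s ∈ Kc P V) (hsV : s ∉ centralizer (V : Set G))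
    (hc : ∀ c ∈ normalizer (V : Set G) ⊓ P, c * s * c⁻¹ * s⁻¹ ∈ centralizer (V : Set G)) :
    ∀ x ∈ P, x * s * x⁻¹ * s⁻¹ ∈ centralizer (V : Set G) := by
  have hle : normalizer (V : Set G) ⊓ P ≤ h.NN s hs := fun c hc' => ⟨hc'.2, hc c hc'⟩
  rcases h.max _ hle (fun x hx => hx.1) with h1 | h1
  swap
  · intro x hx
    rw [← h1] at hx
    exact hx.2
  exfalso
  obtain ⟨y, hyP, hyV, n, hn⟩ := h.seven
  have hyN : y ∉ h.NN s hs := fun hy => hyV (h1 hy)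
  have hpow : ∀ i : ℕ, 0 < i → i < 7 → y ^ i ∉ h.NN s hs := by
    intro i hi0 hi7 hyi
    apply hyN
    have hcop : Nat.Coprime i (orderOf y) := by
      have h2 : orderOf y ∣ 7 ^ n := orderOf_dvd_of_pow_eq_one hn
      refine Nat.Coprime.coprime_dvd_right h2 (Nat.Coprime.pow_right n ?_)
      exact (Nat.coprime_of_lt_prime (by omega) hi7 (by norm_num)).symm
    have h3 : y ∈ zpowers (y ^ i) := mem_zpowers_pow_iff.2 hcop
    exact (zpowers_le.2 hyi) h3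
  set K := Kc P V with hK
  have hKC : K ≤ normalizer (V : Set G) ⊓ P := Kc_le P V
  have hyi : ∀ i : ℕ, y ^ i ∈ P := fun i => pow_mem hyP i
  have hsi : ∀ i : ℕ, y ^ i * s * (y ^ i)⁻¹ ∈ K := fun i => Kc_conj (hyi i) hs
  let f : Option (Fin 7) → K ⧸ (centralizer (V : Set G)).subgroupOf K := fun o =>
    match o with
    | none => QuotientGroup.mk 1
    | some i => QuotientGroup.mk ⟨y ^ (i : ℕ) * s * (y ^ (i : ℕ))⁻¹, hsi i⟩
  have hf0 : ∀ i : Fin 7, f none ≠ f (some i) := by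
    intro i hi
    have h2 := QuotientGroup.eq.1 hi
    rw [mem_subgroupOf] at h2
    simp only [inv_one, one_mul] at h2
    apply hsV
    have h3 := h.cen_cj (hsi i) h2 (hyi i)
    have h4 : (y ^ (i : ℕ))⁻¹ * (y ^ (i : ℕ) * s * (y ^ (i : ℕ))⁻¹) * y ^ (i : ℕ) = s := by group
    rwa [h4] at h3
  have hf1 : ∀ i j : Fin 7, i < j → f (some i) ≠ f (some j) := by
    intro i j hij hi
    have h2 := QuotientGroup.eq.1 hi
    rw [mem_subgroupOf] at h2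
    have h2' : (y ^ (i : ℕ) * s * (y ^ (i : ℕ))⁻¹)⁻¹ * (y ^ (j : ℕ) * s * (y ^ (j : ℕ))⁻¹) ∈
      centralizer (V : Set G) := h2
    have h3 := h.cen_cj (mul_mem (inv_mem (hsi i)) (hsi j)) h2' (hyi i)
    have hij' : (i : ℕ) < j := hij
    have h5 : y ^ (j : ℕ) = y ^ (i : ℕ) * y ^ ((j : ℕ) - i) := by
      rw [← pow_add]; congr 1; omega
    have h4 : (y ^ (i : ℕ))⁻¹ * ((y ^ (i : ℕ) * s * (y ^ (i : ℕ))⁻¹)⁻¹ * (y ^ (j : ℕ) * s * (y ^ (j : ℕ))⁻¹)) *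
        y ^ (i : ℕ) = s⁻¹ * (y ^ ((j : ℕ) - i) * s * (y ^ ((j : ℕ) - i))⁻¹) := by
      rw [h5]; group
    rw [h4] at h3
    refine hpow ((j : ℕ) - i) (by omega) (by have := j.2; omega) ?_
    rw [mem_NN]
    refine ⟨hyi _, ?_⟩
    -- conjugate by `s ∈ N(V)`
    have h6 : y ^ ((j : ℕ) - i) * s * (y ^ ((j : ℕ) - i))⁻¹ * s⁻¹ =
        (s⁻¹)⁻¹ * (s⁻¹ * (y ^ ((j : ℕ) - i) * s * (y ^ ((j : ℕ) - i))⁻¹)) * s⁻¹ := by group
    rw [h6]
    exact h.cen_cj (mul_mem (inv_mem hs) (hsi _)) h3 (P.inv_mem (hKC hs).2)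
  have hfinj : Function.Injective f := by
    intro a b hab
    rcases a with _ | i <;> rcases b with _ | j
    · rfl
    · exact absurd hab (hf0 j)
    · exact absurd hab.symm (hf0 i)
    · rcases lt_trichotomy i j with h2 | h2 | h2
      · exact absurd hab (hf1 i j h2)
      · rw [h2]
      · exact absurd hab.symm (hf1 j i h2)
  have h8 : Nat.card (Option (Fin 7)) = 8 := by
    rw [Nat.card_eq_fintype_card, Fintype.card_option, Fintype.card_fin]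
  have hKidx : (centralizer (V : Set G)).relIndex K ≤ 8 := by
    rw [← h.eight]
    exact relIndex_le_of_le_right hKC (by rw [h.eight]; norm_num)
  have hcardK : Nat.card (K ⧸ (centralizer (V : Set G)).subgroupOf K) ≤ 8 := hKidx
  have hcard8 : 8 ≤ Nat.card (K ⧸ (centralizer (V : Set G)).subgroupOf K) := by
    rw [← h8]; exact Nat.card_le_card_of_injective f hfinj
  have hfsurj : Function.Surjective f :=
    (hfinj.bijective_of_nat_card_le (by rw [h8]; exact hcardK)).2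
  -- everything in `K` is central modulo `C(V)`
  have hcen : ∀ k ∈ K, ∀ k' ∈ K, k * k' * k⁻¹ * k'⁻¹ ∈ centralizer (V : Set G) := by
    intro k hk k' hk'
    obtain ⟨o, ho⟩ := hfsurj (QuotientGroup.mk ⟨k', hk'⟩)
    have key : ∀ r ∈ K, (k * r * k⁻¹ * r⁻¹ ∈ centralizer (V : Set G)) → r⁻¹ * k' ∈ centralizer (V : Set G) →
        k * k' * k⁻¹ * k'⁻¹ ∈ centralizer (V : Set G) := by
      intro r hr hkr hrk
      have h2 : k * k' * k⁻¹ * k'⁻¹ = (k * r * k⁻¹ * r⁻¹) * ((r⁻¹)⁻¹ * (((k⁻¹)⁻¹ * (r⁻¹ * k') * k⁻¹) *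
          (r⁻¹ * k')⁻¹) * r⁻¹) := by group
      have hrk' : r⁻¹ * k' ∈ K := mul_mem (inv_mem hr) hk'
      have h3 := h.cen_cj hrk' hrk (P.inv_mem (hKC hk).2)
      have h4 : (k⁻¹)⁻¹ * (r⁻¹ * k') * k⁻¹ ∈ K := by
        rw [inv_inv]; exact Kc_conj (hKC hk).2 hrk'
      rw [h2]
      exact mul_mem hkr (h.cen_cj (mul_mem h4 (inv_mem hrk')) (mul_mem h3 (inv_mem hrk)) (P.inv_mem (hKC hr).2))
    rcases o with _ | i
    · have h2 := QuotientGroup.eq.1 ho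
      rw [mem_subgroupOf] at h2
      refine key 1 (one_mem _) ?_ ?_
      · rw [mul_one, mul_inv_cancel, one_mul, inv_one]; exact one_mem _
      · exact h2
    · have h2 := QuotientGroup.eq.1 ho
      rw [mem_subgroupOf] at h2
      refine key (y ^ (i : ℕ) * s * (y ^ (i : ℕ))⁻¹) (hsi i) ?_ h2
      have h3 : k * (y ^ (i : ℕ) * s * (y ^ (i : ℕ))⁻¹) * k⁻¹ * (y ^ (i : ℕ) * s * (y ^ (i : ℕ))⁻¹)⁻¹ =
          ((y ^ (i : ℕ))⁻¹)⁻¹ * ((y ^ (i : ℕ))⁻¹ * k * y ^ (i : ℕ) * s * ((y ^ (i : ℕ))⁻¹ * k * y ^ (i : ℕ))⁻¹ * s⁻¹) *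
            (y ^ (i : ℕ))⁻¹ := by group
      have h4 : (y ^ (i : ℕ))⁻¹ * k * y ^ (i : ℕ) ∈ K := by
        have := Kc_conj (P.inv_mem (hyi i)) hk
        rwa [inv_inv] at this
      rw [h3]
      refine h.cen_cj ?_ (hc _ (hKC h4)) (P.inv_mem (hyi i))
      exact mul_mem (mul_mem (mul_mem h4 hs) (inv_mem h4)) (inv_mem hs)
  -- `K` covers `C₀`
  have hcov : ∀ a ∈ normalizer (V : Set G) ⊓ P, ∃ k ∈ K, k⁻¹ * a ∈ centralizer (V : Set G) := by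
    intro a ha
    let e := quotientSubgroupOfEmbeddingOfLE (centralizer (V : Set G)) hKC
    have hle : Nat.card (↥(normalizer (V : Set G) ⊓ P) ⧸ (centralizer (V : Set G)).subgroupOf
        (normalizer (V : Set G) ⊓ P)) ≤ Nat.card (K ⧸ (centralizer (V : Set G)).subgroupOf K) := by
      have h2 : Nat.card (↥(normalizer (V : Set G) ⊓ P) ⧸ (centralizer (V : Set G)).subgroupOf
        (normalizer (V : Set G) ⊓ P)) = 8 := h.eight
      rw [h2]; exact hcard8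
    have hsurj := (e.injective.bijective_of_nat_card_le hle).2
    obtain ⟨k, hk⟩ := hsurj (QuotientGroup.mk ⟨a, ha⟩)
    obtain ⟨k, rfl⟩ := QuotientGroup.mk_surjective k
    rw [quotientSubgroupOfEmbeddingOfLE_apply_mk] at hk
    have h2 := QuotientGroup.eq.1 hk
    rw [mem_subgroupOf] at h2
    exact ⟨k, k.2, h2⟩
  obtain ⟨a, ha, b, hb, hab⟩ := h.nab
  apply hab
  obtain ⟨k, hk, hka⟩ := hcov a ha
  obtain ⟨k', hk', hkb⟩ := hcov b hb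
  have hφ : ∀ x : G, ∀ hx : x ∈ normalizer (V : Set G), x ∈ centralizer (V : Set G) ↔
      V.normalizerMonoidHom ⟨x, hx⟩ = 1 := by
    intro x hx
    rw [← MonoidHom.mem_ker, normalizerMonoidHom_ker, mem_subgroupOf]
  have h1 : V.normalizerMonoidHom ⟨k, (hKC hk).1⟩ = V.normalizerMonoidHom ⟨a, ha.1⟩ := by
    rw [← inv_mul_eq_one, ← map_inv, ← map_mul]
    exact (hφ _ _).1 hka
  have h2 : V.normalizerMonoidHom ⟨k', (hKC hk').1⟩ = V.normalizerMonoidHom ⟨b, hb.1⟩ := by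
    rw [← inv_mul_eq_one, ← map_inv, ← map_mul]
    exact (hφ _ _).1 hkb
  have h3 := (hφ _ (mul_mem (mul_mem (mul_mem (hKC hk).1 (hKC hk').1) (inv_mem (hKC hk).1))
    (inv_mem (hKC hk').1))).1 (hcen k hk k' hk')
  rw [hφ _ (mul_mem (mul_mem (mul_mem ha.1 hb.1) (inv_mem ha.1)) (inv_mem hb.1))]
  have h4 : (⟨a * b * a⁻¹ * b⁻¹, mul_mem (mul_mem (mul_mem ha.1 hb.1) (inv_mem ha.1)) (inv_mem hb.1)⟩ :
      normalizer (V : Set G)) = ⟨a, ha.1⟩ * ⟨b, hb.1⟩ * (⟨a, ha.1⟩)⁻¹ * (⟨b, hb.1⟩)⁻¹ := rfl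
  have h5 : (⟨k * k' * k⁻¹ * k'⁻¹, mul_mem (mul_mem (mul_mem (hKC hk).1 (hKC hk').1) (inv_mem (hKC hk).1))
    (inv_mem (hKC hk').1)⟩ : normalizer (V : Set G)) =
      ⟨k, (hKC hk).1⟩ * ⟨k', (hKC hk').1⟩ * (⟨k, (hKC hk).1⟩)⁻¹ * (⟨k', (hKC hk').1⟩)⁻¹ := rfl
  rw [h5] at h3
  rw [h4]
  simp only [map_mul, map_inv] at h3 ⊢
  rw [← h1, ← h2]
  exact h3

/-- **(4.7)** -/
theorem false (h : Sit Z J V P) : False := by
  obtain ⟨s, hs, hc, hsJ, hsj, hsV⟩ := h.center (Kc P V) (Kc_le P V) (fun c hc => by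
    rw [← cj_eq_iff]
    refine Subgroup.eq_of_le_of_card_ge ?_ (card_cj c _).ge
    intro k hk
    have h1 := Kc_conj hc.2 (mem_cj.mp hk)
    have h2 : c * (c⁻¹ * k * c) * c⁻¹ = k := by group
    rwa [h2] at h1) h.KV
  have hsC : s ∉ centralizer (V : Set G) := by
    intro h1
    apply h.PJ
    have h2 : J = ⊥ := by
      rw [eq_bot_iff]
      intro j hj
      obtain ⟨v, hv, rfl⟩ := hsj j hj
      rw [mem_bot]
      exact mem_cen.1 h1 v hv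
    rw [h2]
    intro x _
    rw [← cj_eq_iff]
    show (⊥ : Subgroup G).map _ = ⊥
    exact Subgroup.map_bot _
  have hinv := h.inv hs hsC hc
  -- `s` and `s ^ x` act in the same way on `W`
  have hact : ∀ x ∈ P, ∀ w ∈ Wc P V, x * s * x⁻¹ * w * (x * s * x⁻¹)⁻¹ = s * w * s⁻¹ := by
    intro x hx w hw
    have h1 : x * s * x⁻¹ * s⁻¹ ∈ Kc P V := mul_mem (Kc_conj hx hs) (inv_mem hs)
    have h2 : x * s * x⁻¹ * s⁻¹ ∈ centralizer (Wc P V : Set G) := by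
      rw [← zpowers_le, ← cm_iff]
      refine (cm_Wc fun y hy => ?_).symm
      have h3 := h.cen_cj h1 (hinv x hx) hy
      have h4 := conj_mem_cj (g := y) h3
      rw [cj_centralizer, show y * (y⁻¹ * (x * s * x⁻¹ * s⁻¹) * y) * y⁻¹ = x * s * x⁻¹ * s⁻¹ by group] at h4
      exact (cm_iff.2 (zpowers_le.2 h4)).symm
    have h3 : s * w * s⁻¹ ∈ Wc P V := by
      have h4 := norm_Wc P V (Kc_le P V hs).2
      rw [← cj_eq_iff] at h4
      rw [← h4]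
      exact cj_mem_cj hw
    have h4 := mem_centralizer_iff.1 h2 _ h3
    calc x * s * x⁻¹ * w * (x * s * x⁻¹)⁻¹ = (x * s * x⁻¹ * s⁻¹) * (s * w * s⁻¹) * (x * s * x⁻¹ * s⁻¹)⁻¹ := by group
      _ = s * w * s⁻¹ := by rw [← h4, mul_inv_cancel_right]
  -- `s` centralises `V_P`
  have hcJ : ∀ u ∈ Wc P J, s * u * s⁻¹ = u := by
    have h1 : Cm (Wc P J) (zpowers s) := by
      refine cm_Wc fun x hx => ?_
      rw [cm_iff]
      refine fun u hu => ?_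
      rw [mem_centralizer_iff]
      have h2 : s * u * s⁻¹ = u := by
        rw [← hact x hx u (h.WJ_le (cj_le_Wc hx hu))]
        have h3 := hsJ _ (mem_cj.mp hu)
        rw [mul_inv_eq_one] at h3
        calc x * s * x⁻¹ * u * (x * s * x⁻¹)⁻¹ = x * (s * (x⁻¹ * u * x) * s⁻¹) * x⁻¹ := by group
          _ = u := by rw [h3]; group
      intro t ht
      have h3 : zpowers s ≤ centralizer {u} := by
        rw [zpowers_le, mem_centralizer_singleton_iff]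
        exact mul_inv_eq_iff_eq_mul.1 h2
      exact mem_centralizer_singleton_iff.1 (h3 ht)
    intro u hu
    rw [mul_inv_eq_iff_eq_mul]
    exact (h1 u hu s (mem_zpowers s)).symm
  apply h.PJ
  intro x hx
  rw [← cj_eq_iff]
  refine Subgroup.eq_of_le_of_card_ge ?_ (card_cj x _).ge
  intro u hu
  obtain ⟨v, hv, hvu⟩ := hsj _ (mem_cj.mp hu)
  have hxv : x * v * x⁻¹ ∈ V ⊔ Wc P J := h.WV x hx (cj_mem_cj hv)
  have hcm : Cm V (Wc P J) := fun v hv w hw => h.cm_WW v (le_Wc P V hv) w (h.WJ_le hw)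
  obtain ⟨v₁, hv₁, w, hw, hvw⟩ := mem_sup_of_cm hcm hxv
  have h1 : u = s * (x * v * x⁻¹) * s⁻¹ * (x * v * x⁻¹)⁻¹ := by
    rw [← hact x hx _ (cj_le_Wc hx (cj_mem_cj hv))]
    calc u = x * (x⁻¹ * u * x) * x⁻¹ := by group
      _ = x * (s * v * s⁻¹ * v⁻¹) * x⁻¹ := by rw [hvu]
      _ = _ := by group
  have h2 : u = s * v₁ * s⁻¹ * v₁⁻¹ := by
    rw [h1, hvw]
    have h3 := hcJ w hw
    calc s * (v₁ * w) * s⁻¹ * (v₁ * w)⁻¹ = s * v₁ * s⁻¹ * (s * w * s⁻¹) * w⁻¹ * v₁⁻¹ := by group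
      _ = _ := by rw [h3]; group
  rw [h2]
  exact hsV v₁ hv₁

end Sit

end Cfsg.Agent.OddCyclic.Eq.SecSeven
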