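import Cfsg.Agent.OddCyclic.Eq.SixABase

/-!
# (E_q) of `T_cyc`, (6.1): `C_z` acting on `M_z = V_z / ⟨z⟩`
-/

set_option autoImplicit false
set_option linter.style.haveILetI false

namespace Cfsg.Agent.OddCyclic.Eq.SixA

open Subgroup

universe u

variable {G : Type u} [Group G] {S V J : Subgroup G} {z : G}

/-- the action of `C_z` on `N = V_z / ⟨z⟩`; `lam` is the image of `J` -/
structure Act (J : Subgroup G) (z a : G) (N : Type u) [CommGroup N] (ρ : ↥(Cz z) →* MulAut N)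
    (p : ↥(Vz J z) →* N) (lam : N) : Prop where
  surj : Function.Surjective p
  ker : ∀ w, p w = 1 ↔ (w : G) ∈ zpowers z
  act : ∀ (c : Cz z) (w w' : Vz J z), (w' : G) = c * w * c⁻¹ → ρ c (p w) = p w'
  lam_eq : ∀ w : Vz J z, (w : G) = a → p w = lam
  sq : ∀ m : N, m * m = 1
  one_iff : ∀ c, ρ c = 1 ↔ (c : G) ∈ Kz J z
  stab : ∀ c, ρ c lam = lam ↔ (c : G) ∈ normalizer (J : Set G)
  gen : closure {m | ∃ c, m = ρ c lam} = ⊤
  core : ∀ R : Subgroup ρ.range, R.Normal → IsPGroup 2 R → R = ⊥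

theorem Act.p_eq {a : G} {N : Type u} [CommGroup N] {ρ : ↥(Cz z) →* MulAut N}
    {p : ↥(Vz J z) →* N} {lam : N} (hA : Act J z a N ρ p lam) {w w' : Vz J z} :
    p w = p w' ↔ (w : G) * (w' : G)⁻¹ ∈ zpowers z := by
  rw [← mul_inv_eq_one, ← map_inv, ← map_mul, hA.ker]
  rfl

namespace Hyp

theorem exists_act [Finite G] (h : Hyp S V J z) {a : G} (ha : a ∈ J) (haz : a ∉ zpowers z) :
    ∃ (N : Type u) (_ : CommGroup N) (ρ : ↥(Cz z) →* MulAut N) (p : ↥(Vz J z) →* N) (lam : N),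
      Act J z a N ρ p lam := by
  have hab : ∀ x ∈ Vz J z, ∀ y ∈ Vz J z, x * y * x⁻¹ * y⁻¹ ∈ zpowers z := by
    intro x hx y hy
    exact (h.o2_le_Kz (h.Vz_le_o2 hx)).2 y hy
  obtain ⟨N, iN, ρ, p, hp, hk, hact⟩ := exists_qact h.Vz_le_Cz (Cz_le_normalizer J z)
    (Cz_le_normalizer_zpowers z) hab
  have haW : a ∈ Vz J z := J_le_Vz J z ha
  set lam : N := p ⟨a, haW⟩ with hlam
  have hp_eq : ∀ w w' : Vz J z, p w = p w' ↔ (w : G) * (w' : G)⁻¹ ∈ zpowers z := by
    intro w w'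
    rw [← mul_inv_eq_one, ← map_inv, ← map_mul, hk]
    rfl
  have hρ : ∀ (c : Cz z) (w : Vz J z), ρ c (p w) = p ⟨c * w * c⁻¹, Vz_conj c.2 w.2⟩ :=
    fun c w => hact c w _ rfl
  have hstab : ∀ c, ρ c lam = lam ↔ (c : G) ∈ normalizer (J : Set G) := by
    intro c
    rw [hlam, hρ, hp_eq]
    constructor
    · intro h1
      exact h.mem_nJ ha haz c.2 h1
    · intro h1
      exact h.nJ_act ha haz c.2 h1
  have hgen : closure {m | ∃ c, m = ρ c lam} = ⊤ := by
    rw [eq_top_iff]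
    rintro m -
    obtain ⟨⟨w, hw⟩, rfl⟩ := hp m
    have key : ∀ (w : G) (hw : w ∈ Vz J z), p ⟨w, hw⟩ ∈ closure {m | ∃ c, m = ρ c lam} := by
      intro w hw
      induction hw using closure_induction with
      | mem x hx =>
        obtain ⟨c, hc, b, hb, rfl⟩ := hx
        have hbW : b ∈ Vz J z := J_le_Vz J z hb
        have hc' : c ∈ Cz z := mem_Cz.2 hc
        have h1 : p ⟨c * b * c⁻¹, Vz_conj hc' hbW⟩ = ρ ⟨c, hc'⟩ (p ⟨b, hbW⟩) := (hρ ⟨c, hc'⟩ ⟨b, hbW⟩).symm
        rw [h1]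
        rcases h.J_cases ha haz hb with rfl | rfl | rfl | rfl
        · have : p ⟨1, hbW⟩ = 1 := map_one p
          rw [this, map_one]
          exact one_mem _
        · have : p ⟨b, hbW⟩ = 1 := (hk _).2 (mem_zpowers b)
          rw [this, map_one]
          exact one_mem _
        · exact Subgroup.subset_closure ⟨_, rfl⟩
        · have : p ⟨a * z, hbW⟩ = lam := by
            rw [hlam, hp_eq]
            have h2 : a * z * a⁻¹ = z := by
              rw [h.J_comm ha h.zJ, mul_inv_cancel_right]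
            change a * z * a⁻¹ ∈ zpowers z
            rw [h2]
            exact mem_zpowers _
          rw [this]
          exact Subgroup.subset_closure ⟨_, rfl⟩
      | one =>
        have : p ⟨1, (Vz J z).one_mem⟩ = 1 := map_one p
        rw [this]
        exact one_mem _
      | mul x y hx hy ihx ihy =>
        have : p ⟨x * y, (Vz J z).mul_mem hx hy⟩ = p ⟨x, hx⟩ * p ⟨y, hy⟩ := by
          rw [← map_mul]
          rfl
        rw [this]
        exact mul_mem ihx ihy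
      | inv x hx ihx =>
        have : p ⟨x⁻¹, (Vz J z).inv_mem hx⟩ = (p ⟨x, hx⟩)⁻¹ := by
          rw [← map_inv]
          rfl
        rw [this]
        exact inv_mem ihx
    exact key w hw
  have hlam2 : lam * lam = 1 := by
    rw [hlam, ← map_mul, hk]
    change a * a ∈ _
    rw [h.Vsq a (h.JV ha)]
    exact one_mem _
  have hsq : ∀ m : N, m * m = 1 := by
    intro m
    have hm : m ∈ closure {m | ∃ c, m = ρ c lam} := by rw [hgen]; trivial
    refine sq_of_closure (s := {m | ∃ c, m = ρ c lam}) ?_ ?_ m hm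
    · rintro x ⟨c, rfl⟩
      rw [← map_mul, hlam2, map_one]
    · intro x _ y _
      exact mul_comm x y
  have hone : ∀ c, ρ c = 1 ↔ (c : G) ∈ Kz J z := by
    intro c
    constructor
    · intro h1
      refine ⟨c.2, fun w hw => ?_⟩
      have h2 : ρ c (p ⟨w, hw⟩) = p ⟨w, hw⟩ := by rw [h1]; rfl
      rw [hρ, hp_eq] at h2
      exact h2
    · intro h1
      ext m
      obtain ⟨w, rfl⟩ := hp m
      rw [hρ]
      change _ = p w
      rw [hp_eq]
      exact h1.2 w w.2
  refine ⟨N, iN, ρ, p, lam, hp, hk, hact, ?_, hsq, hone, hstab, hgen, ?_⟩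
  · rintro ⟨w, hw⟩ rfl
    rfl
  · intro R hR h2
    haveI : Fact (Nat.Prime 2) := ⟨Nat.prime_two⟩
    let P : Sylow 2 G := ⟨S, h.two, fun hQ hle => le_antisymm (h.smax _ hQ hle) hle⟩
    let P' : Sylow 2 ↥(Cz z) := P.subtype h.S_le_Cz
    let P'' : Sylow 2 ρ.range := P'.mapSurjective ρ.rangeRestrict_surjective
    have hle : R ≤ (P'' : Subgroup ρ.range) := by
      have h3 : IsPGroup 2 ↥(R ⊔ (P'' : Subgroup ρ.range)) :=
        IsPGroup.to_sup_of_normal_left h2 P''.isPGroup'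
      have h4 := P''.is_maximal' h3 le_sup_right
      rw [← h4]
      exact le_sup_left
    have hfix : ∀ r ∈ R, (r : MulAut N) lam = lam := by
      intro r hr
      obtain ⟨s, hs, rfl⟩ := hle hr
      have hs' : (s : G) ∈ S := hs
      exact (hstab s).2 (h.SJ hs')
    rw [eq_bot_iff]
    intro r hr
    rw [mem_bot]
    apply Subtype.ext
    change (r : MulAut N) = 1
    ext m
    change (r : MulAut N) m = m
    have hm : m ∈ closure {m | ∃ c, m = ρ c lam} := by rw [hgen]; trivial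
    induction hm using closure_induction with
    | mem x hx =>
      obtain ⟨c, rfl⟩ := hx
      have h5 : (⟨ρ c, c, rfl⟩ : ρ.range)⁻¹ * r * ⟨ρ c, c, rfl⟩ ∈ R := by
        have := hR.conj_mem r hr (⟨ρ c, c, rfl⟩ : ρ.range)⁻¹
        rwa [inv_inv] at this
      have h6 := hfix _ h5
      have h7 : (r : MulAut N) * ρ c = ρ c * ((⟨ρ c, c, rfl⟩ : ρ.range)⁻¹ * r * ⟨ρ c, c, rfl⟩ : ρ.range) := by
        simp [mul_assoc]
      calc (r : MulAut N) (ρ c lam) = ((r : MulAut N) * ρ c) lam := rfl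
        _ = ρ c ((((⟨ρ c, c, rfl⟩ : ρ.range)⁻¹ * r * ⟨ρ c, c, rfl⟩ : ρ.range) : MulAut N) lam) := by
            rw [h7]; rfl
        _ = ρ c lam := by rw [h6]
    | one => simp
    | mul x y _ _ hx hy => rw [map_mul, hx, hy]
    | inv x _ hx => rw [map_inv, hx]

end Hyp

end Cfsg.Agent.OddCyclic.Eq.SixA
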