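import Cfsg.Agent.ZN.Facts

/-!
# (E_q) of `T_cyc`, (6.3): a group generated by the conjugates of a transvection

`H` acts faithfully on the elementary abelian group `N = ⟨λ^H⟩`, `t ≠ 1` is a transvection with centre `λ`, the
stabiliser of `λ` centralises `t` and has no elements of order 3, `O₂(H) = 1`.  Then `|N| = 4` and `3 ∣ |H|`.
-/

set_option autoImplicit false
set_option linter.style.haveILetI false

namespace Cfsg.Agent.OddCyclic.Eq.SixA

open Subgroup

universe u v

variable {H : Type u} [Group H] {N : Type v} [CommGroup N]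

/-- a transvection `t` with centre `lam`, centralised by the stabiliser of `lam` -/
structure Tv (ρ : H →* MulAut N) (lam : N) (t : H) : Prop where
  inj : ∀ h : H, (∀ m, ρ h m = m) → h = 1
  sq : ∀ m : N, m * m = 1
  lam1 : lam ≠ 1
  t1 : t ≠ 1
  tv : ∀ m, ρ t m = m ∨ ρ t m = m * lam
  st : ∀ h, ρ h lam = lam → h * t = t * h
  no3 : ∀ h, ρ h lam = lam → h ^ 3 = 1 → h = 1
  gen : closure {m | ∃ h, m = ρ h lam} = ⊤
  core : ∀ R : Subgroup H, R.Normal → IsPGroup 2 R → R = ⊥

/-- a set of commuting involutions generates a group of exponent 2 -/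
theorem sq_of_closure {s : Set H} (h1 : ∀ x ∈ s, x * x = 1) (h2 : ∀ x ∈ s, ∀ y ∈ s, x * y = y * x) :
    ∀ x ∈ closure s, x * x = 1 := by
  have hc : ∀ x ∈ closure s, ∀ y ∈ s, x * y = y * x := by
    intro x hx y hy
    induction hx using closure_induction with
    | mem x hx => exact h2 x hx y hy
    | one => simp
    | mul a b _ _ ha hb => rw [mul_assoc, hb, ← mul_assoc, ha, mul_assoc]
    | inv a _ ha => rw [inv_mul_eq_iff_eq_mul, ← mul_assoc, ha, mul_inv_cancel_right]
  intro x hx
  induction hx using closure_induction with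
  | mem x hx => exact h1 x hx
  | one => simp
  | mul a b ha hb ia ib =>
    have hab : a * b = b * a := by
      clear ia ib
      induction hb using closure_induction with
      | mem y hy => exact hc a ha y hy
      | one => simp
      | mul c d _ _ hc hd => rw [← mul_assoc, hc, mul_assoc, hd, mul_assoc]
      | inv c _ hc => rw [eq_inv_mul_iff_mul_eq, ← mul_assoc, ← hc, mul_inv_cancel_right]
    calc a * b * (a * b) = a * (b * a) * b := by group
      _ = a * (a * b) * b := by rw [hab]
      _ = (a * a) * (b * b) := by group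
      _ = 1 := by rw [ia, ib, one_mul]
  | inv a _ ia => rw [← mul_inv_rev, ia, inv_one]

theorem two_of_sq {R : Subgroup H} (h : ∀ x ∈ R, x * x = 1) : IsPGroup 2 R := by
  intro x
  refine ⟨1, ?_⟩
  ext
  simpa [pow_two] using h x x.2

namespace Tv

variable {ρ : H →* MulAut N} {lam : N} {t : H}

/-- conjugates of `t` -/
def T (t x : H) : H := x * t * x⁻¹

theorem T_mul (t h x : H) : T t (h * x) = h * T t x * h⁻¹ := by simp [T, mul_assoc]

theorem map_mul' (h : Tv ρ lam t) (a b : H) (m : N) : ρ (a * b) m = ρ a (ρ b m) := by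
  have _ := h
  rw [map_mul]
  rfl

theorem inv_act (h : Tv ρ lam t) (a : H) (m : N) : ρ a⁻¹ (ρ a m) = m := by
  rw [← h.map_mul', inv_mul_cancel, map_one]
  rfl

theorem act_inv (h : Tv ρ lam t) (a : H) (m : N) : ρ a (ρ a⁻¹ m) = m := by
  rw [← h.map_mul', mul_inv_cancel, map_one]
  rfl

theorem cancel (h : Tv ρ lam t) (a b : N) : a * b * b = a := by rw [mul_assoc, h.sq, mul_one]

theorem tvx (h : Tv ρ lam t) (x : H) (m : N) : ρ (T t x) m = m ∨ ρ (T t x) m = m * ρ x lam := by
  rcases h.tv (ρ x⁻¹ m) with h1 | h1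
  · left
    rw [T, h.map_mul', h.map_mul', h1, h.act_inv]
  · right
    rw [T, h.map_mul', h.map_mul', h1, map_mul, h.act_inv]

theorem T_ne (h : Tv ρ lam t) (x : H) : T t x ≠ 1 := by
  intro h1
  apply h.t1
  have : t = x⁻¹ * T t x * x := by simp [T, mul_assoc]
  rw [this, h1]
  simp

theorem L_ne (h : Tv ρ lam t) (x : H) : ρ x lam ≠ 1 := by
  intro h1
  exact h.lam1 ((ρ x).map_eq_one_iff.1 h1)

theorem exists_moved (h : Tv ρ lam t) (x : H) : ∃ m, ρ (T t x) m = m * ρ x lam := by
  by_contra hcon
  push Not at hcon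
  exact h.T_ne x (h.inj _ fun m => (h.tvx x m).resolve_right (hcon m))

theorem T_self (h : Tv ρ lam t) (x : H) : ρ (T t x) (ρ x lam) = ρ x lam := by
  rcases h.tvx x (ρ x lam) with h1 | h1
  · exact h1
  · rw [h.sq] at h1
    exact absurd ((ρ (T t x)).map_eq_one_iff.1 h1) (h.L_ne x)

theorem T_sq (h : Tv ρ lam t) (x : H) : T t x * T t x = 1 := by
  apply h.inj
  intro m
  rw [h.map_mul']
  rcases h.tvx x m with h1 | h1
  · rw [h1, h1]
  · rw [h1, map_mul, h1, h.T_self, h.cancel]

theorem T_inv (h : Tv ρ lam t) (x : H) : (T t x)⁻¹ = T t x := inv_eq_of_mul_eq_one_left (h.T_sq x)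

theorem comm_of_fix (h : Tv ρ lam t) {g y : H} (hg : ρ g (ρ y lam) = ρ y lam) : g * T t y = T t y * g := by
  have h1 : ρ (y⁻¹ * g * y) lam = lam := by
    rw [h.map_mul', h.map_mul', hg, h.inv_act]
  have h2 := h.st _ h1
  have h3 : g * T t y = y * ((y⁻¹ * g * y) * t) * y⁻¹ := by simp [T, mul_assoc]
  rw [h3, h2]
  simp [T, mul_assoc]

theorem T_of_L (h : Tv ρ lam t) {x y : H} (hxy : ρ x lam = ρ y lam) : T t x = T t y := by
  have h1 : ρ (x * y⁻¹) (ρ y lam) = ρ y lam := by
    rw [h.map_mul', h.inv_act, hxy]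
  have h2 := h.comm_of_fix h1
  have h3 : T t x = (x * y⁻¹) * T t y * (x * y⁻¹)⁻¹ := by simp [T, mul_assoc]
  rw [h3, h2, mul_inv_cancel_right]

theorem L_of_T (h : Tv ρ lam t) {x y : H} (hxy : T t x = T t y) : ρ x lam = ρ y lam := by
  obtain ⟨m, hm⟩ := h.exists_moved x
  rcases h.tvx y m with h1 | h1
  · rw [← hxy, hm] at h1
    exact absurd (mul_eq_left.1 h1) (h.L_ne x)
  · rw [← hxy, hm] at h1
    exact mul_left_cancel h1

theorem fix_of_comm (h : Tv ρ lam t) {g y : H} (hg : g * T t y = T t y * g) : ρ g (ρ y lam) = ρ y lam := by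
  have h1 : T t (g * y) = T t y := by
    rw [T_mul, hg, mul_inv_cancel_right]
  have h2 := h.L_of_T h1
  rwa [h.map_mul'] at h2

/-- commuting transvections -/
def R (t x y : H) : Prop := T t x * T t y = T t y * T t x

theorem R_symm {x y : H} (hxy : R t x y) : R t y x := hxy.symm

theorem R_conj {x y : H} (g : H) (hxy : R t x y) : R t (g * x) (g * y) := by
  unfold R at hxy ⊢
  rw [T_mul, T_mul]
  calc g * T t x * g⁻¹ * (g * T t y * g⁻¹) = g * (T t x * T t y) * g⁻¹ := by group
    _ = g * (T t y * T t x) * g⁻¹ := by rw [hxy]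
    _ = g * T t y * g⁻¹ * (g * T t x * g⁻¹) := by group

theorem move (h : Tv ρ lam t) {x y : H} (hxy : ¬ R t x y) : ρ (T t x) (ρ y lam) = ρ y lam * ρ x lam := by
  rcases h.tvx x (ρ y lam) with h1 | h1
  · exact absurd (h.comm_of_fix h1) hxy
  · exact h1

theorem cube (h : Tv ρ lam t) {x y : H} (hxy : ¬ R t x y) : (T t x * T t y) ^ 3 = 1 := by
  have h1 : ρ (T t x * y) lam = ρ (T t y * x) lam := by
    rw [h.map_mul', h.map_mul', h.move hxy, h.move (fun h' => hxy (R_symm h')), mul_comm]
  have h2 := h.T_of_L h1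
  rw [T_mul, T_mul, h.T_inv, h.T_inv] at h2
  calc (T t x * T t y) ^ 3 = (T t x * T t y * T t x) * (T t y * T t x * T t y) := by
        simp only [pow_succ, pow_zero, one_mul, mul_assoc]
    _ = (T t y * T t x * T t y) * (T t y * T t x * T t y) := by rw [h2]
    _ = T t y * T t x * (T t y * T t y) * T t x * T t y := by simp only [mul_assoc]
    _ = T t y * (T t x * T t x) * T t y := by rw [h.T_sq]; simp only [mul_assoc, one_mul]
    _ = 1 := by rw [h.T_sq, mul_one, h.T_sq]

theorem no3' (h : Tv ρ lam t) {g x : H} (hg : g * T t x = T t x * g) (h3 : g ^ 3 = 1) : g = 1 := by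
  have h1 := h.fix_of_comm hg
  have h2 : ρ (x⁻¹ * g * x) lam = lam := by
    rw [h.map_mul', h.map_mul', h1, h.inv_act]
  have h4 : (x⁻¹ * g * x) ^ 3 = 1 := by
    have : (x⁻¹ * g * x) ^ 3 = x⁻¹ * g ^ 3 * x := by
      simp only [pow_succ, pow_zero, one_mul]
      group
    rw [this, h3]
    simp
  have h5 := h.no3 _ h2 h4
  have : g = x * (x⁻¹ * g * x) * x⁻¹ := by group
  rw [this, h5]
  simp

theorem R_trans (h : Tv ρ lam t) {u v w : H} (h1 : R t u v) (h2 : R t v w) : R t u w := by
  by_contra h3
  have h4 := h.cube h3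
  have h5 : (T t u * T t w) * T t v = T t v * (T t u * T t w) := by
    unfold R at h1 h2
    rw [mul_assoc, ← h2, ← mul_assoc, h1, mul_assoc]
  have h6 := h.no3' h5 h4
  apply h3
  have h7 : T t u = T t w := by
    rw [← h.T_inv w]
    exact eq_inv_of_mul_eq_one_left h6
  unfold R
  rw [h7]

theorem R_refl (x : H) : R t x x := rfl

theorem three (h : Tv ρ lam t) {x y : H} (hxy : ¬ R t x y) (w : H) :
    R t w x ∨ R t w y ∨ R t w (T t x * y) := by
  by_cases h1 : R t w x
  · exact Or.inl h1
  by_cases h2 : R t w y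
  · exact Or.inr (Or.inl h2)
  right
  right
  apply h.comm_of_fix
  rw [h.map_mul', h.move hxy, map_mul, h.move h1, h.move h2]
  calc ρ y lam * ρ w lam * (ρ x lam * ρ w lam) = ρ y lam * ρ x lam * (ρ w lam * ρ w lam) := by
        rw [mul_assoc, mul_assoc]
        congr 1
        rw [mul_left_comm]
    _ = ρ y lam * ρ x lam := by rw [h.sq, mul_one]

/-- the kernel on the classes -/
def Kr (h : Tv ρ lam t) : Subgroup H where
  carrier := {g | ∀ a, R t a (g * a)}
  mul_mem' := by
    intro g g' hg hg' a
    rw [mul_assoc]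
    exact h.R_trans (hg' a) (hg _)
  one_mem' := by
    intro a
    rw [one_mul]
    exact R_refl a
  inv_mem' := by
    intro g hg a
    have := hg (g⁻¹ * a)
    rw [mul_inv_cancel_left] at this
    exact R_symm this

theorem Kr_normal (h : Tv ρ lam t) : h.Kr.Normal := by
  constructor
  intro g hg x a
  have h1 := R_conj x (hg (x⁻¹ * a))
  rw [mul_inv_cancel_left] at h1
  rwa [mul_assoc, mul_assoc]

theorem mem_Kr (h : Tv ρ lam t) {a b : H} (hab : R t a b) : T t a * T t b ∈ h.Kr := by
  intro w
  by_cases h1 : R t w a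
  · have h2 := h.R_trans h1 hab
    have h3 : T t (T t a * T t b * w) = T t w := by
      unfold R at h1 h2
      rw [T_mul, mul_inv_rev, h.T_inv, h.T_inv]
      calc T t a * T t b * T t w * (T t b * T t a) = T t a * (T t b * T t w) * T t b * T t a := by
            simp only [mul_assoc]
        _ = T t a * T t w * (T t b * T t b) * T t a := by rw [← h2]; simp only [mul_assoc]
        _ = T t w * (T t a * T t a) := by rw [h.T_sq, mul_one, ← h1]; simp only [mul_assoc]
        _ = T t w := by rw [h.T_sq, mul_one]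
    unfold R
    rw [h3]
  · have h2 : ¬ R t w b := fun h' => h1 (h.R_trans h' (R_symm hab))
    have h3 : R t (T t b * w) (T t a * w) := by
      rcases h.three (x := a) (y := w) (fun h' => h1 (R_symm h')) (T t b * w) with h3 | h3 | h3
      · exfalso
        have h4 := h.R_trans h3 hab
        have h5 := R_conj (T t b) h4
        rw [← mul_assoc, h.T_sq, one_mul] at h5
        apply h2
        unfold R at h5 ⊢
        have h6 : T t (T t b * b) = T t b := by
          rw [T_mul, mul_inv_cancel_right]
        rwa [h6] at h5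
      · exfalso
        have h4 := h.fix_of_comm (R_symm h3)
        rw [h.map_mul', h.move (fun h' => h2 (R_symm h')), map_mul, h.T_self, h.move h2] at h4
        have h5 : ρ b lam * ρ w lam = ρ b lam := mul_left_cancel h4
        exact h.L_ne w (mul_eq_left.1 h5)
      · exact h3
    have h4 := R_conj (T t a) h3
    rw [← mul_assoc (T t a) (T t a) w, h.T_sq, one_mul] at h4
    rw [mul_assoc]
    exact R_symm h4

/-- the products of the transvections of one class -/
def Acl (t a : H) : Subgroup H := closure {x | ∃ b c, R t a b ∧ R t a c ∧ x = T t b * T t c}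

theorem Acl_sq (h : Tv ρ lam t) (a : H) : ∀ x ∈ Acl t a, x * x = 1 := by
  have hab : ∀ b c, R t a b → R t a c → T t b * T t c = T t c * T t b := fun b c hb hc =>
    h.R_trans (R_symm hb) hc
  apply sq_of_closure
  · rintro x ⟨b, c, hb, hc, rfl⟩
    calc T t b * T t c * (T t b * T t c) = T t b * (T t c * T t b) * T t c := by simp only [mul_assoc]
      _ = (T t b * T t b) * (T t c * T t c) := by rw [← hab b c hb hc]; simp only [mul_assoc]
      _ = 1 := by rw [h.T_sq, h.T_sq, one_mul]
  · rintro x ⟨b, c, hb, hc, rfl⟩ y ⟨b', c', hb', hc', rfl⟩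
    have e1 : Commute (T t b) (T t b') := hab _ _ hb hb'
    have e2 : Commute (T t b) (T t c') := hab _ _ hb hc'
    have e3 : Commute (T t c) (T t b') := hab _ _ hc hb'
    have e4 : Commute (T t c) (T t c') := hab _ _ hc hc'
    exact (Commute.mul_left (e1.mul_right e2) (e3.mul_right e4)).eq

theorem Acl_le (h : Tv ρ lam t) (a : H) : Acl t a ≤ h.Kr := by
  unfold Acl
  rw [closure_le]
  rintro x ⟨b, c, hb, hc, rfl⟩
  exact h.mem_Kr (h.R_trans (R_symm hb) hc)

theorem Kr_le (h : Tv ρ lam t) (a : H) : h.Kr ≤ normalizer (Acl t a : Set H) := by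
  have key : ∀ g ∈ h.Kr, ∀ x ∈ Acl t a, g * x * g⁻¹ ∈ Acl t a := by
    intro g hg x hx
    induction hx using closure_induction with
    | mem x hx =>
      obtain ⟨b, c, hb, hc, rfl⟩ := hx
      apply Subgroup.subset_closure
      refine ⟨g * b, g * c, h.R_trans hb (hg b), h.R_trans hc (hg c), ?_⟩
      rw [T_mul, T_mul]
      group
    | one => simp
    | mul x y _ _ hx hy =>
      have : g * (x * y) * g⁻¹ = (g * x * g⁻¹) * (g * y * g⁻¹) := by group
      rw [this]
      exact (Acl t a).mul_mem hx hy
    | inv x _ hx =>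
      have : g * x⁻¹ * g⁻¹ = (g * x * g⁻¹)⁻¹ := by group
      rw [this]
      exact (Acl t a).inv_mem hx
  intro g hg
  rw [mem_normalizer_iff]
  intro x
  constructor
  · exact key g hg x
  · intro hx
    have := key g⁻¹ (h.Kr.inv_mem hg) _ hx
    simpa [mul_assoc] using this

theorem eq_of_R (h : Tv ρ lam t) {a b : H} (hab : R t a b) : T t a = T t b := by
  have h1 : Acl t a ≤ ZN.o2 h.Kr := ZN.le_o2 (h.Acl_le a) (two_of_sq (h.Acl_sq a)) (h.Kr_le a)
  have h2 : (ZN.o2 h.Kr).Normal := by
    have h3 := ZN.normalizer_le_normalizer_o2 h.Kr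
    haveI := h.Kr_normal
    rw [normalizer_eq_top (H := h.Kr)] at h3
    exact normalizer_eq_top_iff.1 (top_le_iff.1 h3)
  have h3 := h.core _ h2 (ZN.isPGroup_o2 _)
  rw [h3] at h1
  have h4 : T t a * T t b ∈ Acl t a := subset_closure ⟨a, b, R_refl a, hab, rfl⟩
  have h5 := mem_bot.1 (h1 h4)
  rw [← h.T_inv b]
  exact eq_inv_of_mul_eq_one_left h5

theorem exists_pair (h : Tv ρ lam t) : ∃ x y, ¬ R t x y := by
  by_contra hcon
  push Not at hcon
  set D : Subgroup H := closure {x | ∃ a, x = T t a}
  have h1 : ∀ x ∈ D, x * x = 1 := by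
    apply sq_of_closure
    · rintro x ⟨a, rfl⟩
      exact h.T_sq a
    · rintro x ⟨a, rfl⟩ y ⟨b, rfl⟩
      exact hcon a b
  have h2 : D.Normal := by
    constructor
    intro x hx g
    induction hx using closure_induction with
    | mem x hx =>
      obtain ⟨a, rfl⟩ := hx
      exact subset_closure ⟨g * a, (T_mul _ _ _).symm⟩
    | one => simp
    | mul x y _ _ hx hy =>
      have : g * (x * y) * g⁻¹ = (g * x * g⁻¹) * (g * y * g⁻¹) := by group
      rw [this]
      exact D.mul_mem hx hy
    | inv x _ hx =>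
      have : g * x⁻¹ * g⁻¹ = (g * x * g⁻¹)⁻¹ := by group
      rw [this]
      exact D.inv_mem hx
  have h3 := h.core D h2 (two_of_sq h1)
  have h4 : T t 1 ∈ D := subset_closure ⟨1, rfl⟩
  rw [h3] at h4
  exact h.T_ne 1 (mem_bot.1 h4)

/-- **(6.3)** -/
theorem main [Finite H] (h : Tv ρ lam t) : Nat.card N = 4 ∧ 3 ∣ Nat.card H := by
  obtain ⟨x, y, hxy⟩ := h.exists_pair
  have hne : ρ x lam ≠ ρ y lam := by
    intro h1
    apply hxy
    unfold R
    rw [h.T_of_L h1]
  constructor
  · set a := ρ x lam with ha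
    set b := ρ y lam with hb
    have ha1 : a ≠ 1 := h.L_ne x
    have hb1 : b ≠ 1 := h.L_ne y
    have hmem : ∀ m : N, m = 1 ∨ m = a ∨ m = b ∨ m = b * a := by
      intro m
      have hm : m ∈ closure {m | ∃ h, m = ρ h lam} := by rw [h.gen]; trivial
      induction hm using closure_induction with
      | mem m hm =>
        obtain ⟨w, rfl⟩ := hm
        rcases h.three hxy w with h1 | h1 | h1
        · exact Or.inr (Or.inl (h.L_of_T (h.eq_of_R h1)))
        · exact Or.inr (Or.inr (Or.inl (h.L_of_T (h.eq_of_R h1))))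
        · right
          right
          right
          rw [h.L_of_T (h.eq_of_R h1), h.map_mul', h.move hxy]
      | one => exact Or.inl rfl
      | mul m m' _ _ h1 h2 =>
        have e1 : a * a = 1 := h.sq a
        have e2 : b * b = 1 := h.sq b
        rcases h1 with rfl | rfl | rfl | rfl <;> rcases h2 with rfl | rfl | rfl | rfl
        · simp
        · simp
        · simp
        · simp
        · simp
        · left; exact e1
        · right; right; right; exact mul_comm _ _
        · right; right; left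
          rw [mul_comm b a, ← mul_assoc, e1, one_mul]
        · simp
        · simp
        · left; exact e2
        · right; left
          rw [← mul_assoc, e2, one_mul]
        · simp
        · right; right; left
          rw [mul_assoc, e1, mul_one]
        · right; left
          rw [mul_right_comm, e2, one_mul]
        · left
          exact h.sq _
      | inv m _ h1 =>
        have : m⁻¹ = m := inv_eq_of_mul_eq_one_left (h.sq m)
        rwa [this]
    have hab : b * a ≠ 1 := by
      intro h1
      apply hne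
      have : a⁻¹ = a := inv_eq_of_mul_eq_one_left (h.sq a)
      rw [← this]
      exact inv_eq_of_mul_eq_one_left h1
    have huniv : (Set.univ : Set N) = {1, a, b, b * a} := by
      ext m
      simpa using hmem m
    have h0 : Nat.card N = (Set.univ : Set N).ncard := (Set.ncard_univ N).symm
    rw [h0, huniv]
    rw [Set.ncard_insert_of_notMem, Set.ncard_insert_of_notMem, Set.ncard_insert_of_notMem,
      Set.ncard_singleton]
    · simp only [Set.mem_singleton_iff]
      intro h1
      exact ha1 ((mul_eq_left (a := b)).1 h1.symm)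
    · simp only [Set.mem_insert_iff, Set.mem_singleton_iff, not_or]
      refine ⟨hne, ?_⟩
      intro h1
      exact hb1 ((mul_eq_right (b := a)).1 h1.symm)
    · simp only [Set.mem_insert_iff, Set.mem_singleton_iff, not_or]
      exact ⟨ha1.symm, hb1.symm, hab.symm⟩
  · have h1 := h.cube hxy
    have h2 : T t x * T t y ≠ 1 := by
      intro h2
      apply hxy
      have : T t x = T t y := by
        rw [← h.T_inv y]
        exact eq_inv_of_mul_eq_one_left h2
      unfold R
      rw [this]
    haveI : Fact (Nat.Prime 3) := ⟨Nat.prime_three⟩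
    have h3 : orderOf (T t x * T t y) = 3 := orderOf_eq_prime h1 h2
    rw [← h3]
    exact orderOf_dvd_natCard _

end Tv

end Cfsg.Agent.OddCyclic.Eq.SixA
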