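import Cfsg.Agent.OddCyclic.Eq.SixADefs
import Cfsg.Agent.OddCyclic.Eq.SixATrans
import Cfsg.Agent.OddCyclic.Eq.QAct

/-!
# (E_q) of `T_cyc`, (6.1): `V_z`, `K_z = C(V_z / ⟨z⟩)`
-/

set_option autoImplicit false
set_option linter.style.haveILetI false

namespace Cfsg.Agent.OddCyclic.Eq.SixA

open Subgroup

universe u

/-- four different elements of a set of size 4 -/
theorem ncard_four {α : Type u} {s : Set α} (hs : s.ncard = 4) {a b c d : α} (ha : a ∈ s) (hb : b ∈ s)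
    (hc : c ∈ s) (hd : d ∈ s) (h1 : a ≠ b) (h2 : a ≠ c) (h3 : a ≠ d) (h4 : b ≠ c) (h5 : b ≠ d) (h6 : c ≠ d) :
    ∀ x ∈ s, x = a ∨ x = b ∨ x = c ∨ x = d := by
  have hfin : s.Finite := Set.finite_of_ncard_ne_zero (by omega)
  have hcard : ({a, b, c, d} : Set α).ncard = 4 := by
    rw [Set.ncard_insert_of_notMem, Set.ncard_insert_of_notMem, Set.ncard_insert_of_notMem,
      Set.ncard_singleton]
    · simpa using h6
    · simpa using ⟨h4, h5⟩
    · simpa using ⟨h1, h2, h3⟩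
  have hsub : ({a, b, c, d} : Set α) ⊆ s := by
    intro x hx
    simp only [Set.mem_insert_iff, Set.mem_singleton_iff] at hx
    rcases hx with rfl | rfl | rfl | rfl <;> assumption
  have heq := Set.eq_of_subset_of_ncard_le hsub (by rw [hs, hcard]) hfin
  intro x hx
  rw [← heq] at hx
  simpa using hx

variable {G : Type u} [Group G] {S V J : Subgroup G} {z : G}

/-- `C_G(z)` -/
abbrev Cz (z : G) : Subgroup G := centralizer {z}

theorem mem_Cz {c : G} : c ∈ Cz z ↔ c * z = z * c := mem_centralizer_singleton_iff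

theorem Cz_conj {c : G} (hc : c ∈ Cz z) : c * z * c⁻¹ = z := by
  rw [mem_Cz.1 hc, mul_inv_cancel_right]

theorem J_le_Vz (J : Subgroup G) (z : G) : J ≤ Vz J z := by
  intro a ha
  exact Subgroup.subset_closure ⟨1, by simp, a, ha, by simp⟩

theorem Vz_conj {c w : G} (hc : c ∈ Cz z) (hw : w ∈ Vz J z) : c * w * c⁻¹ ∈ Vz J z := by
  induction hw using closure_induction with
  | mem x hx =>
    obtain ⟨d, hd, a, ha, rfl⟩ := hx
    exact Subgroup.subset_closure ⟨c * d, mem_Cz.1 ((Cz z).mul_mem hc (mem_Cz.2 hd)), a, ha, by group⟩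
  | one => simp
  | mul x y _ _ hx hy =>
    have : c * (x * y) * c⁻¹ = (c * x * c⁻¹) * (c * y * c⁻¹) := by group
    rw [this]
    exact (Vz J z).mul_mem hx hy
  | inv x _ hx =>
    have : c * x⁻¹ * c⁻¹ = (c * x * c⁻¹)⁻¹ := by group
    rw [this]
    exact (Vz J z).inv_mem hx

theorem Cz_le_normalizer (J : Subgroup G) (z : G) : Cz z ≤ normalizer (Vz J z : Set G) := by
  intro c hc
  rw [mem_normalizer_iff]
  intro x
  constructor
  · exact Vz_conj hc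
  · intro hx
    have := Vz_conj ((Cz z).inv_mem hc) hx
    simpa [mul_assoc] using this

theorem Cz_le_normalizer_zpowers (z : G) : Cz z ≤ normalizer (zpowers z : Set G) := by
  have key : ∀ c ∈ Cz z, ∀ x ∈ zpowers z, c * x * c⁻¹ = x := by
    intro c hc x hx
    obtain ⟨n, rfl⟩ := mem_zpowers_iff.1 hx
    rw [mul_inv_eq_iff_eq_mul]
    exact (Commute.zpow_right (mem_Cz.1 hc : Commute c z) n).eq
  intro c hc
  rw [mem_normalizer_iff]
  intro x
  constructor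
  · intro hx
    rw [key c hc x hx]
    exact hx
  · intro hx
    have h1 := key c⁻¹ ((Cz z).inv_mem hc) _ hx
    have h2 : x = c * x * c⁻¹ := by
      rw [← h1]
      group
    rw [h2]
    exact hx

/-- `K_z = C_{C_G(z)}(V_z / ⟨z⟩)` -/
def Kz (J : Subgroup G) (z : G) : Subgroup G where
  carrier := {c | c ∈ Cz z ∧ ∀ w ∈ Vz J z, c * w * c⁻¹ * w⁻¹ ∈ zpowers z}
  mul_mem' := by
    rintro c d ⟨hc, hc'⟩ ⟨hd, hd'⟩
    refine ⟨(Cz z).mul_mem hc hd, fun w hw => ?_⟩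
    have h1 : c * d * w * (c * d)⁻¹ * w⁻¹ =
        (c * (d * w * d⁻¹) * c⁻¹ * (d * w * d⁻¹)⁻¹) * (d * w * d⁻¹ * w⁻¹) := by group
    rw [h1]
    exact (zpowers z).mul_mem (hc' _ (Vz_conj hd hw)) (hd' w hw)
  one_mem' := ⟨(Cz z).one_mem, fun w hw => by simp⟩
  inv_mem' := by
    rintro c ⟨hc, hc'⟩
    refine ⟨(Cz z).inv_mem hc, fun w hw => ?_⟩
    have h0 : c⁻¹ * w * c⁻¹⁻¹ ∈ Vz J z := Vz_conj ((Cz z).inv_mem hc) hw
    have h1 : c⁻¹ * w * c⁻¹⁻¹ * w⁻¹ = (c * (c⁻¹ * w * c⁻¹⁻¹) * c⁻¹ * (c⁻¹ * w * c⁻¹⁻¹)⁻¹)⁻¹ := by group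
    rw [h1]
    exact (zpowers z).inv_mem (hc' _ h0)

theorem Kz_le (J : Subgroup G) (z : G) : Kz J z ≤ Cz z := fun _ h => h.1

theorem Kz_conj {c k : G} (hc : c ∈ Cz z) (hk : k ∈ Kz J z) : c * k * c⁻¹ ∈ Kz J z := by
  refine ⟨(Cz z).mul_mem ((Cz z).mul_mem hc hk.1) ((Cz z).inv_mem hc), fun w hw => ?_⟩
  have h0 : c⁻¹ * w * c ∈ Vz J z := by
    have := Vz_conj ((Cz z).inv_mem hc) hw
    rwa [inv_inv] at this
  have h1 : c * k * c⁻¹ * w * (c * k * c⁻¹)⁻¹ * w⁻¹ =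
      c * (k * (c⁻¹ * w * c) * k⁻¹ * (c⁻¹ * w * c)⁻¹) * c⁻¹ := by group
  rw [h1]
  exact (mem_normalizer_iff.1 (Cz_le_normalizer_zpowers z hc) _).1 (hk.2 _ h0)

theorem Cz_le_normalizer_Kz (J : Subgroup G) (z : G) : Cz z ≤ normalizer (Kz J z : Set G) := by
  intro c hc
  rw [mem_normalizer_iff]
  intro x
  constructor
  · exact Kz_conj hc
  · intro hx
    have := Kz_conj ((Cz z).inv_mem hc) hx
    simpa [mul_assoc] using this

/-- exponent 2 implies commutative -/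
theorem comm_of_sq {A : Subgroup G} (hA : ∀ x ∈ A, x * x = 1) {x y : G} (hx : x ∈ A) (hy : y ∈ A) :
    x * y = y * x := by
  have h1 := hA _ (A.mul_mem hx hy)
  have h2 := hA x hx
  have h3 := hA y hy
  calc x * y = x * (x * y * (x * y)) * y := by rw [h1, mul_one]
    _ = (x * x) * (y * x) * (y * y) := by group
    _ = y * x := by rw [h2, h3, one_mul, mul_one]

namespace Hyp

theorem z_sq (h : Hyp S V J z) : z * z = 1 := h.Vsq z (h.JV h.zJ)

theorem mem_zp (h : Hyp S V J z) {x : G} : x ∈ zpowers z ↔ x = 1 ∨ x = z := by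
  constructor
  · intro hx
    obtain ⟨n, rfl⟩ := mem_zpowers_iff.1 hx
    rcases Int.even_or_odd' n with ⟨k, rfl | rfl⟩
    · left
      rw [zpow_mul, zpow_two, h.z_sq, one_zpow]
    · right
      rw [zpow_add, zpow_mul, zpow_two, h.z_sq, one_zpow, one_mul, zpow_one]
  · rintro (rfl | rfl)
    · exact one_mem _
    · exact mem_zpowers _

theorem zp_le (h : Hyp S V J z) : zpowers z ≤ J := by
  rw [zpowers_le]
  exact h.zJ

theorem exists_a (h : Hyp S V J z) : ∃ a ∈ J, a ∉ zpowers z := by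
  by_contra hcon
  push Not at hcon
  have h1 : Nat.card J ≤ Nat.card (zpowers z) := by
    haveI : Finite (zpowers z) := by
      have h2 : (zpowers z : Set G) ⊆ {1, z} := fun x hx => by simpa using h.mem_zp.1 hx
      exact Set.Finite.subset (Set.toFinite _) h2
    exact Nat.card_mono (Set.toFinite _) hcon
  have h2 : Nat.card (zpowers z) = 2 := by
    rw [Nat.card_zpowers]
    exact orderOf_eq_prime (by rw [pow_two]; exact h.z_sq) h.z1
  rw [h2, h.cardJ] at h1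
  omega

theorem J_cases (h : Hyp S V J z) {a : G} (ha : a ∈ J) (haz : a ∉ zpowers z) {x : G} (hx : x ∈ J) :
    x = 1 ∨ x = z ∨ x = a ∨ x = a * z := by
  rw [h.mem_zp, not_or] at haz
  have hc : (J : Set G).ncard = 4 := h.cardJ
  have hz1 := h.z1
  refine ncard_four hc J.one_mem h.zJ ha (J.mul_mem ha h.zJ) (Ne.symm hz1) (Ne.symm haz.1) ?_ (Ne.symm haz.2)
    ?_ ?_ x hx
  · intro h1
    apply haz.2
    have : a = z⁻¹ := eq_inv_of_mul_eq_one_left h1.symm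
    rw [this]
    exact inv_eq_of_mul_eq_one_left h.z_sq
  · intro h1
    exact haz.1 (mul_eq_right.1 h1.symm)
  · intro h1
    exact hz1 (mul_eq_left.1 h1.symm)

/-- an element of `C_G(z)` fixing `λ` normalises `J` -/
theorem mem_nJ (h : Hyp S V J z) {a : G} (ha : a ∈ J) (haz : a ∉ zpowers z) {c : G} (hc : c ∈ Cz z)
    (h1 : c * a * c⁻¹ * a⁻¹ ∈ zpowers z) : c ∈ normalizer (J : Set G) := by
  have hca : c * a * c⁻¹ ∈ J := by
    have := J.mul_mem (h.zp_le h1) ha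
    rwa [inv_mul_cancel_right] at this
  have key : ∀ x ∈ J, c * x * c⁻¹ ∈ J := by
    intro x hx
    rcases h.J_cases ha haz hx with rfl | rfl | rfl | rfl
    · simp
    · rw [Cz_conj hc]; exact h.zJ
    · exact hca
    · have : c * (a * z) * c⁻¹ = (c * a * c⁻¹) * (c * z * c⁻¹) := by group
      rw [this, Cz_conj hc]
      exact J.mul_mem hca h.zJ
  have hfin : Finite J := Nat.finite_of_card_ne_zero (by rw [h.cardJ]; decide)
  have hmap : J.map (MulAut.conj c).toMonoidHom = J := by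
    have hle : J.map (MulAut.conj c).toMonoidHom ≤ J := by
      rintro _ ⟨x, hx, rfl⟩
      exact key x hx
    apply eq_of_le_of_card_ge hle
    rw [Subgroup.card_map_of_injective (MulAut.conj c).injective]
  exact ZN.mem_normalizer_of_map_conj_eq hmap

theorem nJ_act (h : Hyp S V J z) {a : G} (ha : a ∈ J) (haz : a ∉ zpowers z) {c : G} (hc : c ∈ Cz z)
    (h1 : c ∈ normalizer (J : Set G)) : c * a * c⁻¹ * a⁻¹ ∈ zpowers z := by
  have h2 : c * a * c⁻¹ ∈ J := (mem_normalizer_iff.1 h1 a).1 ha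
  rcases h.J_cases ha haz h2 with h3 | h3 | h3 | h3
  · exfalso
    apply haz
    have : a = 1 := by
      have h4 : a = c⁻¹ * (c * a * c⁻¹) * c := by group
      rw [h4, h3]
      simp
    rw [this]
    exact one_mem _
  · exfalso
    apply haz
    have : a = z := by
      have h4 : a = c⁻¹ * (c * a * c⁻¹) * c := by group
      have h5 := Cz_conj ((Cz z).inv_mem hc)
      rw [inv_inv] at h5
      rw [h4, h3, h5]
    rw [this]
    exact mem_zpowers _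
  · rw [h3]
    simp
  · rw [h3]
    have h5 : a * z * a⁻¹ = z := by
      rw [comm_of_sq h.Vsq (h.JV ha) (h.JV h.zJ), mul_inv_cancel_right]
    rw [h5]
    exact mem_zpowers _

theorem J_comm (h : Hyp S V J z) {x y : G} (hx : x ∈ J) (hy : y ∈ J) : x * y = y * x :=
  comm_of_sq h.Vsq (h.JV hx) (h.JV hy)

theorem J_le_Cz (h : Hyp S V J z) : J ≤ Cz z := fun _ hx => mem_Cz.2 (h.J_comm hx h.zJ)

theorem V_le_Cz (h : Hyp S V J z) : V ≤ Cz z := fun _ hx => mem_Cz.2 (comm_of_sq h.Vsq hx (h.JV h.zJ))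

theorem S_le_Cz (h : Hyp S V J z) : S ≤ Cz z := fun _ hx => mem_Cz.2 (h.Sz _ hx)

theorem Vz_le_Cz (h : Hyp S V J z) : Vz J z ≤ Cz z := by
  unfold Vz
  rw [closure_le]
  rintro _ ⟨c, hc, a, ha, rfl⟩
  have hc' : c ∈ Cz z := mem_Cz.2 hc
  exact (Cz z).mul_mem ((Cz z).mul_mem hc' (h.J_le_Cz ha)) ((Cz z).inv_mem hc')

theorem Vz_le_o2 (h : Hyp S V J z) : Vz J z ≤ ZN.o2 (Cz z) := by
  unfold Vz
  rw [closure_le]
  rintro _ ⟨c, hc, a, ha, rfl⟩
  exact (mem_normalizer_iff.1 (ZN.le_normalizer_o2 (Cz z) (mem_Cz.2 hc)) a).1 (h.Jo2 ha)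

theorem o2_le_S (h : Hyp S V J z) : ZN.o2 (Cz z) ≤ S := by
  have h1 : IsPGroup 2 ↥(S ⊔ ZN.o2 (Cz z)) :=
    IsPGroup.to_sup_of_normal_right' h.two (ZN.isPGroup_o2 _)
      (h.S_le_Cz.trans (ZN.le_normalizer_o2 (Cz z)))
  exact le_sup_right.trans (h.smax _ h1 le_sup_left)

theorem Vz_le_S (h : Hyp S V J z) : Vz J z ≤ S := h.Vz_le_o2.trans h.o2_le_S

theorem S_le_nJ (h : Hyp S V J z) : S ≤ normalizer (J : Set G) := h.SJ

/-- `[V_z, Q] ≤ ⟨z⟩` -/
theorem o2_le_Kz (h : Hyp S V J z) : ZN.o2 (Cz z) ≤ Kz J z := by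
  obtain ⟨a, ha, haz⟩ := h.exists_a
  intro q hq
  refine ⟨ZN.o2_le _ hq, fun w hw => ?_⟩
  have hJ : ∀ q ∈ ZN.o2 (Cz z), ∀ x ∈ J, q * x * q⁻¹ * x⁻¹ ∈ zpowers z := by
    intro q hq x hx
    by_cases hxz : x ∈ zpowers z
    · rcases h.mem_zp.1 hxz with rfl | rfl
      · simp
      · rw [Cz_conj (ZN.o2_le _ hq)]
        simp
    · exact h.nJ_act hx hxz (ZN.o2_le _ hq) (h.SJ (h.o2_le_S hq))
  induction hw using closure_induction with
  | mem x hx =>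
    obtain ⟨c, hc, b, hb, rfl⟩ := hx
    have hc' : c ∈ Cz z := mem_Cz.2 hc
    have h1 : c⁻¹ * q * c ∈ ZN.o2 (Cz z) := by
      have := (mem_normalizer_iff.1 (ZN.le_normalizer_o2 (Cz z) ((Cz z).inv_mem hc')) q).1 hq
      rwa [inv_inv] at this
    have h2 : q * (c * b * c⁻¹) * q⁻¹ * (c * b * c⁻¹)⁻¹ =
        c * ((c⁻¹ * q * c) * b * (c⁻¹ * q * c)⁻¹ * b⁻¹) * c⁻¹ := by group
    rw [h2]
    exact (mem_normalizer_iff.1 (Cz_le_normalizer_zpowers z hc') _).1 (hJ _ h1 b hb)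
  | one => simp
  | mul x y hx hy ihx ihy =>
    have h2 : q * (x * y) * q⁻¹ * (x * y)⁻¹ = (q * x * q⁻¹ * x⁻¹) * (x * (q * y * q⁻¹ * y⁻¹) * x⁻¹) := by group
    rw [h2]
    exact (zpowers z).mul_mem ihx
      ((mem_normalizer_iff.1 (Cz_le_normalizer_zpowers z (h.Vz_le_Cz hx)) _).1 ihy)
  | inv x hx ihx =>
    have h2 : q * x⁻¹ * q⁻¹ * x⁻¹⁻¹ = x⁻¹ * (q * x * q⁻¹ * x⁻¹)⁻¹ * x⁻¹⁻¹ := by group
    rw [h2]
    exact (mem_normalizer_iff.1 (Cz_le_normalizer_zpowers z ((Cz z).inv_mem (h.Vz_le_Cz hx))) _).1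
      ((zpowers z).inv_mem ihx)

theorem Kz_le_nJ (h : Hyp S V J z) : Kz J z ≤ normalizer (J : Set G) := by
  obtain ⟨a, ha, haz⟩ := h.exists_a
  intro k hk
  exact h.mem_nJ ha haz hk.1 (hk.2 a (J_le_Vz J z ha))

/-- `V ∩ K_z = V ∩ O₂(C_z)` -/
theorem V_inf_Kz (h : Hyp S V J z) {v : G} (hv : v ∈ V) (hk : v ∈ Kz J z) : v ∈ ZN.o2 (Cz z) := by
  have h1 : V ⊓ Kz J z ≤ ZN.o2 (Kz J z) := by
    apply ZN.le_o2 inf_le_right
    · exact two_of_sq fun x hx => h.Vsq x hx.1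
    · intro k hk
      have hkV : k ∈ normalizer (V : Set G) := h.NJ (h.Kz_le_nJ hk)
      rw [mem_normalizer_iff]
      intro x
      constructor
      · intro hx
        exact ⟨(mem_normalizer_iff.1 hkV x).1 hx.1,
          (Kz J z).mul_mem ((Kz J z).mul_mem hk hx.2) ((Kz J z).inv_mem hk)⟩
      · intro hx
        refine ⟨(mem_normalizer_iff.1 hkV x).2 hx.1, ?_⟩
        have h3 := (Kz J z).mul_mem ((Kz J z).mul_mem ((Kz J z).inv_mem hk) hx.2) hk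
        have h4 : k⁻¹ * (k * x * k⁻¹) * k = x := by group
        rwa [h4] at h3
  have h2 : ZN.o2 (Kz J z) ≤ ZN.o2 (Cz z) := by
    apply ZN.le_o2 ((ZN.o2_le _).trans (Kz_le J z)) (ZN.isPGroup_o2 _)
    exact (Cz_le_normalizer_Kz J z).trans (ZN.normalizer_le_normalizer_o2 _)
  exact h2 (h1 ⟨hv, hk⟩)

theorem exists_v0 (h : Hyp S V J z) : ∃ v ∈ V, v ∉ ZN.o2 (Cz z) := by
  by_contra hcon
  push Not at hcon
  have h1 : V ⊓ ZN.o2 (Cz z) = V := inf_eq_left.2 hcon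
  have h2 := h.card8
  rw [h1, h.cardV] at h2
  omega

theorem exists_v1 (h : Hyp S V J z) : ∃ v ∈ V, v ∈ ZN.o2 (Cz z) ∧ v ∉ J := by
  by_contra hcon
  push Not at hcon
  have h1 : V ⊓ ZN.o2 (Cz z) ≤ J := fun v hv => hcon v hv.1 hv.2
  have hfin : Finite J := Nat.finite_of_card_ne_zero (by rw [h.cardJ]; decide)
  have h2 : Nat.card ↥(V ⊓ ZN.o2 (Cz z)) ≤ Nat.card J := Nat.card_mono (Set.toFinite _) h1
  have h3 := h.card8
  rw [h3, h.cardJ] at h2
  omega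

/-- `|V : V ∩ Q| = 2` -/
theorem mul_mem_o2 (h : Hyp S V J z) {v w : G} (hv : v ∈ V) (hw : w ∈ V) (hv' : v ∉ ZN.o2 (Cz z))
    (hw' : w ∉ ZN.o2 (Cz z)) : v * w ∈ ZN.o2 (Cz z) := by
  have h1 : ((V ⊓ ZN.o2 (Cz z)).subgroupOf V).index = 2 := by
    have h2 := card_mul_index ((V ⊓ ZN.o2 (Cz z)).subgroupOf V)
    have h3 : Nat.card ((V ⊓ ZN.o2 (Cz z)).subgroupOf V) = 8 := by
      rw [Nat.card_congr (subgroupOfEquivOfLe inf_le_left).toEquiv]
      exact h.card8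
    rw [h3, h.cardV] at h2
    omega
  have h2 := mul_mem_iff_of_index_two h1 (a := ⟨v, hv⟩) (b := ⟨w, hw⟩)
  have h3 : (⟨v, hv⟩ : V) ∉ (V ⊓ ZN.o2 (Cz z)).subgroupOf V := fun h' => hv' (mem_subgroupOf.1 h').2
  have h4 : (⟨w, hw⟩ : V) ∉ (V ⊓ ZN.o2 (Cz z)).subgroupOf V := fun h' => hw' (mem_subgroupOf.1 h').2
  have h5 := h2.2 (iff_of_false h3 h4)
  exact (mem_subgroupOf.1 h5).2

/-- `C_0` centralises `V / V¹` -/
theorem comm_o2 (h : Hyp S V J z) {c v : G} (hc : c ∈ Cz z) (hcV : c ∈ normalizer (V : Set G)) (hv : v ∈ V)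
    (hv' : v ∉ ZN.o2 (Cz z)) : c * v * c⁻¹ * v⁻¹ ∈ ZN.o2 (Cz z) := by
  have h1 : c * v * c⁻¹ ∈ V := (mem_normalizer_iff.1 hcV v).1 hv
  have h2 : c * v * c⁻¹ ∉ ZN.o2 (Cz z) := fun h' =>
    hv' ((mem_normalizer_iff.1 (ZN.le_normalizer_o2 (Cz z) hc) v).2 h')
  exact h.mul_mem_o2 h1 (V.inv_mem hv) h2 (fun h' => hv' ((ZN.o2 (Cz z)).inv_mem_iff.1 h'))

end Hyp

end Cfsg.Agent.OddCyclic.Eq.SixA
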