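import Cfsg.Agent.ZN.Facts

/-!
# (E_q) of `T_cyc`, `q = 4`, `|V ∩ O₂(C_G(z))| = 8`: the input of the end game

`S` Sylow 2-subgroup of `G`, `V` the natural module (order 16), `J = Z_J` (order 4), `Ω₁Z(S) = ⟨z⟩`,
`B = C_S(J)`, `Q₁ = C_S(V)`, `M = N_G(V)`, `C_z = C_G(z)`.
-/

set_option autoImplicit false

namespace Cfsg.Agent.OddCyclic.Eq.SixA

open Subgroup

universe u

variable {G : Type u} [Group G]

/-- input of section 6: `q = 4`, `V ∩ O₂(C_G(z))` of order 8 -/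
structure Hyp (S V J : Subgroup G) (z : G) : Prop where
  two : IsPGroup 2 S
  smax : ∀ P : Subgroup G, IsPGroup 2 P → S ≤ P → P ≤ S
  VS : V ≤ S
  SV : S ≤ normalizer (V : Set G)
  Vsq : ∀ v ∈ V, v * v = 1
  cardV : Nat.card V = 16
  JV : J ≤ V
  cardJ : Nat.card J = 4
  SJ : S ≤ normalizer (J : Set G)
  zJ : z ∈ J
  z1 : z ≠ 1
  Sz : ∀ s ∈ S, s * z = z * s
  zS : ∀ x ∈ S, x * x = 1 → (∀ s ∈ S, s * x = x * s) → x = 1 ∨ x = z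
  NJ : normalizer (J : Set G) ≤ normalizer (V : Set G)
  fact : ∀ c : G, c * z = z * c → c ∈ normalizer (V : Set G) →
    ∃ d ∈ centralizer (V : Set G), ∃ s ∈ S, c = d * s
  no3 : ∀ x ∈ centralizer (V : Set G), x ^ 3 = 1 → x = 1
  maxl : ∀ U : Subgroup G, U ≠ ⊥ → IsPGroup 2 U → normalizer (V : Set G) ≤ normalizer (U : Set G) →
    normalizer (U : Set G) ≤ normalizer (V : Set G)
  char2 : ∀ x ∈ normalizer (V : Set G), (∀ r ∈ ZN.o2 (normalizer (V : Set G)), x * r = r * x) →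
    x ∈ ZN.o2 (normalizer (V : Set G))
  notle : ∃ c : G, c * z = z * c ∧ c ∉ normalizer (V : Set G)
  cfix : ∀ b ∈ S ⊓ centralizer (J : Set G), b ∉ centralizer (V : Set G) → ∀ v ∈ V, b * v = v * b → v ∈ J
  ccom : ∀ b ∈ S ⊓ centralizer (J : Set G), ∀ v ∈ V, v * b * v⁻¹ * b⁻¹ ∈ J
  csurj : ∀ b ∈ S ⊓ centralizer (J : Set G), b ∉ centralizer (V : Set G) → ∀ c ∈ J,
    ∃ v ∈ V, v * b * v⁻¹ * b⁻¹ = c
  idx : (S ⊓ centralizer (V : Set G)).relIndex (S ⊓ centralizer (J : Set G)) = 4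
  Jo2 : J ≤ ZN.o2 (centralizer {z})
  card8 : Nat.card ↥(V ⊓ ZN.o2 (centralizer {z})) = 8
  exA : ∃ A ≤ S ⊓ centralizer (J : Set G), ¬ A ≤ centralizer (V : Set G) ∧ (∀ x ∈ A, x * x = 1) ∧
    ∀ A' ≤ S, (∀ x ∈ A', x * x = 1) → Nat.card A' ≤ Nat.card A
  cB : ∀ x ∈ S, x * x = 1 → (∀ b ∈ S ⊓ centralizer (J : Set G), b * x = x * b) → x ∈ J
  exk : ∃ k : G, k ^ 3 = 1 ∧ k ∈ normalizer ((S ⊓ centralizer (J : Set G) : Subgroup G) : Set G) ∧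
    k ∈ normalizer (V : Set G) ∧ k ∈ normalizer (J : Set G) ∧ (∀ x ∈ J, k * x * k⁻¹ = x → x = 1) ∧
    (∀ x ∈ V, k * x * k⁻¹ * x⁻¹ ∈ J → x ∈ J) ∧
    ∀ x ∈ S ⊓ centralizer (J : Set G), k * x * k⁻¹ * x⁻¹ ∈ centralizer (V : Set G) →
      x ∈ centralizer (V : Set G)
  exl : ∃ l ∈ normalizer (V : Set G), ∀ x ∈ J, l * x * l⁻¹ ∈ J → x = 1
  cyc3 : ∀ P : Sylow 3 G, IsCyclic P

/-- `V_z = ⟨J ^ C_G(z)⟩` -/
def Vz (J : Subgroup G) (z : G) : Subgroup G :=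
  closure {x | ∃ c : G, c * z = z * c ∧ ∃ a ∈ J, x = c * a * c⁻¹}

end Cfsg.Agent.OddCyclic.Eq.SixA
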