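import Cfsg.Agent.OddCyclic.Eq.SixAThree
import Cfsg.Agent.OddOrderLocal.CyclicSub

/-!
# (E_q) of `T_cyc`, (6.5), (6.6), `V_z` abelian: contradiction
-/

set_option autoImplicit false
set_option linter.style.haveILetI false

namespace Cfsg.Agent.OddCyclic.Eq.SixA

open Subgroup

universe u

variable {G : Type u} [Group G] {S V J : Subgroup G} {z : G}

/-- a nontrivial normal subgroup of a 2-group contains a central involution -/
theorem exists_central [Finite G] {S D : Subgroup G} (hS : IsPGroup 2 S) (hDS : D ≤ S)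
    (hn : S ≤ normalizer (D : Set G)) (hD : D ≠ ⊥) :
    ∃ x ∈ D, x ≠ 1 ∧ x * x = 1 ∧ ∀ s ∈ S, s * x = x * s := by
  haveI : Fact (Nat.Prime 2) := ⟨Nat.prime_two⟩
  haveI hN : (D.subgroupOf S).Normal := by
    constructor
    intro n hn' g
    rw [mem_subgroupOf] at hn' ⊢
    exact (mem_normalizer_iff.1 (hn g.2) n).1 hn'
  have hS' : IsPGroup 2 (ConjAct ↥S) := hS
  have hD' : IsPGroup 2 D := hS.to_le hDS
  haveI : Nontrivial D := (nontrivial_iff_ne_bot _).2 hD
  have hcard : 2 ∣ Nat.card (D.subgroupOf S) := by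
    rw [Nat.card_congr (subgroupOfEquivOfLe hDS).toEquiv]
    rcases hD'.card_eq_or_dvd with h0 | h0
    · exact absurd (Subgroup.card_eq_one.1 h0) hD
    · exact h0
  have h1 : (1 : D.subgroupOf S) ∈ MulAction.fixedPoints (ConjAct ↥S) (D.subgroupOf S) := by
    intro g
    exact smul_one g
  obtain ⟨b, hb, hb1⟩ := hS'.exists_fixed_point_of_prime_dvd_card_of_fixed_point (D.subgroupOf S) hcard h1
  have hbc : ∀ s ∈ S, s * ((b : S) : G) = ((b : S) : G) * s := by
    intro s hs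
    have h2 := hb (ConjAct.toConjAct ⟨s, hs⟩)
    have h3 := congrArg (fun x : D.subgroupOf S => ((x : S) : G)) h2
    change s * ((b : S) : G) * s⁻¹ = ((b : S) : G) at h3
    rwa [mul_inv_eq_iff_eq_mul] at h3
  have hbD : ((b : S) : G) ∈ D := b.2
  have hb1' : ((b : S) : G) ≠ 1 := by
    intro h
    apply hb1
    apply Subtype.ext
    apply Subtype.ext
    exact h.symm
  obtain ⟨k, hk⟩ := hD' ⟨_, hbD⟩
  have hk' : ((b : S) : G) ^ 2 ^ k = 1 := by simpa using congrArg Subtype.val hk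
  clear hk
  have key : ∀ (k : ℕ) (x : G), x ∈ D → x ≠ 1 → (∀ s ∈ S, s * x = x * s) → x ^ 2 ^ k = 1 →
      ∃ x ∈ D, x ≠ 1 ∧ x * x = 1 ∧ ∀ s ∈ S, s * x = x * s := by
    intro k
    induction k with
    | zero =>
      intro x _ hx1 _ hx
      exact absurd (by simpa using hx) hx1
    | succ k ih =>
      intro x hx hx1 hxs hxk
      by_cases h4 : x * x = 1
      · exact ⟨x, hx, hx1, h4, hxs⟩
      · apply ih (x * x) (D.mul_mem hx hx) h4
        · intro s hs
          rw [← mul_assoc, hxs s hs, mul_assoc, hxs s hs, mul_assoc]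
        · rw [← pow_two, ← pow_mul, ← pow_succ']
          exact hxk
  exact key k _ hbD hb1' hbc hk'

/-- elements of order 3 of a subgroup are conjugate up to inversion -/
theorem exists_conj_three [Finite G] (hc : ∀ P : Sylow 3 G, IsCyclic P) {N : Subgroup G} {x y : G} (hxN : x ∈ N)
    (hyN : y ∈ N) (hx : orderOf x = 3) (hy : orderOf y = 3) : ∃ g ∈ N, x ∈ zpowers (g * y * g⁻¹) := by
  haveI : Fact (Nat.Prime 3) := ⟨Nat.prime_three⟩
  have hcyc : ∀ P : Sylow 3 N, IsCyclic P := by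
    intro P
    have h1 : IsPGroup 3 ((P : Subgroup N).map N.subtype) := P.isPGroup'.map _
    obtain ⟨Q, hQ⟩ := h1.exists_le_sylow
    have := hc Q
    have h2 : IsCyclic ((P : Subgroup N).map N.subtype) :=
      isCyclic_of_injective (Subgroup.inclusion hQ) (Subgroup.inclusion_injective hQ)
    exact isCyclic_of_injective
      ((P : Subgroup N).equivMapOfInjective N.subtype N.subtype_injective).toMonoidHom
      ((P : Subgroup N).equivMapOfInjective N.subtype N.subtype_injective).injective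
  have hxp : IsPGroup 3 (zpowers (⟨x, hxN⟩ : N)) := IsPGroup.of_card (n := 1) (by
    rw [Nat.card_zpowers, orderOf_mk, hx, pow_one])
  have hyp : IsPGroup 3 (zpowers (⟨y, hyN⟩ : N)) := IsPGroup.of_card (n := 1) (by
    rw [Nat.card_zpowers, orderOf_mk, hy, pow_one])
  obtain ⟨P, hP⟩ := hxp.exists_le_sylow
  obtain ⟨Q, hQ⟩ := hyp.exists_le_sylow
  obtain ⟨g, hg⟩ := MulAction.exists_smul_eq N Q P
  have hxP : (⟨x, hxN⟩ : N) ∈ (P : Subgroup N) := hP (mem_zpowers _)
  have hyP : g * ⟨y, hyN⟩ * g⁻¹ ∈ (P : Subgroup N) := by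
    rw [← hg]
    exact ⟨⟨y, hyN⟩, hQ (mem_zpowers _), rfl⟩
  have h1 : zpowers (⟨x, hxN⟩ : N) = zpowers (g * ⟨y, hyN⟩ * g⁻¹) := by
    refine Cfsg.Agent.OddOrderLocal.CyclicSub.eq_of_card_eq_of_le_cyclic (hcyc P) (zpowers_le.2 hxP)
      (zpowers_le.2 hyP) ?_
    rw [Nat.card_zpowers, Nat.card_zpowers, Hyp.orderOf_conj, orderOf_mk, orderOf_mk, hx, hy]
  have h2 : (⟨x, hxN⟩ : N) ∈ zpowers (g * ⟨y, hyN⟩ * g⁻¹) := by rw [← h1]; exact mem_zpowers _
  obtain ⟨n, hn⟩ := h2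
  exact ⟨g, g.2, n, congrArg Subtype.val hn⟩

theorem card_inf_mul_relIndex (P Q : Subgroup G) : Nat.card ↥(P ⊓ Q) * P.relIndex Q = Nat.card Q := by
  have h1 := card_mul_index (P.subgroupOf Q)
  have h2 : Nat.card (P.subgroupOf Q) = Nat.card ↥(P ⊓ Q) := by
    rw [← inf_subgroupOf_right, Nat.card_congr (subgroupOfEquivOfLe inf_le_right).toEquiv]
  rwa [h2] at h1

namespace Hyp

/-- `B = C_S(J)` -/
abbrev BB (S J : Subgroup G) : Subgroup G := S ⊓ centralizer (J : Set G)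

theorem CV_le_S [Finite G] (h : Hyp S V J z) (hab : ∀ x ∈ Vz J z, ∀ y ∈ Vz J z, x * y = y * x) :
    centralizer (V : Set G) ≤ S := fun _ hx => h.C0_le_S hab (h.CV_le_Cz hx) (CV_le_nV V hx)

theorem CV_le_CJ (h : Hyp S V J z) : centralizer (V : Set G) ≤ centralizer (J : Set G) :=
  fun _ hx => mem_centralizer_iff.2 fun x hx' => mem_centralizer_iff.1 hx x (h.JV hx')

theorem V_le_CV (h : Hyp S V J z) : V ≤ centralizer (V : Set G) :=
  fun _ hx => mem_centralizer_iff.2 fun _ hy => comm_of_sq h.Vsq hy hx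

theorem V_le_B (h : Hyp S V J z) : V ≤ BB S J := le_inf h.VS (h.V_le_CV.trans h.CV_le_CJ)

/-- `V_z ∩ C(V) = J` -/
theorem Vz_inf [Finite G] (h : Hyp S V J z) (hab : ∀ x ∈ Vz J z, ∀ y ∈ Vz J z, x * y = y * x) {x : G}
    (hx : x ∈ Vz J z) (hxV : x ∈ centralizer (V : Set G)) : x ∈ J := by
  obtain ⟨e, he, heV⟩ := h.exists_e
  have h8 := (h.three hab).1
  have hle : J ≤ Vz J z ⊓ centralizer (V : Set G) := le_inf (J_le_Vz J z) (h.JV.trans h.V_le_CV)
  have hdvd : Nat.card ↥(Vz J z ⊓ centralizer (V : Set G)) ∣ Nat.card (Vz J z) := card_dvd_of_le inf_le_left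
  have hne : Nat.card ↥(Vz J z ⊓ centralizer (V : Set G)) ≠ 8 := by
    intro h1
    have h2 : Vz J z ⊓ centralizer (V : Set G) = Vz J z :=
      eq_of_le_of_card_ge inf_le_left (by rw [h1, h8])
    exact heV (inf_eq_left.1 h2 he)
  rw [h8] at hdvd
  have h4 : Nat.card ↥(Vz J z ⊓ centralizer (V : Set G)) ≤ 4 := by
    have h5 := Nat.le_of_dvd (by norm_num) hdvd
    have h6 : Nat.card ↥(Vz J z ⊓ centralizer (V : Set G)) ∈ Nat.divisors 8 := by
      rw [Nat.mem_divisors]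
      exact ⟨hdvd, by norm_num⟩
    have h7 : Nat.divisors 8 = {1, 2, 4, 8} := by decide
    rw [h7] at h6
    simp only [Finset.mem_insert, Finset.mem_singleton] at h6
    omega
  have h5 : J = Vz J z ⊓ centralizer (V : Set G) :=
    eq_of_le_of_card_ge hle (by rw [h.cardJ]; exact h4)
  rw [h5]
  exact ⟨hx, hxV⟩

/-- (6.5) -/
theorem CV_sq_fix [Finite G] (h : Hyp S V J z) (hab : ∀ x ∈ Vz J z, ∀ y ∈ Vz J z, x * y = y * x) {e x : G}
    (he : e ∈ Vz J z) (heV : e ∉ centralizer (V : Set G)) (hx : x ∈ centralizer (V : Set G)) :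
    e * (x * x) = (x * x) * e := by
  have hxS := h.CV_le_S hab hx
  have heB := h.Vz_le_B hab he
  have h1 : x * e * x⁻¹ * e⁻¹ ∈ J := by
    apply h.Vz_inf hab
    · exact (Vz J z).mul_mem (Vz_conj (h.S_le_Cz hxS) he) ((Vz J z).inv_mem he)
    · have h2 : e * x⁻¹ * e⁻¹ ∈ centralizer (V : Set G) :=
        (mem_normalizer_iff.1 (normalizer_le_normalizer_cent V (h.SV (h.Vz_le_S he))) _).1
          ((centralizer (V : Set G)).inv_mem hx)
      have h3 : x * e * x⁻¹ * e⁻¹ = x * (e * x⁻¹ * e⁻¹) := by group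
      rw [h3]
      exact (centralizer (V : Set G)).mul_mem hx h2
  obtain ⟨v, hv, hv2⟩ := h.csurj e heB heV _ h1
  have h2 : v * e * v⁻¹ = x * e * x⁻¹ := mul_right_cancel hv2
  have h3 : (v⁻¹ * x) * e = e * (v⁻¹ * x) := by
    have h4 : v⁻¹ * (v * e * v⁻¹) * x = v⁻¹ * (x * e * x⁻¹) * x := by rw [h2]
    calc (v⁻¹ * x) * e = v⁻¹ * (x * e * x⁻¹) * x := by group
      _ = v⁻¹ * (v * e * v⁻¹) * x := h4.symm
      _ = e * (v⁻¹ * x) := by group
  have h4 : x * x = (v⁻¹ * x) * (v⁻¹ * x) := by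
    have h5 : x * v = v * x := (mem_centralizer_iff.1 hx v hv).symm
    have h6 : v⁻¹ = v := inv_eq_of_mul_eq_one_left (h.Vsq v hv)
    rw [h6]
    calc x * x = (v * v) * (x * x) := by rw [h.Vsq v hv, one_mul]
      _ = v * (v * x) * x := by group
      _ = v * (x * v) * x := by rw [h5]
      _ = v * x * (v * x) := by group
  rw [h4, ← mul_assoc e, ← h3, mul_assoc (v⁻¹ * x) e, ← h3, ← mul_assoc (v⁻¹ * x)]

theorem CV_sq [Finite G] (h : Hyp S V J z) (hab : ∀ x ∈ Vz J z, ∀ y ∈ Vz J z, x * y = y * x) {x : G}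
    (hx : x ∈ centralizer (V : Set G)) : x * x = 1 := by
  set D : Subgroup G := closure {w | ∃ x ∈ centralizer (V : Set G), w = x * x} with hD
  suffices hbot : D = ⊥ by
    have h1 : x * x ∈ D := Subgroup.subset_closure ⟨x, hx, rfl⟩
    rw [hbot] at h1
    exact mem_bot.1 h1
  by_contra hne
  have hDV : D ≤ centralizer (V : Set G) := by
    rw [hD, closure_le]
    rintro w ⟨x, hx, rfl⟩
    exact (centralizer (V : Set G)).mul_mem hx hx
  have key : ∀ g ∈ normalizer (V : Set G), ∀ w ∈ D, g * w * g⁻¹ ∈ D := by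
    intro g hg w hw
    rw [hD] at hw
    induction hw using closure_induction with
    | mem w hw =>
      obtain ⟨x, hx, rfl⟩ := hw
      refine Subgroup.subset_closure ⟨g * x * g⁻¹,
        (mem_normalizer_iff.1 (normalizer_le_normalizer_cent V hg) x).1 hx, by group⟩
    | one => simp
    | mul x y _ _ hx hy =>
      have : g * (x * y) * g⁻¹ = (g * x * g⁻¹) * (g * y * g⁻¹) := by group
      rw [this]
      exact D.mul_mem hx hy
    | inv x _ hx =>
      have : g * x⁻¹ * g⁻¹ = (g * x * g⁻¹)⁻¹ := by group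
      rw [this]
      exact D.inv_mem hx
  have hSD : S ≤ normalizer (D : Set G) := by
    intro s hs
    rw [mem_normalizer_iff]
    intro w
    constructor
    · exact key s (h.SV hs) w
    · intro hw
      have := key s⁻¹ ((normalizer (V : Set G)).inv_mem (h.SV hs)) _ hw
      simpa [mul_assoc] using this
  obtain ⟨w, hw, hw1, hw2, hwS⟩ := exists_central h.two (hDV.trans (h.CV_le_S hab)) hSD hne
  have hwz : w = z := (h.zS w (h.CV_le_S hab (hDV hw)) hw2 hwS).resolve_left hw1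
  rw [hwz] at hw
  obtain ⟨e, he, heV⟩ := h.exists_e
  obtain ⟨l, hl, hl'⟩ := h.exl
  have h1 : l * z * l⁻¹ ∈ D := key l hl z hw
  have h2 : e * (l * z * l⁻¹) = (l * z * l⁻¹) * e := by
    rw [hD] at h1
    generalize l * z * l⁻¹ = w at h1
    induction h1 using closure_induction with
    | mem w hw =>
      obtain ⟨x, hx, rfl⟩ := hw
      exact h.CV_sq_fix hab he heV hx
    | one => simp
    | mul x y _ _ hx hy => rw [← mul_assoc, hx, mul_assoc, hy, mul_assoc]
    | inv x _ hx => rw [eq_inv_mul_iff_mul_eq, ← mul_assoc, ← hx, mul_inv_cancel_right]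
  have h3 : l * z * l⁻¹ ∈ V := (mem_normalizer_iff.1 hl z).1 (h.JV h.zJ)
  have h4 := h.cfix e (h.Vz_le_B hab he) heV _ h3 h2
  exact h.z1 (hl' z h.zJ h4)

theorem finite_of_card {P : Subgroup G} {n : ℕ} (hn : n ≠ 0) (hP : Nat.card P = n) : Finite P :=
  Nat.finite_of_card_ne_zero (by rw [hP]; exact hn)

/-- (6.5) `Q₁ = V` -/
theorem CV_eq [Finite G] (h : Hyp S V J z) (hab : ∀ x ∈ Vz J z, ∀ y ∈ Vz J z, x * y = y * x) :
    centralizer (V : Set G) = V := by
  set D : Subgroup G := centralizer (V : Set G) with hD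
  obtain ⟨A, hAB, hAV, hA2, hAm⟩ := h.exA
  have hDS : D ≤ S := h.CV_le_S hab
  have hDA : Nat.card D ≤ Nat.card A := hAm D hDS fun x hx => h.CV_sq hab hx
  obtain ⟨b, hbA, hbV⟩ := SetLike.not_le_iff_exists.1 hAV
  have hDB : D ≤ BB S J := le_inf hDS h.CV_le_CJ
  have hidx : D.relIndex (BB S J) = 4 := by
    have h1 := h.idx
    rwa [← hD, inf_eq_right.2 hDS] at h1
  have hDn : BB S J ≤ normalizer (D : Set G) :=
    (inf_le_left.trans h.SV).trans (normalizer_le_normalizer_cent V)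
  have hfin : ∀ P Q : Subgroup G, P.relIndex Q ≠ 0 := fun P Q =>
    (index_ne_zero_of_finite : (P.subgroupOf Q).index ≠ 0)
  set F : Subgroup G := A ⊓ D with hF
  have hFD : F ≤ D := inf_le_right
  -- `|A : A ∩ D| ≤ 4`
  have h1 : D.relIndex A ≤ 4 := by
    rw [← hidx]
    exact relIndex_le_of_le_right hAB (hfin _ _)
  have h2 : Nat.card F * D.relIndex A = Nat.card A := by
    have := card_inf_mul_relIndex D A
    rwa [inf_comm, ← hF] at this
  have h3 : Nat.card F * F.relIndex D = Nat.card D := by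
    have := card_inf_mul_relIndex F D
    rwa [inf_eq_left.2 hFD] at this
  have hVD : V ≤ D := h.V_le_CV
  have h4 : 4 ≤ F.relIndex D := by
    have h5 : F.relIndex V ≤ F.relIndex D := relIndex_le_of_le_right hVD (hfin _ _)
    have h6 := card_inf_mul_relIndex F V
    rw [h.cardV] at h6
    have h7 : F ⊓ V ≤ J := by
      rintro x ⟨⟨hxA, _⟩, hxV⟩
      exact h.cfix b (hAB hbA) hbV x hxV (comm_of_sq hA2 hbA hxA)
    have h8 : Nat.card ↥(F ⊓ V) ≤ 4 := by
      rw [← h.cardJ]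
      exact Nat.card_mono (Set.toFinite _) h7
    have h9 : 16 ≤ 4 * F.relIndex V := by
      rw [← h6]
      exact Nat.mul_le_mul_right _ h8
    omega
  have hFpos : 0 < Nat.card F := Nat.card_pos
  have h5 : F.relIndex D ≤ D.relIndex A := by
    rw [← h2, ← h3] at hDA
    exact Nat.le_of_mul_le_mul_left hDA hFpos
  have h6 : F.relIndex D = 4 := by omega
  have h7 : D.relIndex A = 4 := by omega
  -- `A D = B`
  have h8 : A ⊔ D = BB S J := by
    apply eq_of_le_of_card_ge (sup_le hAB hDB)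
    have h9 := card_inf_mul_relIndex D (BB S J)
    rw [inf_eq_left.2 hDB, hidx] at h9
    have h10 := card_inf_mul_relIndex D (A ⊔ D)
    rw [inf_eq_left.2 (le_sup_right : D ≤ A ⊔ D)] at h10
    rw [← h9, ← h10]
    apply Nat.mul_le_mul_left
    rw [← h7]
    exact relIndex_le_of_le_right le_sup_left (hfin _ _)
  obtain ⟨l, hl, hl'⟩ := h.exl
  set F' : Subgroup G := F.map (MulAut.conj l).toMonoidHom with hF'
  have h9 : F'.relIndex D = 4 := by
    have h10 : D.map (MulAut.conj l).toMonoidHom = D :=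
      ZN.map_conj_eq_of_mem_normalizer (normalizer_le_normalizer_cent V hl)
    have h11 := relIndex_map_map_of_injective F D (f := (MulAut.conj l).toMonoidHom) (MulAut.conj l).injective
    rw [h10] at h11
    rw [hF', h11, h6]
  have h10 : F ⊓ F' = ⊥ := by
    rw [eq_bot_iff]
    rintro x ⟨⟨hxA, hxD⟩, y, ⟨hyA, hyD⟩, hyx⟩
    change l * y * l⁻¹ = x at hyx
    rw [mem_bot]
    have h11 : A ⊔ D ≤ centralizer {x} := by
      apply sup_le
      · intro a ha
        exact mem_centralizer_singleton_iff.2 (comm_of_sq hA2 ha hxA)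
      · intro d hd
        exact mem_centralizer_singleton_iff.2 (comm_of_sq (fun x hx => h.CV_sq hab hx) hd hxD)
    rw [h8] at h11
    have h12 : x ∈ J := h.cB x (hDS hxD) (h.CV_sq hab hxD) fun b hb => mem_centralizer_singleton_iff.1 (h11 hb)
    have h13 : y ∈ V := by
      have h14 := (mem_normalizer_iff.1 ((normalizer (V : Set G)).inv_mem hl) x).1 (h.JV h12)
      rw [← hyx] at h14
      simpa [mul_assoc] using h14
    have h14 : y ∈ J := h.cfix b (hAB hbA) hbV y h13 (comm_of_sq hA2 hbA hyA)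
    have h15 := hl' y h14 (by rw [hyx]; exact h12)
    rw [← hyx, h15]
    simp
  have h11 : Nat.card D ≤ 16 := by
    have h12 := relIndex_inf_le (H := F) (K := F') (L := D)
    rw [h10, relIndex_bot_left, h6, h9] at h12
    exact h12
  exact (eq_of_le_of_card_ge hVD (by rw [h.cardV]; exact h11)).symm

/-- **(6.6)** -/
theorem false [Finite G] (h : Hyp S V J z) (hab : ∀ x ∈ Vz J z, ∀ y ∈ Vz J z, x * y = y * x) : False := by
  have hCV := h.CV_eq hab
  obtain ⟨e, he, heV⟩ := h.exists_e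
  obtain ⟨k, hk3, hkB, hkV, hkJ, hk1, hk2, hk4⟩ := h.exk
  have heB : e ∈ BB S J := h.Vz_le_B hab he
  have kB : ∀ x ∈ BB S J, k * x * k⁻¹ ∈ BB S J := fun x hx => (mem_normalizer_iff.1 hkB x).1 hx
  have kJ : ∀ x ∈ J, k * x * k⁻¹ ∈ J := fun x hx => (mem_normalizer_iff.1 hkJ x).1 hx
  have kV : ∀ x, x ∈ V ↔ k * x * k⁻¹ ∈ V := fun x => mem_normalizer_iff.1 hkV x
  -- squares
  have hsqW : ∀ w ∈ Vz J z, w * w = 1 := by
    intro w hw
    refine sq_of_closure (s := {x | ∃ c : G, c * z = z * c ∧ ∃ a ∈ J, x = c * a * c⁻¹}) ?_ ?_ w hw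
    · rintro x ⟨c, _, a, ha, rfl⟩
      have : c * a * c⁻¹ * (c * a * c⁻¹) = c * (a * a) * c⁻¹ := by group
      rw [this, h.Vsq a (h.JV ha)]
      simp
    · intro x hx y hy
      exact hab x (Subgroup.subset_closure hx) y (Subgroup.subset_closure hy)
  -- `V_z = J ∪ e J`
  have hcase : ∀ w ∈ Vz J z, w ∉ J → e⁻¹ * w ∈ J := by
    intro w hw hwJ
    apply h.Vz_inf hab ((Vz J z).mul_mem ((Vz J z).inv_mem he) hw)
    have h1 : w ∉ centralizer (V : Set G) := fun h' => hwJ (h.Vz_inf hab hw h')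
    have h2 := h.e_mul hab ((Vz J z).inv_mem he) hw
      (fun h' => heV ((centralizer (V : Set G)).inv_mem_iff.1 h')) h1
    exact h2
  have hB_J : ∀ b ∈ BB S J, ∀ x ∈ J, b * x = x * b := fun b hb x hx =>
    (mem_centralizer_iff.1 hb.2 x hx).symm
  have heJ : e ∉ J := fun h' => heV (h.V_le_CV (h.JV h'))
  -- `[e, B] ≤ J`
  have heb : ∀ b ∈ BB S J, e⁻¹ * (b * e * b⁻¹) ∈ J := by
    intro b hb
    apply hcase _ (Vz_conj (h.S_le_Cz hb.1) he)
    intro h'
    apply heJ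
    have h1 : e = b⁻¹ * (b * e * b⁻¹) * b := by group
    rw [h1]
    have h2 := (mem_normalizer_iff.1 ((normalizer (J : Set G)).inv_mem (h.SJ hb.1)) _).1 h'
    rwa [inv_inv] at h2
  set e₁ : G := k * e * k⁻¹ with he₁
  set e₂ : G := k * e₁ * k⁻¹ with he₂
  have he₁B : e₁ ∈ BB S J := kB e heB
  have he₂B : e₂ ∈ BB S J := kB e₁ he₁B
  have hk3' : k * k * k = 1 := by simpa [pow_succ] using hk3
  have he₃ : k * e₂ * k⁻¹ = e := by
    rw [he₂, he₁]
    have : k * (k * (k * e * k⁻¹) * k⁻¹) * k⁻¹ = (k * k * k) * e * (k * k * k)⁻¹ := by group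
    rw [this, hk3']
    simp
  have hee : e * e = 1 := hsqW e he
  have he₁e₁ : e₁ * e₁ = 1 := by
    have : e₁ * e₁ = k * (e * e) * k⁻¹ := by rw [he₁]; group
    rw [this, hee]
    simp
  -- `y = e e₁ e₂ ∈ J`
  set y : G := e * e₁ * e₂ with hy
  have hyB : y ∈ BB S J := (BB S J).mul_mem ((BB S J).mul_mem heB he₁B) he₂B
  have hky : k * y * k⁻¹ * y⁻¹ ∈ J := by
    have h1 : k * y * k⁻¹ = e₁ * e₂ * e := by
      calc k * y * k⁻¹ = (k * e * k⁻¹) * (k * e₁ * k⁻¹) * (k * e₂ * k⁻¹) := by rw [hy]; group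
        _ = e₁ * e₂ * e := by rw [he₃]
    have h2 : e₁ * e₂ * e * y⁻¹ = e⁻¹ * (y * e * y⁻¹) := by rw [hy]; group
    rw [h1, h2]
    exact heb y hyB
  have hyV : y ∈ V := by
    have h1 := hk4 y hyB (h.V_le_CV (h.JV hky))
    rwa [hCV] at h1
  have hyJ : y ∈ J := hk2 y hyV hky
  -- `[e, e₁] = 1`
  have hc : e * e₁ = e₁ * e := by
    set c : G := e * e₁ * e⁻¹ * e₁⁻¹ with hcdef
    have hcJ : c ∈ J := by
      have h1 := (J).inv_mem (heb e₁ he₁B)
      have h2 : (e⁻¹ * (e₁ * e * e₁⁻¹))⁻¹ = e₁ * e⁻¹ * e₁⁻¹ * e := by group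
      rw [h2] at h1
      have h3 : c = e * (e₁ * e⁻¹ * e₁⁻¹ * e) * e⁻¹ := by rw [hcdef]; group
      rw [h3, hB_J e heB _ h1, mul_inv_cancel_right]
      exact h1
    have h2 : e₂ = e₁⁻¹ * e⁻¹ * y := by rw [hy]; group
    have h3 : k * c * k⁻¹ = c := by
      have h4 : k * c * k⁻¹ = e₁ * e₂ * e₁⁻¹ * e₂⁻¹ := by
        rw [hcdef, he₂, he₁]; group
      have h5 : e₁ * (e₁⁻¹ * e⁻¹ * y) * e₁⁻¹ * (e₁⁻¹ * e⁻¹ * y)⁻¹ = e⁻¹ * (y * e₁⁻¹) * y⁻¹ * e * e₁ := by group
      have h6 : y * e₁⁻¹ = e₁⁻¹ * y := (hB_J _ ((BB S J).inv_mem he₁B) y hyJ).symm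
      have h7 : e⁻¹ = e := inv_eq_of_mul_eq_one_left hee
      have h8 : e₁⁻¹ = e₁ := inv_eq_of_mul_eq_one_left he₁e₁
      rw [h4, h2, h5, h6, hcdef, h7, h8]
      group
    have h4 := hk1 c hcJ h3
    rw [hcdef, mul_inv_eq_one, mul_inv_eq_iff_eq_mul] at h4
    exact h4
  -- `F₁ = C_G(V_z)`
  set F₁ : Subgroup G := centralizer (Vz J z : Set G) with hF₁
  have hF₁J : F₁ ≤ centralizer (J : Set G) := fun x hx =>
    mem_centralizer_iff.2 fun a ha => mem_centralizer_iff.1 hx a (J_le_Vz J z ha)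
  have hF₁S : F₁ ≤ S := by
    intro x hx
    have h1 : x ∈ Cz z := mem_Cz.2 (mem_centralizer_iff.1 (hF₁J hx) z h.zJ).symm
    exact h.C0_le_S hab h1 (h.NJ (CV_le_nV J (hF₁J hx)))
  have hF₁B : F₁ ≤ BB S J := le_inf hF₁S hF₁J
  have hidx : V.relIndex (BB S J) = 4 := by
    have h1 := h.idx
    rwa [hCV, inf_eq_right.2 h.VS] at h1
  have hF₁V : V ⊓ F₁ ≤ J := by
    rintro x ⟨hxV, hx⟩
    exact h.cfix e heB heV x hxV (mem_centralizer_iff.1 hx e he)
  have hcard : Nat.card F₁ ≤ 16 := by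
    have h1 := card_inf_mul_relIndex V F₁
    have h2 : Nat.card ↥(V ⊓ F₁) ≤ 4 := by
      rw [← h.cardJ]
      exact Nat.card_mono (Set.toFinite _) hF₁V
    have h3 : V.relIndex F₁ ≤ 4 := by
      rw [← hidx]
      exact relIndex_le_of_le_right hF₁B (index_ne_zero_of_finite : (V.subgroupOf (BB S J)).index ≠ 0)
    rw [← h1]
    calc Nat.card ↥(V ⊓ F₁) * V.relIndex F₁ ≤ 4 * 4 := Nat.mul_le_mul h2 h3
      _ = 16 := by norm_num
  have hWF : Vz J z ≤ F₁ := fun x hx => mem_centralizer_iff.2 fun w hw => hab w hw x hx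
  have he₁F : e₁ ∈ F₁ := by
    rw [hF₁, mem_centralizer_iff]
    intro w hw
    by_cases hwJ : w ∈ J
    · exact (hB_J e₁ he₁B w hwJ).symm
    · have h1 := hcase w hw hwJ
      have h2 : w = e * (e⁻¹ * w) := by group
      rw [h2, mul_assoc, ← hB_J e₁ he₁B _ h1, ← mul_assoc, hc, mul_assoc]
  have he₂F : e₂ ∈ F₁ := by
    have h2 : e₂ = e₁⁻¹ * e⁻¹ * y := by rw [hy]; group
    rw [h2]
    exact F₁.mul_mem (F₁.mul_mem (F₁.inv_mem he₁F) (F₁.inv_mem (hWF he))) (hWF (J_le_Vz J z hyJ))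
  set FK : Subgroup G := J ⊔ closure {e, e₁, e₂} with hFK
  have hJK : J ≤ FK := le_sup_left
  have heK : e ∈ FK := mem_sup_right (Subgroup.subset_closure (by simp))
  have he₁K : e₁ ∈ FK := mem_sup_right (Subgroup.subset_closure (by simp))
  have he₂K : e₂ ∈ FK := mem_sup_right (Subgroup.subset_closure (by simp))
  have hWK : Vz J z ≤ FK := by
    intro w hw
    by_cases hwJ : w ∈ J
    · exact hJK hwJ
    · have h2 : w = e * (e⁻¹ * w) := by group
      rw [h2]
      exact FK.mul_mem heK (hJK (hcase w hw hwJ))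
  have hKF : FK ≤ F₁ := by
    apply sup_le ((J_le_Vz J z).trans hWF)
    rw [closure_le]
    intro x hx
    simp only [Set.mem_insert_iff, Set.mem_singleton_iff] at hx
    rcases hx with rfl | rfl | rfl
    · exact hWF he
    · exact he₁F
    · exact he₂F
  have he₁W : e₁ ∉ Vz J z := by
    intro h1
    have h2 : e₁ ∉ J := by
      intro h'
      apply heV
      rw [hCV]
      exact (kV e).2 (h.JV h')
    have h3 := hcase e₁ h1 h2
    apply heV
    apply hk4 e heB
    have h4 : k * e * k⁻¹ * e⁻¹ = e₁ * (e⁻¹ * e₁) * e₁⁻¹ := by rw [← he₁]; group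
    rw [h4, hB_J e₁ he₁B _ h3, mul_inv_cancel_right]
    exact h.V_le_CV (h.JV h3)
  have hcardK : 16 ≤ Nat.card FK := by
    have h8 := (h.three hab).1
    have hdvd : Nat.card (Vz J z) ∣ Nat.card FK := card_dvd_of_le hWK
    have hne : Nat.card FK ≠ Nat.card (Vz J z) := by
      intro h1
      have h2 : Vz J z = FK := eq_of_le_of_card_ge hWK (le_of_eq h1)
      exact he₁W (h2 ▸ he₁K)
    obtain ⟨m, hm⟩ := hdvd
    have hpos : 0 < Nat.card FK := Nat.card_pos
    rw [h8] at hm hne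
    have : m ≠ 0 := by rintro rfl; omega
    have : m ≠ 1 := by rintro rfl; omega
    omega
  have hEq : FK = F₁ := eq_of_le_of_card_ge hKF (hcard.trans hcardK)
  -- `k ∈ N(F₁)`
  have hkF : k ∈ normalizer (F₁ : Set G) := by
    apply ZN.mem_normalizer_of_map_conj_eq
    have hle : F₁.map (MulAut.conj k).toMonoidHom ≤ F₁ := by
      rw [← hEq, hFK, Subgroup.map_sup, MonoidHom.map_closure]
      apply sup_le
      · rintro _ ⟨x, hx, rfl⟩
        exact hJK (kJ x hx)
      · rw [closure_le]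
        rintro _ ⟨x, hx, rfl⟩
        simp only [Set.mem_insert_iff, Set.mem_singleton_iff] at hx
        rcases hx with rfl | rfl | rfl
        · exact he₁K
        · exact he₂K
        · change k * e₂ * k⁻¹ ∈ FK
          rw [he₃]
          exact heK
    apply eq_of_le_of_card_ge hle
    rw [Subgroup.card_map_of_injective (MulAut.conj k).injective]
  have hkfix : ∀ x ∈ F₁, k * x * k⁻¹ = x → x = 1 := by
    intro x hx hkx
    have h1 : k * x * k⁻¹ * x⁻¹ = 1 := by rw [hkx, mul_inv_cancel]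
    have h2 := hk4 x (hF₁B hx) (by rw [h1]; exact one_mem _)
    rw [hCV] at h2
    have h3 := hk2 x h2 (by rw [h1]; exact one_mem _)
    exact hk1 x h3 hkx
  -- an element of order 3 of `C_z`
  haveI : Fact (Nat.Prime 3) := ⟨Nat.prime_three⟩
  obtain ⟨⟨g, hg⟩, hg3⟩ := exists_prime_orderOf_dvd_card' (G := Cz z) 3 (h.three hab).2.1
  rw [Subgroup.orderOf_mk] at hg3
  have hgF : g ∈ normalizer (F₁ : Set G) := by
    exact normalizer_le_normalizer_cent _ (Cz_le_normalizer J z hg)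
  have hk_ne : k ≠ 1 := by
    rintro rfl
    exact h.z1 (hk1 z h.zJ (by simp))
  have hk_ord : orderOf k = 3 := orderOf_eq_prime hk3 hk_ne
  obtain ⟨m, hm, hmk⟩ := exists_conj_three h.cyc3 hkF hgF hk_ord hg3
  obtain ⟨n, hn⟩ := hmk
  have hzF : z ∈ F₁ := hWF (J_le_Vz J z h.zJ)
  have h1 : m * z * m⁻¹ ∈ F₁ := (mem_normalizer_iff.1 hm z).1 hzF
  have h2 : k * (m * z * m⁻¹) * k⁻¹ = m * z * m⁻¹ := by
    rw [← hn]
    have h3 : Commute (m * g * m⁻¹) (m * z * m⁻¹) := by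
      have h4 : g * z = z * g := mem_Cz.1 hg
      change m * g * m⁻¹ * (m * z * m⁻¹) = m * z * m⁻¹ * (m * g * m⁻¹)
      calc m * g * m⁻¹ * (m * z * m⁻¹) = m * (g * z) * m⁻¹ := by group
        _ = m * (z * g) * m⁻¹ := by rw [h4]
        _ = m * z * m⁻¹ * (m * g * m⁻¹) := by group
    rw [mul_inv_eq_iff_eq_mul]
    exact (h3.zpow_left n).eq
  have h3 := hkfix _ h1 h2
  apply h.z1
  have h4 : z = m⁻¹ * (m * z * m⁻¹) * m := by group
  rw [h4, h3]
  simp

end Hyp

/-- **Section 6.A**: `V_z` is not abelian -/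
theorem false [Finite G] (h : Hyp S V J z) (hab : ∀ x ∈ Vz J z, ∀ y ∈ Vz J z, x * y = y * x) : False :=
  h.false hab

end Cfsg.Agent.OddCyclic.Eq.SixA
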