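import Cfsg.Agent.OddCyclic.Eq.SixAAct

/-!
# (E_q) of `T_cyc`, (6.2)-(6.4), `V_z` abelian: `|V_z| = 8`, `C_0 = S`
-/

set_option autoImplicit false
set_option linter.style.haveILetI false

namespace Cfsg.Agent.OddCyclic.Eq.SixA

open Subgroup

universe u

variable {G : Type u} [Group G] {S V J : Subgroup G} {z : G}

/-- an automorphism of odd order of a group of order 4 fixing an involution is trivial -/
theorem aut_four {N : Type u} [CommGroup N] (h4 : Nat.card N = 4) (hsq : ∀ m : N, m * m = 1) {lam : N}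
    (hl : lam ≠ 1) {φ : MulAut N} (hφ : φ lam = lam) {n : ℕ} (hn : Odd n) (hφn : φ ^ n = 1) : φ = 1 := by
  have h2 : φ * φ = 1 := by
    ext m
    change φ (φ m) = m
    by_cases hm1 : m = 1
    · rw [hm1, map_one, map_one]
    by_cases hm2 : m = lam
    · rw [hm2, hφ, hφ]
    have hcard : (Set.univ : Set N).ncard = 4 := by rw [Set.ncard_univ, h4]
    have h3 : ∀ x : N, x = 1 ∨ x = lam ∨ x = m ∨ x = m * lam := by
      intro x
      refine ncard_four hcard (Set.mem_univ _) (Set.mem_univ _) (Set.mem_univ _) (Set.mem_univ _)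
        (Ne.symm hl) (Ne.symm hm1) ?_ (Ne.symm hm2) ?_ ?_ x (Set.mem_univ x)
      · intro h5
        apply hm2
        have : m = lam⁻¹ := eq_inv_of_mul_eq_one_left h5.symm
        rw [this]
        exact inv_eq_of_mul_eq_one_left (hsq lam)
      · intro h5
        exact hm1 (mul_eq_right.1 h5.symm)
      · intro h5
        exact hl (mul_eq_left.1 h5.symm)
    rcases h3 (φ m) with h5 | h5 | h5 | h5
    · exact absurd (φ.map_eq_one_iff.1 h5) hm1
    · exfalso
      apply hm2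
      apply φ.injective
      rw [h5, hφ]
    · rw [h5, h5]
    · rw [h5, map_mul, h5, hφ, mul_assoc, hsq, mul_one]
  obtain ⟨k, rfl⟩ := hn
  rw [pow_add, pow_mul, pow_two, h2, one_pow, one_mul, pow_one] at hφn
  exact hφn

/-- products `(d s)^j = d' s^j` -/
theorem mul_pow_mem {D : Subgroup G} {d s : G} (hd : d ∈ D) (hs : s ∈ normalizer (D : Set G)) (j : ℕ) :
    ∃ d' ∈ D, (d * s) ^ j = d' * s ^ j := by
  induction j with
  | zero => exact ⟨1, D.one_mem, by simp⟩
  | succ j ih =>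
    obtain ⟨d', hd', h1⟩ := ih
    have h2 : s ^ j * d * (s ^ j)⁻¹ ∈ D :=
      (mem_normalizer_iff.1 ((normalizer (D : Set G)).pow_mem hs j) d).1 hd
    refine ⟨d' * (s ^ j * d * (s ^ j)⁻¹), D.mul_mem hd' h2, ?_⟩
    rw [pow_succ, h1, pow_succ]
    group

theorem two_of_no_odd {P : Subgroup G} [Finite G] (h : ∀ x ∈ P, Odd (orderOf x) → x = 1) : IsPGroup 2 P := by
  intro x
  obtain ⟨k, m, hm, hk⟩ := Nat.exists_eq_two_pow_mul_odd (n := orderOf (x : G)) (orderOf_pos (x : G)).ne'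
  refine ⟨k, ?_⟩
  apply Subtype.ext
  have h1 : orderOf ((x : G) ^ (2 ^ k)) = m := by
    rw [orderOf_pow, hk, Nat.gcd_eq_right (Dvd.intro _ rfl), Nat.mul_div_cancel_left _ (by positivity)]
  have h2 := h _ (P.pow_mem x.2 (2 ^ k)) (by rw [h1]; exact hm)
  simpa using h2

theorem normalizer_le_normalizer_cent (V : Subgroup G) :
    normalizer (V : Set G) ≤ normalizer (centralizer (V : Set G) : Set G) := by
  have key : ∀ g ∈ normalizer (V : Set G), ∀ x ∈ centralizer (V : Set G), g * x * g⁻¹ ∈ centralizer (V : Set G) := by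
    intro g hg x hx
    rw [mem_centralizer_iff] at hx ⊢
    intro v hv
    have h1 : g⁻¹ * v * g ∈ V := by
      have := (mem_normalizer_iff.1 ((normalizer (V : Set G)).inv_mem hg) v).1 hv
      rwa [inv_inv] at this
    have h2 := hx _ h1
    calc v * (g * x * g⁻¹) = g * ((g⁻¹ * v * g) * x) * g⁻¹ := by group
      _ = g * (x * (g⁻¹ * v * g)) * g⁻¹ := by rw [h2]
      _ = g * x * g⁻¹ * v := by group
  intro g hg
  rw [mem_normalizer_iff]
  intro x
  constructor
  · exact key g hg x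
  · intro hx
    have := key g⁻¹ ((normalizer (V : Set G)).inv_mem hg) _ hx
    simpa [mul_assoc] using this

namespace Hyp

theorem CV_le_Cz (h : Hyp S V J z) : centralizer (V : Set G) ≤ Cz z := by
  intro x hx
  exact mem_Cz.2 (mem_centralizer_iff.1 hx z (h.JV h.zJ)).symm

theorem CV_le_nV (V : Subgroup G) : centralizer (V : Set G) ≤ normalizer (V : Set G) := by
  intro x hx
  rw [mem_normalizer_iff]
  intro v
  constructor
  · intro hv
    rw [← mem_centralizer_iff.1 hx v hv, mul_inv_cancel_right]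
    exact hv
  · intro hv
    have h1 := mem_centralizer_iff.1 hx _ hv
    have h2 : v = x⁻¹ * ((x * v * x⁻¹) * x) := by group
    rw [h2, h1]
    have : x⁻¹ * (x * (x * v * x⁻¹)) = x * v * x⁻¹ := by group
    rw [this]
    exact hv

/-- odd-order elements of `C_0` centralise `V` -/
theorem odd_mem_CV [Finite G] (h : Hyp S V J z) {c : G} (hc : c ∈ Cz z) (hcV : c ∈ normalizer (V : Set G))
    (ho : Odd (orderOf c)) : c ∈ centralizer (V : Set G) := by
  obtain ⟨d, hd, s, hs, rfl⟩ := h.fact c (mem_Cz.1 hc) hcV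
  obtain ⟨k, hk⟩ := h.two ⟨s, hs⟩
  have hk' : s ^ 2 ^ k = 1 := by simpa using congrArg Subtype.val hk
  obtain ⟨d', hd', h1⟩ := mul_pow_mem hd (normalizer_le_normalizer_cent V (h.SV hs)) (2 ^ k)
  rw [hk', mul_one] at h1
  have hcop : Nat.Coprime (2 ^ k) (orderOf (d * s)) := Nat.Coprime.pow_left k (Nat.coprime_two_left.2 ho)
  obtain ⟨m, hm⟩ := exists_pow_eq_self_of_coprime hcop
  rw [← hm, h1]
  exact (centralizer (V : Set G)).pow_mem hd' m

/-- `C_0` has no elements of order 3 -/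
theorem no3C (h : Hyp S V J z) [Finite G] {c : G} (hc : c ∈ Cz z) (hcV : c ∈ normalizer (V : Set G)) :
    ¬ 3 ∣ orderOf c := by
  intro h3
  obtain ⟨m, hm⟩ := h3
  have hpos := orderOf_pos c
  have h1 : orderOf (c ^ m) = 3 := by
    have hm0 : m ≠ 0 := by rintro rfl; omega
    rw [orderOf_pow, hm, Nat.gcd_eq_right (Dvd.intro_left _ rfl), Nat.mul_div_cancel _ (Nat.pos_of_ne_zero hm0)]
  have h2 : c ^ m ∈ centralizer (V : Set G) :=
    h.odd_mem_CV ((Cz z).pow_mem hc m) ((normalizer (V : Set G)).pow_mem hcV m) (by rw [h1]; decide)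
  have h4 := h.no3 _ h2 (by rw [← h1]; exact pow_orderOf_eq_one _)
  rw [h4, orderOf_one] at h1
  omega

theorem J_le_V (h : Hyp S V J z) : J ≤ V := h.JV

theorem Vz_le_B (h : Hyp S V J z) (hab : ∀ x ∈ Vz J z, ∀ y ∈ Vz J z, x * y = y * x) :
    Vz J z ≤ S ⊓ centralizer (J : Set G) := by
  intro w hw
  exact ⟨h.Vz_le_S hw, mem_centralizer_iff.2 fun a ha => hab a (J_le_Vz J z ha) w hw⟩

/-- (6.2) `V_z ≰ C(V)` -/
theorem exists_e (h : Hyp S V J z) : ∃ e ∈ Vz J z, e ∉ centralizer (V : Set G) := by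
  by_contra hcon
  push Not at hcon
  obtain ⟨v, hv, hv'⟩ := h.exists_v0
  apply hv'
  apply h.V_inf_Kz hv
  refine ⟨h.V_le_Cz hv, fun w hw => ?_⟩
  rw [mem_centralizer_iff.1 (hcon w hw) v hv, mul_inv_cancel_right, mul_inv_cancel]
  exact one_mem _

/-- (6.2) `V_z ∩ C(V)` has index 2 in `V_z` -/
theorem e_mul (h : Hyp S V J z) (hab : ∀ x ∈ Vz J z, ∀ y ∈ Vz J z, x * y = y * x) {e e' : G}
    (he : e ∈ Vz J z) (he' : e' ∈ Vz J z) (h1 : e ∉ centralizer (V : Set G))
    (h2 : e' ∉ centralizer (V : Set G)) : e * e' ∈ centralizer (V : Set G) := by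
  obtain ⟨v, hv, hvQ, hvJ⟩ := h.exists_v1
  have key : ∀ e ∈ Vz J z, e ∉ centralizer (V : Set G) → v * e * v⁻¹ = z * e := by
    intro e he h1
    have h3 := (h.o2_le_Kz hvQ).2 e he
    rcases h.mem_zp.1 h3 with h4 | h4
    · exfalso
      apply hvJ
      refine h.cfix e (h.Vz_le_B hab he) h1 v hv ?_
      have h5 : v * e = e * v := by
        rw [mul_inv_eq_one] at h4
        rw [← h4, inv_mul_cancel_right, h4]
      exact h5.symm
    · rw [← h4]
      group
  by_contra h3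
  apply hvJ
  refine h.cfix _ (h.Vz_le_B hab ((Vz J z).mul_mem he he')) h3 v hv ?_
  have h4 : v * (e * e') * v⁻¹ = e * e' := by
    calc v * (e * e') * v⁻¹ = (v * e * v⁻¹) * (v * e' * v⁻¹) := by group
      _ = z * e * (z * e') := by rw [key e he h1, key e' he' h2]
      _ = z * (e * z) * e' := by group
      _ = z * (z * e) * e' := by rw [mem_Cz.1 (h.Vz_le_Cz he)]
      _ = (z * z) * (e * e') := by group
      _ = e * e' := by rw [h.z_sq, one_mul]
  rw [mul_inv_eq_iff_eq_mul] at h4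
  exact h4.symm

/-- the transvection -/
theorem exists_tv [Finite G] (h : Hyp S V J z) (hab : ∀ x ∈ Vz J z, ∀ y ∈ Vz J z, x * y = y * x)
    {a : G} {N : Type u} [CommGroup N] {ρ : ↥(Cz z) →* MulAut N}
    {p : ↥(Vz J z) →* N} {lam : N} (ha : a ∈ J) (haz : a ∉ zpowers z) (hA : Act J z a N ρ p lam) :
    ∃ t : ρ.range, Tv ρ.range.subtype lam t := by
  obtain ⟨v, hv, hvQ⟩ := h.exists_v0
  have hlam : p ⟨a, J_le_Vz J z ha⟩ = lam := hA.lam_eq _ rfl
  refine ⟨⟨ρ ⟨v, h.V_le_Cz hv⟩, ⟨v, h.V_le_Cz hv⟩, rfl⟩, ?_, hA.sq, ?_, ?_, ?_, ?_, ?_, ?_, hA.core⟩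
  · intro g hg
    apply Subtype.ext
    exact MulEquiv.ext hg
  · intro h1
    apply haz
    exact (hA.ker _).1 (hlam.trans h1)
  · intro h1
    have h2 : ρ ⟨v, h.V_le_Cz hv⟩ = 1 := congrArg Subtype.val h1
    exact hvQ (h.V_inf_Kz hv ((hA.one_iff _).1 h2))
  · intro m
    obtain ⟨⟨w, hw⟩, rfl⟩ := hA.surj m
    change ρ ⟨v, h.V_le_Cz hv⟩ (p ⟨w, hw⟩) = p ⟨w, hw⟩ ∨ ρ ⟨v, h.V_le_Cz hv⟩ (p ⟨w, hw⟩) = p ⟨w, hw⟩ * lam
    rw [hA.act ⟨v, h.V_le_Cz hv⟩ ⟨w, hw⟩ ⟨v * w * v⁻¹, Vz_conj (h.V_le_Cz hv) hw⟩ rfl]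
    have h1 := h.ccom w (h.Vz_le_B hab hw) v hv
    rcases h.J_cases ha haz h1 with h2 | h2 | h2 | h2
    · left
      rw [hA.p_eq]
      change v * w * v⁻¹ * w⁻¹ ∈ _
      rw [h2]
      exact one_mem _
    · left
      rw [hA.p_eq]
      change v * w * v⁻¹ * w⁻¹ ∈ _
      rw [h2]
      exact mem_zpowers _
    · right
      rw [← hlam, ← map_mul, hA.p_eq]
      change v * w * v⁻¹ * (w * a)⁻¹ ∈ _
      rw [hab w hw a (J_le_Vz J z ha), mul_inv_eq_iff_eq_mul.1 h2, mul_inv_cancel]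
      exact one_mem _
    · right
      rw [← hlam, ← map_mul, hA.p_eq]
      change v * w * v⁻¹ * (w * a)⁻¹ ∈ _
      rw [hab w hw a (J_le_Vz J z ha), mul_inv_eq_iff_eq_mul.1 h2]
      have h3 : a * z * w * (a * w)⁻¹ = a * z * a⁻¹ := by group
      rw [h3, h.J_comm ha h.zJ, mul_inv_cancel_right]
      exact mem_zpowers _
  · rintro ⟨_, c, rfl⟩ h1
    have h2 : (c : G) ∈ normalizer (J : Set G) := (hA.stab c).1 h1
    have h3 := h.comm_o2 c.2 (h.NJ h2) hv hvQ
    have h4 : ρ (c * ⟨v, h.V_le_Cz hv⟩ * c⁻¹ * (⟨v, h.V_le_Cz hv⟩)⁻¹) = 1 := by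
      rw [hA.one_iff]
      exact h.o2_le_Kz h3
    apply Subtype.ext
    change ρ c * ρ ⟨v, h.V_le_Cz hv⟩ = ρ ⟨v, h.V_le_Cz hv⟩ * ρ c
    rw [map_mul, map_mul, map_mul, map_inv, map_inv, mul_inv_eq_one, mul_inv_eq_iff_eq_mul] at h4
    exact h4
  · rintro ⟨_, c, rfl⟩ h1 h3
    have h2 : (c : G) ∈ normalizer (J : Set G) := (hA.stab c).1 h1
    have h4 := h.no3C c.2 (h.NJ h2)
    have h5 : ρ c ^ 3 = 1 := congrArg Subtype.val h3
    have h6 : Nat.Coprime 3 (orderOf c) := by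
      rw [Nat.Prime.coprime_iff_not_dvd Nat.prime_three]
      rwa [Subgroup.orderOf_coe] at h4
    obtain ⟨m, hm⟩ := exists_pow_eq_self_of_coprime h6
    apply Subtype.ext
    change ρ c = 1
    rw [← hm, map_pow, map_pow, h5, one_pow]
  · rw [eq_top_iff, ← hA.gen, closure_le]
    rintro m ⟨c, rfl⟩
    exact Subgroup.subset_closure ⟨⟨ρ c, c, rfl⟩, rfl⟩

/-- (6.3) -/
theorem three [Finite G] (h : Hyp S V J z) (hab : ∀ x ∈ Vz J z, ∀ y ∈ Vz J z, x * y = y * x) :
    Nat.card (Vz J z) = 8 ∧ 3 ∣ Nat.card (Cz z) ∧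
      ∀ c ∈ Cz z, c ∈ normalizer (J : Set G) → Odd (orderOf c) → c ∈ Kz J z := by
  obtain ⟨a, ha, haz⟩ := h.exists_a
  obtain ⟨N, iN, ρ, p, lam, hA⟩ := h.exists_act ha haz
  obtain ⟨t, hT⟩ := h.exists_tv hab ha haz hA
  haveI : Finite ρ.range := Finite.of_surjective _ ρ.rangeRestrict_surjective
  obtain ⟨h4, h3⟩ := hT.main
  refine ⟨?_, ?_, ?_⟩
  · have h1 : Nat.card (Vz J z) = Nat.card (Vz J z ⧸ p.ker) * Nat.card p.ker :=
      card_eq_card_quotient_mul_card_subgroup p.ker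
    have h2 : Nat.card (Vz J z ⧸ p.ker) = 4 := by
      rw [Nat.card_congr (QuotientGroup.quotientKerEquivOfSurjective p hA.surj).toEquiv, h4]
    have hker : p.ker = (zpowers z).subgroupOf (Vz J z) := by
      ext w
      rw [MonoidHom.mem_ker, hA.ker, mem_subgroupOf]
    have h5 : Nat.card p.ker = 2 := by
      rw [hker, Nat.card_congr (subgroupOfEquivOfLe (h.zp_le.trans (J_le_Vz J z))).toEquiv, Nat.card_zpowers]
      exact orderOf_eq_prime (by rw [pow_two]; exact h.z_sq) h.z1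
    rw [h1, h2, h5]
  · exact h3.trans (card_range_dvd ρ)
  · intro c hc hcJ ho
    rw [← hA.one_iff ⟨c, hc⟩]
    have h1 : ρ ⟨c, hc⟩ ^ orderOf c = 1 := by
      rw [← map_pow]
      have : (⟨c, hc⟩ : Cz z) ^ orderOf c = 1 := by
        apply Subtype.ext
        exact pow_orderOf_eq_one c
      rw [this, map_one]
    exact aut_four h4 hA.sq hT.lam1 ((hA.stab ⟨c, hc⟩).2 hcJ) ho h1

theorem C0_le_nJ (h : Hyp S V J z) {c : G} (hc : c ∈ Cz z) (hcV : c ∈ normalizer (V : Set G)) :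
    c ∈ normalizer (J : Set G) := by
  obtain ⟨d, hd, s, hs, rfl⟩ := h.fact c (mem_Cz.1 hc) hcV
  have h1 : d ∈ centralizer (J : Set G) :=
    mem_centralizer_iff.2 fun x hx => mem_centralizer_iff.1 hd x (h.JV hx)
  exact (normalizer (J : Set G)).mul_mem (CV_le_nV J h1) (h.SJ hs)

/-- the subgroup generated by the elements of odd order of `C_G(V)` -/
def Od (V : Subgroup G) : Subgroup G := closure {x | x ∈ centralizer (V : Set G) ∧ Odd (orderOf x)}

theorem orderOf_conj (g x : G) : orderOf (g * x * g⁻¹) = orderOf x := by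
  have := orderOf_injective (MulAut.conj g).toMonoidHom (MulAut.conj g).injective x
  simpa using this

theorem Od_normalizer {P : Subgroup G}
    (hP : ∀ g ∈ P, ∀ x ∈ centralizer (V : Set G), Odd (orderOf x) → g * x * g⁻¹ ∈ centralizer (V : Set G)) :
    P ≤ normalizer (Od V : Set G) := by
  have key : ∀ g ∈ P, ∀ x ∈ Od V, g * x * g⁻¹ ∈ Od V := by
    intro g hg x hx
    induction hx using closure_induction with
    | mem x hx =>
      exact Subgroup.subset_closure ⟨hP g hg x hx.1 hx.2, by rw [orderOf_conj]; exact hx.2⟩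
    | one => simp
    | mul x y _ _ hx hy =>
      have : g * (x * y) * g⁻¹ = (g * x * g⁻¹) * (g * y * g⁻¹) := by group
      rw [this]
      exact (Od V).mul_mem hx hy
    | inv x _ hx =>
      have : g * x⁻¹ * g⁻¹ = (g * x * g⁻¹)⁻¹ := by group
      rw [this]
      exact (Od V).inv_mem hx
  intro g hg
  rw [mem_normalizer_iff]
  intro x
  constructor
  · exact key g hg x
  · intro hx
    have := key g⁻¹ (P.inv_mem hg) _ hx
    simpa [mul_assoc] using this

/-- (6.4) -/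
theorem Od_eq_bot [Finite G] (h : Hyp S V J z) (hab : ∀ x ∈ Vz J z, ∀ y ∈ Vz J z, x * y = y * x) :
    Od V = ⊥ := by
  by_contra hne
  have hnV : normalizer (V : Set G) ≤ normalizer (Od V : Set G) := by
    apply Od_normalizer
    intro g hg x hx _
    exact (mem_normalizer_iff.1 (normalizer_le_normalizer_cent V hg) x).1 hx
  have hnC : Cz z ≤ normalizer (Od V : Set G) := by
    apply Od_normalizer
    intro g hg x hx ho
    have hxC : x ∈ Cz z := h.CV_le_Cz hx
    have h1 : x ∈ Kz J z := (h.three hab).2.2 x hxC (h.C0_le_nJ hxC (CV_le_nV V hx)) ho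
    have h2 := Kz_conj hg h1
    exact h.odd_mem_CV (Kz_le J z h2) (h.NJ (h.Kz_le_nJ h2)) (by rw [orderOf_conj]; exact ho)
  have hOV : Od V ≤ normalizer (V : Set G) := by
    unfold Od
    rw [closure_le]
    rintro x ⟨hx, _⟩
    exact CV_le_nV V hx
  have hU : ZN.o2 (Od V) ≠ ⊥ := by
    intro hU
    apply hne
    have h1 : ∀ x ∈ Od V, x ∈ ZN.o2 (normalizer (V : Set G)) := by
      intro x hx
      apply h.char2 x (hOV hx)
      intro r hr
      have hrV := ZN.o2_le _ hr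
      have h2 : Od V ⊓ ZN.o2 (normalizer (V : Set G)) ≤ ZN.o2 (Od V) := by
        apply ZN.le_o2 inf_le_left ((ZN.isPGroup_o2 _).to_le inf_le_right)
        intro g hg
        have hg' := ZN.le_normalizer_o2 (normalizer (V : Set G)) (hOV hg)
        rw [mem_normalizer_iff]
        intro y
        constructor
        · rintro ⟨hy1, hy2⟩
          exact ⟨(Od V).mul_mem ((Od V).mul_mem hg hy1) ((Od V).inv_mem hg), (mem_normalizer_iff.1 hg' y).1 hy2⟩
        · rintro ⟨hy1, hy2⟩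
          refine ⟨?_, (mem_normalizer_iff.1 hg' y).2 hy2⟩
          have h3 := (Od V).mul_mem ((Od V).mul_mem ((Od V).inv_mem hg) hy1) hg
          have h4 : g⁻¹ * (g * y * g⁻¹) * g = y := by group
          rwa [h4] at h3
      rw [hU] at h2
      have h3 : x * r * x⁻¹ * r⁻¹ ∈ Od V ⊓ ZN.o2 (normalizer (V : Set G)) := by
        constructor
        · have h4 : r * x⁻¹ * r⁻¹ ∈ Od V :=
            (mem_normalizer_iff.1 (hnV hrV) x⁻¹).1 ((Od V).inv_mem hx)
          have h5 : x * r * x⁻¹ * r⁻¹ = x * (r * x⁻¹ * r⁻¹) := by group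
          rw [h5]
          exact (Od V).mul_mem hx h4
        · have h4 := (mem_normalizer_iff.1 (ZN.le_normalizer_o2 (normalizer (V : Set G)) (hOV hx)) r).1 hr
          exact (ZN.o2 _).mul_mem h4 ((ZN.o2 _).inv_mem hr)
      have h4 := mem_bot.1 (h2 h3)
      rw [mul_inv_eq_one, mul_inv_eq_iff_eq_mul] at h4
      exact h4
    rw [eq_bot_iff]
    have h2 : ∀ x ∈ centralizer (V : Set G), Odd (orderOf x) → x = 1 := by
      intro x hx ho
      have h3 := h1 x (Subgroup.subset_closure ⟨hx, ho⟩)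
      obtain ⟨k, hk⟩ := ZN.isPGroup_o2 (normalizer (V : Set G)) ⟨x, h3⟩
      have hk' : x ^ 2 ^ k = 1 := by simpa using congrArg Subtype.val hk
      have h4 : orderOf x ∣ 2 ^ k := orderOf_dvd_of_pow_eq_one hk'
      have h5 : Nat.Coprime (orderOf x) (2 ^ k) := Nat.Coprime.pow_right k (Nat.coprime_two_right.2 ho)
      rw [← orderOf_eq_one_iff]
      exact Nat.eq_one_of_dvd_coprimes h5 dvd_rfl h4
    unfold Od
    rw [closure_le]
    rintro x ⟨hx, ho⟩
    exact h2 x hx ho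
  obtain ⟨c, hc, hc'⟩ := h.notle
  apply hc'
  have h1 := ZN.normalizer_le_normalizer_o2 (Od V)
  exact h.maxl _ hU (ZN.isPGroup_o2 _) (hnV.trans h1) (h1 (hnC (mem_Cz.2 hc)))

/-- (6.4): `C_0 = S` -/
theorem C0_le_S [Finite G] (h : Hyp S V J z) (hab : ∀ x ∈ Vz J z, ∀ y ∈ Vz J z, x * y = y * x) {c : G}
    (hc : c ∈ Cz z) (hcV : c ∈ normalizer (V : Set G)) : c ∈ S := by
  have h1 : IsPGroup 2 ↥(Cz z ⊓ normalizer (V : Set G)) := by
    apply two_of_no_odd
    intro x hx ho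
    have h2 := h.odd_mem_CV hx.1 hx.2 ho
    have h3 : x ∈ Od V := Subgroup.subset_closure ⟨h2, ho⟩
    rw [h.Od_eq_bot hab] at h3
    exact mem_bot.1 h3
  exact h.smax _ h1 (le_inf h.S_le_Cz h.SV) ⟨hc, hcV⟩

end Hyp

end Cfsg.Agent.OddCyclic.Eq.SixA
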